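import Groth.Agent.GrInj.Hull
import Groth.Prelude.Def_Wider
import Mathlib.RingTheory.GradedAlgebra.Radical
import Mathlib.LinearAlgebra.FreeModule.Finite.Basic
import Mathlib.Algebra.Order.Group.PiLex
import Mathlib.RingTheory.Ideal.Quotient.Operations

/-!
# Essential extensions, graded primes and *injective envelopes of `R / p`
-/

set_option autoImplicit false
set_option linter.unusedSectionVars false
universe u

namespace Groth.Agent.GrInj

open GrLC

variable {ι : Type} [AddCommGroup ι] [DecidableEq ι] {R : Type u} [CommRing R]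
  {𝒜 : ι → AddSubgroup R} [GradedRing 𝒜]
variable {M : Type u} [AddCommGroup M] [Module R M] {ℳ : ι → AddSubgroup M} [DirectSum.Decomposition ℳ]
  [SetLike.GradedSMul 𝒜 ℳ]
variable {N : Type u} [AddCommGroup N] [Module R N] {𝒩 : ι → AddSubgroup N} [DirectSum.Decomposition 𝒩]
  [SetLike.GradedSMul 𝒜 𝒩]

variable (𝒜) in
include 𝒜 in
/-- *Essential over a homogeneous submodule implies essential. -/
theorem essential_of_starEss {X : Submodule R N} (hX : X.IsHomogeneous 𝒩)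
    (hess : ∀ P : Submodule R N, P.IsHomogeneous 𝒩 → P ≠ ⊥ → P ⊓ X ≠ ⊥)
    (P : Submodule R N) (hP : P ≠ ⊥) : P ⊓ X ≠ ⊥ := by
  classical
  suffices H : ∀ n : ℕ, ∀ y : N, y ≠ 0 → ((supp 𝒩 y).filter fun i => pr 𝒩 i y ∉ X).card ≤ n →
      Submodule.span R {y} ⊓ X ≠ ⊥ by
    obtain ⟨y, hy, hy0⟩ := Submodule.exists_mem_ne_zero_of_ne_bot hP
    intro h
    refine H _ y hy0 le_rfl (eq_bot_iff.2 (le_trans ?_ h.le))
    exact inf_le_inf_right _ ((Submodule.span_singleton_le_iff_mem _ _).2 hy)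
  intro n
  induction n using Nat.strong_induction_on with
  | _ n ih =>
  intro y hy0 hn
  rcases Finset.eq_empty_or_nonempty ((supp 𝒩 y).filter fun i => pr 𝒩 i y ∉ X) with he | ⟨i, hi⟩
  · refine (Submodule.ne_bot_iff _).2 ⟨y, ⟨Submodule.mem_span_singleton_self y, ?_⟩, hy0⟩
    refine mem_of_pr (ℳ := 𝒩) fun j => ?_
    by_cases hj : j ∈ supp 𝒩 y
    · by_contra hjX
      exact Finset.notMem_empty j (he ▸ Finset.mem_filter.2 ⟨hj, hjX⟩)
    · rw [pr_eq_zero hj]; exact zero_mem _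
  obtain ⟨his, hiX⟩ := Finset.mem_filter.1 hi
  have hyi0 : pr 𝒩 i y ≠ 0 := fun h => hiX (h ▸ zero_mem _)
  obtain ⟨z, hz, hz0⟩ := Submodule.exists_mem_ne_zero_of_ne_bot
    (hess _ (hom_span_singleton 𝒜 (pr_mem i y)) (by simpa [Submodule.span_singleton_eq_bot] using hyi0))
  obtain ⟨r, rfl⟩ := Submodule.mem_span_singleton.1 hz.1
  obtain ⟨d, hd⟩ : ∃ d, pr 𝒜 d r • pr 𝒩 i y ≠ 0 := by
    by_contra h
    push Not at h
    exact hz0 (by rw [← sum_supp (ℳ := 𝒜) r, Finset.sum_smul]; exact Finset.sum_eq_zero fun d _ => h d)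
  have hdX : pr 𝒜 d r • pr 𝒩 i y ∈ X := by
    have h := pr_map (ℳ := 𝒜) (𝒩 := 𝒩) (f := (smulAddHom R N).flip (pr 𝒩 i y)) (d := i)
      (fun g a ha => smul_mem_gr ha (pr_mem i y)) d r
    rw [show pr 𝒜 d r • pr 𝒩 i y = (smulAddHom R N).flip (pr 𝒩 i y) (pr 𝒜 d r) from rfl, ← h]
    exact hX _ hz.2
  have ha := pr_mem (ℳ := 𝒜) d r
  have hne : pr 𝒜 d r • y ≠ 0 := fun h => hd (by rw [← pr_smul ha, h, map_zero])
  have hlt : ((supp 𝒩 (pr 𝒜 d r • y)).filter fun j => pr 𝒩 j (pr 𝒜 d r • y) ∉ X).card < n := by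
    refine lt_of_le_of_lt (le_trans (Finset.card_le_card (t :=
      (((supp 𝒩 y).filter fun i => pr 𝒩 i y ∉ X).erase i).image (d + ·)) fun j hj => ?_)
      Finset.card_image_le) (lt_of_lt_of_le (Finset.card_erase_lt_of_mem hi) hn)
    obtain ⟨-, hjX⟩ := Finset.mem_filter.1 hj
    rw [pr_smul' ha] at hjX
    refine Finset.mem_image.2 ⟨j - d, Finset.mem_erase.2 ⟨?_, Finset.mem_filter.2 ⟨?_, ?_⟩⟩,
      add_sub_cancel d j⟩
    · intro e; exact hjX (by rw [e]; exact hdX)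
    · by_contra hs; exact hjX (by rw [pr_eq_zero hs, smul_zero]; exact zero_mem _)
    · exact fun hm => hjX (X.smul_mem _ hm)
  intro hbot
  refine ih _ hlt _ hne le_rfl (eq_bot_iff.2 (le_trans ?_ hbot.le))
  exact inf_le_inf_right _ ((Submodule.span_singleton_le_iff_mem _ _).2
    (Submodule.smul_mem _ _ (Submodule.mem_span_singleton_self y)))

variable (𝒜) in
include 𝒜 in
/-- A *essential extension is essential. -/
theorem isEssentialInj {f : M →ₗ[R] N} (hf : IsStarEss ℳ 𝒩 f) : InjHull.IsEssentialInj f :=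
  ⟨hf.injective, essential_of_starEss 𝒜 (hom_range hf.grHom) hf.essential⟩

variable (𝒜) in
/-- A homogeneously prime homogeneous ideal is prime. -/
theorem isPrime_of_homogeneous [Module.Free ℤ ι] [Module.Finite ℤ ι] {I : Ideal R}
    (hI : I.IsHomogeneous 𝒜) (hne : I ≠ ⊤)
    (h : ∀ {a b : ι} {x y : R}, x ∈ 𝒜 a → y ∈ 𝒜 b → x * y ∈ I → x ∈ I ∨ y ∈ I) : I.IsPrime := by
  let b := Module.finBasis ℤ ι
  let e : ι → Lex (Fin (Module.finrank ℤ ι) → ℤ) := fun x => toLex (b.equivFun x)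
  have he : Function.Injective e := fun x y h => b.equivFun.injective (toLex.injective h)
  letI : LinearOrder ι := LinearOrder.lift' e he
  obtain rfl : ‹DecidableEq ι› = fun a b => LinearOrder.toDecidableEq a b := Subsingleton.elim _ _
  haveI : IsOrderedCancelAddMonoid ι :=
    Function.Injective.isOrderedCancelAddMonoid e (fun x y => by simp [e]) Iff.rfl
  refine Ideal.IsHomogeneous.isPrime_of_homogeneous_mem_or_mem hI hne ?_
  rintro x y ⟨a, ha⟩ ⟨c, hc⟩ hxy
  exact h ha hc hxy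

/-! ### The graded module `R / p` -/

theorem isInternal_quotGr (p : HomogeneousIdeal 𝒜) : DirectSum.IsInternal (quotGr 𝒜 p) := by
  let q : ι → R ⧸ p.toIdeal →+ R ⧸ p.toIdeal := fun i =>
    QuotientAddGroup.lift p.toIdeal.toAddSubgroup
      ((Ideal.Quotient.mk p.toIdeal).toAddMonoidHom.comp (pr 𝒜 i))
      fun x hx => Ideal.Quotient.eq_zero_iff_mem.2 (p.isHomogeneous i hx)
  refine isInternal_of _ q ?_ ?_ fun x => ?_
  · rintro i _ ⟨m, hm, rfl⟩
    exact congrArg (Ideal.Quotient.mk p.toIdeal) (pr_of_mem hm)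
  · rintro i j h _ ⟨m, hm, rfl⟩
    exact (congrArg (Ideal.Quotient.mk p.toIdeal) (pr_of_ne hm h)).trans (map_zero _)
  · obtain ⟨m, rfl⟩ := Ideal.Quotient.mk_surjective x
    rw [← sum_supp (ℳ := 𝒜) m, map_sum]
    exact sum_mem fun i _ => le_iSup (quotGr 𝒜 p) i ⟨_, pr_mem i m, rfl⟩

noncomputable instance decompQuotGr (p : HomogeneousIdeal 𝒜) : DirectSum.Decomposition (quotGr 𝒜 p) :=
  (isInternal_quotGr p).chooseDecomposition

instance gsmulQuotGr (p : HomogeneousIdeal 𝒜) : SetLike.GradedSMul 𝒜 (quotGr 𝒜 p) :=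
  gsmul_mk fun a b r hr x hx => by
    obtain ⟨m, hm, rfl⟩ := hx
    exact ⟨r * m, SetLike.mul_mem_graded hr hm, map_mul (Ideal.Quotient.mk p.toIdeal) r m⟩

/-- The shifted family of `quotGr`, as rows write it. -/
noncomputable instance decompQuotSh (p : HomogeneousIdeal 𝒜) (g : ι) :
    DirectSum.Decomposition (fun j : ι => quotGr 𝒜 p (j - g)) :=
  decompSh (ℳ := quotGr 𝒜 p) g

instance gsmulQuotSh (p : HomogeneousIdeal 𝒜) (g : ι) :
    SetLike.GradedSMul 𝒜 (fun j : ι => quotGr 𝒜 p (j - g)) :=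
  gsmul_sh (ℳ := quotGr 𝒜 p) g

theorem smul_quot {p : HomogeneousIdeal 𝒜} (r : R) :
    r • (1 : R ⧸ p.toIdeal) = Ideal.Quotient.mk p.toIdeal r := by
  rw [Algebra.smul_def, mul_one]; rfl

theorem smul_eq_zero_of_mem {p : HomogeneousIdeal 𝒜} {a : R} (ha : a ∈ p.toIdeal) (x : R ⧸ p.toIdeal) :
    a • x = 0 := by
  rw [Algebra.smul_def, Ideal.Quotient.algebraMap_eq, Ideal.Quotient.eq_zero_iff_mem.2 ha, zero_mul]

/-! ### Shifts of *injective modules -/

variable (𝒜) in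
/-- Shifting back and forth. -/
theorem starInj_sh (h : IsStarInj 𝒜 𝒩) (d : ι) : IsStarInj 𝒜 (shGr 𝒩 d) := by
  intro A B f hf hfi g hg
  obtain ⟨k, hk, hkf⟩ := h (shMod 𝒜 A (-d)) (shMod 𝒜 B (-d)) f (fun i m hm => hf _ m hm) hfi g
    (fun i m hm => by
      have h1 : g m ∈ 𝒩 (i - -d - d) := hg (i - -d) m hm
      rwa [show i - -d - d = i by abel] at h1)
  refine ⟨k, fun i m hm => ?_, hkf⟩
  refine hk (i - d) m ?_
  show m ∈ B.gr (i - d - -d)
  rwa [show i - d - -d = i by abel]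

/-- A homogeneous injection of degree `d` from a *injective module splits. -/
theorem exists_retraction_deg (hM : IsStarInj 𝒜 ℳ) {f : M →ₗ[R] N} {d : ι} (hf : IsGrHomDeg ℳ 𝒩 f d)
    (hfi : Function.Injective f) : ∃ Q : Submodule R N, Q.IsHomogeneous 𝒩 ∧ IsCompl (LinearMap.range f) Q := by
  have hf' : IsGrHom ℳ (shGr 𝒩 (-d)) f := fun i m hm => by
    show f m ∈ 𝒩 (i - -d)
    rw [sub_neg_eq_add]; exact hf i m hm
  obtain ⟨r, hr, hrf⟩ := exists_retraction (𝒩 := shGr 𝒩 (-d)) hM hf' hfi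
  refine ⟨LinearMap.ker r, fun i x hx => ?_, ?_, ?_⟩
  · have hr' : IsGrHom 𝒩 (shGr ℳ d) r := fun j m hm => by
      refine hr (j - d) m ?_
      show m ∈ 𝒩 (j - d - -d)
      rwa [show j - d - -d = j by abel]
    exact hom_ker hr' i hx
  · rw [disjoint_iff, eq_bot_iff]
    rintro _ ⟨⟨m, rfl⟩, hm⟩
    have h : m = 0 := (LinearMap.congr_fun hrf m).symm.trans hm
    rw [Submodule.mem_bot, h, map_zero]
  · rw [codisjoint_iff, eq_top_iff]
    intro x _
    have hk : r (x - f (r x)) = 0 := by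
      rw [map_sub, show r (f (r x)) = r x from LinearMap.congr_fun hrf (r x), sub_self]
    rw [← add_sub_cancel (f (r x)) x]
    exact Submodule.add_mem_sup ⟨_, rfl⟩ (LinearMap.mem_ker.2 hk)

end Groth.Agent.GrInj
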