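import Groth.Agent.GrInj.Coarse
import Groth.Agent.GrInj.Prime

/-!
# Functoriality of graded local cohomology computed from *injective resolutions
-/

set_option autoImplicit false
set_option linter.unusedSectionVars false
universe u

namespace Groth.Agent.GrInj

open GrLC

variable {ι : Type} [AddCommGroup ι] [DecidableEq ι] {R : Type u} [CommRing R]
  {𝒜 : ι → AddSubgroup R} [GradedRing 𝒜]
variable {M : Type u} [AddCommGroup M] [Module R M] {ℳ : ι → AddSubgroup M} [DirectSum.Decomposition ℳ]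
  [SetLike.GradedSMul 𝒜 ℳ]
variable {N : Type u} [AddCommGroup N] [Module R N] {𝒩 : ι → AddSubgroup N} [DirectSum.Decomposition 𝒩]
  [SetLike.GradedSMul 𝒜 𝒩]
variable {L : Type u} [AddCommGroup L] [Module R L] {𝓛 : ι → AddSubgroup L} [DirectSum.Decomposition 𝓛]
  [SetLike.GradedSMul 𝒜 𝓛]
variable (E : StarInjRes 𝒜 ℳ) (F : StarInjRes 𝒜 𝒩) (G : StarInjRes 𝒜 𝓛)

/-- A homogeneous chain map over `f`. -/
structure IsLift (f : M →ₗ[R] N) (ψ : ∀ n, (E.X n).carrier →ₗ[R] (F.X n).carrier) : Prop where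
  grHom : ∀ n, IsGrHom (E.X n).gr (F.X n).gr (ψ n)
  aug : ∀ m, ψ 0 (E.ε m) = F.ε (f m)
  comm : ∀ n x, ψ (n + 1) (E.d n x) = F.d n (ψ n x)

theorem d_comp (n : ℕ) (x : (E.X n).carrier) : E.d (n + 1) (E.d n x) = 0 := (E.exact_succ n).ge ⟨x, rfl⟩

theorem d_aug (m : M) : E.d 0 (E.ε m) = 0 := E.exact_zero.ge ⟨m, rfl⟩

/-- Homogeneous maps lift to homogeneous chain maps. -/
theorem exists_isLift {f : M →ₗ[R] N} (hf : IsGrHom ℳ 𝒩 f) : ∃ ψ, IsLift E F f ψ := by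
  let P : ∀ n, ((E.X n).carrier →ₗ[R] (F.X n).carrier) → Prop := fun n ψ =>
    IsGrHom (E.X n).gr (F.X n).gr ψ ∧ LinearMap.ker (E.d n) ≤ LinearMap.ker (F.d n ∘ₗ ψ)
  have base : ∃ ψ, P 0 ψ ∧ ∀ m, ψ (E.ε m) = F.ε (f m) := by
    obtain ⟨ψ, hψ, hψf⟩ := exists_factor (B := GMod.of 𝒜 M ℳ) (F.starInj 0) E.ε E.ε_grHom (F.ε ∘ₗ f)
      (fun i m hm => F.ε_grHom i _ (hf i m hm)) (fun x hx => by
        rw [show x = (0 : M) from E.ε_injective ((LinearMap.mem_ker.1 hx).trans (map_zero E.ε).symm)]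
        exact zero_mem _)
    refine ⟨ψ, ⟨hψ, ?_⟩, fun m => LinearMap.congr_fun hψf m⟩
    rw [E.exact_zero]
    rintro _ ⟨m, rfl⟩
    show F.d 0 (ψ (E.ε m)) = 0
    rw [show ψ (E.ε m) = F.ε (f m) from LinearMap.congr_fun hψf m, d_aug]
  have step : ∀ n (ψ : {ψ // P n ψ}), ∃ ψ' : {ψ' // P (n + 1) ψ'}, ∀ x, ψ'.1 (E.d n x) = F.d n (ψ.1 x) := by
    rintro n ⟨ψ, hψ, hker⟩
    obtain ⟨ψ', hψ', hψf⟩ := exists_factor (F.starInj (n + 1)) (E.d n) (E.d_grHom n) (F.d n ∘ₗ ψ)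
      (fun i x hx => F.d_grHom n i _ (hψ i x hx)) hker
    refine ⟨⟨ψ', hψ', ?_⟩, fun x => LinearMap.congr_fun hψf x⟩
    rw [E.exact_succ]
    rintro _ ⟨m, rfl⟩
    show F.d (n + 1) (ψ' (E.d n m)) = 0
    rw [show ψ' (E.d n m) = F.d n (ψ m) from LinearMap.congr_fun hψf m, d_comp]
  choose ψ₀ hψ₀ hε₀ using base
  choose next hnext using step
  let seq : ∀ n, {ψ // P n ψ} := fun n => Nat.rec ⟨ψ₀, hψ₀⟩ (fun k ψ => next k ψ) n
  exact ⟨fun n => (seq n).1, fun n => (seq n).2.1, hε₀, fun n => hnext n (seq n)⟩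

variable {E F G}

theorem IsLift.comp {f : M →ₗ[R] N} {g : N →ₗ[R] L} {φ : ∀ n, (E.X n).carrier →ₗ[R] (F.X n).carrier}
    {ψ : ∀ n, (F.X n).carrier →ₗ[R] (G.X n).carrier} (h₁ : IsLift E F f φ) (h₂ : IsLift F G g ψ) :
    IsLift E G (g ∘ₗ f) fun n => ψ n ∘ₗ φ n where
  grHom n i x hx := h₂.grHom n i _ (h₁.grHom n i x hx)
  aug m := by simp [h₁.aug, h₂.aug]
  comm n x := by simp [h₁.comm, h₂.comm]

theorem isLift_id : IsLift E E LinearMap.id fun _ => LinearMap.id :=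
  ⟨fun _ _ _ h => h, fun _ => rfl, fun _ _ => rfl⟩

/-- Two lifts of the same map differ by a homotopy. -/
theorem IsLift.homotopy {f : M →ₗ[R] N} {φ ψ : ∀ n, (E.X n).carrier →ₗ[R] (F.X n).carrier}
    (h₁ : IsLift E F f φ) (h₂ : IsLift E F f ψ) :
    ∃ h : ∀ n, (E.X (n + 1)).carrier →ₗ[R] (F.X n).carrier,
      (∀ x, φ 0 x - ψ 0 x = h 0 (E.d 0 x)) ∧
      ∀ n x, φ (n + 1) x - ψ (n + 1) x = F.d n (h n x) + h (n + 1) (E.d (n + 1) x) := by
  let P : ∀ n, ((E.X (n + 1)).carrier →ₗ[R] (F.X n).carrier) → Prop := fun n h =>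
    IsGrHom (E.X (n + 1)).gr (F.X n).gr h ∧
      LinearMap.ker (E.d (n + 1)) ≤ LinearMap.ker (φ (n + 1) - ψ (n + 1) - F.d n ∘ₗ h)
  have hsub : ∀ n, IsGrHom (E.X n).gr (F.X n).gr (φ n - ψ n) := fun n i x hx =>
    sub_mem (h₁.grHom n i x hx) (h₂.grHom n i x hx)
  have base : ∃ h, P 0 h ∧ ∀ x, φ 0 x - ψ 0 x = h (E.d 0 x) := by
    obtain ⟨h, hh, hhf⟩ := exists_factor (F.starInj 0) (E.d 0) (E.d_grHom 0) (φ 0 - ψ 0) (hsub 0) (by
      rw [E.exact_zero]; rintro _ ⟨m, rfl⟩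
      show φ 0 (E.ε m) - ψ 0 (E.ε m) = 0
      rw [h₁.aug, h₂.aug, sub_self])
    have e : ∀ x, φ 0 x - ψ 0 x = h (E.d 0 x) := fun x => (LinearMap.congr_fun hhf x).symm
    refine ⟨h, ⟨hh, ?_⟩, e⟩
    rw [E.exact_succ]
    rintro _ ⟨x, rfl⟩
    show φ 1 (E.d 0 x) - ψ 1 (E.d 0 x) - F.d 0 (h (E.d 0 x)) = 0
    rw [← e, map_sub, ← h₁.comm, ← h₂.comm, sub_self]
  have step : ∀ n (h : {h // P n h}), ∃ h' : {h' // P (n + 1) h'},
      ∀ x, φ (n + 1) x - ψ (n + 1) x = F.d n (h.1 x) + h'.1 (E.d (n + 1) x) := by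
    rintro n ⟨h, hh, hker⟩
    obtain ⟨h', hh', hhf⟩ := exists_factor (F.starInj (n + 1)) (E.d (n + 1)) (E.d_grHom (n + 1))
      (φ (n + 1) - ψ (n + 1) - F.d n ∘ₗ h)
      (fun i x hx => sub_mem (hsub (n + 1) i x hx) (F.d_grHom n i _ (hh i x hx))) hker
    have e : ∀ x, φ (n + 1) x - ψ (n + 1) x = F.d n (h x) + h' (E.d (n + 1) x) := fun x => by
      rw [show h' (E.d (n + 1) x) = φ (n + 1) x - ψ (n + 1) x - F.d n (h x) from LinearMap.congr_fun hhf x]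
      abel
    refine ⟨⟨h', hh', ?_⟩, e⟩
    rw [E.exact_succ]
    rintro _ ⟨x, rfl⟩
    show φ (n + 2) (E.d (n + 1) x) - ψ (n + 2) (E.d (n + 1) x) - F.d (n + 1) (h' (E.d (n + 1) x)) = 0
    rw [h₁.comm, h₂.comm, ← map_sub, e, map_add, d_comp, zero_add, sub_self]
  choose h₀ hh₀ he₀ using base
  choose next hnext using step
  let seq : ∀ n, {h // P n h} := fun n => Nat.rec ⟨h₀, hh₀⟩ (fun k h => next k h) n
  exact ⟨fun n => (seq n).1, he₀, fun n => hnext n (seq n)⟩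

/-! ### The induced map on cohomology -/

variable (a : HomogeneousIdeal 𝒜)

theorem gam_map {X Y : Type u} [AddCommGroup X] [Module R X] [AddCommGroup Y] [Module R Y] (I : Ideal R)
    (g : X →ₗ[R] Y) {x : X} (hx : x ∈ gam I X) : g x ∈ gam I Y := by
  obtain ⟨k, hk⟩ := hx
  exact ⟨k, fun r hr => by rw [← map_smul, hk r hr, map_zero]⟩

theorem IsLift.map_cobdy {f : M →ₗ[R] N} {ψ : ∀ n, (E.X n).carrier →ₗ[R] (F.X n).carrier}
    (h : IsLift E F f ψ) : ∀ (i : ℕ) (x : (E.X i).carrier), x ∈ E.cobdy a i → ψ i x ∈ F.cobdy a i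
  | 0 => fun x hx => by
    rw [show x = 0 from (Submodule.mem_bot R).1 hx, map_zero]; exact zero_mem _
  | n + 1 => by
    rintro _ ⟨y, hy, rfl⟩
    exact ⟨ψ n y, gam_map _ _ hy, (h.comm n y).symm⟩

/-- The map on cocycles. -/
noncomputable def cocycMap {f : M →ₗ[R] N} (ψ : ∀ n, (E.X n).carrier →ₗ[R] (F.X n).carrier)
    (h : IsLift E F f ψ) (i : ℕ) : E.cocyc a i →ₗ[R] F.cocyc a i :=
  (ψ i).restrict fun x hx => ⟨gam_map _ _ hx.1, by
    show F.d i (ψ i x) = 0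
    rw [← h.comm, show E.d i x = 0 from hx.2, map_zero]⟩

/-- The map on cohomology attached to a lift. -/
noncomputable def Hmap {f : M →ₗ[R] N} (ψ : ∀ n, (E.X n).carrier →ₗ[R] (F.X n).carrier)
    (h : IsLift E F f ψ) (i : ℕ) : E.H a i →ₗ[R] F.H a i :=
  Submodule.mapQ _ _ (cocycMap a ψ h i) fun x hx => h.map_cobdy a i x hx

theorem Hmap_toH {f : M →ₗ[R] N} (ψ : ∀ n, (E.X n).carrier →ₗ[R] (F.X n).carrier)
    (h : IsLift E F f ψ) (i : ℕ) (z : E.cocyc a i) :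
    Hmap a ψ h i (E.toH a i z) = F.toH a i (cocycMap a ψ h i z) := rfl

theorem Hmap_congr {f : M →ₗ[R] N} {φ ψ : ∀ n, (E.X n).carrier →ₗ[R] (F.X n).carrier}
    (h₁ : IsLift E F f φ) (h₂ : IsLift E F f ψ) (i : ℕ) : Hmap a φ h₁ i = Hmap a ψ h₂ i := by
  refine LinearMap.ext fun c => ?_
  obtain ⟨z, rfl⟩ := Submodule.mkQ_surjective _ c
  refine (Submodule.Quotient.eq _).2 ?_
  obtain ⟨h, he₀, he⟩ := h₁.homotopy h₂
  show φ i z.1 - ψ i z.1 ∈ F.cobdy a i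
  cases i with
  | zero => rw [he₀, show E.d 0 z.1 = 0 from z.2.2, map_zero]; exact zero_mem _
  | succ n =>
    rw [he, show E.d (n + 1) z.1 = 0 from z.2.2, map_zero, add_zero]
    exact ⟨h n z.1, gam_map _ _ z.2.1, rfl⟩

variable (E F)

/-- The map induced by a homogeneous map. -/
noncomputable def ind (f : M →ₗ[R] N) (hf : IsGrHom ℳ 𝒩 f) (i : ℕ) : E.H a i →ₗ[R] F.H a i :=
  Hmap a (exists_isLift E F hf).choose (exists_isLift E F hf).choose_spec i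

variable {E F}

theorem ind_eq {f : M →ₗ[R] N} (hf : IsGrHom ℳ 𝒩 f) {ψ : ∀ n, (E.X n).carrier →ₗ[R] (F.X n).carrier}
    (h : IsLift E F f ψ) (i : ℕ) : ind E F a f hf i = Hmap a ψ h i :=
  Hmap_congr a _ h i

theorem ind_grHom {f : M →ₗ[R] N} (hf : IsGrHom ℳ 𝒩 f) (i : ℕ) :
    IsGrHom (E.Hgr a i) (F.Hgr a i) (ind E F a f hf i) := by
  rintro g _ ⟨z, hz, rfl⟩
  exact ⟨cocycMap a _ (exists_isLift E F hf).choose_spec i z,
    (exists_isLift E F hf).choose_spec.grHom i g _ hz, rfl⟩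

theorem ind_id (hf : IsGrHom ℳ ℳ (LinearMap.id : M →ₗ[R] M)) (i : ℕ) :
    ind E E a LinearMap.id hf i = LinearMap.id := by
  rw [ind_eq a hf isLift_id i]
  exact LinearMap.ext fun c => by obtain ⟨z, rfl⟩ := Submodule.mkQ_surjective _ c; rfl

theorem ind_comp {f : M →ₗ[R] N} {g : N →ₗ[R] L} (hf : IsGrHom ℳ 𝒩 f) (hg : IsGrHom 𝒩 𝓛 g)
    (hgf : IsGrHom ℳ 𝓛 (g ∘ₗ f)) (i : ℕ) :
    ind E G a (g ∘ₗ f) hgf i = ind F G a g hg i ∘ₗ ind E F a f hf i := by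
  obtain ⟨φ, hφ⟩ := exists_isLift E F hf
  obtain ⟨ψ, hψ⟩ := exists_isLift F G hg
  rw [ind_eq a hgf (hφ.comp hψ) i, ind_eq a hf hφ i, ind_eq a hg hψ i]
  exact LinearMap.ext fun c => by obtain ⟨z, rfl⟩ := Submodule.mkQ_surjective _ c; rfl

variable (E) in
/-- Independence of the resolution. -/
theorem exists_indEquiv (E' : StarInjRes 𝒜 ℳ) (i : ℕ) : ∃ e : E.H a i ≃ₗ[R] E'.H a i,
    IsGrHom (E.Hgr a i) (E'.Hgr a i) e.toLinearMap ∧ IsGrHom (E'.Hgr a i) (E.Hgr a i) e.symm.toLinearMap ∧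
      e.toLinearMap = ind E E' a LinearMap.id (fun _ _ h => h) i := by
  have hid : IsGrHom ℳ ℳ (LinearMap.id : M →ₗ[R] M) := fun _ _ h => h
  refine ⟨LinearEquiv.ofLinear (ind E E' a LinearMap.id hid i) (ind E' E a LinearMap.id hid i) ?_ ?_,
    ind_grHom a hid i, ind_grHom a hid i, rfl⟩
  · rw [← ind_comp (F := E) a hid hid hid]; exact ind_id a hid i
  · rw [← ind_comp (F := E') a hid hid hid]; exact ind_id a hid i

/-- The resolution of a shifted module. -/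
noncomputable def shiftRes (E : StarInjRes 𝒜 ℳ) (d : ι) : StarInjRes 𝒜 (shGr ℳ d) where
  X n := shMod 𝒜 (E.X n) d
  d := E.d
  ε := E.ε
  d_grHom n i m hm := E.d_grHom n _ m hm
  ε_grHom i m hm := E.ε_grHom _ m hm
  ε_injective := E.ε_injective
  exact_zero := E.exact_zero
  exact_succ := E.exact_succ
  starInj n := starInj_sh 𝒜 (E.starInj n) d

theorem mem_shiftRes_Hgr {d : ι} {i : ℕ} {g : ι} {c : (shiftRes E d).H a i} :
    c ∈ (shiftRes E d).Hgr a i g ↔ (c : E.H a i) ∈ E.Hgr a i (g - d) := Iff.rfl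

/-- Multiplication by a homogeneous element, as a map from the shifted module. -/
theorem grHom_lsmul {d : ι} {r : R} (hr : r ∈ 𝒜 d) : IsGrHom (shGr ℳ d) ℳ (LinearMap.lsmul R M r) :=
  fun g m hm => by
    have h := smul_mem_gr (ℳ := ℳ) hr (show m ∈ ℳ (g - d) from hm)
    rwa [add_sub_cancel] at h

theorem ind_lsmul {d : ι} {r : R} (hr : r ∈ 𝒜 d) (i : ℕ) (c : (shiftRes E d).H a i) :
    ind (shiftRes E d) E a (LinearMap.lsmul R M r) (grHom_lsmul hr) i c = r • (c : E.H a i) := by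
  have h : IsLift (shiftRes E d) E (LinearMap.lsmul R M r)
      fun n => LinearMap.lsmul R (E.X n).carrier r :=
    ⟨fun n g m hm => by
      have h' : r • m ∈ (E.X n).gr (d + (g - d)) := (E.X n).gsmul.smul_mem hr hm
      rwa [add_sub_cancel] at h', fun m => (map_smul E.ε r m).symm,
      fun n x => (map_smul (E.d n) r x).symm⟩
  rw [ind_eq a (grHom_lsmul hr) h i]
  obtain ⟨z, rfl⟩ := Submodule.mkQ_surjective _ c
  rfl

end Groth.Agent.GrInj
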