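import Groth.Agent.GrInj.Prime
import Mathlib.Algebra.Category.ModuleCat.Ext.HasExt
import Mathlib.Algebra.Category.ModuleCat.Projective
import Mathlib.Algebra.Homology.DerivedCategory.Ext.ExactSequences
import Mathlib.Algebra.Homology.DerivedCategory.Ext.EnoughProjectives
import Mathlib.Algebra.Homology.ShortComplex.ModuleCat
import Mathlib.RingTheory.Finiteness.Basic

/-!
# `Ext^i(M, I) = 0` for `M` finitely generated graded and `I` *injective
-/

set_option autoImplicit false
set_option linter.unusedSectionVars false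
universe u

namespace Groth.Agent.GrInj

open GrLC CategoryTheory
open CategoryTheory.Abelian (Ext)

variable {ι : Type} [AddCommGroup ι] [DecidableEq ι] {R : Type u} [CommRing R]
  {𝒜 : ι → AddSubgroup R} [GradedRing 𝒜]
variable {M : Type u} [AddCommGroup M] [Module R M] {ℳ : ι → AddSubgroup M} [DirectSum.Decomposition ℳ]
  [SetLike.GradedSMul 𝒜 ℳ]
variable {N : Type u} [AddCommGroup N] [Module R N] {𝒩 : ι → AddSubgroup N} [DirectSum.Decomposition 𝒩]
  [SetLike.GradedSMul 𝒜 𝒩]

/-! ### Components of a linear map -/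

/-- The piece of degree `d` of a map, on the pieces of the source. -/
noncomputable def homCompAux (u : M →ₗ[R] N) (d : ι) : M →+ N :=
  (DirectSum.toAddMonoid fun i => ((pr 𝒩 (i + d)).comp u.toAddMonoidHom).comp (ℳ i).subtype).comp
    (DirectSum.decomposeAddEquiv ℳ).toAddMonoidHom

theorem homCompAux_of_mem (u : M →ₗ[R] N) (d : ι) {i : ι} {m : M} (hm : m ∈ ℳ i) :
    homCompAux (ℳ := ℳ) (𝒩 := 𝒩) u d m = pr 𝒩 (i + d) (u m) := by
  show DirectSum.toAddMonoid _ (DirectSum.decompose ℳ m) = _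
  rw [DirectSum.decompose_of_mem _ hm, DirectSum.toAddMonoid_of]
  rfl

variable (𝒜) in
/-- The piece of degree `d` of a map, as a linear map. -/
noncomputable def homComp (u : M →ₗ[R] N) (d : ι) : M →ₗ[R] N where
  toFun := homCompAux (ℳ := ℳ) (𝒩 := 𝒩) u d
  map_add' := map_add _
  map_smul' r m := by
    simp only [RingHom.id_apply]
    induction r using induction 𝒜 with
    | h0 => simp
    | hadd a b ha hb => simp only [add_smul, map_add, ha, hb]
    | hh a r hr =>
      induction m using induction ℳ with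
      | h0 => simp
      | hadd x y hx hy => simp only [smul_add, map_add, hx, hy]
      | hh i m hm =>
        rw [homCompAux_of_mem u d (smul_mem_gr hr hm), homCompAux_of_mem u d hm, map_smul, add_assoc,
          pr_smul hr]

theorem homComp_of_mem (u : M →ₗ[R] N) (d : ι) {i : ι} {m : M} (hm : m ∈ ℳ i) :
    homComp 𝒜 (ℳ := ℳ) (𝒩 := 𝒩) u d m = pr 𝒩 (i + d) (u m) :=
  homCompAux_of_mem u d hm

/-- A finitely generated graded module has finitely many homogeneous generators. -/
theorem exists_hom_gens [Module.Finite R M] : ∃ (n : ℕ) (d : Fin n → ι) (v : Fin n → M),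
    (∀ j, v j ∈ ℳ (d j)) ∧ Submodule.span R (Set.range v) = ⊤ := by
  classical
  obtain ⟨s, hs⟩ := Module.Finite.fg_top (R := R) (M := M)
  let t : Finset (ι × M) := s.biUnion fun x => (supp ℳ x).image fun i => (i, pr ℳ i x)
  let e := Fintype.equivFin {p // p ∈ t}
  refine ⟨_, fun j => (e.symm j).1.1, fun j => (e.symm j).1.2, fun j => ?_, ?_⟩
  · obtain ⟨x, -, hx⟩ := Finset.mem_biUnion.1 (e.symm j).2
    obtain ⟨i, -, hi⟩ := Finset.mem_image.1 hx
    show (e.symm j).1.2 ∈ ℳ (e.symm j).1.1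
    rw [← hi]; exact pr_mem i x
  · rw [eq_top_iff, ← hs, Submodule.span_le]
    intro x hx
    refine mem_of_pr (ℳ := ℳ) fun i => ?_
    by_cases hi : i ∈ supp ℳ x
    · refine Submodule.subset_span ⟨e ⟨(i, pr ℳ i x),
        Finset.mem_biUnion.2 ⟨x, hx, Finset.mem_image.2 ⟨i, hi, rfl⟩⟩⟩, ?_⟩
      show (e.symm (e _)).1.2 = _
      rw [e.symm_apply_apply]
    · rw [pr_eq_zero hi]; exact zero_mem _

variable (𝒜) in
include 𝒜 in
/-- A map out of a finitely generated graded module is the sum of finitely many homogeneous ones. -/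
theorem exists_sum_homComp [Module.Finite R M] (u : M →ₗ[R] N) :
    ∃ D : Finset ι, ∑ d ∈ D, homComp 𝒜 (ℳ := ℳ) (𝒩 := 𝒩) u d = u := by
  classical
  obtain ⟨n, deg, v, hv, hspan⟩ := exists_hom_gens (R := R) (ℳ := ℳ)
  refine ⟨Finset.univ.biUnion fun j => (supp 𝒩 (u (v j))).image (· - deg j),
    LinearMap.ext_on_range hspan fun j => ?_⟩
  rw [LinearMap.sum_apply]
  simp only [homComp_of_mem u _ (hv j)]
  rw [← Finset.sum_image (f := fun i => pr 𝒩 i (u (v j))) (g := (deg j + ·))
    fun a _ b _ h => add_left_cancel h]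
  refine (Finset.sum_subset (fun i hi => ?_) fun i _ hi => pr_eq_zero hi).symm.trans
    (sum_supp (ℳ := 𝒩) (u (v j)))
  refine Finset.mem_image.2 ⟨i - deg j, Finset.mem_biUnion.2 ⟨j, Finset.mem_univ _,
    Finset.mem_image.2 ⟨i, hi, rfl⟩⟩, add_sub_cancel _ _⟩

/-- Maps into a *injective module extend along homogeneous injections from finitely generated modules. -/
theorem exists_extension [Module.Finite R M] {I : Type u} [AddCommGroup I] [Module R I]
    {ℐ : ι → AddSubgroup I} [DirectSum.Decomposition ℐ] [SetLike.GradedSMul 𝒜 ℐ] (hI : IsStarInj 𝒜 ℐ)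
    {f : M →ₗ[R] N} (hf : IsGrHom ℳ 𝒩 f) (hfi : Function.Injective f) (u : M →ₗ[R] I) :
    ∃ v : N →ₗ[R] I, v ∘ₗ f = u := by
  obtain ⟨D, hD⟩ := exists_sum_homComp 𝒜 (ℳ := ℳ) (𝒩 := ℐ) u
  have hext : ∀ d, ∃ v : N →ₗ[R] I, v ∘ₗ f = homComp 𝒜 (ℳ := ℳ) (𝒩 := ℐ) u d := fun d => by
    obtain ⟨v, -, hv⟩ := starInj_sh 𝒜 hI (-d) (GMod.of 𝒜 M ℳ) (GMod.of 𝒜 N 𝒩) f hf hfi
      (homComp 𝒜 (ℳ := ℳ) (𝒩 := ℐ) u d) fun (i : ι) (m : M) (hm : m ∈ ℳ i) => by
        show homComp 𝒜 (ℳ := ℳ) (𝒩 := ℐ) u d m ∈ ℐ (i - -d)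
        rw [homComp_of_mem u d hm, sub_neg_eq_add]
        exact pr_mem _ _
    exact ⟨v, hv⟩
  choose v hv using hext
  refine ⟨∑ d ∈ D, v d, ?_⟩
  conv_rhs => rw [← hD]
  refine LinearMap.ext fun m => ?_
  simp only [LinearMap.comp_apply, LinearMap.sum_apply]
  exact Finset.sum_congr rfl fun d _ => LinearMap.congr_fun (hv d) m

/-! ### Free presentations -/

/-- The pieces of `⊕_j R(-d_j)`. -/
def freeGr (𝒜 : ι → AddSubgroup R) {n : ℕ} (d : Fin n → ι) (i : ι) : AddSubgroup (Fin n → R) :=
  AddSubgroup.pi Set.univ fun j => 𝒜 (i - d j)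

theorem isInternal_free {n : ℕ} (d : Fin n → ι) : DirectSum.IsInternal (freeGr 𝒜 d) := by
  classical
  refine isInternal_of _ (fun i => AddMonoidHom.mk' (fun x j => pr 𝒜 (i - d j) (x j))
    fun x y => funext fun j => map_add _ _ _) (fun i x hx => funext fun j => pr_of_mem (hx j trivial))
    (fun i i' h x hx => funext fun j => pr_of_ne (hx j trivial) fun e => h (by simpa using e)) fun x => ?_
  rw [← Finset.univ_sum_single x]
  refine sum_mem fun j _ => ?_
  rw [← sum_supp (ℳ := 𝒜) (x j), ← AddMonoidHom.single_apply, map_sum]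
  refine sum_mem fun i _ => le_iSup (freeGr 𝒜 d) (i + d j) fun k _ => ?_
  show (Pi.single j (pr 𝒜 i (x j)) : Fin n → R) k ∈ 𝒜 (i + d j - d k)
  rcases eq_or_ne k j with rfl | hk
  · rw [Pi.single_eq_same, add_sub_cancel_right]; exact pr_mem _ _
  · rw [Pi.single_eq_of_ne hk]; exact zero_mem _

variable (𝒜) in
/-- The free graded module on generators of the given degrees. -/
noncomputable def freeMod {n : ℕ} (d : Fin n → ι) : GMod.{u} 𝒜 :=
  { carrier := Fin n → R, gr := freeGr 𝒜 d, dec := (isInternal_free d).chooseDecomposition,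
    gsmul := gsmul_mk fun a b r hr x hx j hj => by
      show r * x j ∈ 𝒜 (a + b - d j)
      rw [add_sub_assoc]
      exact SetLike.mul_mem_graded hr (hx j hj) }

variable (𝒜 ℳ) in
/-- A finitely generated graded module is a quotient of a finite free graded module. -/
theorem exists_presentation [Module.Finite R M] : ∃ (F : GMod.{u} 𝒜) (π : F.carrier →ₗ[R] M),
    Module.Free R F.carrier ∧ Module.Finite R F.carrier ∧ Function.Surjective π ∧ IsGrHom F.gr ℳ π := by
  obtain ⟨n, d, v, hv, hspan⟩ := exists_hom_gens (R := R) (ℳ := ℳ)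
  have hfree : Module.Free R (Fin n → R) := Module.Free.of_basis (Pi.basisFun R (Fin n))
  have hsur : Function.Surjective (Fintype.linearCombination R v) := by
    rw [← LinearMap.range_eq_top, Fintype.range_linearCombination]; exact hspan
  have hgr : ∀ i, ∀ x ∈ freeGr 𝒜 d i, Fintype.linearCombination R v x ∈ ℳ i := fun i x hx => by
    rw [Fintype.linearCombination_apply]
    refine sum_mem fun j _ => ?_
    have h := smul_mem_gr (ℳ := ℳ) (hx j trivial) (hv j)
    rwa [sub_add_cancel] at h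
  exact ⟨freeMod 𝒜 d, Fintype.linearCombination R v, hfree,
    inferInstanceAs (Module.Finite R (Fin n → R)), hsur, hgr⟩

/-- `Ext^i(M, I) = 0` for `i ≥ 1`. -/
theorem subsingleton_ext [IsNoetherianRing R] {I : Type u} [AddCommGroup I] [Module R I]
    {ℐ : ι → AddSubgroup I} [DirectSum.Decomposition ℐ] [SetLike.GradedSMul 𝒜 ℐ] (hI : IsStarInj 𝒜 ℐ)
    (k : ℕ) : ∀ (X : GMod.{u} 𝒜) [Module.Finite R X.carrier],
      Subsingleton (Ext.{u} (ModuleCat.of R X.carrier) (ModuleCat.of R I) (k + 1)) := by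
  induction k with
  | zero =>
    intro X _
    obtain ⟨F, π, hfree, hfin, hπ, hgr⟩ := exists_presentation 𝒜 X.gr
    haveI : Module.Finite R F.carrier := hfin
    haveI : Module.Free R F.carrier := hfree
    haveI : Projective (ModuleCat.of R F.carrier) := ModuleCat.projective_of_free (Module.Free.chooseBasis R F.carrier)
    have hS := LinearMap.shortExact_shortComplexKer hπ
    haveI : Projective π.shortComplexKer.X₂ := ‹Projective (ModuleCat.of R F.carrier)›
    refine subsingleton_of_forall_eq 0 fun x => ?_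
    obtain ⟨y, rfl⟩ := Ext.contravariant_sequence_exact₃ hS _ x (Ext.eq_zero_of_projective _) (n₀ := 0) rfl
    obtain ⟨g, rfl⟩ := Ext.addEquiv₀.symm.surjective y
    haveI : DirectSum.Decomposition (subGr F.gr (LinearMap.ker π)) :=
      (isInternal_sub (hom_ker hgr)).chooseDecomposition
    haveI : Module.Finite R (LinearMap.ker π) := Module.Finite.iff_fg.2 (IsNoetherian.noetherian _)
    obtain ⟨v, hv⟩ := exists_extension (ℳ := subGr F.gr (LinearMap.ker π)) (𝒩 := F.gr) hI
      (f := (LinearMap.ker π).subtype) (fun _ _ hm => hm) (Submodule.injective_subtype _) g.hom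
    have hg : g = π.shortComplexKer.f ≫ ModuleCat.ofHom v := ModuleCat.hom_ext hv.symm
    rw [hg]
    show hS.extClass.comp (Ext.mk₀ (π.shortComplexKer.f ≫ ModuleCat.ofHom v)) rfl = 0
    rw [← Ext.mk₀_comp_mk₀]
    exact hS.extClass_comp_assoc _
  | succ k ih =>
    intro X _
    obtain ⟨F, π, hfree, hfin, hπ, hgr⟩ := exists_presentation 𝒜 X.gr
    haveI : Module.Finite R F.carrier := hfin
    haveI : Module.Free R F.carrier := hfree
    haveI : Projective (ModuleCat.of R F.carrier) := ModuleCat.projective_of_free (Module.Free.chooseBasis R F.carrier)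
    have hS := LinearMap.shortExact_shortComplexKer hπ
    haveI : Projective π.shortComplexKer.X₂ := ‹Projective (ModuleCat.of R F.carrier)›
    refine subsingleton_of_forall_eq 0 fun x => ?_
    obtain ⟨y, rfl⟩ := Ext.contravariant_sequence_exact₃ hS _ x (Ext.eq_zero_of_projective _) (n₀ := k + 1)
      (by omega)
    haveI : Module.Finite R (subMod 𝒜 (LinearMap.ker π) (hom_ker hgr)).carrier :=
      Module.Finite.iff_fg.2 (IsNoetherian.noetherian (LinearMap.ker π))
    have hy : y = 0 := @Subsingleton.elim _ (ih (subMod 𝒜 (LinearMap.ker π) (hom_ker hgr))) _ _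
    rw [hy, Ext.comp_zero]

end Groth.Agent.GrInj
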