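import Groth.Agent.GrInj.Coarse
import Groth.Agent.GrInj.Func
import Groth.Agent.S13217
import Groth.Agent.S13225

/-!
# Graded local cohomology from graded `Γ_a`-acyclic resolutions
-/

set_option autoImplicit false
set_option linter.unusedSectionVars false
universe u

namespace Groth.Agent.GrInj

open GrLC LocCohLib

variable {ι : Type} [AddCommGroup ι] [DecidableEq ι] {R : Type u} [CommRing R] [IsNoetherianRing R]
  {𝒜 : ι → AddSubgroup R} [GradedRing 𝒜]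
variable {M : Type u} [AddCommGroup M] [Module R M] {ℳ : ι → AddSubgroup M} [DirectSum.Decomposition ℳ]
  [SetLike.GradedSMul 𝒜 ℳ]

/-- A graded resolution by `Γ_a`-acyclic modules. -/
structure AcRes (ℳ : ι → AddSubgroup M) [DirectSum.Decomposition ℳ] [SetLike.GradedSMul 𝒜 ℳ]
    (a : HomogeneousIdeal 𝒜) where
  X : ℕ → GMod.{u} 𝒜
  d : ∀ n, (X n).carrier →ₗ[R] (X (n + 1)).carrier
  ε : M →ₗ[R] (X 0).carrier
  d_grHom : ∀ n, IsGrHom (X n).gr (X (n + 1)).gr (d n)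
  ε_grHom : IsGrHom ℳ (X 0).gr ε
  ε_injective : Function.Injective ε
  exact_zero : LinearMap.ker (d 0) = LinearMap.range ε
  exact_succ : ∀ n, LinearMap.ker (d (n + 1)) = LinearMap.range (d n)
  acyclic : ∀ n, Acyclic a.toIdeal (ModuleCat.of R (X n).carrier)

variable {a : HomogeneousIdeal 𝒜}

/-- A *injective resolution as an acyclic one. -/
noncomputable def AcRes.ofStar (E : StarInjRes 𝒜 ℳ) (a : HomogeneousIdeal 𝒜) : AcRes ℳ a where
  X := E.X
  d := E.d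
  ε := E.ε
  d_grHom := E.d_grHom
  ε_grHom := E.ε_grHom
  ε_injective := E.ε_injective
  exact_zero := E.exact_zero
  exact_succ := E.exact_succ
  acyclic n := S13217.acyclic a (E.starInj n)

namespace AcRes

variable (Y : AcRes ℳ a)

/-- The torsion cocycles of degree `j`. -/
def coc (p : ℕ) (j : ι) : Submodule (deg0 𝒜) (Y.X p).carrier :=
  comp 𝒜 (Y.X p).gr j ⊓ (gam a.toIdeal (Y.X p).carrier ⊓ LinearMap.ker (Y.d p)).restrictScalars (deg0 𝒜)

/-- The torsion coboundaries. -/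
def cob : (p : ℕ) → Submodule R (Y.X p).carrier
  | 0 => ⊥
  | p + 1 => (gam a.toIdeal (Y.X p).carrier).map (Y.d p)

/-- The pieces of the cohomology of `Γ_a` of an acyclic resolution. -/
abbrev piece (p : ℕ) (j : ι) : Type u :=
  ↥(Y.coc p j) ⧸ ((Y.cob p).restrictScalars (deg0 𝒜)).comap (Y.coc p j).subtype

section Cone
variable (E : StarInjRes 𝒜 ℳ) (ψ : ∀ n, (Y.X n).carrier →ₗ[R] (E.X n).carrier)

/-- The terms of the cone of a comparison map. -/
abbrev coneT : ℕ → ModuleCat.{u} R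
  | 0 => ModuleCat.of R (Y.X 0).carrier
  | n + 1 => ModuleCat.of R ((Y.X (n + 1)).carrier × (E.X n).carrier)

/-- The differential of the cone of a comparison map. -/
noncomputable def coneδ : ∀ n, coneT Y E n →ₗ[R] coneT Y E (n + 1)
  | 0 => LinearMap.prod (-(Y.d 0)) (ψ 0)
  | n + 1 => LinearMap.prod (-(Y.d (n + 1) ∘ₗ LinearMap.fst R (Y.X (n + 1)).carrier (E.X n).carrier))
      (ψ (n + 1) ∘ₗ LinearMap.fst R (Y.X (n + 1)).carrier (E.X n).carrier +
        E.d n ∘ₗ LinearMap.snd R (Y.X (n + 1)).carrier (E.X n).carrier)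

theorem coneT_acyclic : ∀ n, Acyclic a.toIdeal (ModuleCat.of R (coneT Y E n))
  | 0 => Y.acyclic 0
  | n + 1 => acyclic_prod (I := a.toIdeal) (Y.acyclic (n + 1)) (S13217.acyclic a (E.starInj n))

variable (hc : ∀ n x, ψ (n + 1) (Y.d n x) = E.d n (ψ n x)) (hε : ∀ m, ψ 0 (Y.ε m) = E.ε m)

include hε in
theorem coneδ_zero : LinearMap.ker (coneδ Y E ψ 0) = ⊥ := by
  refine eq_bot_iff.2 fun y hy => (Submodule.mem_bot R).2 ?_
  have h1 : Y.d 0 y = 0 := neg_eq_zero.1 (congrArg Prod.fst hy)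
  obtain ⟨m, rfl⟩ := Y.exact_zero.le h1
  have h2 : E.ε m = 0 := (hε m).symm.trans (congrArg Prod.snd hy)
  rw [E.ε_injective (h2.trans (map_zero E.ε).symm), map_zero]

include hc hε in
theorem coneδ_exact : ∀ n, LinearMap.ker (coneδ Y E ψ (n + 1)) = LinearMap.range (coneδ Y E ψ n) := by
  intro n
  apply le_antisymm
  · rintro ⟨y, x⟩ hyx
    have h1 : Y.d (n + 1) y = 0 := neg_eq_zero.1 (congrArg Prod.fst hyx)
    have h2 : ψ (n + 1) y + E.d n x = 0 := congrArg Prod.snd hyx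
    obtain ⟨y', rfl⟩ := (Y.exact_succ n).le h1
    rw [hc] at h2
    have h3 : E.d n (ψ n y' + x) = 0 := by rw [map_add]; exact h2
    cases n with
    | zero =>
      obtain ⟨m, hm⟩ := E.exact_zero.le h3
      refine ⟨(-y' + Y.ε m : (Y.X 0).carrier), Prod.ext ?_ ?_⟩
      · show -(Y.d 0 (-y' + Y.ε m)) = Y.d 0 y'
        rw [map_add, map_neg, Y.exact_zero.ge ⟨m, rfl⟩, add_zero, neg_neg]
      · show ψ 0 (-y' + Y.ε m) = x
        rw [map_add, map_neg, hε, hm, neg_add_cancel_left]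
    | succ n =>
      obtain ⟨x', hx'⟩ := (E.exact_succ n).le h3
      refine ⟨((-y', x') : (Y.X (n + 1)).carrier × (E.X n).carrier), Prod.ext ?_ ?_⟩
      · show -(Y.d (n + 1) (-y')) = Y.d (n + 1) y'
        rw [map_neg, neg_neg]
      · show ψ (n + 1) (-y') + E.d n x' = x
        rw [map_neg, hx', neg_add_cancel_left]
  · rintro _ ⟨c, rfl⟩
    cases n with
    | zero =>
      refine Prod.ext ?_ ?_
      · show -(Y.d 1 (-(Y.d 0 c))) = 0
        rw [map_neg, (Y.exact_succ 0).ge ⟨c, rfl⟩, neg_zero, neg_zero]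
      · show ψ 1 (-(Y.d 0 c)) + E.d 0 (ψ 0 c) = 0
        rw [map_neg, hc, neg_add_cancel]
    | succ n =>
      obtain ⟨y, x⟩ := c
      refine Prod.ext ?_ ?_
      · show -(Y.d (n + 2) (-(Y.d (n + 1) y))) = 0
        rw [map_neg, (Y.exact_succ (n + 1)).ge ⟨y, rfl⟩, neg_zero, neg_zero]
      · show ψ (n + 2) (-(Y.d (n + 1) y)) + E.d (n + 1) (ψ (n + 1) y + E.d n x) = 0
        rw [map_neg, hc, map_add, (E.exact_succ n).ge ⟨x, rfl⟩, add_zero, neg_add_cancel]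

include hc hε in
theorem cone_preimage (n : ℕ) (c : coneT Y E (n + 1)) (hk : c ∈ gam a.toIdeal (coneT Y E (n + 1)))
    (hd : coneδ Y E ψ (n + 1) c = 0) : ∃ b ∈ gam a.toIdeal (coneT Y E n), coneδ Y E ψ n b = c :=
  exists_torsion_preimage (I := a.toIdeal) (C := fun n => coneT Y E n) (d := coneδ Y E ψ)
    (coneδ_exact Y E ψ hc hε) (coneT_acyclic Y E) (coneδ_zero Y E ψ hε) n c hk hd

include hc hε in
theorem exists_lift_cycle (p : ℕ) (x : (E.X p).carrier) (hx : x ∈ gam a.toIdeal (E.X p).carrier)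
    (hdx : E.d p x = 0) : ∃ y ∈ gam a.toIdeal (Y.X p).carrier, Y.d p y = 0 ∧
      ∃ w ∈ E.cobdy a p, x = ψ p y + w := by
  obtain ⟨k, hk⟩ := hx
  obtain ⟨b, hb, hbe⟩ := cone_preimage Y E ψ hc hε p
    (((0 : (Y.X (p + 1)).carrier), x) : (Y.X (p + 1)).carrier × (E.X p).carrier)
    ⟨k, fun r hr => Prod.ext (smul_zero r) (hk r hr)⟩
    (Prod.ext (by show -(Y.d (p + 1) 0) = 0; rw [map_zero, neg_zero])
      (by show ψ (p + 1) 0 + E.d p x = 0; rw [map_zero, zero_add, hdx]))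
  cases p with
  | zero =>
    exact ⟨b, hb, neg_eq_zero.1 (congrArg Prod.fst hbe), 0, zero_mem _,
      (congrArg Prod.snd hbe).symm.trans (add_zero _).symm⟩
  | succ p =>
    obtain ⟨y, x'⟩ := b
    obtain ⟨k', hk'⟩ := hb
    exact ⟨y, ⟨k', fun r hr => congrArg Prod.fst (hk' r hr)⟩, neg_eq_zero.1 (congrArg Prod.fst hbe),
      E.d p x', ⟨x', ⟨k', fun r hr => congrArg Prod.snd (hk' r hr)⟩, rfl⟩, (congrArg Prod.snd hbe).symm⟩

include hc hε in
theorem mem_cob_of (p : ℕ) (y : (Y.X p).carrier) (hy : y ∈ gam a.toIdeal (Y.X p).carrier)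
    (hdy : Y.d p y = 0) (hψy : ψ p y ∈ E.cobdy a p) : y ∈ Y.cob p := by
  cases p with
  | zero =>
    obtain ⟨m, rfl⟩ := Y.exact_zero.le hdy
    have h : E.ε m = 0 := (hε m).symm.trans ((Submodule.mem_bot R).1 hψy)
    rw [E.ε_injective (h.trans (map_zero E.ε).symm), map_zero]
    exact zero_mem _
  | succ p =>
    obtain ⟨x, ⟨k, hk⟩, hx⟩ := hψy
    obtain ⟨k₀, hk₀⟩ := hy
    obtain ⟨b, hb, hbe⟩ := cone_preimage Y E ψ hc hε p
      ((y, -x) : (Y.X (p + 1)).carrier × (E.X p).carrier)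
      ⟨k₀ + k, fun r hr => Prod.ext (hk₀ r (Ideal.pow_le_pow_right (Nat.le_add_right _ _) hr))
        ((smul_neg r x).trans (neg_eq_zero.2 (hk r (Ideal.pow_le_pow_right (Nat.le_add_left _ _) hr))))⟩
      (Prod.ext (by show -(Y.d (p + 1) y) = 0; rw [hdy, neg_zero])
        (by show ψ (p + 1) y + E.d p (-x) = 0; rw [map_neg, ← hx, add_neg_cancel]))
    cases p with
    | zero =>
      exact ⟨-b, neg_mem hb, (map_neg (Y.d 0) b).trans (congrArg Prod.fst hbe)⟩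
    | succ p =>
      obtain ⟨b₁, b₂⟩ := b
      obtain ⟨k', hk'⟩ := hb
      exact ⟨-b₁, neg_mem (⟨k', fun r hr => congrArg Prod.fst (hk' r hr)⟩ : b₁ ∈ gam a.toIdeal _),
        (map_neg (Y.d (p + 1)) b₁).trans (congrArg Prod.fst hbe)⟩

end Cone

/-- An acyclic resolution computes the pieces of graded local cohomology. -/
theorem nonempty_pieceEquiv (E : StarInjRes 𝒜 ℳ) (p : ℕ) (j : ι) :
    Nonempty (Y.piece p j ≃ₗ[deg0 𝒜] E.Hcomp a p j) := by
  obtain ⟨ψ, hψ, hε, hc⟩ := exists_lift_res Y.X Y.d Y.d_grHom Y.ε Y.ε_grHom Y.ε_injective Y.exact_zero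
    Y.exact_succ E
  have hc' : ∀ n x, ψ (n + 1) (Y.d n x) = E.d n (ψ n x) := fun n x => LinearMap.congr_fun (hc n) x
  have hε' : ∀ m, ψ 0 (Y.ε m) = E.ε m := fun m => LinearMap.congr_fun hε m
  let ι₀ : Y.coc p j →ₗ[deg0 𝒜] E.cocyc a p :=
    { toFun := fun z => ⟨ψ p z.1, gam_map _ (ψ p) z.2.2.1, by
        show E.d p (ψ p z.1) = 0
        rw [← hc', show Y.d p z.1 = 0 from z.2.2.2, map_zero]⟩
      map_add' := fun _ _ => Subtype.ext (map_add _ _ _)
      map_smul' := fun r z => Subtype.ext (map_smul (ψ p) (r : R) z.1) }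
  let θ : Y.coc p j →ₗ[deg0 𝒜] E.Hcomp a p j :=
    ((E.toH a p).restrictScalars (deg0 𝒜) ∘ₗ ι₀).codRestrict (E.Hcomp a p j)
      fun z => ⟨ι₀ z, hψ p j _ z.2.1, rfl⟩
  have hθ : Function.Surjective θ := by
    rintro ⟨_, x, hxj, rfl⟩
    obtain ⟨y, hy, hdy, w, hw, hxy⟩ := exists_lift_cycle Y E ψ hc' hε' p x.1 x.2.1 x.2.2
    have h1 : pr (Y.X p).gr j y ∈ gam a.toIdeal (Y.X p).carrier := S13225.gam_homogeneous a j hy
    have h2 : Y.d p (pr (Y.X p).gr j y) = 0 := by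
      rw [← pr_grHom (Y.d_grHom p), hdy, map_zero]
    refine ⟨⟨pr (Y.X p).gr j y, pr_mem j y, h1, h2⟩, Subtype.ext ((Submodule.Quotient.eq _).2 ?_)⟩
    show ψ p (pr (Y.X p).gr j y) - x.1 ∈ E.cobdy a p
    have h3 := congrArg (pr (E.X p).gr j) hxy
    rw [pr_of_mem hxj, map_add, pr_grHom (hψ p)] at h3
    rw [h3, sub_add_cancel_left]
    refine neg_mem ?_
    cases p with
    | zero => rw [(Submodule.mem_bot R).1 hw, map_zero]; exact zero_mem _
    | succ p =>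
      obtain ⟨w', hw', rfl⟩ := hw
      exact ⟨pr (E.X p).gr j w', S13225.gam_homogeneous a j hw', (pr_grHom (E.d_grHom p) j w').symm⟩
  refine ⟨Submodule.quotEquivOfEq _ _ ?_ ≪≫ₗ θ.quotKerEquivOfSurjective hθ⟩
  ext z
  rw [LinearMap.mem_ker, Subtype.ext_iff]
  refine Iff.trans ?_ (Submodule.Quotient.mk_eq_zero _).symm
  refine ⟨fun hz => ?_, fun hz => mem_cob_of Y E ψ hc' hε' p z.1 z.2.2.1 z.2.2.2 hz⟩
  show ψ p z.1 ∈ E.cobdy a p
  cases p with
  | zero =>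
    have h0 : (z.1 : (Y.X 0).carrier) = 0 := (Submodule.mem_bot R).1 hz
    rw [h0, map_zero]; exact zero_mem _
  | succ p =>
    obtain ⟨w, hw, hwz⟩ := hz
    exact ⟨ψ p w, gam_map _ (ψ p) hw, (hc' p w).symm.trans (congrArg _ hwz)⟩

end AcRes

end Groth.Agent.GrInj
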