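import Groth.Agent.LocCohLib.Shift
import Groth.Agent.LocCohLib.Vanishing
import Mathlib.LinearAlgebra.Prod

/-!
# Complexes of `Γ_I`-acyclic modules
-/

set_option autoImplicit false
set_option linter.unusedSectionVars false
universe u

open CategoryTheory

namespace Groth.Agent.GrInj

open LocCohLib

variable {A : Type u} [CommRing A] [IsNoetherianRing A] {I : Ideal A}
variable {C : ℕ → Type u} [∀ n, AddCommGroup (C n)] [∀ n, Module A (C n)] {d : ∀ n, C n →ₗ[A] C (n + 1)}

variable (hex : ∀ n, LinearMap.ker (d (n + 1)) = LinearMap.range (d n))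

/-- `0 → ker d_j → C_j → ker d_{j+1} → 0`. -/
noncomputable def kSeq (j : ℕ) : ShortComplex (ModuleCat.{u} A) :=
  ShortComplex.mk (ModuleCat.ofHom (LinearMap.ker (d j)).subtype)
    (ModuleCat.ofHom ((d j).codRestrict (LinearMap.ker (d (j + 1))) fun x => by rw [hex]; exact ⟨x, rfl⟩))
    (ModuleCat.hom_ext (LinearMap.ext fun z => Subtype.ext z.2))

theorem kSeq_exact (j : ℕ) : (kSeq hex j).ShortExact where
  exact := (ShortComplex.ShortExact.moduleCat_exact_iff_function_exact _).2 fun x =>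
    ⟨fun h => ⟨⟨x, congrArg Subtype.val h⟩, rfl⟩, fun ⟨z, hz⟩ => hz ▸ Subtype.ext z.2⟩
  mono_f := (ModuleCat.mono_iff_injective _).2 Subtype.val_injective
  epi_g := (ModuleCat.epi_iff_surjective _).2 fun z => by
    obtain ⟨x, hx⟩ := (hex j).le z.2
    exact ⟨x, Subtype.ext hx⟩

variable (hac : ∀ n, Acyclic I (ModuleCat.of A (C n)))
include hex hac

theorem acyclic_ker (hd0 : LinearMap.ker (d 0) = ⊥) (n : ℕ) :
    Acyclic I (ModuleCat.of A (LinearMap.ker (d n))) := by
  induction n with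
  | zero =>
    refine fun k => subsingleton_of_isPowerTorsion k _ fun x => ⟨1, fun a _ => Subtype.ext ?_⟩
    have hx : (x : C 0) = 0 := (Submodule.mem_bot A).1 (hd0.le x.2)
    show a • (x : C 0) = 0
    rw [hx, smul_zero]
  | succ n ih =>
    refine fun k => subsingleton_of_forall_eq 0 fun w => ?_
    obtain ⟨v, rfl⟩ := exact₃ (kSeq_exact hex n) w (Subsingleton.elim (h := ih (k + 1)) _ _)
    rw [show v = 0 from Subsingleton.elim (h := hac n k) _ _]
    exact map_zero _

/-- An exact complex of acyclic modules stays exact after `Γ_I`. -/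
theorem exists_torsion_preimage (hd0 : LinearMap.ker (d 0) = ⊥) (n : ℕ) (y : C (n + 1))
    (hy : y ∈ DRing.torsionSub I (C (n + 1))) (hdy : d (n + 1) y = 0) :
    ∃ x ∈ DRing.torsionSub I (C n), d n x = y := by
  obtain ⟨k, hk⟩ := hy
  obtain ⟨w, hw⟩ := (h0_mem_range (I := I) (M := (kSeq hex n).X₃) ⟨y, hdy⟩).2
    ⟨k, fun a ha => Subtype.ext (hk a ha)⟩
  obtain ⟨v, hv⟩ := exact₃ (kSeq_exact hex n) w (Subsingleton.elim (h := acyclic_ker hex hac hd0 n 0) _ _)
  refine ⟨h0 I (kSeq hex n).X₂ v, (h0_mem_range (I := I) (M := (kSeq hex n).X₂) _).1 ⟨v, rfl⟩, ?_⟩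
  exact congrArg Subtype.val
    (((h0_map (kSeq hex n).g v).symm.trans (congrArg (h0 I (kSeq hex n).X₃) hv)).trans hw)

variable (I C d) in
omit hex hac in
/-- The coboundaries of `Γ_I(C)`. -/
noncomputable def tCobdy : (i : ℕ) → Submodule A (C i)
  | 0 => ⊥
  | n + 1 => (DRing.torsionSub I (C n)).map (d n)

variable {M : Type u} [AddCommGroup M] [Module A M] {ε : M →ₗ[A] C 0} (hε : Function.Injective ε)
  (hex0 : LinearMap.ker (d 0) = LinearMap.range ε)

include hex hac in
/-- Dimension shifting along the complex. -/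
theorem kSeq_shift (n : ℕ) : ∀ j m, m = j + n →
    Nonempty ((localCohomology I 1).obj (ModuleCat.of A (LinearMap.ker (d m))) ≃ₗ[A]
      (localCohomology I (n + 1)).obj (ModuleCat.of A (LinearMap.ker (d j)))) := by
  induction n with
  | zero => rintro j m rfl; exact ⟨LinearEquiv.refl _ _⟩
  | succ n ih =>
    rintro j m rfl
    obtain ⟨e⟩ := ih (j + 1) (j + (n + 1)) (by omega)
    refine ⟨e ≪≫ₗ LinearEquiv.ofBijective (δ (kSeq_exact hex j) I (n + 1))
      ⟨?_, fun w => exact₁ (kSeq_exact hex j) w (Subsingleton.elim (h := hac j (n + 1)) _ _)⟩⟩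
    refine (injective_iff_map_eq_zero _).2 fun w hw => ?_
    obtain ⟨v, rfl⟩ := exact₃ (kSeq_exact hex j) w hw
    rw [show v = 0 from Subsingleton.elim (h := hac j n) _ _]
    exact map_zero _

include hex hac hε hex0 in
/-- An acyclic resolution computes local cohomology. -/
theorem exists_classMap : ∀ i : ℕ, ∃ φ : ↥(DRing.torsionSub I (C i) ⊓ LinearMap.ker (d i)) →ₗ[A]
    (localCohomology I i).obj (ModuleCat.of A M), Function.Surjective φ ∧
      LinearMap.ker φ = (tCobdy I C d i).comap (DRing.torsionSub I (C i) ⊓ LinearMap.ker (d i)).subtype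
  | 0 => by
    let ψ : (localCohomology I 0).obj (ModuleCat.of A M) →ₗ[A] C 0 :=
      ε ∘ₗ h0 I (ModuleCat.of A M)
    have hψ : Function.Injective ψ := fun x y h => h0_injective (hε h)
    have hr : LinearMap.range ψ = DRing.torsionSub I (C 0) ⊓ LinearMap.ker (d 0) := by
      ext x
      constructor
      · rintro ⟨w, rfl⟩
        obtain ⟨n, hn⟩ := (h0_mem_range (h0 I (ModuleCat.of A M) w)).1 ⟨w, rfl⟩
        exact ⟨⟨n, fun r hr => by rw [LinearMap.comp_apply, ← map_smul, hn r hr, map_zero]⟩,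
          by rw [hex0]; exact ⟨_, rfl⟩⟩
      · rintro ⟨⟨n, hn⟩, hd⟩
        obtain ⟨m, rfl⟩ := hex0.le hd
        obtain ⟨w, hw⟩ := (h0_mem_range (I := I) (M := ModuleCat.of A M) m).2
          ⟨n, fun r hr => hε (by rw [map_smul, hn r hr, map_zero])⟩
        exact ⟨w, congrArg ε hw⟩
    let σ := (LinearEquiv.ofEq _ _ hr).symm ≪≫ₗ (LinearEquiv.ofInjective ψ hψ).symm
    refine ⟨σ.toLinearMap, σ.surjective, ?_⟩
    rw [σ.ker, show tCobdy I C d 0 = ⊥ from rfl, Submodule.comap_bot, Submodule.ker_subtype]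
  | n + 1 => by
    let ψ : (localCohomology I 0).obj (kSeq hex n).X₃ →ₗ[A] C (n + 1) :=
      (LinearMap.ker (d (n + 1))).subtype ∘ₗ h0 I (kSeq hex n).X₃
    have hψ : Function.Injective ψ := fun x y h => h0_injective (Subtype.ext h)
    have hr : LinearMap.range ψ = DRing.torsionSub I (C (n + 1)) ⊓ LinearMap.ker (d (n + 1)) := by
      ext x
      constructor
      · rintro ⟨w, rfl⟩
        obtain ⟨k, hk⟩ := (h0_mem_range (h0 I (kSeq hex n).X₃ w)).1 ⟨w, rfl⟩
        exact ⟨⟨k, fun r hr => congrArg Subtype.val (hk r hr)⟩, (h0 I (kSeq hex n).X₃ w).2⟩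
      · rintro ⟨⟨k, hk⟩, hd⟩
        obtain ⟨w, hw⟩ := (h0_mem_range (I := I) (M := (kSeq hex n).X₃) ⟨x, hd⟩).2
          ⟨k, fun r hr => Subtype.ext (hk r hr)⟩
        exact ⟨w, congrArg Subtype.val hw⟩
    let σ := (LinearEquiv.ofEq _ _ hr).symm ≪≫ₗ (LinearEquiv.ofInjective ψ hψ).symm
    have hσ : ∀ z, ψ (σ z) = (z : C (n + 1)) := fun z =>
      congrArg Subtype.val ((LinearEquiv.ofInjective ψ hψ).apply_symm_apply
        ((LinearEquiv.ofEq _ _ hr).symm z))
    obtain ⟨e⟩ := kSeq_shift hex hac n 0 n (Nat.zero_add n).symm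
    let ι₀ : ModuleCat.of A M ≅ ModuleCat.of A (LinearMap.ker (d 0)) :=
      (LinearEquiv.ofInjective ε hε ≪≫ₗ LinearEquiv.ofEq _ _ hex0.symm).toModuleIso
    let e' := e ≪≫ₗ (((localCohomology I (n + 1)).mapIso ι₀).toLinearEquiv).symm
    refine ⟨e'.toLinearMap ∘ₗ δ (kSeq_exact hex n) I 0 ∘ₗ σ.toLinearMap, fun w => ?_, ?_⟩
    · obtain ⟨v, hv⟩ := exact₁ (kSeq_exact hex n) (e'.symm w) (Subsingleton.elim (h := hac n 0) _ _)
      obtain ⟨z, rfl⟩ := σ.surjective v
      exact ⟨z, (congrArg e' hv).trans (e'.apply_symm_apply w)⟩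
    rw [LinearEquiv.ker_comp]
    ext z
    constructor
    · intro hz
      obtain ⟨v, hv⟩ := exact₃ (kSeq_exact hex n) (σ z) hz
      refine ⟨h0 I (kSeq hex n).X₂ v, (h0_mem_range (I := I) (M := (kSeq hex n).X₂) _).1 ⟨v, rfl⟩, ?_⟩
      exact (congrArg Subtype.val ((h0_map (kSeq hex n).g v).symm.trans
        (congrArg (h0 I (kSeq hex n).X₃) hv))).trans (hσ z)
    · rintro ⟨y, ⟨k, hk⟩, hy⟩
      obtain ⟨v, hv⟩ := (h0_mem_range (I := I) (M := (kSeq hex n).X₂) y).2 ⟨k, hk⟩
      have : σ z = (localCohomology I 0).map (kSeq hex n).g v := hψ (by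
        rw [hσ]
        refine hy.symm.trans ?_
        refine Eq.trans ?_ (congrArg Subtype.val (h0_map (kSeq hex n).g v)).symm
        rw [hv]; rfl)
      exact LinearMap.mem_ker.2 ((congrArg _ this).trans (δ_map_eq_zero (kSeq_exact hex n) v))

omit hex hac in
/-- A retract of an acyclic module is acyclic. -/
theorem acyclic_of_retract {X Y : Type u} [AddCommGroup X] [Module A X] [AddCommGroup Y] [Module A Y]
    (hY : Acyclic I (ModuleCat.of A Y)) (s : X →ₗ[A] Y) (r : Y →ₗ[A] X) (h : r ∘ₗ s = LinearMap.id) :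
    Acyclic I (ModuleCat.of A X) := fun k => subsingleton_of_forall_eq 0 fun w => by
  have h1 : (localCohomology I (k + 1)).map (ModuleCat.ofHom s ≫ ModuleCat.ofHom r) w = w := by
    rw [show ModuleCat.ofHom s ≫ ModuleCat.ofHom r = 𝟙 (ModuleCat.of A X) from ModuleCat.hom_ext h,
      CategoryTheory.Functor.map_id]; rfl
  rw [← h1, Functor.map_comp]
  show (localCohomology I (k + 1)).map (ModuleCat.ofHom r)
    ((localCohomology I (k + 1)).map (ModuleCat.ofHom s) w) = 0
  rw [show (localCohomology I (k + 1)).map (ModuleCat.ofHom s) w = 0 from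
    Subsingleton.elim (h := hY k) _ _, map_zero]

omit hex hac in
/-- A product of two acyclic modules is acyclic. -/
theorem acyclic_prod {X Y : Type u} [AddCommGroup X] [Module A X] [AddCommGroup Y] [Module A Y]
    (hX : Acyclic I (ModuleCat.of A X)) (hY : Acyclic I (ModuleCat.of A Y)) :
    Acyclic I (ModuleCat.of A (X × Y)) := by
  let S : ShortComplex (ModuleCat.{u} A) :=
    ShortComplex.mk (ModuleCat.ofHom (LinearMap.inl A X Y)) (ModuleCat.ofHom (LinearMap.snd A X Y)) rfl
  have hS : S.ShortExact :=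
    { exact := (ShortComplex.ShortExact.moduleCat_exact_iff_function_exact _).2
        Function.Exact.inl_snd
      mono_f := (ModuleCat.mono_iff_injective _).2 LinearMap.inl_injective
      epi_g := (ModuleCat.epi_iff_surjective _).2 LinearMap.snd_surjective }
  exact fun k => subsingleton_of_forall_eq 0 fun w => by
    obtain ⟨v, rfl⟩ := exact₂ hS w (Subsingleton.elim (h := hY k) _ _)
    rw [show v = 0 from Subsingleton.elim (h := hX k) _ _]
    exact map_zero _

end Groth.Agent.GrInj
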