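import Groth.Prelude.Def_GrLC
import Mathlib.Algebra.DirectSum.Module
import Mathlib.RingTheory.Noetherian.Basic
import Mathlib.LinearAlgebra.FreeModule.Basic
import Mathlib.LinearAlgebra.Isomorphisms

/-!
# Graded modules: components, homogeneous submodules, induced gradings
-/

set_option autoImplicit false
universe u

namespace Groth.Agent.GrInj

open GrLC

variable {ι : Type} [AddCommGroup ι] [DecidableEq ι] {R : Type u} [CommRing R]
  {𝒜 : ι → AddSubgroup R} [GradedRing 𝒜]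
variable {M : Type u} [AddCommGroup M] [Module R M] {ℳ : ι → AddSubgroup M} [DirectSum.Decomposition ℳ]
variable {N : Type u} [AddCommGroup N] [Module R N] {𝒩 : ι → AddSubgroup N} [DirectSum.Decomposition 𝒩]

theorem smul_mem_gr [SetLike.GradedSMul 𝒜 ℳ] {a b : ι} {r : R} {m : M} (hr : r ∈ 𝒜 a) (hm : m ∈ ℳ b) :
    r • m ∈ ℳ (a + b) :=
  SetLike.GradedSMul.smul_mem (A := 𝒜) (B := ℳ) hr hm

/-- A family of subgroups stable under multiplication by homogeneous scalars. -/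
theorem gsmul_mk {X : Type u} [AddCommGroup X] [Module R X] {𝒳 : ι → AddSubgroup X}
    (h : ∀ a b : ι, ∀ r ∈ 𝒜 a, ∀ x ∈ 𝒳 b, r • x ∈ 𝒳 (a + b)) : SetLike.GradedSMul 𝒜 𝒳 :=
  ⟨fun {i j} r x hr hx => h i j r hr x hx⟩

/-! ### Components -/

variable (ℳ) in
/-- The component of degree `i`. -/
def pr (i : ι) : M →+ M where
  toFun x := (DirectSum.decompose ℳ x i : M)
  map_zero' := by simp
  map_add' x y := by simp

theorem pr_mem (i : ι) (x : M) : pr ℳ i x ∈ ℳ i := (DirectSum.decompose ℳ x i).2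

theorem pr_of_mem {i : ι} {x : M} (hx : x ∈ ℳ i) : pr ℳ i x = x :=
  DirectSum.decompose_of_mem_same ℳ hx

theorem pr_of_ne {i j : ι} {x : M} (hx : x ∈ ℳ i) (h : i ≠ j) : pr ℳ j x = 0 :=
  DirectSum.decompose_of_mem_ne ℳ hx h

variable (ℳ) in
/-- The degrees in which an element has a component. -/
noncomputable def supp (x : M) : Finset ι := by classical exact DFinsupp.support (DirectSum.decompose ℳ x)

theorem sum_supp (x : M) : ∑ i ∈ supp ℳ x, pr ℳ i x = x := by
  classical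
  exact DirectSum.sum_support_decompose ℳ x

theorem pr_eq_zero {x : M} {i : ι} (h : i ∉ supp ℳ x) : pr ℳ i x = 0 := by
  classical
  have : DirectSum.decompose ℳ x i = 0 := by
    by_contra h'
    exact h (DFinsupp.mem_support_iff.mpr h')
  show ((DirectSum.decompose ℳ x i : ℳ i) : M) = 0
  rw [this]; rfl

theorem eq_zero_of_pr {x : M} (h : ∀ i, pr ℳ i x = 0) : x = 0 := by
  rw [← sum_supp (ℳ := ℳ) x]; exact Finset.sum_eq_zero fun i _ => h i

theorem eq_of_pr {x y : M} (h : ∀ i, pr ℳ i x = pr ℳ i y) : x = y :=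
  sub_eq_zero.mp (eq_zero_of_pr (ℳ := ℳ) fun i => by rw [map_sub, h i, sub_self])

variable (ℳ) in
theorem induction {P : M → Prop} (h0 : P 0) (hh : ∀ i, ∀ m ∈ ℳ i, P m)
    (hadd : ∀ a b, P a → P b → P (a + b)) (x : M) : P x :=
  DirectSum.Decomposition.inductionOn ℳ h0 (fun {i} m => hh i m.1 m.2) hadd x

theorem pr_map {f : M →+ N} {d : ι} (hf : ∀ g, ∀ m ∈ ℳ g, f m ∈ 𝒩 (g + d)) (i : ι) (x : M) :
    pr 𝒩 (i + d) (f x) = f (pr ℳ i x) := by
  induction x using induction ℳ with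
  | h0 => simp
  | hh j m hm =>
    rcases eq_or_ne j i with rfl | h
    · rw [pr_of_mem hm, pr_of_mem (hf j m hm)]
    · rw [pr_of_ne hm h, map_zero, pr_of_ne (hf j m hm) (fun e => h (add_right_cancel e))]
  | hadd a b ha hb => simp [map_add, ha, hb]

theorem pr_grHom {f : M →ₗ[R] N} (hf : IsGrHom ℳ 𝒩 f) (i : ι) (x : M) :
    pr 𝒩 i (f x) = f (pr ℳ i x) := by
  have h := pr_map (ℳ := ℳ) (𝒩 := 𝒩) (f := f.toAddMonoidHom) (d := 0)
    (fun g m hm => by rw [add_zero]; exact hf g m hm) i x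
  rwa [add_zero] at h

theorem pr_smul [SetLike.GradedSMul 𝒜 ℳ] {d : ι} {a : R} (ha : a ∈ 𝒜 d) (i : ι) (x : M) :
    pr ℳ (d + i) (a • x) = a • pr ℳ i x := by
  have h := pr_map (ℳ := ℳ) (𝒩 := ℳ) (f := DistribSMul.toAddMonoidHom M a) (d := d)
    (fun g m hm => by rw [add_comm g d]; exact smul_mem_gr ha hm) i x
  rwa [add_comm i d] at h

theorem pr_smul' [SetLike.GradedSMul 𝒜 ℳ] {d : ι} {a : R} (ha : a ∈ 𝒜 d) (i : ι) (x : M) :
    pr ℳ i (a • x) = a • pr ℳ (i - d) x := by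
  rw [← pr_smul ha (i - d) x, add_sub_cancel]

/-- Two linear maps agreeing on homogeneous elements are equal. -/
theorem hom_ext {f g : M →ₗ[R] N} (h : ∀ i, ∀ m ∈ ℳ i, f m = g m) : f = g :=
  LinearMap.ext fun x => by
    induction x using induction ℳ with
    | h0 => simp
    | hh i m hm => exact h i m hm
    | hadd a b ha hb => simp [map_add, ha, hb]

/-! ### Homogeneous submodules -/

theorem mem_of_pr {P : Submodule R M} {x : M} (h : ∀ i, pr ℳ i x ∈ P) : x ∈ P := by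
  rw [← sum_supp (ℳ := ℳ) x]; exact sum_mem fun i _ => h i

theorem hom_bot : (⊥ : Submodule R M).IsHomogeneous ℳ := fun i x hx => by
  rw [Submodule.mem_bot] at hx ⊢
  subst hx; simp

theorem hom_top : (⊤ : Submodule R M).IsHomogeneous ℳ := fun _ _ _ => Submodule.mem_top

theorem hom_inf {P Q : Submodule R M} (hP : P.IsHomogeneous ℳ) (hQ : Q.IsHomogeneous ℳ) :
    (P ⊓ Q).IsHomogeneous ℳ :=
  fun i _ hx => ⟨hP i hx.1, hQ i hx.2⟩

theorem hom_sup {P Q : Submodule R M} (hP : P.IsHomogeneous ℳ) (hQ : Q.IsHomogeneous ℳ) :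
    (P ⊔ Q).IsHomogeneous ℳ := fun i x hx => by
  obtain ⟨p, hp, q, hq, rfl⟩ := Submodule.mem_sup.1 hx
  show pr ℳ i (p + q) ∈ P ⊔ Q
  rw [map_add]
  exact Submodule.add_mem_sup (hP i hp) (hQ i hq)

theorem hom_sSup_directed {c : Set (Submodule R M)} (hne : c.Nonempty) (hd : DirectedOn (· ≤ ·) c)
    (h : ∀ P ∈ c, P.IsHomogeneous ℳ) : (sSup c).IsHomogeneous ℳ := fun i x hx => by
  obtain ⟨P, hP, hxP⟩ := (Submodule.mem_sSup_of_directed hne hd).1 hx
  exact (Submodule.mem_sSup_of_directed hne hd).2 ⟨P, hP, h P hP i hxP⟩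

theorem hom_ker {f : M →ₗ[R] N} (hf : IsGrHom ℳ 𝒩 f) : (LinearMap.ker f).IsHomogeneous ℳ :=
  fun i x hx => by
    show f (pr ℳ i x) = 0
    rw [← pr_grHom hf, LinearMap.mem_ker.1 hx, map_zero]

theorem hom_map {f : M →ₗ[R] N} (hf : IsGrHom ℳ 𝒩 f) {P : Submodule R M} (hP : P.IsHomogeneous ℳ) :
    (P.map f).IsHomogeneous 𝒩 := fun i x hx => by
  obtain ⟨p, hp, rfl⟩ := hx
  exact ⟨pr ℳ i p, hP i hp, (pr_grHom hf i p).symm⟩

theorem hom_range {f : M →ₗ[R] N} (hf : IsGrHom ℳ 𝒩 f) : (LinearMap.range f).IsHomogeneous 𝒩 := by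
  rw [← Submodule.map_top]; exact hom_map hf hom_top

theorem hom_comap {f : M →ₗ[R] N} (hf : IsGrHom ℳ 𝒩 f) {Q : Submodule R N} (hQ : Q.IsHomogeneous 𝒩) :
    (Q.comap f).IsHomogeneous ℳ := fun i x hx => by
  show f (pr ℳ i x) ∈ Q
  rw [← pr_grHom hf]
  exact hQ i hx

variable (𝒜) in
include 𝒜 in
theorem hom_span_singleton [SetLike.GradedSMul 𝒜 ℳ] {g : ι} {y : M} (hy : y ∈ ℳ g) :
    (Submodule.span R {y}).IsHomogeneous ℳ := by
  intro i z hz
  obtain ⟨r, rfl⟩ := Submodule.mem_span_singleton.1 hz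
  show pr ℳ i (r • y) ∈ _
  rw [← sum_supp (ℳ := 𝒜) r, Finset.sum_smul, map_sum]
  refine sum_mem fun a _ => ?_
  have h : pr 𝒜 a r • y ∈ ℳ (a + g) := smul_mem_gr (pr_mem a r) hy
  by_cases hi : a + g = i
  · subst hi
    rw [pr_of_mem h]
    exact Submodule.smul_mem _ _ (Submodule.mem_span_singleton_self y)
  · rw [pr_of_ne h hi]
    exact zero_mem _

/-- A nonzero homogeneous submodule has a nonzero homogeneous element. -/
theorem exists_homogeneous {P : Submodule R M} (hP : P.IsHomogeneous ℳ) (h : P ≠ ⊥) :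
    ∃ i, ∃ m ∈ P, m ∈ ℳ i ∧ m ≠ 0 := by
  obtain ⟨x, hx, hx0⟩ := Submodule.exists_mem_ne_zero_of_ne_bot h
  obtain ⟨i, hi⟩ : ∃ i, pr ℳ i x ≠ 0 := by
    by_contra h'
    push Not at h'
    exact hx0 (eq_zero_of_pr h')
  exact ⟨i, pr ℳ i x, hP i hx, pr_mem i x, hi⟩

/-! ### Building decompositions -/

/-- A spanning family of subgroups with projections is a decomposition. -/
theorem isInternal_of {X : Type u} [AddCommGroup X] (𝒳 : ι → AddSubgroup X) (q : ι → X →+ X)
    (hq : ∀ i, ∀ x ∈ 𝒳 i, q i x = x) (hq' : ∀ i j, i ≠ j → ∀ x ∈ 𝒳 i, q j x = 0)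
    (hs : ∀ x : X, x ∈ ⨆ i, 𝒳 i) : DirectSum.IsInternal 𝒳 := by
  classical
  constructor
  · rw [injective_iff_map_eq_zero]
    intro v hv
    refine DFinsupp.ext fun i => ?_
    have key : ∀ w : DirectSum ι fun j => 𝒳 j, q i (DirectSum.coeAddMonoidHom 𝒳 w) = (w i : X) := by
      intro w
      induction w using DirectSum.induction_on with
      | zero => simp
      | of j y =>
        rw [DirectSum.coeAddMonoidHom_of]
        rcases eq_or_ne j i with rfl | h
        · rw [DirectSum.of_eq_same, hq j _ y.2]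
        · rw [DirectSum.of_eq_of_ne _ _ _ (Ne.symm h), hq' j i h _ y.2]; rfl
      | add a b ha hb => simp [map_add, ha, hb]
    refine Subtype.ext ?_
    rw [← key v, hv, map_zero]
    rfl
  · intro x
    refine AddSubgroup.iSup_induction 𝒳 (C := fun y => ∃ v, DirectSum.coeAddMonoidHom 𝒳 v = y)
      (hs x) (fun i y hy => ⟨DirectSum.of _ i ⟨y, hy⟩, DirectSum.coeAddMonoidHom_of _ _ _⟩)
      ⟨0, map_zero _⟩ ?_
    rintro _ _ ⟨a, rfl⟩ ⟨b, rfl⟩
    exact ⟨a + b, map_add _ _ _⟩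

/-- The grading of a homogeneous submodule. -/
def subGr (ℳ : ι → AddSubgroup M) (P : Submodule R M) (i : ι) : AddSubgroup P :=
  (ℳ i).comap P.subtype.toAddMonoidHom

theorem isInternal_sub {P : Submodule R M} (hP : P.IsHomogeneous ℳ) :
    DirectSum.IsInternal (subGr ℳ P) := by
  let q : ι → P →+ P := fun i =>
    ((pr ℳ i).comp P.subtype.toAddMonoidHom).codRestrict P fun x => hP i x.2
  refine isInternal_of _ q (fun i x hx => Subtype.ext (pr_of_mem hx))
    (fun i j h x hx => Subtype.ext (pr_of_ne hx h)) fun x => ?_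
  have hx : x = ∑ i ∈ supp ℳ (x : M), q i x := Subtype.ext (by
    rw [AddSubmonoidClass.coe_finset_sum]; exact (sum_supp (x : M)).symm)
  rw [hx]
  exact sum_mem fun i _ => le_iSup (subGr ℳ P) i (show ((q i x : P) : M) ∈ ℳ i from pr_mem i _)

instance gsmul_sub [SetLike.GradedSMul 𝒜 ℳ] (P : Submodule R M) :
    SetLike.GradedSMul 𝒜 (subGr ℳ P) :=
  gsmul_mk fun a b r hr x hx => by
    show r • (x : M) ∈ ℳ (a + b)
    exact smul_mem_gr hr hx

/-- The grading of a quotient. -/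
def quoGr (ℳ : ι → AddSubgroup M) (P : Submodule R M) (i : ι) : AddSubgroup (M ⧸ P) :=
  (ℳ i).map P.mkQ.toAddMonoidHom

theorem grHom_mkQ (P : Submodule R M) : IsGrHom ℳ (quoGr ℳ P) P.mkQ :=
  fun _ m hm => ⟨m, hm, rfl⟩

theorem isInternal_quo {P : Submodule R M} (hP : P.IsHomogeneous ℳ) :
    DirectSum.IsInternal (quoGr ℳ P) := by
  let q : ι → M ⧸ P →+ M ⧸ P := fun i =>
    QuotientAddGroup.lift P.toAddSubgroup (P.mkQ.toAddMonoidHom.comp (pr ℳ i))
      fun x hx => (Submodule.Quotient.mk_eq_zero P).2 (hP i hx)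
  refine isInternal_of _ q ?_ ?_ fun x => ?_
  · rintro i _ ⟨m, hm, rfl⟩
    exact congrArg P.mkQ (pr_of_mem hm)
  · rintro i j h _ ⟨m, hm, rfl⟩
    exact (congrArg P.mkQ (pr_of_ne hm h)).trans (map_zero _)
  · obtain ⟨m, rfl⟩ := P.mkQ_surjective x
    rw [← sum_supp (ℳ := ℳ) m, map_sum]
    exact sum_mem fun i _ => le_iSup (quoGr ℳ P) i ⟨_, pr_mem i m, rfl⟩

instance gsmul_quo [SetLike.GradedSMul 𝒜 ℳ] (P : Submodule R M) :
    SetLike.GradedSMul 𝒜 (quoGr ℳ P) :=
  gsmul_mk fun a b r hr x hx => by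
    obtain ⟨m, hm, rfl⟩ := hx
    exact ⟨r • m, smul_mem_gr hr hm, map_smul P.mkQ r m⟩

/-- The grading shifted by `d`. -/
def shGr (ℳ : ι → AddSubgroup M) (d : ι) (i : ι) : AddSubgroup M := ℳ (i - d)

theorem isInternal_sh (d : ι) : DirectSum.IsInternal (shGr ℳ d) := by
  refine isInternal_of _ (fun i => pr ℳ (i - d)) (fun i x hx => pr_of_mem hx)
    (fun i j h x hx => pr_of_ne hx fun e => h (by simpa using e)) fun x => ?_
  rw [← sum_supp (ℳ := ℳ) x]
  exact sum_mem fun i _ => le_iSup (shGr ℳ d) (i + d)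
    (show pr ℳ i x ∈ ℳ (i + d - d) by rw [add_sub_cancel_right]; exact pr_mem i x)

noncomputable instance decompSh (d : ι) : DirectSum.Decomposition (shGr ℳ d) :=
  (isInternal_sh d).chooseDecomposition

theorem hom_sh {P : Submodule R M} (hP : P.IsHomogeneous ℳ) (d : ι) :
    P.IsHomogeneous (shGr ℳ d) := fun i x hx => by
  have h : ∀ y : M, pr (shGr ℳ d) i y = pr ℳ (i - d) y := fun y => by
    induction y using induction ℳ with
    | h0 => simp
    | hh j m hm =>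
      have hm' : m ∈ shGr ℳ d (j + d) := by
        show m ∈ ℳ (j + d - d)
        rw [add_sub_cancel_right]; exact hm
      rcases eq_or_ne (j + d) i with rfl | hne
      · rw [pr_of_mem hm', add_sub_cancel_right, pr_of_mem hm]
      · rw [pr_of_ne hm' hne, pr_of_ne hm fun e => hne (by rw [e, sub_add_cancel])]
    | hadd a b ha hb => simp [map_add, ha, hb]
  show pr (shGr ℳ d) i x ∈ P
  rw [h]; exact hP (i - d) hx

instance gsmul_sh [SetLike.GradedSMul 𝒜 ℳ] (d : ι) : SetLike.GradedSMul 𝒜 (shGr ℳ d) :=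
  gsmul_mk fun a b r hr x hx => by
    show r • x ∈ ℳ (a + b - d)
    rw [add_sub_assoc]
    exact smul_mem_gr hr hx

variable (𝒜) in
/-- A homogeneous submodule as a graded module. -/
noncomputable def subMod [SetLike.GradedSMul 𝒜 ℳ] (P : Submodule R M) (hP : P.IsHomogeneous ℳ) :
    GMod.{u} 𝒜 :=
  { carrier := P, gr := subGr ℳ P, dec := (isInternal_sub hP).chooseDecomposition,
    gsmul := gsmul_sub P }

variable (𝒜) in
/-- A quotient by a homogeneous submodule as a graded module. -/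
noncomputable def quoMod [SetLike.GradedSMul 𝒜 ℳ] (P : Submodule R M) (hP : P.IsHomogeneous ℳ) :
    GMod.{u} 𝒜 :=
  { carrier := M ⧸ P, gr := quoGr ℳ P, dec := (isInternal_quo hP).chooseDecomposition,
    gsmul := gsmul_quo P }

variable (𝒜) in
/-- A shifted graded module. -/
noncomputable def shMod (X : GMod.{u} 𝒜) (d : ι) :
    GMod.{u} 𝒜 :=
  { carrier := X.carrier, gr := shGr X.gr d, dec := decompSh d, gsmul := gsmul_sh d }

end Groth.Agent.GrInj
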