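import Groth.Agent.GrInj.Ext
import Groth.Agent.GrBassZero.Count
import Groth.Agent.LocCohLib.Shift
import Mathlib.RingTheory.LocalProperties.Projective
import Mathlib.Algebra.Module.FinitePresentation

/-!
# `Ext` over the localisations into a localised *injective module; Bass numbers from resolutions
-/

set_option autoImplicit false
set_option linter.unusedSectionVars false
universe u

namespace Groth.Agent.GrInj

open GrLC CategoryTheory IsLocalRing
open CategoryTheory.Abelian (Ext)

variable {ι : Type} [AddCommGroup ι] [DecidableEq ι] {R : Type u} [CommRing R] [IsNoetherianRing R]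
  {𝒜 : ι → AddSubgroup R} [GradedRing 𝒜]

/-- Localisation of a module, as an object. -/
noncomputable abbrev locMod (S : Submonoid R) (X : Type u) [AddCommGroup X] [Module R X] :
    ModuleCat.{u} (Localization S) :=
  ModuleCat.of (Localization S) (LocalizedModule S X)

/-- `Ext^i(S⁻¹X, S⁻¹I) = 0` for `i ≥ 1`. -/
theorem subsingleton_ext_loc (S : Submonoid R) {I : Type u} [AddCommGroup I] [Module R I]
    {ℐ : ι → AddSubgroup I} [DirectSum.Decomposition ℐ] [SetLike.GradedSMul 𝒜 ℐ] (hI : IsStarInj 𝒜 ℐ)
    (k : ℕ) : ∀ (X : GMod.{u} 𝒜) [Module.Finite R X.carrier],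
      Subsingleton (Ext.{u} (locMod S X.carrier) (locMod S I) (k + 1)) := by
  induction k with
  | zero =>
    intro X _
    obtain ⟨F, π, hfree, hfin, hπ, hgr⟩ := exists_presentation 𝒜 X.gr
    haveI : Module.Finite R F.carrier := hfin
    haveI : Module.Free R F.carrier := hfree
    haveI : Module.Free (Localization S) (LocalizedModule S F.carrier) :=
      Module.free_of_isLocalizedModule S (LocalizedModule.mkLinearMap S F.carrier)
    have hS := LocCohLib.locSeq_shortExact (LinearMap.shortExact_shortComplexKer hπ) S
    haveI : Projective (LocCohLib.locSeq S π.shortComplexKer).X₂ :=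
      ModuleCat.projective_of_free (Module.Free.chooseBasis (Localization S) (LocalizedModule S F.carrier))
    refine subsingleton_of_forall_eq 0 fun x => ?_
    obtain ⟨y, rfl⟩ := Ext.contravariant_sequence_exact₃ hS _ x (Ext.eq_zero_of_projective _) (n₀ := 0) rfl
    obtain ⟨g, rfl⟩ := Ext.addEquiv₀.symm.surjective y
    haveI : DirectSum.Decomposition (subGr F.gr (LinearMap.ker π)) :=
      (isInternal_sub (hom_ker hgr)).chooseDecomposition
    haveI : Module.Finite R (LinearMap.ker π) := Module.Finite.iff_fg.2 (IsNoetherian.noetherian _)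
    haveI : Module.FinitePresentation R (LinearMap.ker π) := Module.finitePresentation_of_finite R _
    let g' : LocalizedModule S (LinearMap.ker π) →ₗ[Localization S] LocalizedModule S I := g.hom
    obtain ⟨u, s, hu⟩ := Module.FinitePresentation.exists_lift_of_isLocalizedModule S
      (LocalizedModule.mkLinearMap S I) ((g'.restrictScalars R) ∘ₗ LocalizedModule.mkLinearMap S _)
    obtain ⟨v, hv⟩ := exists_extension (ℳ := subGr F.gr (LinearMap.ker π)) (𝒩 := F.gr) hI
      (f := (LinearMap.ker π).subtype) (fun _ _ hm => hm) (Submodule.injective_subtype _) u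
    let w : LocalizedModule S F.carrier →ₗ[Localization S] LocalizedModule S I :=
      IsLocalization.mk' (Localization S) (1 : R) s • LocalizedModule.map S v
    have hw : ∀ z : LocalizedModule S (LinearMap.ker π),
        g' z = w (LocalizedModule.map S (LinearMap.ker π).subtype z) := by
      intro z
      induction z using LocalizedModule.induction_on with
      | h m t =>
        show g' _ = IsLocalization.mk' (Localization S) (1 : R) s • LocalizedModule.map S v _
        rw [LocalizedModule.map_mk, LocalizedModule.map_mk]
        have h1 : LocalizedModule.mk m t =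
            IsLocalization.mk' (Localization S) (1 : R) t • LocalizedModule.mkLinearMap S _ m := by
          rw [LocalizedModule.mkLinearMap_apply, ← Localization.mk_eq_mk', LocalizedModule.mk_smul_mk,
            one_smul, mul_one]
        rw [h1, map_smul]
        have h2 : (s : R) • g' (LocalizedModule.mkLinearMap S _ m) = LocalizedModule.mk (u m) 1 :=
          (LinearMap.congr_fun hu m).symm
        have h3 : v ((LinearMap.ker π).subtype m) = u m := LinearMap.congr_fun hv m
        rw [h3]
        have h4 : g' (LocalizedModule.mkLinearMap S _ m) =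
            IsLocalization.mk' (Localization S) (1 : R) s • LocalizedModule.mk (u m) 1 := by
          rw [← h2, ← algebraMap_smul (Localization S) (s : R), smul_smul, IsLocalization.mk'_spec,
            map_one, one_smul]
        rw [h4, smul_comm]
        simp only [← Localization.mk_eq_mk', LocalizedModule.mk_smul_mk, one_smul, mul_one]
    have hg : g = (LocCohLib.locSeq S π.shortComplexKer).f ≫ ModuleCat.ofHom w :=
      ModuleCat.hom_ext (LinearMap.ext hw)
    rw [hg]
    show hS.extClass.comp (Ext.mk₀ ((LocCohLib.locSeq S π.shortComplexKer).f ≫ ModuleCat.ofHom w)) rfl = 0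
    rw [← Ext.mk₀_comp_mk₀]
    exact hS.extClass_comp_assoc _
  | succ k ih =>
    intro X _
    obtain ⟨F, π, hfree, hfin, hπ, hgr⟩ := exists_presentation 𝒜 X.gr
    haveI : Module.Finite R F.carrier := hfin
    haveI : Module.Free R F.carrier := hfree
    haveI : Module.Free (Localization S) (LocalizedModule S F.carrier) :=
      Module.free_of_isLocalizedModule S (LocalizedModule.mkLinearMap S F.carrier)
    have hS := LocCohLib.locSeq_shortExact (LinearMap.shortExact_shortComplexKer hπ) S
    haveI : Projective (LocCohLib.locSeq S π.shortComplexKer).X₂ :=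
      ModuleCat.projective_of_free (Module.Free.chooseBasis (Localization S) (LocalizedModule S F.carrier))
    refine subsingleton_of_forall_eq 0 fun x => ?_
    obtain ⟨y, rfl⟩ := Ext.contravariant_sequence_exact₃ hS _ x (Ext.eq_zero_of_projective _) (n₀ := k + 1)
      (by omega)
    haveI : Module.Finite R (subMod 𝒜 (LinearMap.ker π) (hom_ker hgr)).carrier :=
      Module.Finite.iff_fg.2 (IsNoetherian.noetherian (LinearMap.ker π))
    have hy : y = 0 := @Subsingleton.elim _ (ih (subMod 𝒜 (LinearMap.ker π) (hom_ker hgr))) _ _
    rw [hy, Ext.comp_zero]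
    rfl

/-- `(R/p)_p` is the residue field at `p`. -/
theorem nonempty_iso_residueField (p : Ideal R) [p.IsPrime] :
    Nonempty (locMod p.primeCompl (R ⧸ p) ≅
      ModuleCat.of (Localization.AtPrime p) (ResidueField (Localization.AtPrime p))) := by
  let A := Localization.AtPrime p
  have hk : ∀ r ∈ p, algebraMap R (ResidueField A) r = 0 := fun r hr => by
    rw [IsScalarTower.algebraMap_apply R A (ResidueField A)]
    exact Ideal.Quotient.eq_zero_iff_mem.2 ((IsLocalization.AtPrime.to_map_mem_maximal_iff A p r).2 hr)
  let j : (R ⧸ p) →ₗ[R] ResidueField A :=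
    Submodule.liftQ p (Algebra.linearMap R (ResidueField A)) fun r hr => LinearMap.mem_ker.2 (hk r hr)
  have hu : ∀ x : p.primeCompl, IsUnit (algebraMap R (Module.End R (ResidueField A)) x) := fun x => by
    rw [Module.End.isUnit_iff]
    have hx : IsUnit (algebraMap R (ResidueField A) x) := by
      rw [IsScalarTower.algebraMap_apply R A (ResidueField A)]
      exact (IsLocalization.map_units A x).map _
    have hb : Function.Bijective (fun z : ResidueField A => algebraMap R (ResidueField A) x * z) :=
      ⟨fun _ _ h => hx.mul_left_cancel h, fun z => ⟨(hx.unit⁻¹ : (ResidueField A)ˣ) * z, by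
        show _ * (_ * z) = z; rw [← mul_assoc, IsUnit.mul_val_inv, one_mul]⟩⟩
    convert hb using 1
    funext z
    exact Algebra.smul_def (x : R) z
  let l : LocalizedModule p.primeCompl (R ⧸ p) →ₗ[A] ResidueField A :=
    LinearMap.extendScalarsOfIsLocalization p.primeCompl A (LocalizedModule.lift p.primeCompl j hu)
  have hl : ∀ m, l (LocalizedModule.mkLinearMap p.primeCompl _ m) = j m := fun m =>
    LinearMap.congr_fun (LocalizedModule.lift_comp p.primeCompl j hu) m
  have hsurj : Function.Surjective l := fun z => by
    obtain ⟨a, rfl⟩ := IsLocalRing.residue_surjective z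
    refine ⟨a • LocalizedModule.mkLinearMap p.primeCompl _ (Submodule.Quotient.mk (1 : R)), ?_⟩
    rw [map_smul, hl, show j (Submodule.Quotient.mk (1 : R)) = algebraMap R (ResidueField A) 1 from rfl,
      map_one, Algebra.smul_def, mul_one]
    rfl
  have hinj : Function.Injective l := by
    rw [injective_iff_map_eq_zero]
    intro z hz
    induction z using LocalizedModule.induction_on with
    | h m t =>
      obtain ⟨r, rfl⟩ := Submodule.Quotient.mk_surjective p m
      have h1 : t • LocalizedModule.mk (Submodule.Quotient.mk r : R ⧸ p) t =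
          LocalizedModule.mkLinearMap p.primeCompl _ (Submodule.Quotient.mk r) :=
        LocalizedModule.smul'_mk .. |>.trans (LocalizedModule.mk_cancel t _)
      have h2 : j (Submodule.Quotient.mk r) = 0 := by
        rw [← hl, ← h1, Submonoid.smul_def, LinearMap.map_smul_of_tower, hz, smul_zero]
      have h3 : algebraMap A (ResidueField A) (algebraMap R A r) = 0 := by
        rw [← IsScalarTower.algebraMap_apply]; exact h2
      rw [(Submodule.Quotient.mk_eq_zero p).2 ((IsLocalization.AtPrime.to_map_mem_maximal_iff A p r).1
        (Ideal.Quotient.eq_zero_iff_mem.1 h3)), LocalizedModule.zero_mk]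
  exact ⟨(LinearEquiv.ofBijective l ⟨hinj, hsurj⟩).toModuleIso⟩

variable (p : HomogeneousIdeal 𝒜) [p.toIdeal.IsPrime]

/-- The residue field at `p`. -/
noncomputable abbrev kMod : ModuleCat.{u} (Localization.AtPrime p.toIdeal) :=
  ModuleCat.of (Localization.AtPrime p.toIdeal) (ResidueField (Localization.AtPrime p.toIdeal))

theorem subsingleton_ext_residueField {I : Type u} [AddCommGroup I] [Module R I]
    {ℐ : ι → AddSubgroup I} [DirectSum.Decomposition ℐ] [SetLike.GradedSMul 𝒜 ℐ] (hI : IsStarInj 𝒜 ℐ)
    (k : ℕ) : Subsingleton (Ext.{u} (kMod p) (locMod p.toIdeal.primeCompl I) (k + 1)) := by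
  haveI : Module.Finite R (GMod.of 𝒜 (R ⧸ p.toIdeal) (quotGr 𝒜 p)).carrier :=
    inferInstanceAs (Module.Finite R (R ⧸ p.toIdeal))
  have h := subsingleton_ext_loc p.toIdeal.primeCompl hI k (GMod.of 𝒜 (R ⧸ p.toIdeal) (quotGr 𝒜 p))
  obtain ⟨e⟩ := nonempty_iso_residueField p.toIdeal
  refine subsingleton_of_forall_eq 0 fun x => ?_
  have h0 : (Ext.mk₀ e.hom).comp x (zero_add _) = 0 := @Subsingleton.elim _ h _ _
  rw [← Ext.mk₀_id_comp x, ← e.inv_hom_id, ← Ext.mk₀_comp_mk₀,
    Ext.comp_assoc_of_second_deg_zero, h0, Ext.comp_zero]

end Groth.Agent.GrInj
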