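import Mathlib
import Groth.Agent.GrInj.Bass
import Groth.Agent.GrInj.Prime
import Groth.Agent.LocCohLib.Flat
import Groth.Agent.MatlisLib.Hull
import Groth.Agent.S13224

/-!
# A *canonical module localises to a canonical module at the *maximal ideal
-/

set_option autoImplicit false
universe u

namespace Groth.Agent.GrInj

open GrLC CategoryTheory IsLocalRing
open CategoryTheory.Abelian (Ext)

section Local

variable {A : Type u} [CommRing A]

/-- Injective hulls are unique. -/
theorem hull_unique {M E E' : Type u} [AddCommGroup M] [Module A M] [AddCommGroup E] [Module A E]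
    [AddCommGroup E'] [Module A E'] {f : M →ₗ[A] E} (hf : InjHull.IsInjectiveHull f) {f' : M →ₗ[A] E'}
    (hf' : InjHull.IsInjectiveHull f') : Nonempty (E ≃ₗ[A] E') := by
  haveI := hf'.isInjective
  haveI := hf.isInjective
  obtain ⟨g, hg⟩ := Module.Injective.out f hf.injective f'
  have hgi : Function.Injective g := by
    refine LinearMap.ker_eq_bot.1 (by_contra fun hne => hf.essential _ hne (eq_bot_iff.2 ?_))
    rintro x ⟨hx, m, rfl⟩
    have h : g (f m) = 0 := hx
    rw [hg m] at h
    rw [Submodule.mem_bot, hf'.injective (h.trans (map_zero f').symm), map_zero]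
  obtain ⟨r, hr⟩ := Module.Injective.out g hgi (LinearMap.id : E →ₗ[A] E)
  have hgs : Function.Surjective g := fun y => by
    refine ⟨r y, ?_⟩
    by_contra hne
    refine hf'.essential (LinearMap.ker r) ((Submodule.ne_bot_iff _).2
      ⟨g (r y) - y, show r (g (r y) - y) = 0 by rw [map_sub, hr (r y)]; exact sub_self _, sub_ne_zero.2 hne⟩)
      (eq_bot_iff.2 ?_)
    rintro x ⟨hx, m, rfl⟩
    have h : r (f' m) = 0 := hx
    rw [← hg m, hr (f m), LinearMap.id_apply] at h
    rw [Submodule.mem_bot, hf.injective (h.trans (map_zero f).symm), map_zero]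
  exact ⟨LinearEquiv.ofBijective g ⟨hgi, hgs⟩⟩

variable [IsLocalRing A] [IsNoetherianRing A]

/-- A torsion module without extensions by the residue field is injective. -/
theorem injective_of_torsion_of_ext {E : Type u} [AddCommGroup E] [Module A E]
    (ht : LocCoh.IsPowerTorsion (maximalIdeal A) E)
    (h1 : Subsingleton (Ext (ModuleCat.of A (ResidueField A)) (ModuleCat.of A E) 1)) : Module.Injective A E := by
  classical
  refine Module.Baer.injective fun b g => ?_
  obtain ⟨n, t, hgen⟩ := Submodule.fg_iff_exists_fin_generating_family.1 (IsNoetherian.noetherian b)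
  have htb : ∀ i, t i ∈ b := fun i => hgen ▸ Submodule.subset_span ⟨i, rfl⟩
  choose N hN using fun i => ht (g ⟨t i, htb i⟩)
  let K := ∑ i, N i
  have hK : ∀ r ∈ maximalIdeal A ^ K, ∀ (x : A) (hx : x ∈ b), r • g ⟨x, hx⟩ = 0 := by
    intro r hr x hx
    have hx' : x ∈ Submodule.span A (Set.range t) := hgen.symm ▸ hx
    obtain ⟨c, hc⟩ := (Submodule.mem_span_range_iff_exists_fun A).1 hx'
    rw [show (⟨x, hx⟩ : b) = ∑ i, c i • (⟨t i, htb i⟩ : b) from Subtype.ext (by rw [AddSubmonoidClass.coe_finset_sum]; exact hc.symm), map_sum, Finset.smul_sum]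
    refine Finset.sum_eq_zero fun i _ => ?_
    rw [map_smul, smul_comm, hN i r (Ideal.pow_le_pow_right (Finset.single_le_sum (fun j _ => Nat.zero_le (N j))
      (Finset.mem_univ i)) hr), smul_zero]
  obtain ⟨k, hk⟩ := Ideal.exists_pow_inf_eq_pow_smul (maximalIdeal A) b
  have hs := hk (K + k) (Nat.le_add_left k K)
  rw [Nat.add_sub_cancel, Ideal.smul_top_eq_map, Algebra.algebraMap_self, Ideal.map_id] at hs
  have hzero : ∀ (x : A) (hx : x ∈ b), x ∈ maximalIdeal A ^ (K + k) → g ⟨x, hx⟩ = 0 := by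
    intro x hx hxp
    have h : x ∈ maximalIdeal A ^ K • (b : Submodule A A) := by
      exact (Submodule.smul_mono le_rfl inf_le_right : maximalIdeal A ^ K •
        (maximalIdeal A ^ k • ⊤ ⊓ (b : Submodule A A)) ≤ maximalIdeal A ^ K • (b : Submodule A A)) (hs.le ⟨hxp, hx⟩)
    clear hxp
    suffices H : ∃ hx' : x ∈ b, g ⟨x, hx'⟩ = 0 from H.2
    refine Submodule.smul_induction_on (p := fun x => ∃ hx' : x ∈ b, g ⟨x, hx'⟩ = 0) h (fun r hr y hy => ?_) ?_
    · exact ⟨b.mul_mem_left r hy, (congrArg g (Subtype.ext rfl : (⟨r • y, b.mul_mem_left r hy⟩ : b) = r • ⟨y, hy⟩)).trans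
        ((map_smul g r _).trans (hK r hr y hy))⟩
    · rintro p q ⟨hp, hp'⟩ ⟨hq, hq'⟩
      exact ⟨add_mem hp hq, (map_add g ⟨p, hp⟩ ⟨q, hq⟩).trans (by rw [hp', hq', add_zero])⟩
  let Ext' : Ideal A → Prop := fun c => b ≤ c ∧ maximalIdeal A ^ (K + k) ≤ c ∧
    ∃ h : c →ₗ[A] E, ∀ (x : A) (hx : x ∈ b) (hx' : x ∈ c), h ⟨x, hx'⟩ = g ⟨x, hx⟩
  have hne : ∃ c, Ext' c := by
    refine ⟨b ⊔ maximalIdeal A ^ (K + k), le_sup_left, le_sup_right, ?_⟩
    have hex : ∀ z : (b ⊔ maximalIdeal A ^ (K + k) : Ideal A), ∃ x : b, (z : A) - x ∈ maximalIdeal A ^ (K + k) := by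
      intro z
      obtain ⟨x, hx, y, hy, hxy⟩ := Submodule.mem_sup.1 z.2
      exact ⟨⟨x, hx⟩, by rw [← hxy, add_sub_cancel_left]; exact hy⟩
    choose π hπ using hex
    have huniq : ∀ (z : (b ⊔ maximalIdeal A ^ (K + k) : Ideal A)) (x : b),
        (z : A) - x ∈ maximalIdeal A ^ (K + k) → g (π z) = g x := by
      intro z x hx
      rw [← sub_eq_zero, ← map_sub]
      refine hzero _ (π z - x).2 ?_
      rw [Submodule.coe_sub, show ((π z : A) - x) = ((z : A) - x) - ((z : A) - π z) by ring]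
      exact sub_mem hx (hπ z)
    refine ⟨{ toFun := fun z => g (π z)
              map_add' := fun z w => ?_
              map_smul' := fun r z => ?_ }, fun x hx hx' => huniq _ ⟨x, hx⟩ (by simp)⟩
    · rw [← map_add]
      refine huniq _ _ ?_
      rw [Submodule.coe_add, Submodule.coe_add, show (z : A) + w - (π z + π w) = ((z : A) - π z) + ((w : A) - π w) by ring]
      exact add_mem (hπ z) (hπ w)
    · rw [RingHom.id_apply, ← map_smul]
      refine huniq _ _ ?_
      rw [Submodule.coe_smul, Submodule.coe_smul, ← smul_sub]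
      exact Ideal.mul_mem_left _ r (hπ z)
  obtain ⟨c, ⟨hbc, hpc, h, hh⟩, hmax⟩ := (set_has_maximal_iff_noetherian.2 inferInstance) {c | Ext' c} hne
  by_cases hc : c = ⊤
  · subst hc
    exact ⟨h ∘ₗ LinearMap.codRestrict ⊤ LinearMap.id (fun _ => trivial), fun x hx => hh x hx trivial⟩
  exfalso
  obtain ⟨x, hxc, hmx⟩ : ∃ x, x ∉ c ∧ ∀ a ∈ maximalIdeal A, a * x ∈ c := by
    have hP : ∃ t : ℕ, maximalIdeal A ^ t ≤ c := ⟨_, hpc⟩
    have h0 : Nat.find hP ≠ 0 := fun h0 => hc (top_le_iff.1 (by
      have := Nat.find_spec hP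
      rwa [h0, pow_zero, Ideal.one_eq_top] at this))
    obtain ⟨t, ht'⟩ : ∃ t, Nat.find hP = t + 1 := ⟨Nat.find hP - 1, by omega⟩
    obtain ⟨x, hx, hxc⟩ := SetLike.not_le_iff_exists.1 (Nat.find_min hP (show t < Nat.find hP by omega))
    refine ⟨x, hxc, fun a ha => ?_⟩
    have := Nat.find_spec hP
    rw [ht', pow_succ'] at this
    exact this (Ideal.mul_mem_mul ha hx)
  let c' : Ideal A := c ⊔ Ideal.span {x}
  have hcc' : c < c' := lt_of_le_of_ne le_sup_left fun e => hxc (e.ge (Submodule.mem_sup_right (Ideal.mem_span_singleton_self x)))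
  let q : A →ₗ[A] c' ⧸ (c.comap c'.subtype) :=
    (Submodule.mkQ _) ∘ₗ LinearMap.toSpanSingleton A c' ⟨x, Submodule.mem_sup_right (Ideal.mem_span_singleton_self x)⟩
  have hq : Function.Surjective q := fun z => by
    obtain ⟨⟨z, hz⟩, rfl⟩ := Submodule.Quotient.mk_surjective _ z
    obtain ⟨p, hp, s, hs, hps⟩ := Submodule.mem_sup.1 hz
    obtain ⟨r, rfl⟩ := Ideal.mem_span_singleton'.1 hs
    refine ⟨r, (Submodule.Quotient.eq _).2 ?_⟩
    show r * x - z ∈ c
    rw [← hps, sub_add_cancel_right]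
    exact neg_mem hp
  have hqk : LinearMap.ker q = maximalIdeal A := by
    refine le_antisymm (fun r hr => ?_) fun r hr => (Submodule.Quotient.mk_eq_zero _).2 (hmx r hr)
    by_contra hru
    obtain ⟨v, hv⟩ := (IsLocalRing.notMem_maximalIdeal.1 hru).exists_left_inv
    have h0 : Submodule.Quotient.mk (r • (⟨x, Submodule.mem_sup_right (Ideal.mem_span_singleton_self x)⟩ : c')) =
        (0 : c' ⧸ c.comap c'.subtype) := hr
    have h1 : r * x ∈ c := by
      have h1' := (Submodule.Quotient.mk_eq_zero (c.comap c'.subtype)).1 h0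
      exact h1'
    exact hxc (by rw [← one_mul x, ← hv, mul_assoc]; exact Submodule.smul_mem c v h1)
  let eq : ResidueField A ≃ₗ[A] c' ⧸ (c.comap c'.subtype) :=
    (Submodule.quotEquivOfEq _ _ hqk.symm).trans (q.quotKerEquivOfSurjective hq)
  let C : ShortComplex (ModuleCat.{u} A) := ShortComplex.mk (X₁ := ModuleCat.of A c) (X₂ := ModuleCat.of A c')
    (X₃ := ModuleCat.of A (c' ⧸ (c.comap c'.subtype))) (ModuleCat.ofHom (Submodule.inclusion (le_sup_left : c ≤ c')))
    (ModuleCat.ofHom (Submodule.mkQ _)) (ModuleCat.hom_ext (LinearMap.ext fun z => (Submodule.Quotient.mk_eq_zero _).2 z.2))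
  have hC : C.ShortExact :=
    { exact := (ShortComplex.ShortExact.moduleCat_exact_iff_function_exact _).2 fun z =>
        ⟨fun hz => by
          have h0 : Submodule.Quotient.mk z = (0 : c' ⧸ c.comap c'.subtype) := hz
          have h1' := (Submodule.Quotient.mk_eq_zero (c.comap c'.subtype)).1 h0
          exact ⟨⟨z.1, h1'⟩, rfl⟩, fun ⟨w, hw⟩ => hw ▸
          (Submodule.Quotient.mk_eq_zero _).2 w.2⟩
      mono_f := (ModuleCat.mono_iff_injective _).2 (Submodule.inclusion_injective (le_sup_left : c ≤ c'))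
      epi_g := (ModuleCat.epi_iff_surjective _).2 (Submodule.mkQ_surjective _) }
  haveI : Subsingleton (Ext C.X₃ (ModuleCat.of A E) 1) := by
    refine subsingleton_of_forall_eq 0 fun z => ?_
    have h0 : (Ext.mk₀ eq.toModuleIso.hom).comp z (zero_add _) = 0 := @Subsingleton.elim _ h1 _ _
    rw [← Ext.mk₀_id_comp z, ← eq.toModuleIso.inv_hom_id, ← Ext.mk₀_comp_mk₀,
      Ext.comp_assoc_of_second_deg_zero, h0, Ext.comp_zero]
  obtain ⟨y, hy⟩ := Ext.contravariant_sequence_exact₁ hC (ModuleCat.of A E)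
    (Ext.mk₀ (ModuleCat.ofHom (Y := E) h)) (rfl : 1 + 0 = 1) (Subsingleton.elim _ _)
  obtain ⟨f, rfl⟩ := (Ext.mk₀_bijective _ _).2 y
  rw [Ext.mk₀_comp_mk₀] at hy
  refine hmax c' ⟨hbc.trans le_sup_left, hpc.trans le_sup_left, f.hom, fun z hz hz' => ?_⟩ hcc'
  exact (ConcreteCategory.congr_hom ((Ext.mk₀_bijective _ _).1 hy) (⟨z, hbc hz⟩ : c)).trans (hh z hz (hbc hz))

end Local

variable {ι : Type} [AddCommGroup ι] [DecidableEq ι] {R : Type u} [CommRing R] [IsNoetherianRing R]
  {𝒜 : ι → AddSubgroup R} [GradedRing 𝒜] (m : HomogeneousIdeal 𝒜) [m.toIdeal.IsPrime]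
  {E' : Type u} [AddCommGroup E'] [Module R E'] {𝓔 : ι → AddSubgroup E'} [DirectSum.Decomposition 𝓔]
  [SetLike.GradedSMul 𝒜 𝓔] {e : (R ⧸ m.toIdeal) →ₗ[R] E'}

/-- An essential extension of `R/m` is `m`-power torsion. -/
theorem torsion_of_ess (he : IsStarEss (quotGr 𝒜 m) 𝓔 e) : LocCoh.IsPowerTorsion m.toIdeal E' := by
  classical
  intro y
  have hrad : m.toIdeal ≤ Ideal.radical (LinearMap.ker (LinearMap.toSpanSingleton R E' y)) := by
    intro a ha
    let f : ℕ →o Ideal R := ⟨fun k => LinearMap.ker (LinearMap.toSpanSingleton R E' (a ^ k • y)), fun i j hij r hr => by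
      have h : r • a ^ i • y = 0 := hr
      show r • a ^ j • y = 0
      rw [← Nat.sub_add_cancel hij, pow_add, mul_smul, smul_comm, h, smul_zero]⟩
    obtain ⟨k, hk⟩ := monotone_stabilizes_iff_noetherian.2 (inferInstance : IsNoetherian R R) f
    refine ⟨k, ?_⟩
    show a ^ k • y = 0
    by_contra hne
    obtain ⟨r, hr0, z, hz⟩ := MatlisLib.exists_smul_mem_range (isEssentialInj 𝒜 he) hne
    have h1 : r ∈ f (k + 1) := by
      show r • a ^ (k + 1) • y = 0
      rw [pow_succ', mul_smul, smul_comm, ← hz, ← map_smul, smul_eq_zero_of_mem ha, map_zero]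
    rw [← hk (k + 1) (Nat.le_succ k)] at h1
    exact hr0 h1
  obtain ⟨t, ht⟩ := Ideal.exists_pow_le_of_le_radical_of_fg hrad (IsNoetherian.noetherian _)
  exact ⟨t, fun a ha => ht ha⟩

/-- The localised *hull is the injective hull of the residue field. -/
theorem exists_hull_loc (he : IsStarInjHull 𝒜 (quotGr 𝒜 m) 𝓔 e) :
    ∃ f : ResidueField (Localization.AtPrime m.toIdeal) →ₗ[Localization.AtPrime m.toIdeal]
      LocalizedModule m.toIdeal.primeCompl E', InjHull.IsInjectiveHull f := by
  classical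
  obtain ⟨i⟩ := nonempty_iso_residueField m.toIdeal
  let f := (LocalizedModule.map m.toIdeal.primeCompl e) ∘ₗ i.inv.hom
  have hiinj : Function.Injective i.inv.hom := i.toLinearEquiv.symm.injective
  have hmapinj : Function.Injective (LocalizedModule.map m.toIdeal.primeCompl e) :=
    LocalizedModule.map_injective _ e he.injective
  refine ⟨f, MatlisLib.isInjectiveHull_iff.2 ⟨hmapinj.comp hiinj, ?_, fun x hx => ?_⟩⟩
  · refine injective_of_torsion_of_ext (fun x => ?_) (subsingleton_ext_residueField m he.starInj 0)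
    induction x using LocalizedModule.induction_on with
    | h y s =>
      obtain ⟨t, ht⟩ := torsion_of_ess m he.toIsStarEss y
      refine ⟨t, fun a ha => ?_⟩
      rw [← Localization.AtPrime.map_eq_maximalIdeal, ← Ideal.map_pow] at ha
      induction ha using Submodule.span_induction with
      | mem w hw =>
        obtain ⟨b, hb, rfl⟩ := hw
        rw [algebraMap_smul, LocalizedModule.smul'_mk, ht b hb, LocalizedModule.zero_mk]
      | zero => exact zero_smul _ _
      | add p q _ _ hp hq => rw [add_smul, hp, hq, add_zero]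
      | smul c p _ hp => rw [smul_eq_mul, mul_smul, hp, smul_zero]
  · induction x using LocalizedModule.induction_on with
    | h y s =>
      have hy : y ≠ 0 := fun h => hx (by rw [h, LocalizedModule.zero_mk])
      obtain ⟨r, hr0, z, hz⟩ := MatlisLib.exists_smul_mem_range (isEssentialInj 𝒜 he.toIsStarEss) hy
      refine ⟨algebraMap R _ r, ?_, i.hom.hom (LocalizedModule.mk z s), ?_⟩
      · rw [algebraMap_smul, LocalizedModule.smul'_mk, ← hz]
        intro h
        obtain ⟨w, hw⟩ := (LocalizedModule.mk_eq).1 (h.trans (LocalizedModule.zero_mk 1).symm)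
        have hw' : (w : R) • e z = 0 := by simpa [Submonoid.smul_def] using hw
        rw [← map_smul] at hw'
        obtain ⟨b, rfl⟩ := Ideal.Quotient.mk_surjective z
        have h1 : (w : R) * b ∈ m.toIdeal := Ideal.Quotient.eq_zero_iff_mem.1 (he.injective (hw'.trans (map_zero e).symm))
        have h2 : b ∈ m.toIdeal := (Ideal.IsPrime.mem_or_mem inferInstance h1).resolve_left w.2
        exact hr0 (by rw [← hz, Ideal.Quotient.eq_zero_iff_mem.2 h2, map_zero])
      · show LocalizedModule.map m.toIdeal.primeCompl e (i.inv.hom (i.hom.hom (LocalizedModule.mk z s))) = _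
        rw [show i.inv.hom (i.hom.hom (LocalizedModule.mk z s)) = LocalizedModule.mk z s from
          i.toLinearEquiv.symm_apply_apply _, LocalizedModule.map_mk, algebraMap_smul, LocalizedModule.smul'_mk, hz]

variable {C : Type u} [AddCommGroup C] [Module R C] {𝒞 : ι → AddSubgroup C} [DirectSum.Decomposition 𝒞]
  [SetLike.GradedSMul 𝒜 𝒞]

/-- Localisation of a *canonical module. -/
theorem nonempty_canonical_loc {n : ℕ} (I : StarInjRes 𝒜 𝒜) (he : IsStarInjHull 𝒜 (quotGr 𝒜 m) 𝓔 e)
    (hC : IsStarCanonical 𝒜 𝒞 𝓔 m n I) (E₀ : Type u) [AddCommGroup E₀] [Module (Localization.AtPrime m.toIdeal) E₀]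
    (f₀ : ResidueField (Localization.AtPrime m.toIdeal) →ₗ[Localization.AtPrime m.toIdeal] E₀)
    (hf₀ : InjHull.IsInjectiveHull f₀) :
    Nonempty ((LocalizedModule m.toIdeal.primeCompl C →ₗ[Localization.AtPrime m.toIdeal] E₀)
      ≃ₗ[Localization.AtPrime m.toIdeal]
        LocCoh.H (maximalIdeal (Localization.AtPrime m.toIdeal)) n (Localization.AtPrime m.toIdeal)) := by
  let S := m.toIdeal.primeCompl
  let A := Localization.AtPrime m.toIdeal
  obtain ⟨hfin, φ, -⟩ := hC
  haveI : Module.Finite R C := hfin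
  haveI : Module.FinitePresentation R C := Module.finitePresentation_of_finite R C
  obtain ⟨f', hf'⟩ := exists_hull_loc m he
  obtain ⟨eh⟩ := hull_unique hf' hf₀
  obtain ⟨eH⟩ : Nonempty (I.H m n ≃ₗ[R] LocCoh.H m.toIdeal n R) := by
    cases n with
    | zero => exact S13224.zero_case I m
    | succ n => exact S13224.succ_case I m n
  haveI : IsLocalizedModule S (IsLocalizedModule.mapExtendScalars S (LocalizedModule.mkLinearMap S C)
      (LocalizedModule.mkLinearMap S E') A) :=
    Module.FinitePresentation.isLocalizedModule_mapExtendScalars S _ _ A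
  have hbc : IsBaseChange A (IsLocalizedModule.mapExtendScalars S (LocalizedModule.mkLinearMap S C)
      (LocalizedModule.mkLinearMap S E') A) := IsLocalizedModule.isBaseChange S A _
  haveI : Module.Flat R A := IsLocalization.flat A S
  obtain ⟨eT⟩ := LocCohLib.nonempty_tensEquiv (R' := A) m.toIdeal n (ModuleCat.of R R)
  have hmax : m.toIdeal.map (algebraMap R A) = maximalIdeal A := Localization.AtPrime.map_eq_maximalIdeal
  rw [← hmax]
  let eR := ((localCohomology (m.toIdeal.map (algebraMap R A)) n).mapIso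
    ((TensorProduct.AlgebraTensorModule.rid R A A).toModuleIso :
      (LocCohLib.tens A).obj (ModuleCat.of R R) ≅ ModuleCat.of A A)).toLinearEquiv
  exact ⟨(LinearEquiv.congrRight eh).symm ≪≫ₗ hbc.equiv.symm ≪≫ₗ
    (φ ≪≫ₗ eH).baseChange R A _ _ ≪≫ₗ eT ≪≫ₗ eR⟩

end Groth.Agent.GrInj
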