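import Groth.Agent.GrInj.Serre
import Groth.Agent.S14424
import Groth.Agent.LocCohLib.ExtVanishing
import Mathlib.RingTheory.GradedAlgebra.Radical
import Mathlib.RingTheory.Ideal.KrullsHeightTheorem

/-!
# The homogeneous maximal ideal of a positively graded *local ring has full height
-/

set_option autoImplicit false
set_option linter.unusedSectionVars false
universe u

namespace Groth.Agent.GrInj

open GrLC

variable {R : Type u} [CommRing R] {𝒜 : ℤ → AddSubgroup R} [GradedRing 𝒜]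

/-- The ratios of images of homogeneous elements of equal degree form a subfield. -/
noncomputable def ratioField {K : Type u} [Field K] (φ : R →+* K) : Subfield K where
  carrier := {c | ∃ d : ℤ, ∃ a ∈ 𝒜 d, ∃ b ∈ 𝒜 d, φ b ≠ 0 ∧ c = φ a / φ b}
  one_mem' := ⟨0, 1, SetLike.one_mem_graded 𝒜, 1, SetLike.one_mem_graded 𝒜, by simp, by simp⟩
  zero_mem' := ⟨0, 0, zero_mem _, 1, SetLike.one_mem_graded 𝒜, by simp, by simp⟩
  mul_mem' := by
    rintro _ _ ⟨d, a, ha, b, hb, hb0, rfl⟩ ⟨d', a', ha', b', hb', hb0', rfl⟩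
    exact ⟨d + d', a * a', SetLike.mul_mem_graded ha ha', b * b', SetLike.mul_mem_graded hb hb',
      by simp [hb0, hb0'], by simp [div_mul_div_comm]⟩
  add_mem' := by
    rintro _ _ ⟨d, a, ha, b, hb, hb0, rfl⟩ ⟨d', a', ha', b', hb', hb0', rfl⟩
    refine ⟨d + d', a * b' + b * a', add_mem (SetLike.mul_mem_graded ha hb') (SetLike.mul_mem_graded hb ha'),
      b * b', SetLike.mul_mem_graded hb hb', by simp [hb0, hb0'], ?_⟩
    rw [div_add_div _ _ hb0 hb0']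
    simp
  neg_mem' := by
    rintro _ ⟨d, a, ha, b, hb, hb0, rfl⟩
    exact ⟨d, -a, neg_mem ha, b, hb, hb0, by simp [neg_div]⟩
  inv_mem' := by
    rintro _ ⟨d, a, ha, b, hb, hb0, rfl⟩
    by_cases h : φ a = 0
    · exact ⟨d, 0, zero_mem _, b, hb, hb0, by simp [h]⟩
    · exact ⟨d, b, hb, a, ha, h, inv_div _ _⟩

theorem div_mem_ratioField {K : Type u} [Field K] {φ : R →+* K} {d : ℤ} {a b : R} (ha : a ∈ 𝒜 d)
    (hb : b ∈ 𝒜 d) (hb0 : φ b ≠ 0) : φ a / φ b ∈ ratioField (𝒜 := 𝒜) φ :=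
  ⟨d, a, ha, b, hb, hb0, rfl⟩

/-- A prime strictly between a graded prime and a prime with the same homogeneous elements does not exist. -/
theorem eq_of_homogeneous_eq (hpos : ∀ n : ℤ, n < 0 → 𝒜 n = ⊥) {P₀ q p : Ideal R} [q.IsPrime]
    (hq : P₀ ≤ q) (hne : q ≠ P₀) (hqp : q ≤ p) (hp : p.IsPrime)
    (hh : ∀ d, ∀ a ∈ 𝒜 d, a ∈ p → a ∈ P₀) (hP : Ideal.IsHomogeneous 𝒜 P₀) : p = q := by
  classical
  obtain ⟨φ, hφ⟩ : ∃ φ : R →+* FractionRing (R ⧸ q), ∀ r, φ r = 0 ↔ r ∈ q :=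
    ⟨(algebraMap (R ⧸ q) (FractionRing (R ⧸ q))).comp (Ideal.Quotient.mk q), fun r => by
      rw [RingHom.comp_apply, map_eq_zero_iff _ (IsFractionRing.injective _ _), Ideal.Quotient.eq_zero_iff_mem]⟩
  have hφ0 : ∀ d, ∀ a ∈ 𝒜 d, a ∉ P₀ → φ a ≠ 0 := fun d a ha h h' => h (hh d a ha (hqp ((hφ a).1 h')))
  let F := ratioField (𝒜 := 𝒜) φ
  -- the group of degree differences
  let G : AddSubgroup ℤ :=
    { carrier := {n | ∃ d, ∃ a ∈ 𝒜 (d + n), ∃ b ∈ 𝒜 d, φ a ≠ 0 ∧ φ b ≠ 0}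
      zero_mem' := ⟨0, 1, by simpa using SetLike.one_mem_graded 𝒜, 1, SetLike.one_mem_graded 𝒜, by simp, by simp⟩
      add_mem' := by
        rintro n n' ⟨d, a, ha, b, hb, ha0, hb0⟩ ⟨d', a', ha', b', hb', ha0', hb0'⟩
        refine ⟨d + d', a * a', ?_, b * b', SetLike.mul_mem_graded hb hb', by simp [ha0, ha0'], by simp [hb0, hb0']⟩
        rw [show d + d' + (n + n') = d + n + (d' + n') by ring]
        exact SetLike.mul_mem_graded ha ha'
      neg_mem' := by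
        rintro n ⟨d, a, ha, b, hb, ha0, hb0⟩
        exact ⟨d + n, b, by simpa using hb, a, ha, hb0, ha0⟩ }
  obtain ⟨e, he0, heG, hdvd⟩ : ∃ e : ℤ, 0 ≤ e ∧ e ∈ G ∧ ∀ n ∈ G, e ∣ n := by
    obtain ⟨e, he⟩ := Int.subgroup_cyclic G
    have hmem : e ∈ G := by rw [he]; exact AddSubgroup.subset_closure rfl
    refine ⟨|e|, abs_nonneg e, ?_, fun n hn => (abs_dvd e n).2 ?_⟩
    · rcases abs_choice e with h | h <;> rw [h]
      exacts [hmem, neg_mem hmem]
    · rw [he, AddSubgroup.mem_closure_singleton] at hn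
      obtain ⟨j, rfl⟩ := hn
      exact ⟨j, by simp [mul_comm]⟩
  obtain ⟨d₀, a, ha, b, hb, ha0, hb0⟩ := heG
  let τ := φ a / φ b
  have hτ : τ ≠ 0 := div_ne_zero ha0 hb0
  have hexp : ∀ d, ∀ x ∈ 𝒜 d, φ x ≠ 0 → ∃ j : ℕ, d = j * e ∧ ∃ c ∈ F, c ≠ 0 ∧ φ x = c * τ ^ j := by
    intro d x hx hx0
    have hd : 0 ≤ d := by
      by_contra h
      exact hx0 (by rw [AddSubgroup.mem_bot.1 ((hpos d (by omega)).le hx), map_zero])
    obtain ⟨j, hj⟩ := hdvd d ⟨0, x, by rwa [zero_add], 1, SetLike.one_mem_graded 𝒜, hx0, by simp⟩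
    obtain ⟨j', hj'⟩ : ∃ j' : ℕ, d = j' * e := by
      rcases eq_or_lt_of_le he0 with h | h
      · exact ⟨0, by rw [hj, ← h]; simp⟩
      · exact ⟨j.toNat, by rw [Int.toNat_of_nonneg (by nlinarith), hj, mul_comm]⟩
    have hbj := SetLike.pow_mem_graded (A := 𝒜) j' hb
    have haj := SetLike.pow_mem_graded (A := 𝒜) j' ha
    refine ⟨j', hj', φ (x * b ^ j') / φ (a ^ j'), div_mem_ratioField (d := j' • (d₀ + e)) ?_ haj
      (by simp [ha0]), by simp [hx0, ha0, hb0], ?_⟩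
    · have := SetLike.mul_mem_graded hx hbj
      rwa [show d + j' • d₀ = j' • (d₀ + e) by rw [hj', smul_add, nsmul_eq_mul, nsmul_eq_mul]; ring] at this
    · simp only [τ, map_mul, map_pow, div_pow]
      field_simp
  -- a relation for `τ`
  have hrel : ∀ r : R, ∃ P : Polynomial F, Polynomial.aeval τ P = φ r ∧
      ∀ i, i ∈ supp 𝒜 r → φ (pr 𝒜 i r) ≠ 0 → P ≠ 0 := by
    intro r
    have hc : ∀ i, ∃ j : ℕ, ∃ c : F, φ (pr 𝒜 i r) = c * τ ^ j ∧ (φ (pr 𝒜 i r) ≠ 0 → i = j * e ∧ c ≠ 0) := by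
      intro i
      by_cases h : φ (pr 𝒜 i r) = 0
      · exact ⟨0, 0, by simp [h], fun h' => absurd h h'⟩
      · obtain ⟨j, hj, c, hc, hc0, hcj⟩ := hexp i _ (pr_mem i r) h
        exact ⟨j, ⟨c, hc⟩, hcj, fun _ => ⟨hj, fun h' => hc0 (congrArg Subtype.val h')⟩⟩
    choose J C hJ hC using hc
    refine ⟨∑ i ∈ supp 𝒜 r, Polynomial.monomial (J i) (C i), ?_, fun i₀ hi₀ h0 hP0 => ?_⟩
    · conv_rhs => rw [← sum_supp (ℳ := 𝒜) r, map_sum]
      rw [map_sum]
      refine Finset.sum_congr rfl fun i _ => ?_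
      rw [Polynomial.aeval_monomial, hJ i]
      rfl
    · have h1 := congrArg (fun P => Polynomial.coeff P (J i₀)) hP0
      simp only [Polynomial.finsetSum_coeff, Polynomial.coeff_monomial, Polynomial.coeff_zero] at h1
      rw [Finset.sum_eq_single i₀] at h1
      · rw [if_pos rfl] at h1
        exact (hC i₀ h0).2 h1
      · intro i _ hi
        split_ifs with h
        · by_cases h' : φ (pr 𝒜 i r) = 0
          · rw [hJ i] at h'
            exact Subtype.ext ((mul_eq_zero.1 h').resolve_right (pow_ne_zero _ hτ))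
          · exact absurd ((hC i h').1.trans (h ▸ (hC i₀ h0).1.symm)) hi
        · rfl
      · exact fun h => absurd hi₀ h
  -- `τ` is algebraic over `F`
  obtain ⟨f, hfq, hf⟩ := SetLike.exists_of_lt (lt_of_le_of_ne hq (Ne.symm hne))
  obtain ⟨i₀, hi₀, hi₀'⟩ : ∃ i ∈ supp 𝒜 f, φ (pr 𝒜 i f) ≠ 0 := by
    by_contra h
    refine hf ?_
    rw [← sum_supp (ℳ := 𝒜) f]
    refine sum_mem fun i hi => by_contra fun h' => h ⟨i, hi, hφ0 i _ (pr_mem i f) h'⟩
  obtain ⟨P, hP1, hP2⟩ := hrel f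
  have halg : IsAlgebraic F τ := ⟨P, hP2 i₀ hi₀ hi₀', hP1.trans ((hφ f).2 hfq)⟩
  refine le_antisymm (fun g hgp => by_contra fun hg => ?_) hqp
  obtain ⟨Q, hQ1, -⟩ := hrel g
  have hgF : IsAlgebraic F (φ g) := by
    rw [← hQ1, isAlgebraic_iff_isIntegral]
    exact IsIntegral.of_mem_of_fg _ (halg.isIntegral.fg_adjoin_singleton) _
      (Algebra.adjoin_singleton_eq_range_aeval F τ ▸ ⟨Q, rfl⟩)
  obtain ⟨S, hS, hS0⟩ := hgF.exists_nonzero_coeff_and_aeval_eq_zero ((mem_nonZeroDivisors_iff_ne_zero).2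
    fun h => hg ((hφ g).1 h))
  -- clear denominators
  have hden : ∀ n : ℕ, ∀ c : ℕ → F, ∃ D : R, ∃ δ : ℤ, D ∈ 𝒜 δ ∧ φ D ≠ 0 ∧
      ∀ i < n, ∃ u ∈ 𝒜 δ, φ u = (c i : FractionRing (R ⧸ q)) * φ D := by
    intro n c
    induction n with
    | zero => exact ⟨1, 0, SetLike.one_mem_graded 𝒜, by simp, fun i hi => absurd hi (Nat.not_lt_zero i)⟩
    | succ n ih =>
      obtain ⟨D, δ, hD, hD0, hi⟩ := ih
      obtain ⟨d, u, hu, v, hv, hv0, huv⟩ := (c n).2
      refine ⟨D * v, δ + d, SetLike.mul_mem_graded hD hv, by simp [hD0, hv0], fun i hin => ?_⟩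
      rcases Nat.lt_succ_iff_lt_or_eq.1 hin with hin | rfl
      · obtain ⟨w, hw, hw'⟩ := hi i hin
        exact ⟨w * v, SetLike.mul_mem_graded hw hv, by rw [map_mul, map_mul, hw']; ring⟩
      · refine ⟨D * u, SetLike.mul_mem_graded hD hu, ?_⟩
        rw [map_mul, map_mul, huv]
        field_simp
  obtain ⟨D, δ, hD, hD0, hu⟩ := hden (S.natDegree + 1) S.coeff
  have hu' : ∀ i : Fin (S.natDegree + 1), ∃ u ∈ 𝒜 δ, φ u = (S.coeff i : FractionRing (R ⧸ q)) * φ D :=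
    fun i => hu i i.2
  choose U hU hU' using hu'
  have hsum : (∑ i : Fin (S.natDegree + 1), U i * g ^ (i : ℕ)) ∈ q := by
    rw [← hφ, map_sum]
    have : ∀ i : Fin (S.natDegree + 1), φ (U i * g ^ (i : ℕ)) = φ D * (S.coeff i • φ g ^ (i : ℕ)) := fun i => by
      rw [map_mul, map_pow, hU' i, Algebra.smul_def]
      show _ = φ D * ((S.coeff i : FractionRing (R ⧸ q)) * _)
      ring
    rw [Finset.sum_congr rfl fun i _ => this i, ← Finset.mul_sum, Fin.sum_univ_eq_sum_range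
      (fun i => S.coeff i • φ g ^ i), ← Polynomial.aeval_eq_sum_range, hS0, mul_zero]
  rw [Fin.sum_univ_succ] at hsum
  have h0 : U 0 ∈ p := by
    have h2 : (∑ i : Fin S.natDegree, U i.succ * g ^ ((i.succ : Fin (S.natDegree + 1)) : ℕ)) ∈ p :=
      sum_mem fun i _ => Ideal.mul_mem_left _ _ (Ideal.pow_mem_of_mem p hgp _ (by simp))
    simpa using (p.add_mem_iff_left h2).1 (hqp hsum)
  have := (hφ _).2 (hq (hh δ _ (hU 0) h0))
  rw [hU' 0, mul_eq_zero] at this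
  exact hS (Subtype.ext (this.resolve_right hD0))

/-- The height of a prime exceeds that of its homogeneous core by at most one. -/
theorem height_le_core_add_one [IsNoetherianRing R] (hpos : ∀ n : ℤ, n < 0 → 𝒜 n = ⊥) :
    ∀ (n : ℕ) (p : Ideal R) [p.IsPrime], p.height ≤ n →
      p.height ≤ (p.homogeneousCore 𝒜).toIdeal.height + 1 := by
  intro n
  induction n with
  | zero => exact fun p _ h => (h.trans (by simp))
  | succ n ih =>
    intro p _ hpn
    haveI := Ideal.IsPrime.homogeneousCore (𝒜 := 𝒜) (I := p) inferInstance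
    obtain ⟨c, hc⟩ : ∃ c : ℕ, (p.homogeneousCore 𝒜).toIdeal.height = c :=
      ⟨_, (ENat.natCast_toNat (Ideal.height_lt_top_of_isPrime (I := (p.homogeneousCore 𝒜).toIdeal)).ne).symm⟩
    rw [hc, show (c : ℕ∞) + 1 = ((c + 1 : ℕ) : ℕ∞) by simp, Ideal.height_le_iff]
    intro q hq hqp
    haveI := Ideal.IsPrime.homogeneousCore (𝒜 := 𝒜) (I := q) hq
    refine lt_of_le_of_lt (b := (c : ℕ∞)) ?_ (by exact_mod_cast Nat.lt_succ_self c)
    have hlt : q.height < p.height := Ideal.height_strict_mono_of_isPrime hqp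
    have hle : (q.homogeneousCore 𝒜).toIdeal ≤ (p.homogeneousCore 𝒜).toIdeal :=
      Ideal.homogeneousCore_mono 𝒜 hqp.le
    rcases eq_or_lt_of_le hle with heq | hlt'
    · have hq0 : (p.homogeneousCore 𝒜).toIdeal ≤ q := heq ▸ Ideal.toIdeal_homogeneousCore_le 𝒜 q
      by_cases hne : q = (p.homogeneousCore 𝒜).toIdeal
      · rw [hne, hc]
      · exact absurd (eq_of_homogeneous_eq hpos hq0 hne hqp.le inferInstance
          (fun d a ha hap => Ideal.mem_homogeneousCore_of_homogeneous_of_mem ⟨d, ha⟩ hap)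
          (p.homogeneousCore 𝒜).isHomogeneous).symm hqp.ne
    · have h1 : q.height ≤ n := by
        have h2 := hlt.trans_le hpn
        rw [Nat.cast_succ] at h2
        exact (ENat.lt_add_one_iff (ENat.natCast_ne_top n)).1 h2
      refine (ih q h1).trans ?_
      rw [← hc]
      exact Order.add_one_le_of_lt (Ideal.height_strict_mono_of_isPrime hlt')

variable {m : HomogeneousIdeal 𝒜}

theorem star_ne_top (hm : IsStarLocal 𝒜 m) : m.toIdeal ≠ ⊤ := fun h =>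
  hm.1.1 (HomogeneousIdeal.ext (by simpa using h))

theorem star_le [IsNoetherianRing R] (hm : IsStarLocal 𝒜 m) (I : HomogeneousIdeal 𝒜) (hI : I.toIdeal ≠ ⊤) :
    I.toIdeal ≤ m.toIdeal := by
  obtain ⟨J, hJ, hmax⟩ := set_has_maximal_iff_noetherian.2 ‹IsNoetherianRing R›
    {J : Ideal R | J.IsHomogeneous 𝒜 ∧ J ≠ ⊤ ∧ I.toIdeal ≤ J} ⟨_, I.isHomogeneous, hI, le_rfl⟩
  have hco : IsCoatom (⟨J, hJ.1⟩ : HomogeneousIdeal 𝒜) := by
    refine ⟨fun h => hJ.2.1 (congrArg HomogeneousIdeal.toIdeal h), fun K hK => by_contra fun hKt => ?_⟩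
    refine hmax (HomogeneousIdeal.toIdeal K) ⟨K.isHomogeneous, fun h => hKt (HomogeneousIdeal.ext (by simpa using h)),
      hJ.2.2.trans ?_⟩ ?_
    · exact hK.le
    · exact lt_of_le_of_ne hK.le fun h => hK.ne (HomogeneousIdeal.ext h)
  rw [← hm.2 _ hco]
  exact hJ.2.2

theorem mem_star_of_pos [IsNoetherianRing R] (hpos : ∀ n : ℤ, n < 0 → 𝒜 n = ⊥) (hm : IsStarLocal 𝒜 m)
    {d : ℤ} (hd : 0 < d) {x : R} (hx : x ∈ 𝒜 d) : x ∈ m.toIdeal := by
  let I : HomogeneousIdeal 𝒜 := ⟨Ideal.span {x}, Ideal.homogeneous_span 𝒜 _ (by rintro _ rfl; exact ⟨d, hx⟩)⟩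
  refine star_le hm I (fun h => ?_) (Ideal.subset_span rfl)
  obtain ⟨r, hr⟩ := Ideal.mem_span_singleton'.1 ((Ideal.eq_top_iff_one _).1 h)
  have h1 := congrArg (pr 𝒜 0) hr
  rw [mul_comm, ← smul_eq_mul, pr_smul' (ℳ := 𝒜) hx, pr_of_mem (SetLike.one_mem_graded 𝒜),
    AddSubgroup.mem_bot.1 ((hpos (0 - d) (by omega)).le (pr_mem (ℳ := 𝒜) (0 - d) r)), smul_zero] at h1
  exact star_ne_top hm ((Ideal.eq_top_iff_one _).2 (h1 ▸ zero_mem _))

theorem star_isMaximal [IsNoetherianRing R] (hpos : ∀ n : ℤ, n < 0 → 𝒜 n = ⊥) (hm : IsStarLocal 𝒜 m) :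
    m.toIdeal.IsMaximal := by
  refine Ideal.isMaximal_iff.2 ⟨(Ideal.ne_top_iff_one _).1 (star_ne_top hm), fun J x hJ hx hxJ => ?_⟩
  have h0 : x - pr 𝒜 0 x ∈ m.toIdeal := by
    refine mem_of_pr (ℳ := 𝒜) (P := m.toIdeal) fun i => ?_
    rw [map_sub]
    rcases lt_trichotomy i 0 with h | rfl | h
    · rw [AddSubgroup.mem_bot.1 ((hpos i h).le (pr_mem (ℳ := 𝒜) i x)), pr_of_ne (pr_mem 0 x) h.ne', sub_zero]
      exact zero_mem _
    · rw [pr_of_mem (pr_mem (ℳ := 𝒜) 0 x), sub_self]; exact zero_mem _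
    · rw [pr_of_ne (pr_mem 0 x) h.ne, sub_zero]
      exact mem_star_of_pos hpos hm h (pr_mem i x)
  have hu : pr 𝒜 0 x ∉ m.toIdeal := fun h => hx (by simpa using add_mem h0 h)
  have hspan : (Ideal.span {pr 𝒜 0 x}).IsHomogeneous 𝒜 :=
    Ideal.homogeneous_span 𝒜 _ (by rintro _ rfl; exact ⟨0, pr_mem 0 x⟩)
  have htop : Ideal.span {pr 𝒜 0 x} = ⊤ := by_contra fun h =>
    hu (star_le hm ⟨_, hspan⟩ h (Ideal.subset_span rfl))
  have : pr 𝒜 0 x ∈ J := by simpa using sub_mem hxJ (hJ h0)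
  rw [← Ideal.eq_top_iff_one, eq_top_iff, ← htop, Ideal.span_le]
  simpa using this

theorem ringKrullDim_eq_height_star [IsNoetherianRing R] (hpos : ∀ n : ℤ, n < 0 → 𝒜 n = ⊥)
    (hm : IsStarLocal 𝒜 m) : ringKrullDim R = m.toIdeal.height := by
  haveI := star_isMaximal hpos hm
  refine le_antisymm ((ringKrullDim_le_iff_isMaximal_height_le _).2 fun p hp => WithBot.coe_le_coe.2 ?_)
    (Ideal.height_le_ringKrullDim_of_ne_top (star_ne_top hm))
  haveI := Ideal.IsPrime.homogeneousCore (𝒜 := 𝒜) (I := p) hp.isPrime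
  have hle := star_le hm (p.homogeneousCore 𝒜) (Ideal.IsPrime.ne_top inferInstance)
  obtain ⟨k, hk⟩ : ∃ k : ℕ, p.height = k :=
    ⟨_, (ENat.natCast_toNat (Ideal.height_lt_top_of_isPrime (I := p)).ne).symm⟩
  rcases eq_or_lt_of_le hle with h | h
  · exact (congrArg Ideal.height (Ideal.IsMaximal.eq_of_le inferInstance hp.ne_top
      (h ▸ Ideal.toIdeal_homogeneousCore_le 𝒜 p))).ge
  · exact (height_le_core_add_one hpos k p hk.le).trans
      (Order.add_one_le_of_lt (Ideal.height_strict_mono_of_isPrime h))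

/-- Local cohomology of a Cohen-Macaulay *local ring vanishes below its dimension. -/
theorem subsingleton_H_cm [IsNoetherianRing R] [LocCoh.IsCohenMacaulayRing R]
    (hpos : ∀ n : ℤ, n < 0 → 𝒜 n = ⊥) (hm : IsStarLocal 𝒜 m) {n : ℕ} (hn : ringKrullDim R = n)
    (E : StarInjRes 𝒜 𝒜) : ∀ i < n, Subsingleton (E.H m i) := by
  intro i hi
  have hd : LocCoh.idealDepth m.toIdeal R = (n : ℕ∞) := by
    rw [(S14424.result R).1 inferInstance _ (star_ne_top hm)]
    have := (ringKrullDim_eq_height_star hpos hm).symm.trans hn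
    exact_mod_cast this
  have hs := (Groth.Agent.LocCohLib.natCast_le_idealDepth_iff_vanishing m.toIdeal R n).1 hd.ge i hi
  rcases i with _ | i
  · obtain ⟨e⟩ := S13224.zero_case E m
    exact e.injective.subsingleton
  · obtain ⟨e⟩ := S13224.succ_case E m i
    exact e.injective.subsingleton

end Groth.Agent.GrInj
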