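import Mathlib
import Groth.Agent.GrInj.CanLoc
import Groth.Agent.GrInj.StarLoc

/-!
# Nonhomogeneous primes: the uniformizer modulo the homogeneous core, and injective dimension one
-/

set_option autoImplicit false
universe u

namespace Groth.Agent.GrInj

open GrLC CategoryTheory IsLocalRing
open CategoryTheory.Abelian (Ext)

variable {R : Type u} [CommRing R] {𝒜 : ℤ → AddSubgroup R} [GradedRing 𝒜]

/-- Modulo its homogeneous core, a nonhomogeneous prime becomes principal after localisation. -/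
theorem exists_uniformizer {q : Ideal R} [q.IsPrime] {P : Ideal R} [P.IsPrime] (hPq : P ≤ q)
    (hcore : ∀ d, ∀ a ∈ 𝒜 d, a ∈ q → a ∈ P) (hne : P ≠ q) :
    ∃ π ∈ q, π ∉ P ∧ ∀ x ∈ q, ∃ s ∉ q, ∃ r : R, s * x - r * π ∈ P := by
  classical
  obtain ⟨φ, hφ⟩ : ∃ φ : R →+* FractionRing (R ⧸ P), ∀ r, φ r = 0 ↔ r ∈ P :=
    ⟨(algebraMap (R ⧸ P) (FractionRing (R ⧸ P))).comp (Ideal.Quotient.mk P), fun r => by
      rw [RingHom.comp_apply, map_eq_zero_iff _ (IsFractionRing.injective _ _), Ideal.Quotient.eq_zero_iff_mem]⟩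
  have hout : ∀ d, ∀ a ∈ 𝒜 d, φ a ≠ 0 → a ∉ q := fun d a ha h0 hq => h0 ((hφ a).2 (hcore d a ha hq))
  have hφq : ∀ s, s ∉ q → φ s ≠ 0 := fun s hs h => hs (hPq ((hφ s).1 h))
  let F := ratioField (𝒜 := 𝒜) φ
  let G : AddSubgroup ℤ :=
    { carrier := {n | ∃ d, ∃ a ∈ 𝒜 (d + n), ∃ b ∈ 𝒜 d, φ a ≠ 0 ∧ φ b ≠ 0}
      zero_mem' := ⟨0, 1, by simpa using SetLike.one_mem_graded 𝒜, 1, SetLike.one_mem_graded 𝒜, by simp, by simp⟩
      add_mem' := by
        rintro n n' ⟨d, a, ha, b, hb, ha0, hb0⟩ ⟨d', a', ha', b', hb', ha0', hb0'⟩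
        refine ⟨d + d', a * a', ?_, b * b', SetLike.mul_mem_graded hb hb', by simp [ha0, ha0'], by simp [hb0, hb0']⟩
        rw [show d + d' + (n + n') = d + n + (d' + n') by ring]
        exact SetLike.mul_mem_graded ha ha'
      neg_mem' := by
        rintro n ⟨d, a, ha, b, hb, ha0, hb0⟩
        exact ⟨d + n, b, by simpa using hb, a, ha, hb0, ha0⟩ }
  obtain ⟨e, heG, hdvd⟩ : ∃ e : ℤ, e ∈ G ∧ ∀ n ∈ G, e ∣ n := by
    obtain ⟨e, he⟩ := Int.subgroup_cyclic G
    refine ⟨e, by rw [he]; exact AddSubgroup.subset_closure rfl, fun n hn => ?_⟩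
    rw [he, AddSubgroup.mem_closure_singleton] at hn
    obtain ⟨j, rfl⟩ := hn
    exact ⟨j, by simp [mul_comm]⟩
  obtain ⟨d₀, a, ha, b, hb, ha0, hb0⟩ := heG
  let τ := φ a / φ b
  have haq : a ∉ q := hout _ a ha ha0
  have hbq : b ∉ q := hout _ b hb hb0
  let ev : Polynomial F →ₐ[F] FractionRing (R ⧸ P) := Polynomial.aeval τ
  let O : Subring (FractionRing (R ⧸ P)) :=
    { carrier := {z | ∃ r s, s ∉ q ∧ z * φ s = φ r}
      one_mem' := ⟨1, 1, fun h => (Ideal.IsPrime.ne_top ‹q.IsPrime›) ((Ideal.eq_top_iff_one q).2 h), one_mul _⟩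
      zero_mem' := ⟨0, 1, fun h => (Ideal.IsPrime.ne_top ‹q.IsPrime›) ((Ideal.eq_top_iff_one q).2 h),
        by rw [zero_mul, map_zero]⟩
      mul_mem' := by
        rintro z z' ⟨r, s, hs, hz⟩ ⟨r', s', hs', hz'⟩
        exact ⟨r * r', s * s', fun h => (Ideal.IsPrime.mem_or_mem ‹q.IsPrime› h).elim hs hs', by
          rw [map_mul, map_mul, ← hz, ← hz']; ring⟩
      add_mem' := by
        rintro z z' ⟨r, s, hs, hz⟩ ⟨r', s', hs', hz'⟩
        exact ⟨r * s' + r' * s, s * s', fun h => (Ideal.IsPrime.mem_or_mem ‹q.IsPrime› h).elim hs hs', by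
          rw [map_add, map_mul, map_mul, map_mul, ← hz, ← hz']; ring⟩
      neg_mem' := by
        rintro z ⟨r, s, hs, hz⟩
        exact ⟨-r, s, hs, by rw [map_neg, ← hz, neg_mul]⟩ }
  have hτO : τ ∈ O := ⟨a, b, hbq, div_mul_cancel₀ _ hb0⟩
  have hFO : ∀ c : F, (c : FractionRing (R ⧸ P)) ∈ O := fun c => by
    obtain ⟨d, x, hx, y, hy, hy0, hc⟩ := c.2
    exact ⟨x, y, hout d y hy hy0, by rw [hc, div_mul_cancel₀ _ hy0]⟩
  have hevO : ∀ p, ev p ∈ O := fun p => by
    induction p using Polynomial.induction_on' with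
    | add p p' hp hp' => rw [map_add]; exact add_mem hp hp'
    | monomial n c =>
      show Polynomial.aeval τ (Polynomial.monomial n c) ∈ O
      rw [Polynomial.aeval_monomial]
      exact mul_mem (hFO c) (pow_mem hτO n)
  let J : Ideal (Polynomial F) :=
    { carrier := {p | ∃ r ∈ q, ∃ s, s ∉ q ∧ ev p * φ s = φ r}
      zero_mem' := ⟨0, zero_mem q, b, hbq, by rw [map_zero, zero_mul, map_zero]⟩
      add_mem' := by
        rintro p p' ⟨r, hr, s, hs, hz⟩ ⟨r', hr', s', hs', hz'⟩
        exact ⟨r * s' + r' * s, add_mem (q.mul_mem_right _ hr) (q.mul_mem_right _ hr'), s * s',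
          fun h => (Ideal.IsPrime.mem_or_mem ‹q.IsPrime› h).elim hs hs', by
            rw [map_add, map_add, map_mul, map_mul, map_mul, ← hz, ← hz']; ring⟩
      smul_mem' := by
        rintro c p ⟨r, hr, s, hs, hz⟩
        obtain ⟨r', s', hs', hz'⟩ := hevO c
        exact ⟨r' * r, q.mul_mem_left _ hr, s' * s,
          fun h => (Ideal.IsPrime.mem_or_mem ‹q.IsPrime› h).elim hs' hs, by
            rw [smul_eq_mul, map_mul, map_mul, map_mul, ← hz, ← hz']; ring⟩ }
  have hexp : ∀ r : R, ∃ (N : ℕ) (p : Polynomial F), φ r * τ ^ N = ev p := by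
    intro r
    induction r using GrInj.induction 𝒜 with
    | h0 => exact ⟨0, 0, by rw [map_zero, map_zero, zero_mul]⟩
    | hadd x y hx hy =>
      obtain ⟨N, p, hp⟩ := hx
      obtain ⟨N', p', hp'⟩ := hy
      refine ⟨N + N', p * Polynomial.X ^ N' + p' * Polynomial.X ^ N, ?_⟩
      simp only [map_add, map_mul, map_pow, ← hp, ← hp', ev, Polynomial.aeval_X]
      ring
    | hh d x hx =>
      by_cases hx0 : φ x = 0
      · exact ⟨0, 0, by rw [hx0, map_zero, zero_mul]⟩
      obtain ⟨j, hj⟩ := hdvd d ⟨0, x, by rwa [zero_add], 1, SetLike.one_mem_graded 𝒜, hx0, by simp⟩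
      obtain ⟨k, rfl | rfl⟩ := Int.eq_nat_or_neg j
      · have hmem : x * b ^ k ∈ 𝒜 (k • (d₀ + e)) := by
          have := SetLike.mul_mem_graded hx (SetLike.pow_mem_graded (A := 𝒜) k hb)
          rwa [show d + k • d₀ = k • (d₀ + e) by rw [hj, smul_add, nsmul_eq_mul, nsmul_eq_mul]; ring] at this
        refine ⟨0, Polynomial.C ⟨_, div_mem_ratioField (φ := φ) hmem (SetLike.pow_mem_graded (A := 𝒜) k ha)
          (by simp [ha0])⟩ * Polynomial.X ^ k, ?_⟩
        rw [show ev = Polynomial.aeval τ from rfl, map_mul (Polynomial.aeval τ), map_pow (Polynomial.aeval τ),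
          Polynomial.aeval_C, Polynomial.aeval_X]
        show φ x * τ ^ 0 = φ (x * b ^ k) / φ (a ^ k) * τ ^ k
        simp only [τ, map_mul, map_pow, div_pow, pow_zero, mul_one]
        field_simp
      · have hmem : x * a ^ k ∈ 𝒜 (k • d₀) := by
          have := SetLike.mul_mem_graded hx (SetLike.pow_mem_graded (A := 𝒜) k ha)
          rwa [show d + k • (d₀ + e) = k • d₀ by rw [hj, smul_add, nsmul_eq_mul, nsmul_eq_mul]; ring] at this
        refine ⟨k, Polynomial.C ⟨_, div_mem_ratioField (φ := φ) hmem (SetLike.pow_mem_graded (A := 𝒜) k hb)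
          (by simp [hb0])⟩, ?_⟩
        simp only [ev, Polynomial.aeval_C]
        show _ = φ (x * a ^ k) / φ (b ^ k)
        rw [map_mul, map_pow, map_pow, div_pow]
        ring
  obtain ⟨g, hg⟩ : ∃ g, J = Ideal.span {g} :=
    ⟨Submodule.IsPrincipal.generator J, (Ideal.span_singleton_generator J).symm⟩
  obtain ⟨π, hπ, s₀, hs₀, hgπ⟩ : g ∈ J := hg ▸ Ideal.mem_span_singleton_self g
  have key : ∀ x ∈ q, ∃ s ∉ q, ∃ r : R, φ (s * x) = φ (r * π) := by
    intro x hx
    obtain ⟨N, p, hp⟩ := hexp x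
    have hev : ev p * φ (b ^ N) = φ (x * a ^ N) := by
      rw [← hp, map_mul, map_pow, map_pow, mul_assoc, ← mul_pow, div_mul_cancel₀ _ hb0]
    have hpJ : p ∈ J := ⟨x * a ^ N, q.mul_mem_right _ hx, b ^ N,
      fun h => hbq (Ideal.IsPrime.mem_of_pow_mem ‹_› N h), hev⟩
    rw [hg, Ideal.mem_span_singleton'] at hpJ
    obtain ⟨h, rfl⟩ := hpJ
    obtain ⟨r, s, hs, hz⟩ := hevO h
    refine ⟨s₀ * s * a ^ N, fun hm => ?_, r * b ^ N, ?_⟩
    · rcases Ideal.IsPrime.mem_or_mem ‹q.IsPrime› hm with h1 | h1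
      · exact (Ideal.IsPrime.mem_or_mem ‹q.IsPrime› h1).elim hs₀ hs
      · exact haq (Ideal.IsPrime.mem_of_pow_mem ‹_› N h1)
    · rw [show s₀ * s * a ^ N * x = (x * a ^ N) * (s₀ * s) by ring, map_mul φ (x * a ^ N), ← hev, map_mul ev,
        map_mul φ s₀ s, map_mul φ (r * b ^ N), map_mul φ r, ← hz, ← hgπ]
      ring
  refine ⟨π, hπ, fun hπP => hne (le_antisymm hPq fun x hx => ?_), fun x hx => ?_⟩
  · obtain ⟨s, hs, r, h⟩ := key x hx
    rw [map_mul, map_mul, (hφ π).2 hπP, mul_zero] at h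
    exact (hφ x).1 ((mul_eq_zero.1 h).resolve_left (hφq s hs))
  · obtain ⟨s, hs, r, h⟩ := key x hx
    exact ⟨s, hs, r, (hφ _).1 (by rw [map_sub, h, sub_self])⟩

/-! ### Injectivity from extensions after localisation -/

section Ungraded

variable [IsNoetherianRing R] (S : Submonoid R)

/-- In an essential extension without extensions by `R/P` after localisation, the cokernel has no class with annihilator `P`. -/
theorem false_of_ess_of_ext {Z H : Type u} [AddCommGroup Z] [Module R Z] [AddCommGroup H] [Module R H]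
    {j : Z →ₗ[R] H} (hj : InjHull.IsEssentialInj j) {P : Ideal R} [P.IsPrime] (hSP : ∀ s ∈ S, s ∉ P) {z : H}
    (hz : ∀ r : R, r • z ∈ LinearMap.range j ↔ r ∈ P)
    (hext : Subsingleton (Ext.{u} (locMod S (R ⧸ P)) (locMod S Z) 1)) : False := by
  classical
  let Q := H ⧸ LinearMap.range j
  let C : ShortComplex (ModuleCat.{u} R) := ShortComplex.mk (X₃ := ModuleCat.of R Q) (ModuleCat.ofHom j)
    (ModuleCat.ofHom (LinearMap.range j).mkQ)
    (ModuleCat.hom_ext (LinearMap.ext fun x => (Submodule.Quotient.mk_eq_zero _).2 ⟨x, rfl⟩))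
  have hC : C.ShortExact :=
    { exact := (ShortComplex.ShortExact.moduleCat_exact_iff_function_exact _).2 (LinearMap.exact_map_mkQ_range j)
      mono_f := (ModuleCat.mono_iff_injective _).2 hj.injective
      epi_g := (ModuleCat.epi_iff_surjective _).2 (Submodule.mkQ_surjective _) }
  have hS := LocCohLib.locSeq_shortExact hC S
  let t : (R ⧸ P) →ₗ[R] Q := Submodule.liftQ P (LinearMap.toSpanSingleton R Q (Submodule.Quotient.mk z)) fun r hr => by
    show r • (Submodule.Quotient.mk z : Q) = 0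
    rw [← Submodule.Quotient.mk_smul, Submodule.Quotient.mk_eq_zero]
    exact (hz r).2 hr
  let gS : locMod S (R ⧸ P) ⟶ (LocCohLib.locSeq S C).X₃ := ModuleCat.ofHom (LocalizedModule.map S t)
  obtain ⟨x₂, hx₂⟩ := Ext.covariant_sequence_exact₃ _ hS (Ext.mk₀ gS) (rfl : 0 + 1 = 1) (@Subsingleton.elim _ hext _ _)
  obtain ⟨G, rfl⟩ := (Ext.mk₀_bijective _ _).2 x₂
  rw [Ext.mk₀_comp_mk₀] at hx₂
  have hG : ∀ x, LocalizedModule.map S (LinearMap.range j).mkQ (G.hom x) = LocalizedModule.map S t x :=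
    fun x => ConcreteCategory.congr_hom ((Ext.mk₀_bijective _ _).1 hx₂) x
  haveI : Module.FinitePresentation R (R ⧸ P) := Module.finitePresentation_of_finite R _
  let G' : LocalizedModule S (R ⧸ P) →ₗ[Localization S] LocalizedModule S H := G.hom
  obtain ⟨u, s, hu⟩ := Module.FinitePresentation.exists_lift_of_isLocalizedModule S
    (LocalizedModule.mkLinearMap S H) ((G'.restrictScalars R) ∘ₗ LocalizedModule.mkLinearMap S _)
  let w : H := u (Submodule.Quotient.mk (1 : R))
  have hw : ∀ r ∈ P, r • w = 0 := fun r hr => by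
    show r • u _ = 0
    rw [← map_smul, ← Submodule.Quotient.mk_smul, (Submodule.Quotient.mk_eq_zero P).2 (by simpa using hr), map_zero]
  have hmk : LocalizedModule.mk ((LinearMap.range j).mkQ w) (1 : S) =
      LocalizedModule.mk ((s : R) • (Submodule.Quotient.mk z : Q)) (1 : S) := by
    have h1 : LocalizedModule.mk w (1 : S) = (s : R) • G' (LocalizedModule.mk (Submodule.Quotient.mk (1 : R)) 1) :=
      LinearMap.congr_fun hu (Submodule.Quotient.mk (1 : R))
    have h2 := congrArg (LocalizedModule.map S (LinearMap.range j).mkQ) h1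
    rw [LocalizedModule.map_mk, LinearMap.map_smul_of_tower, show LocalizedModule.map S (LinearMap.range j).mkQ (G' (LocalizedModule.mk (Submodule.Quotient.mk (1 : R)) 1)) = _ from hG _, LocalizedModule.map_mk, LocalizedModule.smul'_mk] at h2
    rw [h2]
    show LocalizedModule.mk ((s : R) • ((1 : R) • (Submodule.Quotient.mk z : Q))) 1 = _
    rw [one_smul]
  obtain ⟨v, hv⟩ := LocalizedModule.mk_eq.1 hmk
  simp only [one_smul, Submonoid.smul_def] at hv
  have hv' : (v : R) • w - (((v : R) * s) • z) ∈ LinearMap.range j := by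
    refine (Submodule.Quotient.eq _).1 ?_
    rw [Submodule.Quotient.mk_smul, Submodule.Quotient.mk_smul, mul_smul]
    exact hv
  have hvs : (v : R) * s ∉ P := hSP _ (S.mul_mem v.2 s.2)
  have hw0 : (v : R) • w ≠ 0 := fun h => hvs ((hz _).1 (by
    rw [h, zero_sub, neg_mem_iff] at hv'
    exact hv'))
  obtain ⟨r, hr0, hr⟩ := MatlisLib.exists_smul_mem_range hj hw0
  have hrP : r ∉ P := fun h => hr0 (by rw [smul_comm, hw r h, smul_zero])
  have hmem : (r * ((v : R) * s)) • z ∈ LinearMap.range j := by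
    have h1 := sub_mem hr ((LinearMap.range j).smul_mem r hv')
    rwa [smul_sub, sub_sub_cancel, ← mul_smul] at h1
  exact ((Ideal.IsPrime.mem_or_mem ‹P.IsPrime› ((hz _).1 hmem)).elim hrP hvs)

/-- A module without first extensions by the residue fields after localisation is injective. -/
theorem injective_of_ext_residue {Z : Type u} [AddCommGroup Z] [Module R Z]
    (h : ∀ (p : Ideal R) [p.IsPrime], Subsingleton (Ext.{u} (locMod p.primeCompl (R ⧸ p)) (locMod p.primeCompl Z) 1)) :
    Module.Injective R Z := by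
  obtain ⟨E, _, _, f, hf⟩ := MatlisLib.exists_hull (R := R) Z
  haveI := hf.isInjective
  have hsurj : Function.Surjective f := by
    rw [← LinearMap.range_eq_top]
    by_contra hne
    haveI : Nontrivial (E ⧸ LinearMap.range f) := Submodule.Quotient.nontrivial_iff.2 hne
    obtain ⟨p, hp⟩ := associatedPrimes.nonempty R (E ⧸ LinearMap.range f)
    obtain ⟨hp', x, hx⟩ := isAssociatedPrime_iff.1 hp
    obtain ⟨x, rfl⟩ := Submodule.Quotient.mk_surjective _ x
    haveI := hp'
    refine false_of_ess_of_ext p.primeCompl hf.toIsEssentialInj (fun s hs => hs) (z := x) (fun r => ?_) (h p)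
    rw [hx, Submodule.mem_colon_singleton, Submodule.mem_bot, ← Submodule.Quotient.mk_smul, Submodule.Quotient.mk_eq_zero]
  exact Module.Baer.injective ((Module.Baer.of_injective ‹_›).of_equiv (LinearEquiv.ofBijective f ⟨hf.injective, hsurj⟩).symm)

/-- Injective dimension at most one from the second extensions by the residue fields. -/
theorem injDimLT_two {X : Type u} [AddCommGroup X] [Module R X]
    (h : ∀ (p : Ideal R) [p.IsPrime], Subsingleton (Ext.{u} (locMod p.primeCompl (R ⧸ p)) (locMod p.primeCompl X) 2)) :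
    HasInjectiveDimensionLT (ModuleCat.of R X) 2 := by
  obtain ⟨J, _, _, i, hJ, hi⟩ := MatlisLib.exists_embedding_injective (R := R) X
  let C : ShortComplex (ModuleCat.{u} R) := ShortComplex.mk (X₃ := ModuleCat.of R (J ⧸ LinearMap.range i))
    (ModuleCat.ofHom i) (ModuleCat.ofHom (LinearMap.range i).mkQ)
    (ModuleCat.hom_ext (LinearMap.ext fun x => (Submodule.Quotient.mk_eq_zero _).2 ⟨x, rfl⟩))
  have hC : C.ShortExact :=
    { exact := (ShortComplex.ShortExact.moduleCat_exact_iff_function_exact _).2 (LinearMap.exact_map_mkQ_range i)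
      mono_f := (ModuleCat.mono_iff_injective _).2 hi
      epi_g := (ModuleCat.epi_iff_surjective _).2 (Submodule.mkQ_surjective _) }
  haveI : Injective C.X₂ := Module.injective_object_of_injective_module R J
  haveI : Module.Injective R (J ⧸ LinearMap.range i) := by
    refine injective_of_ext_residue fun p _ => ?_
    have hS := LocCohLib.locSeq_shortExact hC p.primeCompl
    haveI : Injective (LocCohLib.locSeq p.primeCompl C).X₂ := LocCohLib.injective_localized p.primeCompl C.X₂
    refine subsingleton_of_forall_eq 0 fun x => ?_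
    obtain ⟨y, hy⟩ := Ext.covariant_sequence_exact₃ _ hS x (rfl : 1 + 1 = 2) (@Subsingleton.elim _ (h p) _ _)
    rw [← hy, Ext.eq_zero_of_injective y, Ext.zero_comp]
    rfl
  haveI : Injective C.X₃ := Module.injective_object_of_injective_module R (J ⧸ LinearMap.range i)
  exact hC.hasInjectiveDimensionLT_X₁ 1 inferInstance inferInstance

end Ungraded

variable [IsNoetherianRing R]

/-- A *injective module has injective dimension at most one. -/
theorem injDimLT_two_of_starInj {X : Type u} [AddCommGroup X] [Module R X] {𝒳 : ℤ → AddSubgroup X}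
    [DirectSum.Decomposition 𝒳] [SetLike.GradedSMul 𝒜 𝒳] (hX : IsStarInj 𝒜 𝒳) :
    HasInjectiveDimensionLT (ModuleCat.of R X) 2 := by
  classical
  refine injDimLT_two fun q hq => ?_
  let P := Ideal.homogeneousCore 𝒜 q
  haveI : P.toIdeal.IsPrime := Ideal.IsPrime.homogeneousCore hq
  haveI : Module.Finite R (GMod.of 𝒜 (R ⧸ P.toIdeal) (quotGr 𝒜 P)).carrier :=
    inferInstanceAs (Module.Finite R (R ⧸ P.toIdeal))
  have hv : ∀ k, Subsingleton (Ext.{u} (locMod q.primeCompl (R ⧸ P.toIdeal)) (locMod q.primeCompl X) (k + 1)) :=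
    fun k => subsingleton_ext_loc q.primeCompl hX k (GMod.of 𝒜 (R ⧸ P.toIdeal) (quotGr 𝒜 P))
  have hPq : P.toIdeal ≤ q := Ideal.toIdeal_homogeneousCore_le 𝒜 q
  by_cases hne : P.toIdeal = q
  · have := hv 1
    rw [hne] at this
    exact this
  obtain ⟨π, hπ, hπP, hπx⟩ := exists_uniformizer (q := q) (P := P.toIdeal) hPq
    (fun d a ha haq => Ideal.mem_homogeneousCore_of_homogeneous_of_mem ⟨d, ha⟩ haq) hne
  let μ : (R ⧸ P.toIdeal) →ₗ[R] (R ⧸ P.toIdeal) := LinearMap.lsmul R _ π
  let Q := (R ⧸ P.toIdeal) ⧸ LinearMap.range μ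
  let C : ShortComplex (ModuleCat.{u} R) := ShortComplex.mk (X₃ := ModuleCat.of R Q) (ModuleCat.ofHom μ)
    (ModuleCat.ofHom (LinearMap.range μ).mkQ)
    (ModuleCat.hom_ext (LinearMap.ext fun x => (Submodule.Quotient.mk_eq_zero _).2 ⟨x, rfl⟩))
  have hC : C.ShortExact :=
    { exact := (ShortComplex.ShortExact.moduleCat_exact_iff_function_exact _).2 (LinearMap.exact_map_mkQ_range μ)
      mono_f := (ModuleCat.mono_iff_injective _).2 ((injective_iff_map_eq_zero μ).2 fun x hx => by
        obtain ⟨x, rfl⟩ := Submodule.Quotient.mk_surjective P.toIdeal x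
        have hx' : π • (Submodule.Quotient.mk x : R ⧸ P.toIdeal) = 0 := hx
        rw [← Submodule.Quotient.mk_smul, Submodule.Quotient.mk_eq_zero] at hx'
        exact (Submodule.Quotient.mk_eq_zero _).2 ((Ideal.IsPrime.mem_or_mem inferInstance hx').resolve_left hπP))
      epi_g := (ModuleCat.epi_iff_surjective _).2 (Submodule.mkQ_surjective _) }
  have hS := LocCohLib.locSeq_shortExact hC q.primeCompl
  haveI hQ : Subsingleton (Ext.{u} (locMod q.primeCompl Q) (locMod q.primeCompl X) 2) := by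
    refine subsingleton_of_forall_eq 0 fun x => ?_
    obtain ⟨y, hy⟩ := Ext.contravariant_sequence_exact₃ hS _ x (@Subsingleton.elim _ (hv 1) _ _) (rfl : 1 + 1 = 2)
    have hy0 : y = 0 := @Subsingleton.elim _ (hv 0) y 0
    rw [← hy, hy0, Ext.comp_zero]
    rfl
  let f : Q →ₗ[R] (R ⧸ q) := Submodule.liftQ _ (Submodule.factor hPq) (by
    rintro _ ⟨x, rfl⟩
    show Submodule.factor hPq (π • x) = 0
    obtain ⟨x, rfl⟩ := Submodule.Quotient.mk_surjective P.toIdeal x
    rw [← Submodule.Quotient.mk_smul]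
    exact (Submodule.Quotient.mk_eq_zero q).2 (q.mul_mem_right x hπ))
  have hf : Function.Bijective (LocalizedModule.map q.primeCompl f) := by
    refine ⟨(injective_iff_map_eq_zero _).2 fun z hz => ?_, LocalizedModule.map_surjective _ _ fun y => ?_⟩
    · induction z using LocalizedModule.induction_on with
      | h y s =>
        rw [LocalizedModule.map_mk, ← LocalizedModule.zero_mk s, LocalizedModule.mk_eq] at hz
        obtain ⟨w, hw⟩ := hz
        simp only [Submonoid.smul_def, smul_zero] at hw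
        obtain ⟨y, rfl⟩ := Submodule.Quotient.mk_surjective _ y
        obtain ⟨y, rfl⟩ := Submodule.Quotient.mk_surjective P.toIdeal y
        have hwy : ((w : R) * ((s : R) * y)) ∈ q := (Submodule.Quotient.mk_eq_zero q).1 hw
        have hyq : y ∈ q := ((Ideal.IsPrime.mem_or_mem hq hwy).resolve_left w.2 |> fun h =>
          (Ideal.IsPrime.mem_or_mem hq h).resolve_left s.2)
        obtain ⟨s', hs', r, hr⟩ := hπx y hyq
        rw [← LocalizedModule.zero_mk (1 : q.primeCompl), LocalizedModule.mk_eq]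
        refine ⟨⟨s', hs'⟩, ?_⟩
        simp only [Submonoid.smul_def, one_smul, smul_zero]
        show (Submodule.Quotient.mk (s' • (Submodule.Quotient.mk y : R ⧸ P.toIdeal)) : Q) = 0
        rw [Submodule.Quotient.mk_eq_zero]
        exact ⟨Submodule.Quotient.mk r, ((Submodule.Quotient.eq _).2 (by
          have := neg_mem hr
          rw [neg_sub] at this
          simpa [mul_comm] using this))⟩
    · obtain ⟨y, rfl⟩ := Submodule.Quotient.mk_surjective q y
      exact ⟨Submodule.Quotient.mk (Submodule.Quotient.mk y), rfl⟩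
  let e := (LinearEquiv.ofBijective (LocalizedModule.map q.primeCompl f) hf).toModuleIso
  refine subsingleton_of_forall_eq 0 fun x => ?_
  have h0 : (Ext.mk₀ e.hom).comp x (zero_add _) = 0 := @Subsingleton.elim _ hQ _ _
  rw [← Ext.mk₀_id_comp x, ← e.inv_hom_id, ← Ext.mk₀_comp_mk₀, Ext.comp_assoc_of_second_deg_zero, h0, Ext.comp_zero]

end Groth.Agent.GrInj
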