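import Groth.Agent.GrInj.Hull
import Groth.Agent.GrInj.AcyclicRes

/-!
# Coarsening of gradings; lifting into *injective resolutions; comparison by `Γ_I`-acyclics
-/

set_option autoImplicit false
set_option linter.unusedSectionVars false
universe u

namespace Groth.Agent.GrInj

open GrLC

variable {ι κ : Type} [AddCommGroup ι] [DecidableEq ι] [AddCommGroup κ] [DecidableEq κ] (φ : ι →+ κ)
variable {R : Type u} [CommRing R] {𝒜 : ι → AddSubgroup R} [GradedRing 𝒜]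
variable {X : Type u} [AddCommGroup X] [Module R X] (𝒳 : ι → AddSubgroup X) [DirectSum.Decomposition 𝒳]

/-- The coarsened pieces. -/
def coarse (h : κ) : AddSubgroup X := ⨆ g ∈ φ ⁻¹' {h}, 𝒳 g

omit [DirectSum.Decomposition 𝒳] in
theorem le_coarse (g : ι) : 𝒳 g ≤ coarse φ 𝒳 (φ g) :=
  le_iSup₂ (f := fun (g' : ι) (_ : g' ∈ φ ⁻¹' {φ g}) => 𝒳 g') g rfl

omit [DirectSum.Decomposition 𝒳] in
theorem coarse_induction {h : κ} {P : X → Prop} {x : X} (hx : x ∈ coarse φ 𝒳 h) (h0 : P 0)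
    (hh : ∀ g, φ g = h → ∀ x ∈ 𝒳 g, P x) (hadd : ∀ a b, P a → P b → P (a + b)) : P x := by
  unfold coarse at hx
  refine AddSubgroup.iSup_induction _ (C := P) hx (fun g y hy => ?_) h0 hadd
  exact AddSubgroup.iSup_induction _ (C := P) hy (fun hg z hz => hh g hg z hz) h0 hadd

/-- The projection onto a coarsened piece. -/
noncomputable def coarsePr (h : κ) : X →+ X :=
  (DirectSum.toAddMonoid fun g => if φ g = h then (𝒳 g).subtype else 0).comp
    (DirectSum.decomposeAddEquiv 𝒳).toAddMonoidHom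

theorem coarsePr_of_mem (h : κ) {g : ι} {x : X} (hx : x ∈ 𝒳 g) :
    coarsePr φ 𝒳 h x = if φ g = h then x else 0 := by
  show DirectSum.toAddMonoid (fun g => if φ g = h then (𝒳 g).subtype else 0) (DirectSum.decompose 𝒳 x) = _
  rw [DirectSum.decompose_of_mem _ hx, DirectSum.toAddMonoid_of]
  split <;> rfl

theorem isInternal_coarse : DirectSum.IsInternal (coarse φ 𝒳) := by
  refine isInternal_of _ (coarsePr φ 𝒳) (fun h x hx => ?_) (fun h h' hne x hx => ?_) fun x => ?_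
  · exact coarse_induction φ 𝒳 (P := fun x => coarsePr φ 𝒳 h x = x) hx (map_zero _)
      (fun g hg y hy => by rw [coarsePr_of_mem φ 𝒳 h hy, if_pos hg]) fun a b ha hb => by rw [map_add, ha, hb]
  · exact coarse_induction φ 𝒳 (P := fun x => coarsePr φ 𝒳 h' x = 0) hx (map_zero _)
      (fun g hg y hy => by rw [coarsePr_of_mem φ 𝒳 h' hy, if_neg (hg ▸ hne)])
      fun a b ha hb => by rw [map_add, ha, hb, add_zero]
  · rw [← sum_supp (ℳ := 𝒳) x]
    exact sum_mem fun g _ => le_iSup (coarse φ 𝒳) (φ g) (le_coarse φ 𝒳 g (pr_mem g x))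

variable {𝒜' : κ → AddSubgroup R}

theorem gsmul_coarse [GradedRing 𝒜'] [SetLike.GradedSMul 𝒜 𝒳] (h𝒜 : ∀ h, 𝒜' h = coarse φ 𝒜 h) :
    SetLike.GradedSMul 𝒜' (coarse φ 𝒳) :=
  gsmul_mk fun h k r hr x hx => by
    rw [h𝒜] at hr
    refine coarse_induction φ 𝒜 (P := fun r => r • x ∈ coarse φ 𝒳 (h + k)) hr
      (by rw [zero_smul]; exact zero_mem _) (fun g hg r hr => ?_)
      fun a b ha hb => by rw [add_smul]; exact add_mem ha hb
    refine coarse_induction φ 𝒳 (P := fun x => r • x ∈ coarse φ 𝒳 (h + k)) hx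
      (by rw [smul_zero]; exact zero_mem _) (fun g' hg' x hx => ?_)
      fun a b ha hb => by rw [smul_add]; exact add_mem ha hb
    rw [← hg, ← hg', ← map_add]
    exact le_coarse φ 𝒳 _ (smul_mem_gr hr hx)

variable (𝒜') in
/-- The coarsened graded module. -/
noncomputable def coarseMod [GradedRing 𝒜'] (h𝒜 : ∀ h, 𝒜' h = coarse φ 𝒜 h) (Y : GMod.{u} 𝒜) :
    GMod.{u} 𝒜' :=
  { carrier := Y.carrier, gr := coarse φ Y.gr, dec := (isInternal_coarse φ Y.gr).chooseDecomposition,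
    gsmul := gsmul_coarse φ Y.gr h𝒜 }

omit [DirectSum.Decomposition 𝒳] in
theorem grHom_coarse {Y : Type u} [AddCommGroup Y] [Module R Y] {𝒴 : ι → AddSubgroup Y} {f : X →ₗ[R] Y}
    (hf : IsGrHom 𝒳 𝒴 f) : IsGrHom (coarse φ 𝒳) (coarse φ 𝒴) f := fun h x hx => by
  refine coarse_induction φ 𝒳 (P := fun x => f x ∈ coarse φ 𝒴 h) hx
    (by rw [map_zero]; exact zero_mem _) (fun g hg y hy => ?_)
    fun a b ha hb => by rw [map_add]; exact add_mem ha hb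
  subst hg
  exact le_coarse φ 𝒴 g (hf g y hy)

section Lift

variable {B C I : GMod.{u} 𝒜}

/-- Extension into a *injective along a map, of a map killing its kernel. -/
theorem exists_factor (hI : IsStarInj 𝒜 I.gr) (f : B.carrier →ₗ[R] C.carrier) (hf : IsGrHom B.gr C.gr f)
    (g : B.carrier →ₗ[R] I.carrier) (hg : IsGrHom B.gr I.gr g) (h : LinearMap.ker f ≤ LinearMap.ker g) :
    ∃ ψ : C.carrier →ₗ[R] I.carrier, IsGrHom C.gr I.gr ψ ∧ ψ ∘ₗ f = g := by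
  let K := LinearMap.ker f
  let f' : (B.carrier ⧸ K) →ₗ[R] C.carrier := K.liftQ f le_rfl
  let g' : (B.carrier ⧸ K) →ₗ[R] I.carrier := K.liftQ g h
  obtain ⟨ψ, hψ, hψf⟩ := hI (quoMod 𝒜 K (hom_ker hf)) C f'
    (fun i x hx => by obtain ⟨m, hm, rfl⟩ := hx; exact hf i m hm)
    (LinearMap.ker_eq_bot.1 (Submodule.ker_liftQ_eq_bot _ _ le_rfl le_rfl)) g'
    (fun i x hx => by obtain ⟨m, hm, rfl⟩ := hx; exact hg i m hm)
  exact ⟨ψ, hψ, LinearMap.ext fun m => LinearMap.congr_fun hψf (Submodule.Quotient.mk m)⟩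

end Lift

/-- A complex of graded modules exact over `M` maps into a *injective resolution of `M`. -/
theorem exists_lift_res {M : Type u} [AddCommGroup M] [Module R M] {ℳ : ι → AddSubgroup M}
    [DirectSum.Decomposition ℳ] [SetLike.GradedSMul 𝒜 ℳ] (Y : ℕ → GMod.{u} 𝒜)
    (d : ∀ n, (Y n).carrier →ₗ[R] (Y (n + 1)).carrier) (hd : ∀ n, IsGrHom (Y n).gr (Y (n + 1)).gr (d n))
    (ε : M →ₗ[R] (Y 0).carrier) (hε : IsGrHom ℳ (Y 0).gr ε) (hεi : Function.Injective ε)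
    (h0 : LinearMap.ker (d 0) = LinearMap.range ε) (hs : ∀ n, LinearMap.ker (d (n + 1)) = LinearMap.range (d n))
    (E : StarInjRes 𝒜 ℳ) :
    ∃ ψ : ∀ n, (Y n).carrier →ₗ[R] (E.X n).carrier, (∀ n, IsGrHom (Y n).gr (E.X n).gr (ψ n)) ∧
      ψ 0 ∘ₗ ε = E.ε ∧ ∀ n, ψ (n + 1) ∘ₗ d n = E.d n ∘ₗ ψ n := by
  let P : ∀ n, ((Y n).carrier →ₗ[R] (E.X n).carrier) → Prop := fun n ψ =>
    IsGrHom (Y n).gr (E.X n).gr ψ ∧ LinearMap.ker (d n) ≤ LinearMap.ker (E.d n ∘ₗ ψ)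
  have base : ∃ ψ, P 0 ψ ∧ ψ ∘ₗ ε = E.ε := by
    obtain ⟨ψ, hψ, hψf⟩ := exists_factor (B := GMod.of 𝒜 M ℳ) (E.starInj 0) ε hε E.ε E.ε_grHom
      (fun x hx => by
        rw [show x = (0 : M) from hεi ((LinearMap.mem_ker.1 hx).trans (map_zero ε).symm)]
        exact zero_mem _)
    refine ⟨ψ, ⟨hψ, ?_⟩, hψf⟩
    rw [h0]
    rintro _ ⟨m, rfl⟩
    rw [LinearMap.mem_ker, LinearMap.comp_apply, show ψ (ε m) = E.ε m from LinearMap.congr_fun hψf m]
    exact E.exact_zero.ge ⟨m, rfl⟩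
  have step : ∀ n (ψ : {ψ // P n ψ}), ∃ ψ' : {ψ' // P (n + 1) ψ'}, ψ'.1 ∘ₗ d n = E.d n ∘ₗ ψ.1 := by
    rintro n ⟨ψ, hψ, hker⟩
    obtain ⟨ψ', hψ', hψf⟩ := exists_factor (E.starInj (n + 1)) (d n) (hd n) (E.d n ∘ₗ ψ)
      (fun i x hx => E.d_grHom n i _ (hψ i x hx)) hker
    refine ⟨⟨ψ', hψ', ?_⟩, hψf⟩
    rw [hs]
    rintro _ ⟨m, rfl⟩
    rw [LinearMap.mem_ker, LinearMap.comp_apply,
      show ψ' (d n m) = E.d n (ψ m) from LinearMap.congr_fun hψf m]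
    exact (E.exact_succ n).ge ⟨_, rfl⟩
  choose ψ₀ hψ₀ hε₀ using base
  choose next hnext using step
  let seq : ∀ n, {ψ // P n ψ} := fun n => Nat.rec ⟨ψ₀, hψ₀⟩ (fun k ψ => next k ψ) n
  exact ⟨fun n => (seq n).1, fun n => (seq n).2.1, hε₀, fun n => hnext n (seq n)⟩

end Groth.Agent.GrInj
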