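import Mathlib
import Groth.Agent.GrInj.Basic
import Groth.Agent.GorLib.RingLevel

/-!
# Gorenstein at a prime from Gorenstein at its homogeneous core
-/

set_option autoImplicit false
universe u

namespace Groth.Agent.GrInj.GorGlobal

open LaurentPolynomial
open scoped DirectSum

variable {R : Type u} [CommRing R] (𝒜 : ℤ → AddSubgroup R) [GradedRing 𝒜]

/-- `r ↦ ∑ r_i T^{e i}`. -/
noncomputable def twist (e : ℤ) : R →+* R[T;T⁻¹] :=
  (DirectSum.toSemiring (fun i => (AddMonoidHom.mk' (fun x : 𝒜 i => C (x : R) * T (e * i))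
      fun x y => by simp [map_add, add_mul]))
    (by
      show C ((1 : R)) * T (e * 0) = 1
      rw [map_one, mul_zero, T_zero, one_mul])
    (fun {i j} x y => by
      show C ((x : R) * (y : R)) * T (e * (i + j)) = (C (x : R) * T (e * i)) * (C (y : R) * T (e * j))
      rw [map_mul, mul_add, T_add]; ring)).comp (DirectSum.decomposeRingEquiv 𝒜 : R ≃+* ⨁ i, 𝒜 i).toRingHom

theorem twist_of_mem (e : ℤ) {i : ℤ} {x : R} (hx : x ∈ 𝒜 i) : twist 𝒜 e x = C x * T (e * i) := by
  rw [twist, RingHom.comp_apply, show (DirectSum.decomposeRingEquiv 𝒜 : R ≃+* ⨁ i, 𝒜 i).toRingHom x =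
    DirectSum.of (fun i => 𝒜 i) i ⟨x, hx⟩ from DirectSum.decompose_of_mem 𝒜 hx, DirectSum.toSemiring_of]
  rfl

/-- The automorphism `r T^j ↦ twist r * T^j` of Laurent polynomials. -/
noncomputable def σ (e : ℤ) : R[T;T⁻¹] →+* R[T;T⁻¹] :=
  AddMonoidAlgebra.liftNCRingHom (twist 𝒜 e)
    { toFun := fun j => T j.toAdd, map_one' := T_zero, map_mul' := fun a b => T_add _ _ }
    fun _ _ => Commute.all _ _

theorem σ_C_mul_T (e : ℤ) (r : R) (j : ℤ) : σ 𝒜 e (C r * T j) = twist 𝒜 e r * T j := by
  rw [← single_eq_C_mul_T]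
  show AddMonoidAlgebra.liftNC _ _ (AddMonoidAlgebra.single j r) = _
  rw [AddMonoidAlgebra.liftNC_single]
  rfl

theorem σ_σ (e : ℤ) (f : R[T;T⁻¹]) : σ 𝒜 (-e) (σ 𝒜 e f) = f := by
  induction f using LaurentPolynomial.induction_on' with
  | add p q hp hq => rw [map_add, map_add, hp, hq]
  | C_mul_T j r =>
    induction r using GrInj.induction 𝒜 with
    | h0 => simp
    | hh i x hx =>
      rw [σ_C_mul_T, twist_of_mem 𝒜 e hx, mul_assoc, ← T_add, σ_C_mul_T, twist_of_mem 𝒜 (-e) hx, mul_assoc, ← T_add,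
        show -e * i + (e * i + j) = j by ring]
    | hadd p q hp hq => rw [map_add, add_mul, map_add, map_add, hp, hq]

/-- The automorphism. -/
noncomputable def σEquiv : R[T;T⁻¹] ≃+* R[T;T⁻¹] :=
  RingEquiv.ofRingHom (σ 𝒜 1) (σ 𝒜 (-1))
    (RingHom.ext fun f => by
      rw [RingHom.comp_apply, RingHom.id_apply]
      have h := σ_σ 𝒜 (-1) f
      rw [neg_neg] at h
      exact h)
    (RingHom.ext fun f => by rw [RingHom.comp_apply, RingHom.id_apply]; exact σ_σ 𝒜 1 f)

theorem coeff_twist (e : ℤ) (he : e = 1 ∨ e = -1) (r : R) (j : ℤ) :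
    (twist 𝒜 e r).coeff (e * j) = GrInj.pr 𝒜 j r := by
  induction r using GrInj.induction 𝒜 with
  | h0 => simp
  | hh i x hx =>
    rw [twist_of_mem 𝒜 e hx, ← single_eq_C_mul_T, AddMonoidAlgebra.coeff_single, Finsupp.single_apply]
    rcases eq_or_ne i j with rfl | h
    · rw [if_pos rfl, GrInj.pr_of_mem hx]
    · rw [if_neg (by rcases he with rfl | rfl <;> omega), GrInj.pr_of_ne hx h]
  | hadd p q hp hq => rw [map_add, map_add, AddMonoidAlgebra.coeff_add, Finsupp.add_apply, hp, hq]

theorem isGorensteinRing_laurent (k : Type u) [Field k] [IsNoetherianRing k[T;T⁻¹]] :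
    LocCoh.IsGorensteinRing k[T;T⁻¹] := by
  haveI := GorLib.isGorensteinRing_field k
  haveI := GorLib.isGorensteinRing_mvPolynomial k 1
  haveI : LocCoh.IsGorensteinRing (Polynomial k) :=
    SegreOne.isGorensteinRing_of_ringEquiv (MvPolynomial.uniqueAlgEquiv k (Fin 1)).toRingEquiv
  refine { isGorensteinLocalRing_localization := fun Q _ => ?_ }
  let Q' := Q.comap (algebraMap (Polynomial k) k[T;T⁻¹])
  haveI := LocCoh.IsGorensteinRing.isGorensteinLocalRing_localization (A := Polynomial k) Q'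
  haveI : IsLocalization.AtPrime (Localization.AtPrime Q) Q' :=
    IsLocalization.isLocalization_isLocalization_atPrime_isLocalization (Submonoid.powers (Polynomial.X : Polynomial k))
      (Localization.AtPrime Q) Q
  exact SegreOne.isGorensteinLocalRing_of_ringEquiv
    (IsLocalization.algEquiv Q'.primeCompl (Localization.AtPrime Q') (Localization.AtPrime Q)).toRingEquiv

theorem gorenstein_transport {A B : Type u} [CommRing A] [CommRing B] (s : A ≃+* B) (P : Ideal A) [P.IsPrime]
    (Q : Ideal B) [Q.IsPrime] (hPQ : ∀ x, x ∈ P ↔ s x ∈ Q) (h : LocCoh.IsGorensteinLocalRing (Localization.AtPrime P)) :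
    LocCoh.IsGorensteinLocalRing (Localization.AtPrime Q) := by
  have H : P.primeCompl.map s.toMonoidHom = Q.primeCompl := by
    ext f
    constructor
    · rintro ⟨g, hg, rfl⟩
      exact fun hmem => hg ((hPQ g).2 hmem)
    · intro hf
      refine ⟨s.symm f, fun hmem => hf ?_, s.apply_symm_apply f⟩
      simpa using (hPQ _).1 hmem
  haveI := h
  let eq : Localization.AtPrime P ≃+* Localization.AtPrime Q :=
    IsLocalization.ringEquivOfRingEquiv (M := P.primeCompl) (T := Q.primeCompl)
      (Localization.AtPrime P) (Localization.AtPrime Q) s H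
  exact (GorLib.gorenstein_iff_of_ringEquiv (A := Localization.AtPrime P) eq).1 inferInstance

/-- If the ring is Gorenstein at the core of a prime then it is Gorenstein at the prime. -/
theorem gorenstein_of_core [IsNoetherianRing R] (p : Ideal R) [p.IsPrime] (p₀ : Ideal R) [p₀.IsPrime]
    (hp₀ : ∀ r, r ∈ p₀ ↔ ∀ i, GrInj.pr 𝒜 i r ∈ p)
    (h : LocCoh.IsGorensteinLocalRing (Localization.AtPrime p₀)) :
    LocCoh.IsGorensteinLocalRing (Localization.AtPrime p) := by
  haveI : IsNoetherianRing (Polynomial R) := inferInstance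
  haveI : IsNoetherianRing R[T;T⁻¹] :=
    IsLocalization.isNoetherianRing (Submonoid.powers (Polynomial.X : Polynomial R)) _ inferInstance
  haveI : Module.Free R R[T;T⁻¹] := Module.Free.of_equiv (AddMonoidAlgebra.coeffLinearEquiv R).symm
  let μ : R[T;T⁻¹] →+* (R ⧸ p)[T;T⁻¹] := AddMonoidAlgebra.mapRingHom ℤ (Ideal.Quotient.mk p)
  let Q : Ideal R[T;T⁻¹] := RingHom.ker μ
  haveI : Q.IsPrime := RingHom.ker_isPrime μ
  have hQ : ∀ f, f ∈ Q ↔ ∀ j, f.coeff j ∈ p := fun f => by
    rw [RingHom.mem_ker]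
    constructor
    · intro hf j
      have := congrArg (fun g => AddMonoidAlgebra.coeff g j) hf
      simpa [μ, Ideal.Quotient.eq_zero_iff_mem] using this
    · intro hf
      refine AddMonoidAlgebra.ext (Finsupp.ext fun j => ?_)
      simpa [μ, Ideal.Quotient.eq_zero_iff_mem] using hf j
  let P : Ideal R[T;T⁻¹] := Q.comap (σEquiv 𝒜).symm.toRingHom
  haveI : P.IsPrime := Ideal.comap_isPrime _ _
  have hPc : P.comap (algebraMap R R[T;T⁻¹]) = p₀ := by
    ext r
    rw [Ideal.mem_comap, Ideal.mem_comap, hQ, hp₀]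
    have e : (σEquiv 𝒜).symm.toRingHom (algebraMap R R[T;T⁻¹] r) = twist 𝒜 (-1) r := by
      show σ 𝒜 (-1) (algebraMap R R[T;T⁻¹] r) = _
      rw [← C_eq_algebraMap, ← mul_one (C r), ← T_zero, σ_C_mul_T, T_zero, mul_one]
    rw [e]
    constructor
    · intro hr i
      rw [← coeff_twist 𝒜 (-1) (Or.inr rfl)]; exact hr _
    · intro hr j
      obtain ⟨i, rfl⟩ : ∃ i, j = -1 * i := ⟨-j, by ring⟩
      rw [coeff_twist 𝒜 (-1) (Or.inr rfl)]; exact hr _
  have hQc : Q.comap (algebraMap R R[T;T⁻¹]) = p := by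
    ext r
    rw [Ideal.mem_comap, hQ, ← C_eq_algebraMap, ← single_eq_C]
    constructor
    · intro hr; simpa using hr 0
    · intro hr j
      rw [AddMonoidAlgebra.coeff_single, Finsupp.single_apply]
      split_ifs
      exacts [hr, zero_mem _]
  have hP : LocCoh.IsGorensteinLocalRing (Localization.AtPrime P) := by
    rw [GorLib.gorenstein_atPrime_iff (A := R) P]
    refine ⟨?_, ?_⟩
    · have key : ∀ (q : Ideal R) [q.IsPrime], q = p₀ → LocCoh.IsGorensteinLocalRing (Localization.AtPrime q) := by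
        rintro q _ rfl; exact h
      exact key _ hPc
    · obtain ⟨Q', _, ⟨eq⟩⟩ := FlatAscent.exists_fibre_prime (A := R) P
      let k := (P.comap (algebraMap R R[T;T⁻¹])).ResidueField
      haveI : IsNoetherianRing k[T;T⁻¹] :=
        IsLocalization.isNoetherianRing (Submonoid.powers (Polynomial.X : Polynomial k)) _ inferInstance
      haveI := isGorensteinRing_laurent k
      haveI : LocCoh.IsGorensteinRing ((P.comap (algebraMap R R[T;T⁻¹])).Fiber R[T;T⁻¹]) :=
        SegreOne.isGorensteinRing_of_ringEquiv (AddMonoidAlgebra.scalarTensorEquiv R k (M := ℤ)).symm.toRingEquiv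
      haveI := LocCoh.IsGorensteinRing.isGorensteinLocalRing_localization
        (A := (P.comap (algebraMap R R[T;T⁻¹])).Fiber R[T;T⁻¹]) Q'
      exact (GorLib.gorenstein_iff_of_ringEquiv (A := Localization.AtPrime Q') eq).1 inferInstance
  have hQG : LocCoh.IsGorensteinLocalRing (Localization.AtPrime Q) :=
    gorenstein_transport (σEquiv 𝒜).symm P Q (fun x => Iff.rfl) hP
  rw [GorLib.gorenstein_atPrime_iff (A := R) Q] at hQG
  have key : ∀ (q : Ideal R) [q.IsPrime], q = p → LocCoh.IsGorensteinLocalRing (Localization.AtPrime q) →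
      LocCoh.IsGorensteinLocalRing (Localization.AtPrime p) := by
    rintro q _ rfl h'; exact h'
  exact key _ hQc hQG.1

end Groth.Agent.GrInj.GorGlobal
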