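import Mathlib
import Groth.Prelude.Def_GrLC2
import Groth.Agent.LocCohLib.Basic
import Groth.Agent.DepthLib.Ext
import Groth.Agent.DepthLib.CohenMacaulay
import Groth.Agent.GorLib.Artin
import Groth.Agent.GorLib.RingLevel

/-!
# Type of a local ring and the Gorenstein property
-/

set_option autoImplicit false
universe u

namespace Groth.Agent.GrInj.LocalType

open CategoryTheory IsLocalRing
open scoped Pointwise
open CategoryTheory.Abelian (Ext)

variable {A : Type u} [CommRing A] [IsLocalRing A] [IsNoetherianRing A]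

/-- The elements killed by the maximal ideal. -/
noncomputable def socle (M : Type u) [AddCommGroup M] [Module A M] : Submodule A M :=
  Submodule.torsionBySet A M (maximalIdeal A)

theorem length_hom (M : Type u) [AddCommGroup M] [Module A M] :
    Module.length A (Ext.{u} (ModuleCat.of A (ResidueField A)) (ModuleCat.of A M) 0) =
      Module.length A (socle (A := A) M) := by
  rw [((Ext.linearEquiv₀ (R := A)).trans ModuleCat.homLinearEquiv).length_eq]
  let ev : (ResidueField A →ₗ[A] M) →ₗ[A] M := LinearMap.applyₗ (1 : ResidueField A)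
  have h1 : ∀ z : A, residue A z = z • (1 : ResidueField A) := fun z => by rw [Algebra.smul_def, mul_one]; rfl
  have hev : Function.Injective ev := fun φ ψ h => LinearMap.ext fun z => by
    obtain ⟨z, rfl⟩ := IsLocalRing.residue_surjective z
    rw [h1, map_smul, map_smul]
    exact congrArg (z • ·) h
  have hrange : LinearMap.range ev = socle (A := A) M := by
    apply le_antisymm
    · rintro _ ⟨φ, rfl⟩
      rw [socle, Submodule.mem_torsionBySet_iff]
      rintro ⟨a, ha⟩
      show a • φ 1 = 0
      rw [← map_smul, ← h1, show residue A a = 0 from Ideal.Quotient.eq_zero_iff_mem.2 ha, map_zero]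
    · intro x hx
      have hker : maximalIdeal A ≤ LinearMap.ker (LinearMap.toSpanSingleton A M x) := fun a ha => by
        rw [socle, Submodule.mem_torsionBySet_iff] at hx
        exact hx ⟨a, ha⟩
      exact ⟨Submodule.liftQ (maximalIdeal A) (LinearMap.toSpanSingleton A M x) hker, one_smul A x⟩
  rw [(LinearEquiv.ofInjective ev hev).length_eq, hrange]

/-- Rees: the first nonvanishing `Ext` is the socle modulo a regular sequence. -/
theorem length_ext_regular : ∀ (t : ℕ) (rs : List A) (M : Type u) [AddCommGroup M] [Module A M] [Module.Finite A M],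
    rs.length = t → RingTheory.Sequence.IsWeaklyRegular M rs → (∀ r ∈ rs, r ∈ maximalIdeal A) →
    Module.length A (Ext.{u} (ModuleCat.of A (ResidueField A)) (ModuleCat.of A M) t) =
      Module.length A (socle (A := A) (M ⧸ Ideal.ofList rs • (⊤ : Submodule A M))) := by
  intro t
  induction t with
  | zero =>
    intro rs M _ _ _ hl _ _
    obtain rfl := List.eq_nil_of_length_eq_zero hl
    let e : (M ⧸ Ideal.ofList ([] : List A) • (⊤ : Submodule A M)) ≃ₗ[A] M :=
      Submodule.quotEquivOfEqBot _ (by simp)
    rw [← length_hom, ((Ext.linearEquiv₀ (R := A)).trans ModuleCat.homLinearEquiv).length_eq,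
      ((Ext.linearEquiv₀ (R := A)).trans ModuleCat.homLinearEquiv).length_eq]
    exact (LinearEquiv.congrRight e).symm.length_eq
  | succ t ih =>
    intro rs M _ _ _ hl hreg hmem
    cases rs with
    | nil => simp at hl
    | cons r rs =>
    obtain ⟨hr, hreg'⟩ := (RingTheory.Sequence.isWeaklyRegular_cons_iff _ _ _).1 hreg
    have hrm : r ∈ maximalIdeal A := hmem r List.mem_cons_self
    let P : Submodule A M := LinearMap.range (LinearMap.lsmul A M r)
    have hPe : P = r • (⊤ : Submodule A M) := (Submodule.map_top _).symm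
    let S : ShortComplex (ModuleCat.{u} A) := ShortComplex.mk (ModuleCat.ofHom (LinearMap.lsmul A M r))
      (ModuleCat.ofHom (X := M) P.mkQ)
      (ModuleCat.hom_ext (LinearMap.ext fun x => (Submodule.Quotient.mk_eq_zero P).2 ⟨x, rfl⟩))
    have hS : S.ShortExact :=
      { exact := (ShortComplex.ShortExact.moduleCat_exact_iff_function_exact _).2 fun x =>
          ⟨fun h => (Submodule.Quotient.mk_eq_zero P).1 h, fun h => (Submodule.Quotient.mk_eq_zero P).2 h⟩
        mono_f := (ModuleCat.mono_iff_injective _).2 hr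
        epi_g := (ModuleCat.epi_iff_surjective _).2 P.mkQ_surjective }
    have hsmul : ∀ (i : ℕ) (x : Ext.{u} (ModuleCat.of A (ResidueField A)) S.X₁ i),
        x.comp (Ext.mk₀ S.f) (add_zero i) = 0 := fun i x => by
      have hf : S.f = r • 𝟙 (ModuleCat.of A M) := ModuleCat.hom_ext (LinearMap.ext fun y => rfl)
      have hN : r • 𝟙 (ModuleCat.of A (ResidueField A)) = 0 := ModuleCat.hom_ext (LinearMap.ext fun y => by
        obtain ⟨y, rfl⟩ := IsLocalRing.residue_surjective y
        show r • residue A y = 0
        rw [Algebra.smul_def]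
        show residue A r * residue A y = 0
        rw [show residue A r = 0 from Ideal.Quotient.eq_zero_iff_mem.2 hrm, zero_mul])
      rw [hf, Ext.mk₀_smul, Ext.comp_smul, Ext.comp_mk₀_id]
      conv_lhs => rw [← Ext.mk₀_id_comp x, ← Ext.smul_comp, ← Ext.mk₀_smul, hN, Ext.mk₀_zero, Ext.zero_comp]
    have hd : ((t + 1 : ℕ) : ℕ∞) ≤ LocCoh.idealDepth (maximalIdeal A) M := by
      have := DepthLib.le_idealDepth_of_isWeaklyRegular (I := maximalIdeal A) _ hreg hmem
      rwa [hl] at this
    have hvan : Subsingleton (Ext.{u} (ModuleCat.of A (ResidueField A)) S.X₂ t) :=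
      (DepthLib.natCast_le_idealDepth_iff_ext _ M (t + 1)).1 hd t (Nat.lt_succ_self t)
    let δ := LocCohLib.postL hS.extClass (ModuleCat.of A (ResidueField A)) t (t + 1) rfl
    have hbij : Function.Bijective δ := by
      refine ⟨(injective_iff_map_eq_zero _).2 fun y hy => ?_, fun x => ?_⟩
      · obtain ⟨z, hz⟩ := Ext.covariant_sequence_exact₃ _ hS y rfl hy
        rw [← hz, @Subsingleton.elim _ hvan z 0, Ext.zero_comp]
      · obtain ⟨y, hy⟩ := Ext.covariant_sequence_exact₁ _ hS x (hsmul _ x) rfl
        exact ⟨y, hy⟩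
    have hreg'' : RingTheory.Sequence.IsWeaklyRegular (M ⧸ P) rs :=
      ((Submodule.quotEquivOfEq _ _ hPe.symm).isWeaklyRegular_congr rs).1 hreg'
    have h1 := ih rs (M ⧸ P) (by simpa using hl) hreg'' fun x hx => hmem x (List.mem_cons_of_mem _ hx)
    refine ((LinearEquiv.ofBijective δ hbij).length_eq.symm.trans h1).trans ?_
    have hker : LinearMap.ker ((Ideal.ofList rs • (⊤ : Submodule A (M ⧸ P))).mkQ ∘ₗ P.mkQ) =
        Ideal.ofList (r :: rs) • (⊤ : Submodule A M) := by
      rw [LinearMap.ker_comp, Submodule.ker_mkQ,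
        show Ideal.ofList rs • (⊤ : Submodule A (M ⧸ P)) = Submodule.map P.mkQ (Ideal.ofList rs • ⊤) by
          rw [Submodule.map_smul'', Submodule.map_top, LinearMap.range_eq_top.2 P.mkQ_surjective],
        Submodule.comap_map_eq, Submodule.ker_mkQ, hPe, Ideal.ofList_cons_smul, sup_comm]
    let e := (Submodule.quotEquivOfEq _ _ hker.symm).trans
      (LinearMap.quotKerEquivOfSurjective _ ((Submodule.mkQ_surjective _).comp P.mkQ_surjective))
    rw [← length_hom, ← length_hom, ((Ext.linearEquiv₀ (R := A)).trans ModuleCat.homLinearEquiv).length_eq,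
      ((Ext.linearEquiv₀ (R := A)).trans ModuleCat.homLinearEquiv).length_eq]
    exact (LinearEquiv.congrRight e).symm.length_eq

/-- A Cohen–Macaulay local ring is Gorenstein iff its type is one. -/
theorem gorenstein_iff_length_ext [LocCoh.IsCohenMacaulayLocalRing A] {n : ℕ} (hn : ringKrullDim A = n) :
    LocCoh.IsGorensteinLocalRing A ↔
      Module.length A (Ext.{u} (ModuleCat.of A (ResidueField A)) (ModuleCat.of A A) n) = 1 := by
  have hd : (n : ℕ∞) ≤ LocCoh.idealDepth (maximalIdeal A) A := by
    have := (DepthLib.ringKrullDim_eq_depth (R := A)).symm.trans hn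
    have h2 : LocCoh.depth A A = (n : ℕ∞) := by exact_mod_cast this
    exact h2.ge
  have htop : maximalIdeal A • (⊤ : Submodule A A) ≠ ⊤ := by
    rw [smul_eq_mul, Ideal.mul_top]; exact (maximalIdeal.isMaximal A).ne_top
  obtain ⟨rs, hl, hreg, hmem⟩ := DepthLib.exists_isWeaklyRegular_of_natCast_le_idealDepth htop n hd
  have hle : Ideal.ofList rs ≤ maximalIdeal A := Ideal.span_le.2 fun r hr => hmem r hr
  let J := Ideal.ofList rs
  haveI := GorLib.isLocalRing_quotient (I := J) hle
  have hR : RingTheory.Sequence.IsRegular A rs := ⟨hreg, fun h => htop (top_le_iff.1 (h.le.trans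
    (Submodule.smul_mono hle le_rfl)))⟩
  have hdim : ringKrullDim (A ⧸ J) = 0 := by
    have h := ringKrullDim_add_length_eq_ringKrullDim_of_isRegular rs hR
    rw [hl, hn] at h
    exact DepthLib.withBot_add_one_cancel (a := ringKrullDim (A ⧸ J)) (b := 0) (by
      clear hd htop hle hR
      revert h
      generalize ringKrullDim (A ⧸ J) = x
      intro h
      induction x with
      | bot => simp at h
      | coe x =>
        have h' : x + (n : ℕ∞) = n := by exact_mod_cast h
        have : x = 0 := by
          induction x with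
          | top => simp at h'
          | coe x => norm_cast at h' ⊢; omega
        subst this; rfl)
  haveI : Ring.KrullDimLE 0 (A ⧸ J) := Ring.krullDimLE_iff.2 hdim.le
  haveI : IsArtinianRing (A ⧸ J) := isArtinianRing_iff_isNoetherianRing_krullDimLE_zero.2 ⟨inferInstance, inferInstance⟩
  rw [GorLib.isGorensteinLocalRing_quotient_ofList_iff n rs hl hreg hmem, length_ext_regular n rs A hl hreg hmem]
  let e : (A ⧸ Ideal.ofList rs • (⊤ : Submodule A A)) ≃ₗ[A] (A ⧸ J) :=
    Submodule.quotEquivOfEq _ _ (by rw [smul_eq_mul, Ideal.mul_top])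
  have hsoc : ∀ a : A ⧸ J, GorLib.IsSocle a ↔ a ∈ socle (A := A) (A ⧸ J) := fun a => by
    rw [socle, Submodule.mem_torsionBySet_iff]
    constructor
    · intro h x
      show Ideal.Quotient.mk J x * a = 0
      refine h _ ?_
      rw [← IsLocalRing.map_maximalIdeal_of_surjective (Ideal.Quotient.mk J) Ideal.Quotient.mk_surjective]
      exact Ideal.mem_map_of_mem _ x.2
    · intro h x hx
      rw [← IsLocalRing.map_maximalIdeal_of_surjective (Ideal.Quotient.mk J) Ideal.Quotient.mk_surjective] at hx
      obtain ⟨y, hy, rfl⟩ := (Ideal.mem_map_iff_of_surjective _ Ideal.Quotient.mk_surjective).1 hx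
      exact h ⟨y, hy⟩
  have hlen : Module.length A (socle (A := A) (A ⧸ Ideal.ofList rs • (⊤ : Submodule A A))) =
      Module.length A (socle (A := A) (A ⧸ J)) := by
    rw [← length_hom, ← length_hom, ((Ext.linearEquiv₀ (R := A)).trans ModuleCat.homLinearEquiv).length_eq,
      ((Ext.linearEquiv₀ (R := A)).trans ModuleCat.homLinearEquiv).length_eq]
    exact (LinearEquiv.congrRight e).length_eq
  rw [hlen, Module.length_eq_one_iff]
  obtain ⟨s, hs, hs0⟩ := GorLib.exists_socle_ne_zero (A ⧸ J)
  constructor
  · intro h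
    haveI := h
    have hc := GorLib.socleCyclic_of_gorenstein (A := A ⧸ J)
    haveI : Nontrivial (socle (A := A) (A ⧸ J)) :=
      ⟨⟨⟨s, (hsoc s).1 hs⟩, 0, fun h => hs0 (congrArg Subtype.val h)⟩⟩
    refine isSimpleModule_iff_toSpanSingleton_surjective.2 ⟨inferInstance, fun a ha0 b => ?_⟩
    obtain ⟨r, hr⟩ := hc a b ((hsoc _).2 a.2) ((hsoc _).2 b.2) fun h => ha0 (Subtype.ext h)
    obtain ⟨r, rfl⟩ := Ideal.Quotient.mk_surjective r
    exact ⟨r, Subtype.ext hr.symm⟩
  · intro h
    refine GorLib.gorenstein_of_socleCyclic fun a b ha hb ha0 => ?_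
    obtain ⟨r, hr⟩ := IsSimpleModule.toSpanSingleton_surjective A
      (show (⟨a, (hsoc a).1 ha⟩ : socle (A := A) (A ⧸ J)) ≠ 0 from fun h => ha0 (congrArg Subtype.val h))
      ⟨b, (hsoc b).1 hb⟩
    exact ⟨Ideal.Quotient.mk J r, (congrArg Subtype.val hr).symm⟩

end Groth.Agent.GrInj.LocalType
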