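import Groth.Agent.GrInj.Regularity
import Mathlib.RingTheory.Regular.RegularSequence

/-!
# The end of the top cohomology modulo regular homogeneous elements
-/

set_option autoImplicit false
set_option linter.unusedSectionVars false
universe u

namespace Groth.Agent.GrInj

open GrLC
open scoped Pointwise

variable {R : Type u} [CommRing R] [IsNoetherianRing R] {𝒜 : ℤ → AddSubgroup R} [GradedRing 𝒜]
variable {M : Type u} [AddCommGroup M] [Module R M] {ℳ : ℤ → AddSubgroup M} [DirectSum.Decomposition ℳ]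
  [SetLike.GradedSMul 𝒜 ℳ]
variable {N : Type u} [AddCommGroup N] [Module R N] {𝒩 : ℤ → AddSubgroup N} [DirectSum.Decomposition 𝒩]
  [SetLike.GradedSMul 𝒜 𝒩]
variable {a : HomogeneousIdeal 𝒜}

/-- A resolution transported along a graded isomorphism. -/
noncomputable def resCongr (E : StarInjRes 𝒜 ℳ) (e : M ≃ₗ[R] N) (he : IsGrHom 𝒩 ℳ e.symm.toLinearMap) :
    StarInjRes 𝒜 𝒩 where
  X := E.X
  d := E.d
  ε := E.ε ∘ₗ e.symm.toLinearMap
  d_grHom := E.d_grHom
  ε_grHom i m hm := E.ε_grHom i _ (he i m hm)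
  ε_injective := E.ε_injective.comp e.symm.injective
  exact_zero := by rw [LinearMap.range_comp, LinearEquiv.range, Submodule.map_top, E.exact_zero]
  exact_succ := E.exact_succ
  starInj := E.starInj

theorem endDeg_congr {A B : Type u} [AddCommGroup A] [AddCommGroup B] {𝒳 : ℤ → AddSubgroup A}
    {𝒴 : ℤ → AddSubgroup B} (h : ∀ g, 𝒳 g = ⊥ ↔ 𝒴 g = ⊥) : endDeg 𝒳 = endDeg 𝒴 := by
  unfold endDeg
  exact iSup_congr fun g => iSup_congr_Prop (not_congr (h g)) fun _ => rfl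

theorem endDeg_H_congr (E : StarInjRes 𝒜 ℳ) (F : StarInjRes 𝒜 ℳ) (i : ℕ) :
    endDeg (E.Hgr a i) = endDeg (F.Hgr a i) := by
  obtain ⟨e, he, he', -⟩ := exists_indEquiv E a F i
  refine endDeg_congr fun g => ?_
  constructor
  · intro h
    refine eq_bot_iff.2 fun c hc => AddSubgroup.mem_bot.2 ?_
    exact e.symm.map_eq_zero_iff.1 (AddSubgroup.mem_bot.1 (h.le (he' g c hc)))
  · intro h
    refine eq_bot_iff.2 fun c hc => AddSubgroup.mem_bot.2 ?_
    exact e.map_eq_zero_iff.1 (AddSubgroup.mem_bot.1 (h.le (he g c hc)))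

theorem endDeg_H_of_bijective (E : StarInjRes 𝒜 ℳ) (F : StarInjRes 𝒜 𝒩) (π : M →ₗ[R] N)
    (hπ : IsGrHom ℳ 𝒩 π) (hb : Function.Bijective π) (i : ℕ) :
    endDeg (F.Hgr a i) = endDeg (E.Hgr a i) := by
  obtain ⟨e, he⟩ : ∃ e : M ≃ₗ[R] N, e.toLinearMap = π := ⟨LinearEquiv.ofBijective π hb, rfl⟩
  have hs : IsGrHom 𝒩 ℳ e.symm.toLinearMap := fun g n hn =>
    inverse_grHom hπ hb.1 (m := e.symm n) (by rw [← he]; simpa using hn)
  exact endDeg_H_congr F (resCongr E e hs) i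

theorem exists_pow_smul_eq_zero (E : StarInjRes 𝒜 ℳ) {i : ℕ} {x : R} (hx : x ∈ a.toIdeal) (c : E.H a i) :
    ∃ K : ℕ, x ^ K • c = 0 := by
  obtain ⟨z, rfl⟩ := Submodule.mkQ_surjective _ c
  obtain ⟨⟨K, hK⟩, -⟩ := z.2
  refine ⟨K, ?_⟩
  have h : x ^ K • z = 0 := Subtype.ext (hK _ (Ideal.pow_mem_pow hx K))
  rw [← map_smul, h, map_zero]

section Step
variable {x : R} {k : ℤ} (hxk : x ∈ 𝒜 k) (hxm : x ∈ a.toIdeal) (hxr : IsSMulRegular M x)
  {π : M →ₗ[R] N} (hπ : IsGrHom ℳ 𝒩 π) (hπs : Function.Surjective π)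
  (hπk : LinearMap.ker π = LinearMap.range (LinearMap.lsmul R M x))
  (hpos : ∀ n : ℤ, n < 0 → 𝒜 n = ⊥) (E : StarInjRes 𝒜 ℳ) (F : StarInjRes 𝒜 𝒩)

include hxk hxr hπ hπs hπk in
theorem subsingleton_step {n : ℕ} (hE : ∀ i < n + 1, Subsingleton (E.H a i)) :
    ∀ i < n, Subsingleton (F.H a i) := by
  intro i hi
  obtain ⟨δ, -, -, -, -, h3⟩ :=
    exists_les (a := a) hπ hπs hπk E (shiftRes E k) F (grHom_lsmul hxk) (fun p q h => hxr h)
  haveI := hE i (by omega)
  haveI : Subsingleton ((shiftRes E k).H a (i + 1)) := hE (i + 1) (by omega)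
  refine subsingleton_of_forall_eq 0 fun c => ?_
  obtain ⟨b, rfl⟩ := (h3 i).le (show δ i c = 0 from Subsingleton.elim _ _)
  rw [Subsingleton.elim b 0, map_zero]

include hxk hxm hxr hπ hπs hπk hpos in
theorem endDeg_step {n : ℕ} (hE : Subsingleton (E.H a n)) :
    endDeg (F.Hgr a n) = endDeg (E.Hgr a (n + 1)) + ((k : WithTop ℤ) : WithBot (WithTop ℤ)) := by
  have coeAdd : ∀ p q : ℤ, ((p : WithTop ℤ) : WithBot (WithTop ℤ)) + ((q : WithTop ℤ) : WithBot (WithTop ℤ)) =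
      (((p + q : ℤ) : WithTop ℤ) : WithBot (WithTop ℤ)) := fun p q => rfl
  obtain ⟨δ, hδ, -, h1, -, h3⟩ :=
    exists_les (a := a) hπ hπs hπk E (shiftRes E k) F (grHom_lsmul hxk) (fun p q h => hxr h)
  have hinj : ∀ c, δ n c = 0 → c = 0 := fun c hc => by
    obtain ⟨b, rfl⟩ := (h3 n).le hc
    rw [Subsingleton.elim b 0, map_zero]
  have hub : ∀ g, F.Hgr a n g ≠ ⊥ → E.Hgr a (n + 1) (g - k) ≠ ⊥ := fun g hg h => hg <| by
    refine eq_bot_iff.2 fun c hc => AddSubgroup.mem_bot.2 (hinj c ?_)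
    exact (AddSubgroup.mem_bot.1 (h.le ((mem_shiftRes_Hgr a).1 (hδ n g c hc))) : (δ n c : E.H a (n + 1)) = 0)
  have hlb : ∀ g, E.Hgr a (n + 1) g ≠ ⊥ → ∃ g', g + k ≤ g' ∧ F.Hgr a n g' ≠ ⊥ := by
    intro g hg
    obtain ⟨c, hc, hc0⟩ : ∃ c, c ∈ E.Hgr a (n + 1) g ∧ c ≠ 0 := by
      by_contra h
      exact hg (eq_bot_iff.2 fun c hc => AddSubgroup.mem_bot.2 (by_contra fun h' => h ⟨c, hc, h'⟩))
    obtain ⟨j, hj⟩ : ∃ j : ℕ, x ^ j • c ≠ 0 ∧ x • x ^ j • c = 0 := by
      classical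
      have hex := exists_pow_smul_eq_zero E hxm c
      obtain ⟨j, hj⟩ : ∃ j, Nat.find hex = j + 1 := ⟨Nat.find hex - 1, by
        have : Nat.find hex ≠ 0 := fun h0 => hc0 (by simpa [h0] using Nat.find_spec hex)
        omega⟩
      refine ⟨j, Nat.find_min hex (by omega), ?_⟩
      rw [smul_smul, ← pow_succ', ← hj]
      exact Nat.find_spec hex
    have hk : 0 ≤ k := by
      by_contra hk
      have hx0 : x = 0 := AddSubgroup.mem_bot.1 ((hpos k (by omega)).le hxk)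
      have : Subsingleton M := IsSMulRegular.subsingleton (hx0 ▸ hxr)
      obtain ⟨z, hz⟩ := Submodule.mkQ_surjective _ c
      haveI := subsingleton_of_torsion (E := E) (a := a) (fun m => ⟨0, fun r _ => Subsingleton.elim _ _⟩) n
      exact hc0 (Subsingleton.elim _ _)
    have hdeg : (x ^ j • c : E.H a (n + 1)) ∈ E.Hgr a (n + 1) (j • k + g) :=
      smul_mem_Hcomp E (SetLike.pow_mem_graded j hxk) hc
    refine ⟨j • k + g + k, by rw [nsmul_eq_mul]; nlinarith [Int.natCast_nonneg j], fun h => hj.1 ?_⟩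
    let v : (shiftRes E k).H a (n + 1) := (x ^ j • c : E.H a (n + 1))
    have hker : v ∈ LinearMap.range (δ n) :=
      (h1 n).le (show ind (shiftRes E k) E a _ (grHom_lsmul hxk) (n + 1) v = 0 from
        (ind_lsmul a hxk (n + 1) v).trans hj.2)
    obtain ⟨b, hb⟩ := hker
    letI := (S13225.isInternal_Hgr F a n).chooseDecomposition
    letI := (S13225.isInternal_Hgr (shiftRes E k) a (n + 1)).chooseDecomposition
    have hp := pr_grHom (hδ n) (j • k + g + k) b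
    rw [hb] at hp
    have hmem : v ∈ (shiftRes E k).Hgr a (n + 1) (j • k + g + k) := by
      refine (mem_shiftRes_Hgr a).2 ?_
      rw [add_sub_cancel_right]; exact hdeg
    rw [pr_of_mem hmem, AddSubgroup.mem_bot.1 (h.le (pr_mem (ℳ := F.Hgr a n) _ b)), map_zero] at hp
    exact hp
  refine le_antisymm (iSup₂_le fun g hg => ?_) ?_
  · calc ((g : WithTop ℤ) : WithBot (WithTop ℤ))
        = (((g - k : ℤ) : WithTop ℤ) : WithBot (WithTop ℤ)) + ((k : WithTop ℤ) : WithBot (WithTop ℤ)) := by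
          rw [coeAdd, sub_add_cancel]
      _ ≤ _ := add_le_add (le_iSup₂ (f := fun (m : ℤ) (_ : E.Hgr a (n + 1) m ≠ ⊥) =>
          ((m : WithTop ℤ) : WithBot (WithTop ℤ))) (g - k) (hub g hg)) le_rfl
  · refine (add_le_add (b := endDeg (F.Hgr a n) + (((-k : ℤ) : WithTop ℤ) : WithBot (WithTop ℤ)))
      (iSup₂_le fun g hg => ?_) le_rfl).trans (le_of_eq ?_)
    · obtain ⟨g', hle, hg'⟩ := hlb g hg
      calc ((g : WithTop ℤ) : WithBot (WithTop ℤ))
          ≤ ((g' : WithTop ℤ) : WithBot (WithTop ℤ)) + (((-k : ℤ) : WithTop ℤ) : WithBot (WithTop ℤ)) := by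
            rw [coeAdd]; exact WithBot.coe_le_coe.2 (WithTop.coe_le_coe.2 (by omega))
        _ ≤ _ := add_le_add (le_iSup₂ (f := fun (m : ℤ) (_ : F.Hgr a n m ≠ ⊥) =>
            ((m : WithTop ℤ) : WithBot (WithTop ℤ))) g' hg') le_rfl
    · rw [add_assoc, coeAdd, neg_add_cancel]
      exact add_zero _

end Step

/-- The end of the top cohomology modulo a regular sequence. -/
theorem endDeg_regular_quotient (hpos : ∀ n : ℤ, n < 0 → 𝒜 n = ⊥) :
    ∀ (t : ℕ) (f : Fin t → R) (deg : Fin t → ℤ), (∀ i, f i ∈ 𝒜 (deg i)) → (∀ i, f i ∈ a.toIdeal) →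
    ∀ (X : GMod.{u} 𝒜) (E : StarInjRes 𝒜 X.gr), RingTheory.Sequence.IsWeaklyRegular X.carrier (List.ofFn f) →
    ∀ (n : ℕ), (∀ i < n + t, Subsingleton (E.H a i)) →
    ∀ (N : Type u) [AddCommGroup N] [Module R N] (𝒩 : ℤ → AddSubgroup N) [DirectSum.Decomposition 𝒩]
      [SetLike.GradedSMul 𝒜 𝒩] (π : X.carrier →ₗ[R] N), IsGrHom X.gr 𝒩 π → Function.Surjective π →
      LinearMap.ker π = Ideal.ofList (List.ofFn f) • (⊤ : Submodule R X.carrier) →
      ∀ F : StarInjRes 𝒜 𝒩, endDeg (F.Hgr a n) =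
        endDeg (E.Hgr a (n + t)) + ((((Finset.univ : Finset (Fin t)).sum deg : ℤ) : WithTop ℤ) : WithBot (WithTop ℤ)) := by
  intro t
  induction t with
  | zero =>
    intro f deg _ _ X E _ n _ N _ _ 𝒩 _ _ π hπ hπs hπk F
    rw [List.ofFn_zero, Ideal.ofList_nil, Submodule.bot_smul] at hπk
    rw [endDeg_H_of_bijective E F π hπ ⟨LinearMap.ker_eq_bot.1 hπk, hπs⟩ n]
    exact (add_zero _).symm
  | succ t ih =>
    intro f deg hfd hfm X E hreg n hE N _ _ 𝒩 _ _ π hπ hπs hπk F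
    rw [List.ofFn_succ] at hreg hπk
    obtain ⟨hx, hreg'⟩ := (RingTheory.Sequence.isWeaklyRegular_cons_iff _ _ _).1 hreg
    rw [Ideal.ofList_cons_smul] at hπk
    have hP : (f 0 • (⊤ : Submodule R X.carrier)).IsHomogeneous X.gr := by
      have he : (f 0 • (⊤ : Submodule R X.carrier)) = LinearMap.range (LinearMap.lsmul R X.carrier (f 0)) := by
        rw [← Submodule.map_top]; rfl
      rw [he]; exact hom_range (grHom_lsmul (ℳ := X.gr) (hfd 0))
    let Y : GMod.{u} 𝒜 := quoMod 𝒜 (f 0 • (⊤ : Submodule R X.carrier)) hP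
    obtain ⟨G⟩ := S13215.result R 𝒜 Y.carrier Y.gr
    let ρ : X.carrier →ₗ[R] Y.carrier := Submodule.mkQ (f 0 • (⊤ : Submodule R X.carrier))
    have hρk : LinearMap.ker ρ = LinearMap.range (LinearMap.lsmul R X.carrier (f 0)) :=
      (Submodule.ker_mkQ _).trans (by rw [← Submodule.map_top]; rfl)
    have hρs : Function.Surjective ρ := Submodule.mkQ_surjective _
    have hρ : IsGrHom X.gr Y.gr ρ := grHom_quoMk hP
    have hG : ∀ i < n + t, Subsingleton (G.H a i) :=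
      subsingleton_step (hfd 0) hx hρ hρs hρk E G (n := n + t) fun i hi => hE i (by omega)
    let π' : Y.carrier →ₗ[R] N := (f 0 • (⊤ : Submodule R X.carrier)).liftQ π (by rw [hπk]; exact le_sup_left)
    have hπ' : IsGrHom Y.gr 𝒩 π' := by
      rintro g _ ⟨m, hm, rfl⟩
      exact hπ g m hm
    have hπ's : Function.Surjective π' := fun y => by
      obtain ⟨m, rfl⟩ := hπs y
      exact ⟨ρ m, rfl⟩
    have hπ'k : LinearMap.ker π' = Ideal.ofList (List.ofFn fun i : Fin t => f i.succ) • ⊤ := by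
      refine ((f 0 • (⊤ : Submodule R X.carrier)).ker_liftQ π _).trans ?_
      rw [hπk, Submodule.map_sup, Submodule.map_smul'' (Ideal.ofList (List.ofFn fun i : Fin t => f i.succ)) ⊤,
        Submodule.map_top, Submodule.range_mkQ, (eq_bot_iff.2 (Submodule.mkQ_map_self _).le), bot_sup_eq]
      rfl
    have h1 := ih (fun i => f i.succ) (fun i => deg i.succ) (fun i => hfd _) (fun i => hfm _) Y G hreg' n hG
      N 𝒩 π' hπ' hπ's hπ'k F
    have h2 := endDeg_step (hfd 0) (hfm 0) hx hρ hρs hρk hpos E G (n := n + t) (hE _ (by omega))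
    rw [h1, h2, add_assoc, Fin.sum_univ_succ]
    rfl

end Groth.Agent.GrInj
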