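import Mathlib
import Groth.Agent.S13240
import Groth.Agent.GrInj.TopShift
import Groth.Agent.S13225

/-!
# Bass numbers as socles of local cohomology
-/

set_option autoImplicit false
universe u

namespace Groth.Agent.GrInj

open GrLC

section Min
variable {ι : Type} [AddCommGroup ι] [DecidableEq ι] {R : Type u} [CommRing R]
  {𝒜 : ι → AddSubgroup R} [GradedRing 𝒜] (Y : GMod.{u} 𝒜)

/-- A *injective envelope. -/
noncomputable def hullMod : GMod.{u} 𝒜 := (exists_hull 𝒜 Y.gr).choose

/-- The envelope map. -/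
noncomputable def hullInc : Y.carrier →ₗ[R] (hullMod Y).carrier := (exists_hull 𝒜 Y.gr).choose_spec.choose

theorem hullInc_spec : IsStarInjHull 𝒜 Y.gr (hullMod Y).gr (hullInc Y) :=
  (exists_hull 𝒜 Y.gr).choose_spec.choose_spec

/-- The cokernel of the envelope. -/
noncomputable def hullNext : GMod.{u} 𝒜 :=
  quoMod 𝒜 (LinearMap.range (hullInc Y)) (hom_range (hullInc_spec Y).grHom)

/-- The projection to the cokernel. -/
noncomputable def hullPrj : (hullMod Y).carrier →ₗ[R] (hullNext Y).carrier :=
  quoMk 𝒜 (LinearMap.range (hullInc Y)) (hom_range (hullInc_spec Y).grHom)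

theorem hullPrj_surjective : Function.Surjective (hullPrj Y) :=
  Submodule.mkQ_surjective (LinearMap.range (hullInc Y))

theorem grHom_hullPrj : IsGrHom (hullMod Y).gr (hullNext Y).gr (hullPrj Y) :=
  grHom_quoMk (hom_range (hullInc_spec Y).grHom)

theorem hullMod_starInj : IsStarInj 𝒜 (hullMod Y).gr := (hullInc_spec Y).starInj

/-- The differential. -/
noncomputable def hullD : (hullMod Y).carrier →ₗ[R] (hullMod (hullNext Y)).carrier :=
  hullInc (hullNext Y) ∘ₗ hullPrj Y

theorem ker_hullD : LinearMap.ker (hullD Y) = LinearMap.range (hullInc Y) :=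
  (LinearMap.ker_comp_of_ker_eq_bot (hullPrj Y)
    (LinearMap.ker_eq_bot.2 (hullInc_spec (hullNext Y)).injective)).trans
    (Submodule.ker_mkQ (LinearMap.range (hullInc Y)))

theorem range_hullD : LinearMap.range (hullD Y) = LinearMap.range (hullInc (hullNext Y)) :=
  LinearMap.range_comp_of_range_eq_top (hullInc (hullNext Y)) (LinearMap.range_eq_top.2 (hullPrj_surjective Y))

theorem essential_hullD (P : Submodule R (hullMod Y).carrier) (hP : P.IsHomogeneous (hullMod Y).gr) (hP0 : P ≠ ⊥) :
    P ⊓ LinearMap.ker (hullD Y) ≠ ⊥ := by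
  rw [ker_hullD]
  exact (hullInc_spec Y).essential P hP hP0

/-- Minimal *injective resolutions exist. -/
theorem exists_minRes : ∃ E : StarInjRes 𝒜 Y.gr, ∀ (n : ℕ) (P : Submodule R (E.X n).carrier),
    P.IsHomogeneous (E.X n).gr → P ≠ ⊥ → P ⊓ LinearMap.ker (E.d n) ≠ ⊥ := by
  let C : ℕ → GMod.{u} 𝒜 := fun n => Nat.rec Y (fun _ Z => hullNext Z) n
  refine ⟨{
    X := fun n => hullMod (C n)
    d := fun n => hullD (C n)
    ε := hullInc Y
    d_grHom := fun n i m hm => (hullInc_spec (hullNext (C n))).grHom i _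
      (grHom_hullPrj (C n) i m hm)
    ε_grHom := (hullInc_spec Y).grHom
    ε_injective := (hullInc_spec Y).injective
    exact_zero := ker_hullD Y
    exact_succ := fun n => (ker_hullD (hullNext (C n))).trans (range_hullD (C n)).symm
    starInj := fun n => hullMod_starInj (C n) }, fun n P hP hP0 => ?_⟩
  exact essential_hullD (C n) P hP hP0

end Min

section Soc
variable {R : Type u} [CommRing R] [IsNoetherianRing R] {p : Ideal R} [p.IsMaximal]
  (Z : Type u) [AddCommGroup Z] [Module R Z]

/-- The socle at a maximal ideal computed before localising. -/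
theorem length_soc_eq :
    Module.length (Localization.AtPrime p) (GrBassZero.soc p Z) = Module.length R (Submodule.torsionBySet R Z p) := by
  classical
  let A := Localization.AtPrime p
  let L := LocalizedModule p.primeCompl Z
  have hinv : ∀ s : p.primeCompl, ∃ t : R, ∃ i ∈ p, t * (s : R) + i = 1 := fun s =>
    Ideal.IsMaximal.exists_inv inferInstance s.2
  have hmem : ∀ z : Submodule.torsionBySet R Z p, LocalizedModule.mk (z : Z) 1 ∈ GrBassZero.soc p Z := fun z =>
    GrBassZero.mk_mem_soc p (fun a ha => (Submodule.mem_torsionBySet_iff _ _).1 z.2 ⟨a, ha⟩) 1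
  let τ : Submodule.torsionBySet R Z p →ₗ[R] GrBassZero.soc p Z :=
    { toFun := fun z => ⟨LocalizedModule.mk (z : Z) 1, hmem z⟩
      map_add' := fun x y => Subtype.ext ((LocalizedModule.mkLinearMap p.primeCompl Z).map_add (x : Z) y)
      map_smul' := fun r x => Subtype.ext ((LocalizedModule.mkLinearMap p.primeCompl Z).map_smul r (x : Z)) }
  have hτ : Function.Bijective τ := by
    refine ⟨(injective_iff_map_eq_zero _).2 fun z hz => ?_, fun x => ?_⟩
    · have h : LocalizedModule.mk (z : Z) 1 = LocalizedModule.mk (0 : Z) (1 : p.primeCompl) :=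
        (congrArg Subtype.val hz).trans (LocalizedModule.zero_mk 1).symm
      obtain ⟨v, hv⟩ := LocalizedModule.mk_eq.1 h
      simp only [one_smul, smul_zero] at hv
      obtain ⟨t, i, hi, hti⟩ := hinv v
      refine Subtype.ext ?_
      have hiz : i • (z : Z) = 0 := (Submodule.mem_torsionBySet_iff _ _).1 z.2 ⟨i, hi⟩
      calc (z : Z) = (t * (v : R) + i) • (z : Z) := by rw [hti, one_smul]
        _ = 0 := by rw [add_smul, mul_smul, show (v : R) • (z : Z) = 0 from hv, smul_zero, hiz, add_zero]
    · obtain ⟨y, s, hy, hx⟩ := GrBassZero.exists_rep_of_mem_soc p x.2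
      obtain ⟨t, i, hi, hti⟩ := hinv s
      refine ⟨⟨t • y, (Submodule.mem_torsionBySet_iff _ _).2 fun a => by
        show (a : R) • t • y = 0
        rw [smul_comm, hy a a.2, smul_zero]⟩, Subtype.ext ?_⟩
      show LocalizedModule.mk (t • y) 1 = (x : L)
      rw [hx, LocalizedModule.mk_eq]
      refine ⟨1, ?_⟩
      simp only [one_smul]
      show (s : R) • t • y = y
      calc (s : R) • t • y = (t * (s : R) + i) • y := by rw [add_smul, hy i hi, add_zero, smul_smul, mul_comm]
        _ = y := by rw [hti, one_smul]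
  rw [(LinearEquiv.ofBijective τ hτ).length_eq]
  -- submodules over `R` and over the localisation agree
  have hstab : ∀ (Q : Submodule R (GrBassZero.soc p Z)) (c : A) (x : GrBassZero.soc p Z), x ∈ Q → c • x ∈ Q := by
    intro Q c x hx
    obtain ⟨r, s, rfl⟩ := IsLocalization.exists_mk'_eq p.primeCompl c
    obtain ⟨t, i, hi, hti⟩ := hinv s
    have hix : i • x = 0 := Subtype.ext ((GrBassZero.mem_soc_iff p _).1 x.2 i hi)
    have h1 : (s : R) • (t • x) = x := by
      calc (s : R) • t • x = (t * (s : R) + i) • x := by rw [add_smul, hix, add_zero, smul_smul, mul_comm]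
        _ = x := by rw [hti, one_smul]
    have h2 : IsLocalization.mk' A r s • x = r • t • x := by
      conv_lhs => rw [← h1, ← algebraMap_smul A (s : R) (t • x), smul_smul, IsLocalization.mk'_spec, algebraMap_smul]
    rw [h2]
    exact Q.smul_mem r (Q.smul_mem t hx)
  let e : Submodule A (GrBassZero.soc p Z) ≃o Submodule R (GrBassZero.soc p Z) :=
    { toFun := fun Q => Q.restrictScalars R
      invFun := fun Q => { Q.toAddSubmonoid with smul_mem' := fun c x hx => hstab Q c x hx }
      left_inv := fun Q => Submodule.ext fun x => Iff.rfl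
      right_inv := fun Q => Submodule.ext fun x => Iff.rfl
      map_rel_iff' := Iff.rfl }
  apply WithBot.coe_injective
  rw [Module.coe_length, Module.coe_length, Order.krullDim_eq_of_orderIso e]

end Soc

variable {R : Type u} [CommRing R] [IsNoetherianRing R] {𝒜 : ℤ → AddSubgroup R} [GradedRing 𝒜]
variable {M : Type u} [AddCommGroup M] [Module R M] {ℳ : ℤ → AddSubgroup M} [DirectSum.Decomposition ℳ]
  [SetLike.GradedSMul 𝒜 ℳ]

/-- The first nonvanishing Bass number is the length of the socle of local cohomology. -/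
theorem bassNum_eq_length_socle (p : HomogeneousIdeal 𝒜) [p.toIdeal.IsMaximal] (E₀ : StarInjRes 𝒜 ℳ) (n : ℕ)
    (hvan : ∀ i < n, Subsingleton (E₀.H p i)) :
    GrLC.bassNum p.toIdeal M n = Module.length R (Submodule.torsionBySet R (E₀.H p n) p.toIdeal) := by
  obtain ⟨E, hess⟩ : ∃ E : StarInjRes 𝒜 ℳ, ∀ (n : ℕ) (P : Submodule R (E.X n).carrier),
      P.IsHomogeneous (E.X n).gr → P ≠ ⊥ → P ⊓ LinearMap.ker (E.d n) ≠ ⊥ := by
    obtain ⟨E', h'⟩ := exists_minRes (GMod.of 𝒜 M ℳ)
    exact ⟨E', h'⟩
  have hvan' : ∀ i < n, Subsingleton (E.H p i) := fun i hi => by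
    obtain ⟨e, -⟩ := exists_indEquiv E₀ p E i
    exact @Function.Injective.subsingleton _ _ _ e.symm.injective (hvan i hi)
  have hgam : ∀ i < n, gam p.toIdeal (E.X i).carrier = ⊥ := by
    intro i
    induction i using Nat.strong_induction_on with
    | _ i ih =>
      intro hi
      by_contra hne
      obtain ⟨z, hz, hz0⟩ := Submodule.exists_mem_ne_zero_of_ne_bot
        (hess i _ (S13225.gam_homogeneous p) hne)
      let c : E.cocyc p i := ⟨z, hz⟩
      have hc : c ∈ (E.cobdy p i).comap (E.cocyc p i).subtype :=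
        (Submodule.Quotient.mk_eq_zero _).1 (@Subsingleton.elim _ (hvan' i hi) (E.toH p i c) 0)
      cases i with
      | zero => exact hz0 ((Submodule.mem_bot R).1 hc)
      | succ i =>
        obtain ⟨w, hw, hwz⟩ := hc
        rw [SetLike.mem_coe, ih i (Nat.lt_succ_self i) (by omega), Submodule.mem_bot] at hw
        subst hw
        exact hz0 (hwz.symm.trans (map_zero _))
  have hcob : E.cobdy p n = ⊥ := by
    cases n with
    | zero => rfl
    | succ n =>
      show (gam p.toIdeal (E.X n).carrier).map (E.d n) = ⊥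
      rw [hgam n (Nat.lt_succ_self n), Submodule.map_bot]
  let Z := LinearMap.ker (E.d n)
  refine Eq.trans (S13240.bassNum_eq E p hess n) ?_
  rw [GrBassZero.bassNum_zero_eq_length_soc, length_soc_eq]
  obtain ⟨e, -⟩ := exists_indEquiv E₀ p E n
  have hmem : ∀ z : Submodule.torsionBySet R Z p.toIdeal, ((z : Z) : (E.X n).carrier) ∈ E.cocyc p n := fun z =>
    ⟨⟨1, fun r hr => congrArg Subtype.val ((Submodule.mem_torsionBySet_iff _ _).1 z.2 ⟨r, by rwa [pow_one] at hr⟩)⟩,
      (z : Z).2⟩
  let τ : Submodule.torsionBySet R Z p.toIdeal →ₗ[R] Submodule.torsionBySet R (E₀.H p n) p.toIdeal :=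
    LinearMap.codRestrict _ (e.symm.toLinearMap ∘ₗ E.toH p n ∘ₗ
      { toFun := fun z => (⟨_, hmem z⟩ : E.cocyc p n)
        map_add' := fun _ _ => rfl
        map_smul' := fun _ _ => rfl }) fun z => (Submodule.mem_torsionBySet_iff _ _).2 fun a => by
      rw [← map_smul, show (a : R) • z = 0 from Subtype.ext ((Submodule.mem_torsionBySet_iff _ _).1 z.2 a), map_zero]
  have hτ : Function.Bijective τ := by
    refine ⟨(injective_iff_map_eq_zero _).2 fun z hz => ?_, fun x => ?_⟩
    · have h := e.symm.map_eq_zero_iff.1 (congrArg Subtype.val hz)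
      have h' := (Submodule.Quotient.mk_eq_zero _).1 h
      rw [Submodule.mem_comap, hcob, Submodule.mem_bot] at h'
      exact Subtype.ext (Subtype.ext h')
    · obtain ⟨c, hc⟩ := Submodule.mkQ_surjective _ (e (x : E₀.H p n))
      have hk : ∀ a ∈ p.toIdeal, a • ((c : (E.X n).carrier)) = 0 := fun a ha => by
        have h1 : E.toH p n (a • c) = 0 := by
          rw [(E.toH p n).map_smul a c, show E.toH p n c = e (x : E₀.H p n) from hc, ← map_smul,
            show a • (x : E₀.H p n) = 0 from (Submodule.mem_torsionBySet_iff _ _).1 x.2 ⟨a, ha⟩, map_zero]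
        have h' := (Submodule.Quotient.mk_eq_zero _).1 h1
        rw [Submodule.mem_comap, hcob, Submodule.mem_bot] at h'
        exact h'
      refine ⟨⟨⟨c, c.2.2⟩, (Submodule.mem_torsionBySet_iff _ _).2 fun a => Subtype.ext (hk a a.2)⟩, Subtype.ext ?_⟩
      exact (congrArg e.symm (show E.toH p n c = e (x : E₀.H p n) from hc)).trans (e.symm_apply_apply _)
  exact (LinearEquiv.ofBijective τ hτ).length_eq

end Groth.Agent.GrInj
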