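import Mathlib
import Groth.Agent.GrInj.LocalType
import Groth.Agent.GrInj.Type
import Groth.Agent.GrInj.GorGlobal
import Groth.Agent.GrInj.StarLoc
import Groth.Agent.S0341

/-!
# The socle criterion for graded Gorenstein rings
-/

set_option autoImplicit false
universe u

namespace Groth.Agent.GrInj

open GrLC CategoryTheory
open CategoryTheory.Abelian (Ext)

variable {R : Type u} [CommRing R] [IsNoetherianRing R] {𝒜 : ℤ → AddSubgroup R} [GradedRing 𝒜] {m : HomogeneousIdeal 𝒜}

theorem bassNum_self_eq (p : Ideal R) [p.IsPrime] (n : ℕ) :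
    GrLC.bassNum p R n = Module.length (Localization.AtPrime p)
      (Ext.{u} (ModuleCat.of (Localization.AtPrime p) (IsLocalRing.ResidueField (Localization.AtPrime p)))
        (ModuleCat.of (Localization.AtPrime p) (Localization.AtPrime p)) n) := by
  let A := Localization.AtPrime p
  let el : LocalizedModule p.primeCompl R ≃ₗ[A] A :=
    ((IsLocalizedModule.linearEquiv p.primeCompl (Algebra.linearMap R A)
      (LocalizedModule.mkLinearMap p.primeCompl R)).symm).extendScalarsOfIsLocalization p.primeCompl A
  let N := ModuleCat.of A (IsLocalRing.ResidueField A)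
  have e1 : Ext.{u} N (ModuleCat.of A (LocalizedModule p.primeCompl R)) n ≃ₗ[A] Ext.{u} N (ModuleCat.of A A) n :=
    LinearEquiv.ofLinear (LocCohLib.postL (Ext.mk₀ el.toModuleIso.hom) N n n (add_zero n))
      (LocCohLib.postL (Ext.mk₀ el.toModuleIso.inv) N n n (add_zero n))
      (LinearMap.ext fun x => by
        show (x.comp (Ext.mk₀ el.toModuleIso.inv) (add_zero n)).comp (Ext.mk₀ el.toModuleIso.hom) (add_zero n) = x
        rw [Ext.comp_assoc_of_second_deg_zero, Ext.mk₀_comp_mk₀, Iso.inv_hom_id, Ext.comp_mk₀_id])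
      (LinearMap.ext fun x => by
        show (x.comp (Ext.mk₀ el.toModuleIso.hom) (add_zero n)).comp (Ext.mk₀ el.toModuleIso.inv) (add_zero n) = x
        rw [Ext.comp_assoc_of_second_deg_zero, Ext.mk₀_comp_mk₀, Iso.hom_inv_id, Ext.comp_mk₀_id])
  exact e1.length_eq

omit [IsNoetherianRing R] in
/-- A Gorenstein ring is Cohen–Macaulay. -/
theorem isCohenMacaulayRing_of_gorenstein [LocCoh.IsGorensteinRing R] : LocCoh.IsCohenMacaulayRing R :=
  { isCohenMacaulayLocalRing_localization := fun p _ => by
      haveI := LocCoh.IsGorensteinRing.isGorensteinLocalRing_localization (A := R) p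
      exact Groth.Agent.S0341.result (Localization.AtPrime p) }

/-- Positively graded: Gorenstein at the *maximal ideal implies Gorenstein. -/
theorem isGorensteinRing_of_star (hm : IsStarLocal 𝒜 m) [m.toIdeal.IsPrime]
    (h : LocCoh.IsGorensteinLocalRing (Localization.AtPrime m.toIdeal)) : LocCoh.IsGorensteinRing R :=
  { isGorensteinLocalRing_localization := fun p hp => by
      haveI := Ideal.IsPrime.homogeneousCore (𝒜 := 𝒜) (I := p) hp
      have hle := star_le hm (p.homogeneousCore 𝒜) (Ideal.IsPrime.ne_top inferInstance)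
      refine GorGlobal.gorenstein_of_core 𝒜 p (p.homogeneousCore 𝒜).toIdeal (fun r => ?_)
        (GorLib.gorenstein_of_generization hle h)
      constructor
      · exact fun hr i => Ideal.toIdeal_homogeneousCore_le 𝒜 p ((p.homogeneousCore 𝒜).isHomogeneous i hr)
      · intro hr
        exact mem_of_pr (ℳ := 𝒜) (P := (p.homogeneousCore 𝒜).toIdeal) fun i =>
          Ideal.mem_homogeneousCore_of_homogeneous_of_mem ⟨i, pr_mem i r⟩ (hr i) }

/-- **Socle criterion**: a Cohen–Macaulay positively graded *local ring is Gorenstein iff the socle of its top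
local cohomology is simple. -/
theorem isGorensteinRing_iff_socle [LocCoh.IsCohenMacaulayRing R] (hpos : ∀ n : ℤ, n < 0 → 𝒜 n = ⊥)
    (hm : IsStarLocal 𝒜 m) {n : ℕ} (hn : ringKrullDim R = n) (E : StarInjRes 𝒜 𝒜) :
    LocCoh.IsGorensteinRing R ↔ Module.length R (Submodule.torsionBySet R (E.H m n) m.toIdeal) = 1 := by
  haveI := star_isMaximal hpos hm
  have hd : ringKrullDim (Localization.AtPrime m.toIdeal) = n := by
    rw [IsLocalization.AtPrime.ringKrullDim_eq_height m.toIdeal, ← ringKrullDim_eq_height_star hpos hm, hn]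
  haveI : LocCoh.IsCohenMacaulayLocalRing (Localization.AtPrime m.toIdeal) :=
    LocCoh.IsCohenMacaulayRing.isCohenMacaulayLocalRing_localization _
  rw [← bassNum_eq_length_socle m E n (subsingleton_H_cm hpos hm hn E), bassNum_self_eq,
    ← LocalType.gorenstein_iff_length_ext hd]
  exact ⟨fun h => h.isGorensteinLocalRing_localization _, isGorensteinRing_of_star hm⟩

end Groth.Agent.GrInj
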