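import Groth.Agent.GrInj.Basic
import Mathlib.Algebra.Module.CharacterModule
import Mathlib.Algebra.Category.Grp.Injective
import Mathlib.Order.Zorn

/-!
# Enough *injectives, *essential extensions and *injective envelopes
-/

set_option autoImplicit false
set_option linter.unusedSectionVars false
universe u

namespace Groth.Agent.GrInj

open GrLC

variable {ι : Type} [AddCommGroup ι] [DecidableEq ι] {R : Type u} [CommRing R]
  (𝒜 : ι → AddSubgroup R) [GradedRing 𝒜]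

/-! ### Cofree modules -/

/-- Additive maps into `ι → D`, the ring acting on the argument. -/
def Cof (ι : Type) (R : Type u) [CommRing R] (D : Type u) [AddCommGroup D] : Type u := R →+ (ι → D)

noncomputable instance (D : Type u) [AddCommGroup D] : AddCommGroup (Cof ι R D) :=
  inferInstanceAs (AddCommGroup (R →+ (ι → D)))

instance (D : Type u) [AddCommGroup D] : FunLike (Cof ι R D) R (ι → D) :=
  inferInstanceAs (FunLike (R →+ (ι → D)) R (ι → D))

instance (D : Type u) [AddCommGroup D] : AddMonoidHomClass (Cof ι R D) R (ι → D) :=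
  inferInstanceAs (AddMonoidHomClass (R →+ (ι → D)) R (ι → D))

theorem Cof.ext {D : Type u} [AddCommGroup D] {φ ψ : Cof ι R D} (h : ∀ x k, φ x k = ψ x k) : φ = ψ :=
  DFunLike.ext _ _ fun x => funext (h x)

noncomputable instance (D : Type u) [AddCommGroup D] : Module R (Cof ι R D) where
  smul r φ := AddMonoidHom.comp φ (AddMonoidHom.mulRight r)
  one_smul φ := Cof.ext fun x k => show φ (x * 1) k = φ x k by rw [mul_one]
  mul_smul r s φ := Cof.ext fun x k => show φ (x * (r * s)) k = φ (x * r * s) k by rw [mul_assoc]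
  smul_zero r := rfl
  smul_add r φ ψ := rfl
  add_smul r s φ := Cof.ext fun x k => show φ (x * (r + s)) k = φ (x * r) k + φ (x * s) k by
    rw [mul_add, map_add]; rfl
  zero_smul φ := Cof.ext fun x k => show φ (x * 0) k = (0 : D) by rw [mul_zero, map_zero]; rfl

theorem Cof.smul_apply {D : Type u} [AddCommGroup D] (r : R) (φ : Cof ι R D) (x : R) :
    (r • φ) x = φ (x * r) := rfl

variable (D : Type u) [AddCommGroup D]

/-- The maps of degree `g`. -/
noncomputable def cofPiece (g : ι) : AddSubgroup (Cof ι R D) where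
  carrier := {φ | ∀ h, ∀ x ∈ 𝒜 h, ∀ k, k ≠ g + h → φ x k = 0}
  zero_mem' _ _ _ _ _ := rfl
  add_mem' {φ ψ} hφ hψ h x hx k hk :=
    show φ x k + ψ x k = 0 by rw [hφ h x hx k hk, hψ h x hx k hk, add_zero]
  neg_mem' {φ} hφ h x hx k hk := show -(φ x k) = 0 by rw [hφ h x hx k hk, neg_zero]

/-- The degree `g` part of a map. -/
noncomputable def cofProj (g : ι) : Cof ι R D →+ Cof ι R D where
  toFun φ := AddMonoidHom.mk' (fun x k => φ (pr 𝒜 (k - g) x) k)
    (fun x y => funext fun k => by simp [map_add])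
  map_zero' := rfl
  map_add' φ ψ := rfl

theorem cofProj_mem (g : ι) (φ : Cof ι R D) : cofProj 𝒜 D g φ ∈ cofPiece 𝒜 D g := fun h x hx k hk => by
  show φ (pr 𝒜 (k - g) x) k = 0
  rw [pr_of_ne hx fun e => hk (by rw [e]; abel), map_zero]
  rfl

theorem cofProj_of_mem {g : ι} {φ : Cof ι R D} (hφ : φ ∈ cofPiece 𝒜 D g) : cofProj 𝒜 D g φ = φ := by
  refine Cof.ext fun x k => ?_
  show φ (pr 𝒜 (k - g) x) k = φ x k
  induction x using induction 𝒜 with
  | h0 => simp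
  | hh h x hx =>
    by_cases hk : k = g + h
    · subst hk; rw [add_sub_cancel_left, pr_of_mem hx]
    · rw [pr_of_ne hx fun e => hk (by rw [e]; abel), map_zero, hφ h x hx k hk]; rfl
  | hadd a b ha hb => simp only [map_add, Pi.add_apply, ha, hb]

theorem cofProj_of_ne {g g' : ι} (hne : g' ≠ g) {φ : Cof ι R D} (hφ : φ ∈ cofPiece 𝒜 D g') :
    cofProj 𝒜 D g φ = 0 := by
  refine Cof.ext fun x k => ?_
  show φ (pr 𝒜 (k - g) x) k = 0
  exact hφ _ _ (pr_mem _ _) k fun e => hne (by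
    have : g' = k - (k - g) := by rw [eq_sub_iff_add_eq]; exact e.symm
    rw [this]; abel)

theorem smul_mem_cofPiece {a g : ι} {r : R} (hr : r ∈ 𝒜 a) {φ : Cof ι R D} (hφ : φ ∈ cofPiece 𝒜 D g) :
    r • φ ∈ cofPiece 𝒜 D (a + g) := fun h x hx k hk =>
  hφ (h + a) (x * r) (SetLike.mul_mem_graded hx hr) k fun e => hk (by rw [e]; abel)

/-- The sum of the pieces. -/
noncomputable def cofSub : Submodule R (Cof ι R D) where
  toAddSubmonoid := (⨆ g, cofPiece 𝒜 D g).toAddSubmonoid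
  smul_mem' r φ hφ := by
    show r • φ ∈ ⨆ g, cofPiece 𝒜 D g
    refine AddSubgroup.iSup_induction _ (C := fun φ => r • φ ∈ ⨆ g, cofPiece 𝒜 D g) hφ
      (fun g ψ hψ => ?_) (by rw [smul_zero]; exact zero_mem _)
      (fun a b ha hb => by rw [smul_add]; exact add_mem ha hb)
    induction r using induction 𝒜 with
    | h0 => rw [zero_smul]; exact zero_mem _
    | hh a r hr => exact le_iSup (cofPiece 𝒜 D) _ (smul_mem_cofPiece 𝒜 D hr hψ)
    | hadd a b ha hb => rw [add_smul]; exact add_mem ha hb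

/-- The pieces of the cofree module. -/
noncomputable def cofGr (g : ι) : AddSubgroup (cofSub 𝒜 D) :=
  (cofPiece 𝒜 D g).comap (cofSub 𝒜 D).subtype.toAddMonoidHom

theorem isInternal_cof : DirectSum.IsInternal (cofGr 𝒜 D) := by
  have hle : ∀ g, cofPiece 𝒜 D g ≤ (cofSub 𝒜 D).toAddSubgroup := fun g => le_iSup (cofPiece 𝒜 D) g
  let q : ι → cofSub 𝒜 D →+ cofSub 𝒜 D := fun g =>
    ((cofProj 𝒜 D g).comp (cofSub 𝒜 D).subtype.toAddMonoidHom).codRestrict (cofSub 𝒜 D)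
      fun φ => hle g (cofProj_mem 𝒜 D g φ.1)
  refine isInternal_of _ q (fun g φ hφ => Subtype.ext (cofProj_of_mem 𝒜 D hφ))
    (fun g g' hne φ hφ => Subtype.ext (cofProj_of_ne 𝒜 D hne hφ)) fun φ => ?_
  obtain ⟨φ, hφ⟩ := φ
  have key : ∀ ψ ∈ ⨆ g, cofPiece 𝒜 D g, ∃ y ∈ (⨆ g, cofGr 𝒜 D g), (y : Cof ι R D) = ψ := fun ψ hψ => by
    refine AddSubgroup.iSup_induction _ (C := fun ψ => ∃ y ∈ (⨆ g, cofGr 𝒜 D g), (y : Cof ι R D) = ψ) hψ
      (fun g y hy => ⟨⟨y, hle g hy⟩, le_iSup (cofGr 𝒜 D) g hy, rfl⟩) ⟨0, zero_mem _, rfl⟩ ?_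
    rintro _ _ ⟨a, ha, rfl⟩ ⟨b, hb, rfl⟩
    exact ⟨a + b, add_mem ha hb, rfl⟩
  obtain ⟨y, hy, hyφ⟩ := key φ hφ
  rwa [show y = ⟨φ, hφ⟩ from Subtype.ext hyφ] at hy

/-- The cofree graded module on an abelian group. -/
noncomputable def cofMod : GMod.{u} 𝒜 :=
  { carrier := cofSub 𝒜 D, gr := cofGr 𝒜 D, dec := (isInternal_cof 𝒜 D).chooseDecomposition,
    gsmul := gsmul_mk fun _ _ _ hr _ hx => smul_mem_cofPiece 𝒜 D hr hx }

variable {M : Type u} [AddCommGroup M] [Module R M] (ℳ : ι → AddSubgroup M) [DirectSum.Decomposition ℳ]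
  [SetLike.GradedSMul 𝒜 ℳ]

/-- The map attached to an additive map, into all maps. -/
noncomputable def toCofAux (u : M →+ D) : M →ₗ[R] Cof ι R D where
  toFun m := AddMonoidHom.mk' (fun x k => u (pr ℳ k (x • m)))
    (fun x y => funext fun k => by simp [add_smul, map_add])
  map_add' a b := Cof.ext fun x k => show u (pr ℳ k (x • (a + b))) = _ + _ by
    rw [smul_add, map_add, map_add]; rfl
  map_smul' r a := Cof.ext fun x k => show u (pr ℳ k (x • r • a)) = u (pr ℳ k ((x * r) • a)) by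
    rw [mul_smul]

theorem toCofAux_mem_piece (u : M →+ D) {g : ι} {m : M} (hm : m ∈ ℳ g) :
    toCofAux D ℳ u m ∈ cofPiece 𝒜 D g := fun h x hx k hk => by
  show u (pr ℳ k (x • m)) = 0
  rw [pr_of_ne (smul_mem_gr hx hm) fun e => hk (by rw [← e, add_comm]), map_zero]

/-- The map attached to an additive map. -/
noncomputable def toCof (u : M →+ D) : M →ₗ[R] (cofMod 𝒜 D).carrier :=
  (toCofAux D ℳ u).codRestrict (cofSub 𝒜 D) fun m => by
    induction m using induction ℳ with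
    | h0 => simp
    | hh g m hm => exact le_iSup (cofPiece 𝒜 D) g (toCofAux_mem_piece 𝒜 D ℳ u hm)
    | hadd a b ha hb => rw [map_add]; exact add_mem ha hb

theorem grHom_toCof (u : M →+ D) : IsGrHom ℳ (cofMod 𝒜 D).gr (toCof 𝒜 D ℳ u) :=
  fun _ _ hm => toCofAux_mem_piece 𝒜 D ℳ u hm

theorem starInj_cof [Module.Injective ℤ D] : IsStarInj 𝒜 (cofMod 𝒜 D).gr := by
  intro A B f hf hfi g hg
  let e : (i : ι) → A.gr i →+ D := fun i =>
    AddMonoidHom.mk' (fun a => ((g a.1).1 : Cof ι R D) 1 i) fun a b => by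
      rw [AddSubgroup.coe_add, map_add]; rfl
  let u : A.carrier →+ D :=
    (DirectSum.toAddMonoid e).comp (DirectSum.decomposeAddEquiv A.gr).toAddMonoidHom
  have hu : ∀ i, ∀ a ∈ A.gr i, u a = ((g a).1 : Cof ι R D) 1 i := fun i a ha => by
    show DirectSum.toAddMonoid e (DirectSum.decompose A.gr a) = _
    rw [DirectSum.decompose_of_mem _ ha, DirectSum.toAddMonoid_of]
    rfl
  obtain ⟨u', hu'⟩ := Module.Injective.out f.toAddMonoidHom.toIntLinearMap hfi u.toIntLinearMap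
  have hfu : ∀ a, u'.toAddMonoidHom (f a) = u a := hu'
  refine ⟨toCof 𝒜 D B.gr u'.toAddMonoidHom, grHom_toCof 𝒜 D B.gr _,
    LinearMap.ext fun a => Subtype.ext (Cof.ext fun x k => ?_)⟩
  show u'.toAddMonoidHom (pr B.gr k (x • f a)) = ((g a).1 : Cof ι R D) x k
  rw [← map_smul, pr_grHom hf, hfu, hu k _ (pr_mem _ _)]
  have h1 : ((g a).1 : Cof ι R D) x = ((g (x • a)).1 : Cof ι R D) 1 := by
    rw [map_smul]
    show _ = ((g a).1 : Cof ι R D) (1 * x)
    rw [one_mul]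
  rw [h1]
  generalize x • a = b
  induction b using induction A.gr with
  | h0 => simp
  | hh i b hb =>
    rcases eq_or_ne i k with rfl | h
    · rw [pr_of_mem hb]
    · rw [pr_of_ne hb h, map_zero]
      exact (hg i b hb 0 1 SetLike.GradedOne.one_mem k (by rw [add_zero]; exact h.symm)).symm
  | hadd a b ha hb =>
    simp only [map_add]
    exact congrArg₂ (· + ·) ha hb

/-- Every graded module embeds into a *injective one. -/
theorem exists_embedding : ∃ (E : GMod.{u} 𝒜) (f : M →ₗ[R] E.carrier),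
    Function.Injective f ∧ IsGrHom ℳ E.gr f ∧ IsStarInj 𝒜 E.gr := by
  let D := CharacterModule M → AddCircle (1 : ℚ)
  haveI : Module.Injective ℤ D := (Module.Baer.of_divisible D).injective
  let u : M →+ D := AddMonoidHom.mk' (fun m c => c m) fun a b => funext fun c => map_add c a b
  refine ⟨cofMod 𝒜 D, toCof 𝒜 D ℳ u, ?_, grHom_toCof 𝒜 D ℳ u, starInj_cof 𝒜 D⟩
  rw [injective_iff_map_eq_zero]
  intro m hm
  refine eq_zero_of_pr (ℳ := ℳ) fun k => CharacterModule.eq_zero_of_character_apply fun c => ?_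
  have h : ((toCof 𝒜 D ℳ u m).1 : Cof ι R D) 1 k = 0 := by rw [hm]; rfl
  have h' : u (pr ℳ k ((1 : R) • m)) = 0 := h
  rw [one_smul] at h'
  exact congrFun h' c

/-! ### *Essential extensions -/

variable {𝒜 ℳ}
variable {N : Type u} [AddCommGroup N] [Module R N] {𝒩 : ι → AddSubgroup N} [DirectSum.Decomposition 𝒩]
  [SetLike.GradedSMul 𝒜 𝒩]
variable {L : Type u} [AddCommGroup L] [Module R L] {𝓛 : ι → AddSubgroup L} [DirectSum.Decomposition 𝓛]

theorem inverse_grHom {f : M →ₗ[R] N} (hf : IsGrHom ℳ 𝒩 f) (hfi : Function.Injective f) {i : ι} {m : M}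
    (h : f m ∈ 𝒩 i) : m ∈ ℳ i := by
  have : pr ℳ i m = m := hfi (by rw [← pr_grHom hf, pr_of_mem h])
  rw [← this]; exact pr_mem i m

theorem grHom_symm (e : M ≃ₗ[R] N) (he : IsGrHom ℳ 𝒩 e.toLinearMap) :
    IsGrHom 𝒩 ℳ e.symm.toLinearMap := fun i n hn =>
  inverse_grHom he e.injective (by simpa using hn)

theorem injective_of_ess {f : M →ₗ[R] N} (hf : IsStarEss ℳ 𝒩 f) {h : N →ₗ[R] L} (hh : IsGrHom 𝒩 𝓛 h)
    (hinj : Function.Injective (h ∘ₗ f)) : Function.Injective h := by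
  rw [← LinearMap.ker_eq_bot]
  by_contra hne
  refine hf.essential _ (hom_ker hh) hne (eq_bot_iff.2 ?_)
  rintro _ ⟨hk, m, rfl⟩
  have : m = 0 := hinj (by rw [LinearMap.comp_apply, LinearMap.mem_ker.1 hk, map_zero])
  rw [Submodule.mem_bot, this, map_zero]

theorem exists_max_compl (X : Submodule R N) : ∃ P : Submodule R N, P.IsHomogeneous 𝒩 ∧ P ⊓ X = ⊥ ∧
    ∀ Q : Submodule R N, Q.IsHomogeneous 𝒩 → P ≤ Q → Q ⊓ X = ⊥ → Q = P := by
  let S : Set (Submodule R N) := {P | P.IsHomogeneous 𝒩 ∧ P ⊓ X = ⊥}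
  obtain ⟨P, -, hP⟩ := zorn_le_nonempty₀ S (fun c hc hchain y hy => by
    refine ⟨sSup c, ⟨hom_sSup_directed ⟨y, hy⟩ hchain.directedOn fun P hP => (hc hP).1, ?_⟩,
      fun z hz => le_sSup hz⟩
    refine eq_bot_iff.2 fun x hx => ?_
    obtain ⟨P, hPc, hxP⟩ := (Submodule.mem_sSup_of_directed ⟨y, hy⟩ hchain.directedOn).1 hx.1
    rw [← (hc hPc).2]; exact ⟨hxP, hx.2⟩) ⊥ ⟨hom_bot, bot_inf_eq _⟩
  exact ⟨P, hP.prop.1, hP.prop.2, fun Q h1 h2 h3 => le_antisymm (hP.2 ⟨h1, h3⟩ h2) h2⟩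

variable (𝒜) in
/-- The quotient map, into the quotient graded module. -/
noncomputable def quoMk (P : Submodule R N) (hP : P.IsHomogeneous 𝒩) :
    N →ₗ[R] (quoMod 𝒜 P hP).carrier := P.mkQ

theorem grHom_quoMk {P : Submodule R N} (hP : P.IsHomogeneous 𝒩) :
    IsGrHom 𝒩 (quoMod 𝒜 P hP).gr (quoMk 𝒜 P hP) := grHom_mkQ P

theorem ess_quot {f : M →ₗ[R] N} (hf : IsGrHom ℳ 𝒩 f) (hfi : Function.Injective f)
    {P : Submodule R N} (hP : P.IsHomogeneous 𝒩) (hPX : P ⊓ LinearMap.range f = ⊥)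
    (hmax : ∀ Q : Submodule R N, Q.IsHomogeneous 𝒩 → P ≤ Q → Q ⊓ LinearMap.range f = ⊥ → Q = P) :
    IsStarEss ℳ (quoMod 𝒜 P hP).gr (quoMk 𝒜 P hP ∘ₗ f) := by
  refine ⟨?_, fun g m hm => grHom_mkQ P g _ (hf g m hm), fun Q hQ hQ0 hbot => hQ0 ?_⟩
  · rw [injective_iff_map_eq_zero]
    intro m hm
    have h : f m ∈ P ⊓ LinearMap.range f := ⟨(Submodule.Quotient.mk_eq_zero P).1 hm, m, rfl⟩
    rw [hPX, Submodule.mem_bot] at h
    exact hfi (h.trans (map_zero f).symm)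
  · have hQ' : (Q.comap (quoMk 𝒜 P hP)).IsHomogeneous 𝒩 := hom_comap (grHom_quoMk hP) hQ
    have hzero : ∀ x, quoMk 𝒜 P hP x = 0 ↔ x ∈ P := fun x => Submodule.Quotient.mk_eq_zero P
    have : Q.comap (quoMk 𝒜 P hP) = P := by
      refine hmax _ hQ' (fun x hx => ?_) (eq_bot_iff.2 ?_)
      · show quoMk 𝒜 P hP x ∈ Q
        rw [(hzero x).2 hx]; exact zero_mem _
      · rintro _ ⟨hx, m, rfl⟩
        have h0 : quoMk 𝒜 P hP (f m) ∈ Q ⊓ LinearMap.range (quoMk 𝒜 P hP ∘ₗ f) := ⟨hx, m, rfl⟩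
        rw [hbot, Submodule.mem_bot] at h0
        rw [← hPX]
        exact ⟨(hzero _).1 h0, m, rfl⟩
    refine eq_bot_iff.2 fun z hz => ?_
    obtain ⟨x, hxz⟩ : ∃ x, quoMk 𝒜 P hP x = z := P.mkQ_surjective z
    have hx : x ∈ Q.comap (quoMk 𝒜 P hP) := by rw [Submodule.mem_comap, hxz]; exact hz
    rw [this] at hx
    rw [Submodule.mem_bot, ← hxz]
    exact (hzero x).2 hx

variable (𝒜) in
/-- The inclusion of a homogeneous submodule, out of the graded module it defines. -/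
noncomputable def subInc (P : Submodule R N) (hP : P.IsHomogeneous 𝒩) :
    (subMod 𝒜 P hP).carrier →ₗ[R] N := P.subtype

theorem grHom_subInc {P : Submodule R N} (hP : P.IsHomogeneous 𝒩) :
    IsGrHom (subMod 𝒜 P hP).gr 𝒩 (subInc 𝒜 P hP) := fun _ _ hx => hx

theorem subInc_injective {P : Submodule R N} (hP : P.IsHomogeneous 𝒩) :
    Function.Injective (subInc 𝒜 P hP) := P.injective_subtype

theorem range_subInc {P : Submodule R N} (hP : P.IsHomogeneous 𝒩) :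
    LinearMap.range (subInc 𝒜 P hP) = P := P.range_subtype

/-- Factoring through a homogeneous submodule. -/
theorem exists_lift {X : Type u} [AddCommGroup X] [Module R X] {𝒳 : ι → AddSubgroup X} {P : Submodule R N}
    (hP : P.IsHomogeneous 𝒩) {g : X →ₗ[R] N} (hg : IsGrHom 𝒳 𝒩 g) (h : LinearMap.range g ≤ P) :
    ∃ g' : X →ₗ[R] (subMod 𝒜 P hP).carrier,
      IsGrHom 𝒳 (subMod 𝒜 P hP).gr g' ∧ subInc 𝒜 P hP ∘ₗ g' = g :=
  ⟨g.codRestrict P fun m => h ⟨m, rfl⟩, hg, rfl⟩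

/-- A retract of a *injective module is *injective. -/
theorem starInj_of_retract (hN : IsStarInj 𝒜 𝒩) {s : M →ₗ[R] N} (hs : IsGrHom ℳ 𝒩 s) {r : N →ₗ[R] M}
    (hr : IsGrHom 𝒩 ℳ r) (hrs : r ∘ₗ s = LinearMap.id) : IsStarInj 𝒜 ℳ := by
  intro A B f hf hfi g hg
  obtain ⟨h, hh, hhf⟩ := hN A B f hf hfi (s ∘ₗ g) fun i m hm => hs i _ (hg i m hm)
  refine ⟨r ∘ₗ h, fun i m hm => hr i _ (hh i m hm), ?_⟩
  rw [LinearMap.comp_assoc, hhf, ← LinearMap.comp_assoc, hrs, LinearMap.id_comp]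

/-- A module without proper *essential extension is *injective. -/
theorem starInj_of_noExt
    (h : ∀ (E : GMod.{u} 𝒜) (f : M →ₗ[R] E.carrier), IsStarEss ℳ E.gr f → Function.Surjective f) :
    IsStarInj 𝒜 ℳ := by
  obtain ⟨E, f, hfi, hf, hE⟩ := exists_embedding 𝒜 ℳ
  obtain ⟨P, hP, hPX, hmax⟩ := exists_max_compl (𝒩 := E.gr) (LinearMap.range f)
  have hq : IsStarEss ℳ (quoMod 𝒜 P hP).gr (quoMk 𝒜 P hP ∘ₗ f) := ess_quot hf hfi hP hPX hmax
  let e : M ≃ₗ[R] (quoMod 𝒜 P hP).carrier :=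
    LinearEquiv.ofBijective (quoMk 𝒜 P hP ∘ₗ f) ⟨hq.injective, h (quoMod 𝒜 P hP) _ hq⟩
  refine starInj_of_retract hE hf (r := e.symm.toLinearMap ∘ₗ quoMk 𝒜 P hP)
    (fun i x hx => inverse_grHom hq.grHom hq.injective ?_)
    (LinearMap.ext fun m => e.symm_apply_apply m)
  show e (e.symm (quoMk 𝒜 P hP x)) ∈ (quoMod 𝒜 P hP).gr i
  rw [e.apply_symm_apply]
  exact grHom_quoMk hP i x hx

/-- A *injective module is a direct summand of any graded module containing it. -/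
theorem exists_retraction (hM : IsStarInj 𝒜 ℳ) {f : M →ₗ[R] N} (hf : IsGrHom ℳ 𝒩 f)
    (hfi : Function.Injective f) : ∃ r : N →ₗ[R] M, IsGrHom 𝒩 ℳ r ∧ r ∘ₗ f = LinearMap.id :=
  hM (GMod.of 𝒜 M ℳ) (GMod.of 𝒜 N 𝒩) f hf hfi LinearMap.id fun _ _ hm => hm

theorem surjective_of_ess (hM : IsStarInj 𝒜 ℳ) {f : M →ₗ[R] N} (hf : IsStarEss ℳ 𝒩 f) :
    Function.Surjective f := by
  obtain ⟨r, hr, hrf⟩ := exists_retraction hM hf.grHom hf.injective
  have hi : Function.Injective r := injective_of_ess hf hr (by rw [hrf]; exact Function.injective_id)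
  exact fun n => ⟨r n, hi (LinearMap.congr_fun hrf (r n))⟩

variable (𝒜 ℳ) in
/-- Every graded module has a *injective envelope. -/
theorem exists_hull : ∃ (X : GMod.{u} 𝒜) (f : M →ₗ[R] X.carrier), IsStarInjHull 𝒜 ℳ X.gr f := by
  obtain ⟨E, f, hfi, hf, hE⟩ := exists_embedding 𝒜 ℳ
  let S : Set (Submodule R E.carrier) := {X | X.IsHomogeneous E.gr ∧ LinearMap.range f ≤ X ∧
    ∀ Q : Submodule R E.carrier, Q.IsHomogeneous E.gr → Q ≤ X → Q ≠ ⊥ → Q ⊓ LinearMap.range f ≠ ⊥}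
  obtain ⟨X, -, hX⟩ := zorn_le_nonempty₀ S (fun c hc hchain y hy => by
    refine ⟨sSup c, ⟨hom_sSup_directed ⟨y, hy⟩ hchain.directedOn fun P hP => (hc hP).1,
      (hc hy).2.1.trans (le_sSup hy), fun Q hQ hQle hQ0 hbot => ?_⟩, fun z hz => le_sSup hz⟩
    obtain ⟨i, m, hmQ, hm, hm0⟩ := exists_homogeneous hQ hQ0
    obtain ⟨P, hPc, hmP⟩ := (Submodule.mem_sSup_of_directed ⟨y, hy⟩ hchain.directedOn).1 (hQle hmQ)
    refine (hc hPc).2.2 _ (hom_span_singleton 𝒜 hm) ((Submodule.span_singleton_le_iff_mem _ _).2 hmP)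
      (by simpa [Submodule.span_singleton_eq_bot] using hm0) (eq_bot_iff.2 (le_trans ?_ hbot.le))
    exact inf_le_inf_right _ ((Submodule.span_singleton_le_iff_mem _ _).2 hmQ)) (LinearMap.range f)
    ⟨hom_range hf, le_rfl, fun Q _ h1 h2 => by rwa [inf_eq_left.2 h1]⟩
  obtain ⟨hXh, hXf, hXe⟩ := hX.prop
  obtain ⟨f', hf', hff⟩ := exists_lift (𝒜 := 𝒜) hXh hf hXf
  have hincl := grHom_subInc (𝒜 := 𝒜) hXh
  have hii := subInc_injective (𝒜 := 𝒜) hXh
  have hfi' : Function.Injective f' := fun a b hab => hfi (by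
    rw [← hff, LinearMap.comp_apply, LinearMap.comp_apply, hab])
  refine ⟨subMod 𝒜 X hXh, f', ⟨⟨hfi', hf', fun Q hQ hQ0 hbot => ?_⟩, ?_⟩⟩
  · refine hXe _ (hom_map hincl hQ) ?_ ?_ (eq_bot_iff.2 ?_)
    · exact (LinearMap.map_le_range).trans (range_subInc hXh).le
    · exact fun h => hQ0 (Submodule.map_injective_of_injective hii (h.trans (Submodule.map_bot _).symm))
    · rintro _ ⟨⟨q, hq, rfl⟩, m, hm⟩
      have h0 : q ∈ Q ⊓ LinearMap.range f' := ⟨hq, m, hii (by rw [← LinearMap.comp_apply, hff]; exact hm)⟩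
      rw [hbot, Submodule.mem_bot] at h0
      rw [h0, map_zero]; exact zero_mem _
  · refine starInj_of_noExt fun B g hg => ?_
    obtain ⟨h, hh, hhg⟩ := hE _ B g hg.grHom hg.injective _ hincl
    have hhi : Function.Injective h := injective_of_ess hg hh (by rw [hhg]; exact hii)
    have hXY : X ≤ LinearMap.range h := by
      rw [← range_subInc (𝒜 := 𝒜) hXh, ← hhg]; exact LinearMap.range_comp_le_range g h
    have hY : LinearMap.range h ∈ S := by
      refine ⟨hom_range hh, hXf.trans hXY, fun Q hQ hQY hQ0 hbot => ?_⟩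
      have hne : Q.comap h ≠ ⊥ := fun hb => hQ0 (by
        rw [← Submodule.map_comap_eq_of_le hQY, hb, Submodule.map_bot])
      obtain ⟨n, ⟨hnQ, w, rfl⟩, hn0⟩ :=
        Submodule.exists_mem_ne_zero_of_ne_bot (hg.essential _ (hom_comap hh hQ) hne)
      have hw : h (g w) = subInc 𝒜 X hXh w := LinearMap.congr_fun hhg w
      have hw0 : subInc 𝒜 X hXh w ≠ 0 := fun e => hn0 (by
        rw [show w = 0 from hii (e.trans (map_zero _).symm), map_zero])
      have hwX : subInc 𝒜 X hXh w ∈ X := (range_subInc (𝒜 := 𝒜) hXh).le ⟨w, rfl⟩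
      refine hXe (Q ⊓ X) (hom_inf hQ hXh) inf_le_right ?_
        (eq_bot_iff.2 (le_trans (inf_le_inf_right _ inf_le_left) hbot.le))
      exact (Submodule.ne_bot_iff _).2 ⟨_, ⟨hw ▸ hnQ, hwX⟩, hw0⟩
    have hYX : LinearMap.range h ≤ X := hX.2 hY hXY
    intro b
    have hb : h b ∈ LinearMap.range (subInc 𝒜 X hXh) := by
      rw [range_subInc]; exact hYX ⟨b, rfl⟩
    obtain ⟨w, hw⟩ := hb
    exact ⟨w, hhi ((LinearMap.congr_fun hhg w).trans hw)⟩

end Groth.Agent.GrInj
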