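import Mathlib
import Groth.Agent.GrInj.Bass
import Groth.Agent.GrInj.Prime
import Groth.Agent.GrInj.Hull
import Groth.Prelude.Def_GrLC2

/-!
# Bass numbers one step above the homogeneous core

If `q` is a prime with homogeneous core `P` such that `q` is generated by one element modulo `P` after
localisation, then `μ_0(q, M) = 0` and `μ_{i+1}(q, M) = μ_i(P, M)` for every graded module `M`.
-/

set_option autoImplicit false
set_option linter.style.haveILetI false
set_option linter.unusedSectionVars false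
universe u

namespace Groth.Agent.GrInj

open GrLC CategoryTheory IsLocalRing
open CategoryTheory.Abelian (Ext)

/-! ### Lengths from parametrisations -/

/-- A module presented by coordinates modulo the maximal ideal has the number of coordinates as length. -/
theorem length_of_param {A : Type u} [CommRing A] [IsLocalRing A] {T : Type u} {Y : Type u} [AddCommGroup Y] [Module A Y]
    (G : (T →₀ A) →ₗ[A] Y) (hG : Function.Surjective G) (hk : ∀ a, G a = 0 ↔ ∀ t, a t ∈ maximalIdeal A) :
    Module.length A Y = ENat.card T := by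
  let res : (T →₀ A) →ₗ[A] (T →₀ ResidueField A) := Finsupp.mapRange.linearMap (Algebra.linearMap A (ResidueField A))
  have hres : Function.Surjective res := Finsupp.mapRange_surjective _ (map_zero _) residue_surjective
  have hker : LinearMap.ker res = LinearMap.ker G := by
    ext a
    rw [LinearMap.mem_ker, LinearMap.mem_ker, hk]
    constructor
    · intro h t
      exact (residue_eq_zero_iff _).1 (DFunLike.congr_fun h t)
    · intro h
      exact Finsupp.ext fun t => (residue_eq_zero_iff _).2 (h t)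
  have e : Y ≃ₗ[A] (T →₀ ResidueField A) := (G.quotKerEquivOfSurjective hG).symm ≪≫ₗ
    Submodule.quotEquivOfEq _ _ hker.symm ≪≫ₗ res.quotKerEquivOfSurjective hres
  rw [e.length_eq, Module.length_finsupp]
  haveI : IsSimpleModule A (A ⧸ maximalIdeal A) := isSimpleModule_iff_isCoatom.2 (maximalIdeal.isMaximal A).out
  rw [show Module.length A (ResidueField A) = 1 from Module.length_eq_one A (A ⧸ maximalIdeal A), mul_one]

/-- Dimension shifting for lengths of `Ext`. -/
theorem length_ext_shift {A : Type u} [CommRing A] {S : ShortComplex (ModuleCat.{u} A)} (hS : S.ShortExact)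
    (N : ModuleCat.{u} A) {a b : ℕ} (hab : a + 1 = b) (hzero : ∀ v : Ext.{u} N S.X₂ a, v.comp (Ext.mk₀ S.g) (add_zero a) = 0)
    (hvan : Subsingleton (Ext.{u} N S.X₂ b)) :
    Module.length A (Ext.{u} N S.X₁ b) = Module.length A (Ext.{u} N S.X₃ a) := by
  let δ := LocCohLib.postL hS.extClass N a b hab
  have hbij : Function.Bijective δ := by
    refine ⟨(injective_iff_map_eq_zero δ).2 fun w hw => ?_, fun x => ?_⟩
    · obtain ⟨v, hv⟩ := Ext.covariant_sequence_exact₃ _ hS w hab hw
      rw [hzero v] at hv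
      exact hv.symm
    · exact Ext.covariant_sequence_exact₁ _ hS x (@Subsingleton.elim _ hvan _ _) hab
  exact (LinearEquiv.ofBijective δ hbij).length_eq.symm

theorem comp_mk₀_zero {A : Type u} [CommRing A] {N X₁ X₂ X₃ : ModuleCat.{u} A} {a : ℕ} (α : Ext.{u} N X₁ a)
    {y : X₁ ⟶ X₂} {g : X₂ ⟶ X₃} (h : y ≫ g = 0) :
    (α.comp (Ext.mk₀ y) (add_zero a)).comp (Ext.mk₀ g) (add_zero a) = 0 := by
  rw [Ext.comp_assoc_of_third_deg_zero, Ext.mk₀_comp_mk₀, h, Ext.mk₀_zero, Ext.comp_zero]

theorem mk₀_comp_zero {A : Type u} [CommRing A] {N X₁ X₂ X₃ : ModuleCat.{u} A} {a : ℕ} (α : Ext.{u} X₃ N a)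
    {y : X₁ ⟶ X₂} {g : X₂ ⟶ X₃} (h : y ≫ g = 0) :
    (Ext.mk₀ y).comp ((Ext.mk₀ g).comp α (zero_add a)) (zero_add a) = 0 := by
  rw [Ext.mk₀_comp_mk₀_assoc, h, Ext.mk₀_zero, Ext.zero_comp]

theorem mk₀_comp_eq_zero {A : Type u} [CommRing A] {X₁ X₂ X₃ : ModuleCat.{u} A}
    {y : X₁ ⟶ X₂} {g : X₂ ⟶ X₃} (h : y ≫ g = 0) : (Ext.mk₀ y).comp (Ext.mk₀ g) (add_zero 0) = 0 := by
  rw [Ext.mk₀_comp_mk₀, h, Ext.mk₀_zero]

theorem zero_comp_mk₀ {A : Type u} [CommRing A] {N X₂ X₃ : ModuleCat.{u} A} {a : ℕ} {v : Ext.{u} N X₂ a}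
    (hv : v = 0) (g : X₂ ⟶ X₃) : v.comp (Ext.mk₀ g) (add_zero a) = 0 := by
  rw [hv, Ext.zero_comp]

variable {ι : Type} [AddCommGroup ι] [DecidableEq ι] {R : Type u} [CommRing R]
  {𝒜 : ι → AddSubgroup R} [GradedRing 𝒜]

/-! ### Homogeneous bases modulo a homogeneous prime -/

section Basis
variable (P : HomogeneousIdeal 𝒜) {M : Type u} [AddCommGroup M] [Module R M] (ℳ : ι → AddSubgroup M)
  [DirectSum.Decomposition ℳ] [SetLike.GradedSMul 𝒜 ℳ]

/-- Homogeneous elements killed by `P`, independent modulo `P`, spanning the elements killed by `P` up to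
homogeneous scalars outside `P`. -/
structure PBasis where
  /-- the elements -/
  T : Set M
  hom : ∀ t ∈ T, ∃ g, t ∈ ℳ g
  killed : ∀ t ∈ T, ∀ r ∈ P.toIdeal, r • t = 0
  indep : ∀ (F : Finset M) (r : M → R), ↑F ⊆ T → ∑ t ∈ F, r t • t = 0 → ∀ t ∈ F, r t ∈ P.toIdeal
  spanning : ∀ z : M, (∀ r ∈ P.toIdeal, r • z = 0) →
    ∃ s : R, SetLike.IsHomogeneousElem 𝒜 s ∧ s ∉ P.toIdeal ∧ s • z ∈ Submodule.span R T

/-- Components of an element killed by a homogeneous ideal are killed by it. -/
theorem killed_pr {z : M} (hz : ∀ r ∈ P.toIdeal, r • z = 0) (i : ι) : ∀ r ∈ P.toIdeal, r • pr ℳ i z = 0 := by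
  intro r hr
  rw [← sum_supp (ℳ := 𝒜) r, Finset.sum_smul]
  refine Finset.sum_eq_zero fun d _ => ?_
  rw [← pr_smul (ℳ := ℳ) (pr_mem d r), show pr 𝒜 d r • z = 0 from hz _ (P.isHomogeneous d hr), map_zero]

theorem nonempty_pBasis [P.toIdeal.IsPrime] : Nonempty (PBasis P ℳ) := by
  classical
  let 𝒮 : Set (Set M) := {T | (∀ t ∈ T, ∃ g, t ∈ ℳ g) ∧ (∀ t ∈ T, ∀ r ∈ P.toIdeal, r • t = 0) ∧
    ∀ (F : Finset M) (r : M → R), ↑F ⊆ T → ∑ t ∈ F, r t • t = 0 → ∀ t ∈ F, r t ∈ P.toIdeal}
  obtain ⟨T, hT⟩ := zorn_subset 𝒮 fun c hc hchain => by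
    refine ⟨⋃₀ c, ⟨fun t ⟨U, hU, ht⟩ => (hc hU).1 t ht, fun t ⟨U, hU, ht⟩ => (hc hU).2.1 t ht,
      fun F r hF hsum => ?_⟩, fun U hU => Set.subset_sUnion_of_mem hU⟩
    rcases F.eq_empty_or_nonempty with rfl | hne
    · simp
    obtain ⟨U, hU, hFU⟩ := DirectedOn.exists_mem_subset_of_finset_subset_biUnion
      (f := id) (c := c) (by
        obtain ⟨t, ht⟩ := hne
        obtain ⟨U, hU, -⟩ := hF ht
        exact ⟨U, hU⟩) hchain.directedOn (s := F) (by simpa [Set.sUnion_eq_biUnion] using hF)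
    exact (hc hU).2.2 F r hFU hsum
  obtain ⟨hTh, hTk, hTi⟩ := hT.prop
  have hspanhom : (Submodule.span R T).IsHomogeneous ℳ := by
    intro i y hy
    show pr ℳ i y ∈ Submodule.span R T
    induction hy using Submodule.span_induction generalizing i with
    | mem t ht =>
      obtain ⟨g, hg⟩ := hTh t ht
      rcases eq_or_ne g i with rfl | hne
      · rw [pr_of_mem hg]; exact Submodule.subset_span ht
      · rw [pr_of_ne hg hne]; exact zero_mem _
    | zero => rw [map_zero]; exact zero_mem _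
    | add a b _ _ ha hb => rw [map_add]; exact add_mem (ha i) (hb i)
    | smul c a _ ha =>
      rw [← sum_supp (ℳ := 𝒜) c, Finset.sum_smul, map_sum]
      refine sum_mem fun d _ => ?_
      rw [pr_smul' (pr_mem (ℳ := 𝒜) d c)]
      exact Submodule.smul_mem _ _ (ha (i - d))
  have hone : ∀ g, ∀ x ∈ ℳ g, (∀ r ∈ P.toIdeal, r • x = 0) →
      ∃ s : R, SetLike.IsHomogeneousElem 𝒜 s ∧ s ∉ P.toIdeal ∧ s • x ∈ Submodule.span R T := by
    intro g x hx hk
    by_cases hxT : x ∈ T
    · exact ⟨1, ⟨0, SetLike.one_mem_graded 𝒜⟩, (Ideal.ne_top_iff_one _).1 (Ideal.IsPrime.ne_top inferInstance),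
        by rw [one_smul]; exact Submodule.subset_span hxT⟩
    by_contra hno
    refine hxT (hT.eq_of_subset (show insert x T ∈ 𝒮 from ?_) (Set.subset_insert x T) ▸ Set.mem_insert x T)
    refine ⟨fun t ht => ht.elim (fun e => e ▸ ⟨g, hx⟩) (hTh t), fun t ht => ht.elim (fun e => e ▸ hk) (hTk t),
      fun F r hF hsum => ?_⟩
    by_cases hxF : x ∈ F
    · have hrx : r x ∈ P.toIdeal := by
        by_contra hrx
        obtain ⟨d, hd⟩ : ∃ d, pr 𝒜 d (r x) ∉ P.toIdeal := by
          by_contra hall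
          push Not at hall
          exact hrx (mem_of_pr (ℳ := 𝒜) (P := P.toIdeal) hall)
        refine hno ⟨_, ⟨d, pr_mem d (r x)⟩, hd, ?_⟩
        have hmem : r x • x ∈ Submodule.span R T := by
          rw [← Finset.add_sum_erase F _ hxF, add_eq_zero_iff_eq_neg] at hsum
          rw [hsum]
          refine neg_mem (sum_mem fun t ht => Submodule.smul_mem _ _ (Submodule.subset_span ?_))
          exact (hF (Finset.mem_of_mem_erase ht)).resolve_left (Finset.ne_of_mem_erase ht)
        have h1 : pr ℳ (d + g) (r x • x) = pr 𝒜 d (r x) • x := by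
          rw [← sum_supp (ℳ := 𝒜) (r x), Finset.sum_smul, map_sum, map_sum, Finset.sum_smul]
          refine Finset.sum_congr rfl fun i _ => ?_
          rw [pr_smul' (pr_mem (ℳ := 𝒜) i (r x))]
          rcases eq_or_ne i d with rfl | hne
          · rw [add_sub_cancel_left, pr_of_mem hx, pr_of_mem (pr_mem (ℳ := 𝒜) i (r x))]
          · rw [pr_of_ne hx (fun e => hne (by rw [eq_sub_iff_add_eq, add_comm g i] at e; exact add_right_cancel e)),
              smul_zero, pr_of_ne (pr_mem (ℳ := 𝒜) i (r x)) hne, zero_smul]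
        rw [← h1]
        exact hspanhom (d + g) hmem
      intro t ht
      rcases eq_or_ne t x with rfl | hne
      · exact hrx
      refine hTi (F.erase x) r (fun y hy => ?_) ?_ t (Finset.mem_erase.2 ⟨hne, ht⟩)
      · rw [Finset.coe_erase] at hy
        exact (hF hy.1).resolve_left hy.2
      · rwa [← Finset.add_sum_erase F _ hxF, hk _ hrx, zero_add] at hsum
    · exact hTi F r (fun y hy => (hF hy).resolve_left fun e => hxF (e ▸ hy)) hsum
  refine ⟨⟨T, hTh, hTk, hTi, fun z hz => ?_⟩⟩
  choose s hsh hsP hs using fun i => hone i (pr ℳ i z) (pr_mem i z) (killed_pr P ℳ hz i)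
  refine ⟨∏ i ∈ supp ℳ z, s i, (SetLike.homogeneousSubmonoid 𝒜).prod_mem fun i _ => hsh i,
    fun h => ?_, ?_⟩
  · obtain ⟨i, -, hi⟩ := (Ideal.IsPrime.prod_mem_iff).1 h
    exact hsP i hi
  · conv => arg 2; arg 2; rw [← sum_supp (ℳ := ℳ) z]
    rw [Finset.smul_sum]
    refine sum_mem fun i hi => ?_
    rw [← Finset.prod_erase_mul _ _ hi, mul_smul]
    exact Submodule.smul_mem _ _ (hs i)

variable {P ℳ}
variable (b : PBasis P ℳ) (q : Ideal R) [q.IsPrime]

/-- The parametrisation of the elements of `M_q` killed by `P`. -/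
noncomputable def param : (b.T →₀ Localization.AtPrime q) →ₗ[Localization.AtPrime q] LocalizedModule q.primeCompl M :=
  Finsupp.linearCombination (Localization.AtPrime q) fun t : b.T => LocalizedModule.mkLinearMap q.primeCompl M t

theorem param_killed (a : b.T →₀ Localization.AtPrime q) : ∀ r ∈ P.toIdeal, r • param b q a = 0 := by
  intro r hr
  rw [param, Finsupp.linearCombination_apply, Finsupp.smul_sum]
  refine Finset.sum_eq_zero fun t _ => ?_
  show r • (a t • LocalizedModule.mkLinearMap q.primeCompl M (t : M)) = 0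
  rw [smul_comm, ← map_smul, b.killed t t.2 r hr, map_zero, smul_zero]

theorem mem_map_of_param_eq_zero [P.toIdeal.IsPrime] (hPq : P.toIdeal ≤ q) {a : b.T →₀ Localization.AtPrime q}
    (ha : param b q a = 0) : ∀ t, a t ∈ P.toIdeal.map (algebraMap R (Localization.AtPrime q)) := by
  classical
  intro t
  by_cases ht : t ∈ a.support
  swap
  · rw [Finsupp.notMem_support_iff.1 ht]; exact zero_mem _
  obtain ⟨⟨c, hc⟩, hint⟩ := IsLocalization.exist_integer_multiples q.primeCompl a.support (fun t => a t)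
  have hr : ∀ s : b.T, ∃ r : R, s ∈ a.support → algebraMap R (Localization.AtPrime q) r = c • a s := fun s => by
    by_cases hs : s ∈ a.support
    · obtain ⟨r, hr⟩ := hint s hs
      exact ⟨r, fun _ => hr⟩
    · exact ⟨0, fun h => absurd h hs⟩
  choose r hr using hr
  have h1 : LocalizedModule.mkLinearMap q.primeCompl M (∑ s ∈ a.support, r s • (s : M)) = 0 := by
    rw [map_sum, ← smul_zero c, ← ha, param, Finsupp.linearCombination_apply, Finsupp.smul_sum]
    refine Finset.sum_congr rfl fun s hs => ?_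
    show _ = c • (a s • _)
    rw [map_smul, ← algebraMap_smul (Localization.AtPrime q) (r s), hr s hs, smul_assoc]
  obtain ⟨w, hw⟩ := (IsLocalizedModule.eq_zero_iff q.primeCompl _).1 h1
  rw [Submonoid.smul_def, Finset.smul_sum] at hw
  let r' : M → R := fun x => if h : x ∈ b.T then (w : R) * r ⟨x, h⟩ else 0
  have h2 := b.indep (a.support.map (Function.Embedding.subtype _)) r' (fun y hy => by
    rw [Finset.coe_map] at hy
    obtain ⟨s, -, rfl⟩ := hy
    exact s.2) (by
    rw [Finset.sum_map]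
    refine Eq.trans (Finset.sum_congr rfl fun s _ => ?_) hw
    show r' (s : M) • (s : M) = _
    simp only [r', dif_pos s.2, mul_smul]) t (Finset.mem_map_of_mem (Function.Embedding.subtype _) ht)
  simp only [r', dif_pos t.2] at h2
  have h3 : r t ∈ P.toIdeal := (Ideal.IsPrime.mem_or_mem inferInstance h2).resolve_left fun h => w.2 (hPq h)
  obtain ⟨v, hv⟩ := (IsLocalization.map_units (Localization.AtPrime q) (⟨c, hc⟩ : q.primeCompl)).exists_left_inv
  rw [← one_mul (a t), ← hv, mul_assoc, ← Algebra.smul_def c (a t), ← hr t ht]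
  exact Ideal.mul_mem_left _ _ (Ideal.mem_map_of_mem _ h3)

theorem exists_param [IsNoetherianRing R] (hcore : ∀ d, ∀ a ∈ 𝒜 d, a ∈ q → a ∈ P.toIdeal)
    {x : LocalizedModule q.primeCompl M} (hx : ∀ r ∈ P.toIdeal, r • x = 0) :
    ∃ a, param b q a = x := by
  classical
  induction x using LocalizedModule.induction_on with
  | h z s =>
    obtain ⟨G, hG⟩ := (IsNoetherian.noetherian P.toIdeal)
    have hc : ∀ g : R, ∃ c : q.primeCompl, g ∈ G → (c : R) • g • z = 0 := fun g => by
      by_cases hg : g ∈ G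
      · have h := hx g (hG ▸ Submodule.subset_span hg)
        rw [LocalizedModule.smul'_mk, ← LocalizedModule.zero_mk s, LocalizedModule.mk_eq] at h
        obtain ⟨c, hc⟩ := h
        simp only [smul_zero, Submonoid.smul_def] at hc
        exact ⟨c * s, fun _ => by rw [Submonoid.coe_mul, mul_smul]; exact hc⟩
      · exact ⟨1, fun h => absurd h hg⟩
    choose c hc using hc
    let C : q.primeCompl := ∏ g ∈ G, c g
    have hk : ∀ r ∈ P.toIdeal, r • (C : R) • z = 0 := by
      intro r hr
      rw [← hG] at hr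
      induction hr using Submodule.span_induction with
      | mem g hg =>
        show g • ((∏ g ∈ G, c g : q.primeCompl) : R) • z = 0
        rw [← Finset.prod_erase_mul _ _ hg, Submonoid.coe_mul, mul_smul, smul_comm g, smul_comm g, hc g hg, smul_zero]
      | zero => exact zero_smul R _
      | add p p' _ _ hp hp' => rw [add_smul, hp, hp', add_zero]
      | smul e p _ hp => rw [smul_eq_mul, mul_smul, hp, smul_zero]
    obtain ⟨s', ⟨d, hd⟩, hs', hmem⟩ := b.spanning _ hk
    have hs'q : s' ∈ q.primeCompl := fun h => hs' (hcore d s' hd h)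
    let A := Localization.AtPrime q
    have hrange : LocalizedModule.mkLinearMap q.primeCompl M (s' • (C : R) • z) ∈ LinearMap.range (param b q) := by
      generalize s' • (C : R) • z = y at hmem
      induction hmem using Submodule.span_induction with
      | mem t ht => exact ⟨Finsupp.single ⟨t, ht⟩ 1, by rw [param, Finsupp.linearCombination_single, one_smul]⟩
      | zero => rw [map_zero]; exact zero_mem _
      | add p p' _ _ hp hp' => rw [map_add]; exact add_mem hp hp'
      | smul e p _ hp =>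
        rw [map_smul, ← algebraMap_smul A e]
        exact Submodule.smul_mem _ _ hp
    obtain ⟨v, hv⟩ := (IsLocalization.map_units A (⟨s', hs'q⟩ * C * s)).exists_left_inv
    obtain ⟨a, ha⟩ := hrange
    refine ⟨v • a, ?_⟩
    rw [map_smul, ha]
    show v • LocalizedModule.mk (s' • (C : R) • z) 1 = _
    have h1 : algebraMap R A (((⟨s', hs'q⟩ * C * s : q.primeCompl) : R)) • LocalizedModule.mk z s =
        LocalizedModule.mk (s' • (C : R) • z) 1 := by
      rw [algebraMap_smul, Submonoid.coe_mul, Submonoid.coe_mul, mul_smul, mul_smul, LocalizedModule.smul'_mk,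
        ← Submonoid.smul_def s z, LocalizedModule.mk_cancel, LocalizedModule.smul'_mk, LocalizedModule.smul'_mk]
    rw [← h1, ← mul_smul, hv, one_smul]

end Basis

/-! ### Evaluation -/

/-- Maps out of a cyclic module. -/
theorem exists_hom_of_killed {A : Type u} [CommRing A] (J : Ideal A) {Y : Type u} [AddCommGroup Y] [Module A Y]
    {y : Y} (hy : ∀ a ∈ J, a • y = 0) : ∃ f : (A ⧸ J) →ₗ[A] Y, f (Ideal.Quotient.mk J 1) = y :=
  ⟨Submodule.liftQ J (LinearMap.toSpanSingleton A Y y) fun a ha => hy a ha, one_smul A y⟩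

theorem hom_ext_quotient {A : Type u} [CommRing A] (J : Ideal A) {Y : Type u} [AddCommGroup Y] [Module A Y]
    {f g : (A ⧸ J) →ₗ[A] Y} (h : f (Ideal.Quotient.mk J 1) = g (Ideal.Quotient.mk J 1)) : f = g := by
  refine LinearMap.ext fun z => ?_
  obtain ⟨a, rfl⟩ := Ideal.Quotient.mk_surjective z
  rw [show Ideal.Quotient.mk J a = a • Ideal.Quotient.mk J 1 by
    rw [Algebra.smul_def, Ideal.Quotient.algebraMap_eq, ← map_mul, mul_one], map_smul, map_smul, h]

theorem smul_eq_zero_of_killed {q : Ideal R} [q.IsPrime] {P : Ideal R} {Y : Type u} [AddCommGroup Y] [Module R Y]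
    {y : LocalizedModule q.primeCompl Y} (hy : ∀ r ∈ P, r • y = 0) :
    ∀ a ∈ P.map (algebraMap R (Localization.AtPrime q)), a • y = 0 := by
  intro a ha
  induction ha using Submodule.span_induction with
  | mem w hw => obtain ⟨r, hr, rfl⟩ := hw; rw [algebraMap_smul, hy r hr]
  | zero => exact zero_smul _ _
  | add p p' _ _ hp hp' => rw [add_smul, hp, hp', add_zero]
  | smul e p _ hp => rw [smul_eq_mul, mul_smul, hp, smul_zero]

variable [IsNoetherianRing R] (P : HomogeneousIdeal 𝒜) [P.toIdeal.IsPrime]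

/-- The zeroth Bass number at a homogeneous prime. -/
theorem bassNum_core {M : Type u} [AddCommGroup M] [Module R M] {ℳ : ι → AddSubgroup M} [DirectSum.Decomposition ℳ]
    [SetLike.GradedSMul 𝒜 ℳ] (b : PBasis P ℳ) : GrLC.bassNum P.toIdeal M 0 = ENat.card b.T := by
  classical
  let A := Localization.AtPrime P.toIdeal
  let Y := LocalizedModule P.toIdeal.primeCompl M
  let k := ResidueField A
  have hmax : P.toIdeal.map (algebraMap R A) = maximalIdeal A := Localization.AtPrime.map_eq_maximalIdeal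
  have hex : ∀ a : b.T →₀ A, ∃ f : k →ₗ[A] Y, f 1 = param b P.toIdeal a := fun a => by
    obtain ⟨f, hf⟩ := exists_hom_of_killed (maximalIdeal A) (y := param b P.toIdeal a) (fun c hc =>
      smul_eq_zero_of_killed (param_killed b P.toIdeal a) c (hmax.symm ▸ hc))
    exact ⟨f, hf⟩
  choose G hG using hex
  have hext : ∀ {f g : k →ₗ[A] Y}, f 1 = g 1 → f = g := fun {f g} h => hom_ext_quotient (maximalIdeal A) h
  let G' : (b.T →₀ A) →ₗ[A] (k →ₗ[A] Y) :=
    { toFun := G
      map_add' := fun x y => hext (by rw [LinearMap.add_apply, hG, hG, hG, map_add])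
      map_smul' := fun c x => hext (by rw [RingHom.id_apply, LinearMap.smul_apply, hG, hG, map_smul]) }
  let e : Ext.{u} (ModuleCat.of A k) (ModuleCat.of A Y) 0 ≃ₗ[A] (k →ₗ[A] Y) :=
    Ext.linearEquiv₀.trans ModuleCat.homLinearEquiv
  show Module.length A (Ext.{u} (ModuleCat.of A k) (ModuleCat.of A Y) 0) = _
  rw [e.length_eq]
  refine length_of_param G' (fun f => ?_) fun a => ⟨fun h t => ?_, fun h => hext ?_⟩
  · obtain ⟨a, ha⟩ := exists_param b P.toIdeal (fun d a _ h => h) (x := f 1) fun r hr => by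
      have h0 : r • (1 : k) = 0 := by
        rw [← algebraMap_smul A r (1 : k), Algebra.smul_def, mul_one]
        exact (residue_eq_zero_iff _).2 (hmax ▸ Ideal.mem_map_of_mem _ hr)
      rw [← LinearMap.map_smul_of_tower, h0, map_zero]
    exact ⟨a, hext ((hG a).trans ha)⟩
  · rw [← hmax]
    refine mem_map_of_param_eq_zero b P.toIdeal le_rfl ?_ t
    rw [← hG]
    exact LinearMap.congr_fun h 1
  · show G a 1 = (0 : k →ₗ[A] Y) 1
    rw [hG, LinearMap.zero_apply, param, Finsupp.linearCombination_apply]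
    refine Finset.sum_eq_zero fun t _ => ?_
    exact smul_eq_zero_of_killed (P := P.toIdeal) (y := LocalizedModule.mkLinearMap P.toIdeal.primeCompl M t)
      (fun r hr => by rw [← map_smul, b.killed t t.2 r hr, map_zero]) _ (hmax.symm ▸ h t)

/-- In an essential extension, elements killed by `P` come from the submodule up to homogeneous scalars outside `P`. -/
theorem exists_smul_mem_ess {M : Type u} [AddCommGroup M] [Module R M] {ℳ : ι → AddSubgroup M}
    [DirectSum.Decomposition ℳ] [SetLike.GradedSMul 𝒜 ℳ]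
    {X : Type u} [AddCommGroup X] [Module R X] {𝒳 : ι → AddSubgroup X} [DirectSum.Decomposition 𝒳]
    [SetLike.GradedSMul 𝒜 𝒳] {f : M →ₗ[R] X} (hf : IsStarEss ℳ 𝒳 f) {g : ι} {x : X} (hx : x ∈ 𝒳 g)
    (hk : ∀ r ∈ P.toIdeal, r • x = 0) :
    ∃ s : R, SetLike.IsHomogeneousElem 𝒜 s ∧ s ∉ P.toIdeal ∧ s • x ∈ LinearMap.range f := by
  obtain ⟨u, hu, hux⟩ := GrBassZero.exists_smul_mem_range (𝒜 := 𝒜) P f hf.essential hk
  obtain ⟨d, hd⟩ : ∃ d, pr 𝒜 d u ∉ P.toIdeal := by
    by_contra hall
    push Not at hall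
    exact hu (mem_of_pr (ℳ := 𝒜) (P := P.toIdeal) hall)
  refine ⟨_, ⟨d, pr_mem d u⟩, hd, ?_⟩
  have h1 : pr 𝒳 (d + g) (u • x) = pr 𝒜 d u • x := by
    rw [← sum_supp (ℳ := 𝒜) u, Finset.sum_smul, map_sum, map_sum, Finset.sum_smul]
    refine Finset.sum_congr rfl fun i _ => ?_
    have hi := smul_mem_gr (pr_mem (ℳ := 𝒜) i u) hx
    rcases eq_or_ne i d with rfl | hne
    · rw [pr_of_mem hi, pr_of_mem (pr_mem (ℳ := 𝒜) i u)]
    · rw [pr_of_ne hi fun e => hne (add_right_cancel e), pr_of_ne (pr_mem (ℳ := 𝒜) i u) hne, zero_smul]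
  rw [← h1]
  exact hom_range hf.grHom (d + g) hux

/-- In an essential extension, the elements of the localisation killed by `P` vanish in the cokernel. -/
theorem loc_mkQ_eq_zero {M : Type u} [AddCommGroup M] [Module R M] {ℳ : ι → AddSubgroup M}
    [DirectSum.Decomposition ℳ] [SetLike.GradedSMul 𝒜 ℳ]
    {X : Type u} [AddCommGroup X] [Module R X] {𝒳 : ι → AddSubgroup X} [DirectSum.Decomposition 𝒳]
    [SetLike.GradedSMul 𝒜 𝒳] {f : M →ₗ[R] X} (hf : IsStarEss ℳ 𝒳 f) {q : Ideal R} [q.IsPrime]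
    (hcore : ∀ d, ∀ a ∈ 𝒜 d, a ∈ q → a ∈ P.toIdeal) {x : LocalizedModule q.primeCompl X}
    (hx : ∀ r ∈ P.toIdeal, r • x = 0) : LocalizedModule.map q.primeCompl (LinearMap.range f).mkQ x = 0 := by
  obtain ⟨b⟩ := nonempty_pBasis P 𝒳
  obtain ⟨a, rfl⟩ := exists_param b q hcore hx
  rw [param, Finsupp.linearCombination_apply, map_finsuppSum]
  refine Finset.sum_eq_zero fun t _ => ?_
  obtain ⟨g, hg⟩ := b.hom t t.2
  obtain ⟨s, ⟨d, hd⟩, hsP, hs⟩ := exists_smul_mem_ess P hf hg (b.killed t t.2)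
  have h0 : LocalizedModule.map q.primeCompl (LinearMap.range f).mkQ (LocalizedModule.mkLinearMap q.primeCompl X t) = 0 := by
    show LocalizedModule.map q.primeCompl (LinearMap.range f).mkQ (LocalizedModule.mk (t : X) 1) = 0
    rw [LocalizedModule.map_mk, ← LocalizedModule.zero_mk (1 : q.primeCompl), LocalizedModule.mk_eq]
    refine ⟨⟨s, fun h => hsP (hcore d s hd h)⟩, ?_⟩
    simp only [Submonoid.smul_def, one_smul, smul_zero]
    rw [← map_smul, Submodule.mkQ_apply, Submodule.Quotient.mk_eq_zero]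
    exact hs
  show LocalizedModule.map q.primeCompl (LinearMap.range f).mkQ (a t • LocalizedModule.mkLinearMap q.primeCompl X t) = 0
  rw [map_smul, h0, smul_zero]

section Above

variable (q : Ideal R) [q.IsPrime]

/-- The ideal generated by `P` in the local ring at `q`. -/
noncomputable abbrev coreIdeal : Ideal (Localization.AtPrime q) := P.toIdeal.map (algebraMap R (Localization.AtPrime q))

/-- `(R/P)_q`. -/
noncomputable abbrev bMod : ModuleCat.{u} (Localization.AtPrime q) :=
  ModuleCat.of (Localization.AtPrime q) (Localization.AtPrime q ⧸ coreIdeal P q)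

theorem subsingleton_ext_bMod {X : Type u} [AddCommGroup X] [Module R X] {𝒳 : ι → AddSubgroup X}
    [DirectSum.Decomposition 𝒳] [SetLike.GradedSMul 𝒜 𝒳] (hX : IsStarInj 𝒜 𝒳) (k : ℕ) :
    Subsingleton (Ext.{u} (bMod P q) (locMod q.primeCompl X) (k + 1)) := by
  let A := Localization.AtPrime q
  haveI : Module.Finite R (GMod.of 𝒜 (R ⧸ P.toIdeal) (quotGr 𝒜 P)).carrier :=
    inferInstanceAs (Module.Finite R (R ⧸ P.toIdeal))
  have h := subsingleton_ext_loc q.primeCompl hX k (GMod.of 𝒜 (R ⧸ P.toIdeal) (quotGr 𝒜 P))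
  let f := Submodule.toLocalizedQuotient' A q.primeCompl (Algebra.linearMap R A) P.toIdeal
  let e : (A ⧸ coreIdeal P q) ≃ₗ[A] LocalizedModule q.primeCompl (R ⧸ P.toIdeal) :=
    (Submodule.quotEquivOfEq _ _ (Ideal.localized'_eq_map A q.primeCompl P.toIdeal).symm).trans
      ((IsLocalizedModule.linearEquiv q.primeCompl f
        (LocalizedModule.mkLinearMap q.primeCompl (R ⧸ P.toIdeal))).extendScalarsOfIsLocalization q.primeCompl A)
  let i : bMod P q ≅ locMod q.primeCompl (R ⧸ P.toIdeal) := e.toModuleIso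
  refine subsingleton_of_forall_eq 0 fun x => ?_
  have h0 : (Ext.mk₀ i.inv).comp x (zero_add _) = 0 := @Subsingleton.elim _ h _ _
  rw [← Ext.mk₀_id_comp x, ← i.hom_inv_id, ← Ext.mk₀_comp_mk₀, Ext.comp_assoc_of_second_deg_zero, h0, Ext.comp_zero]

variable {q} (hPq : P.toIdeal ≤ q) (hcore : ∀ d, ∀ a ∈ 𝒜 d, a ∈ q → a ∈ P.toIdeal) {π : R} (hπ : π ∈ q)
  (hπP : π ∉ P.toIdeal) (hπx : ∀ x ∈ q, ∃ s ∉ q, ∃ r : R, s * x - r * π ∈ P.toIdeal)

include hPq hπP in
theorem mem_core_of_mul (x : Localization.AtPrime q) (h : algebraMap R _ π * x ∈ coreIdeal P q) : x ∈ coreIdeal P q := by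
  let A := Localization.AtPrime q
  obtain ⟨⟨y, s⟩, hys⟩ := IsLocalization.surj q.primeCompl x
  have hcomap : (coreIdeal P q).comap (algebraMap R A) = P.toIdeal :=
    IsLocalization.comap_map_of_isPrime_disjoint q.primeCompl A inferInstance
      (Set.disjoint_left.2 fun a ha hb => ha (hPq hb))
  have h1 : π * y ∈ (coreIdeal P q).comap (algebraMap R A) := by
    rw [Ideal.mem_comap, map_mul, ← hys, ← mul_assoc]
    exact Ideal.mul_mem_right _ _ h
  rw [hcomap] at h1
  obtain ⟨v, hv⟩ := (IsLocalization.map_units A s).exists_left_inv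
  rw [← one_mul x, ← hv, mul_assoc, mul_comm (algebraMap R A s) x, hys]
  exact Ideal.mul_mem_left _ _ (Ideal.mem_map_of_mem _ ((Ideal.IsPrime.mem_or_mem inferInstance h1).resolve_left hπP))

include hπx in
theorem exists_div (x : Localization.AtPrime q) (hx : x ∈ maximalIdeal (Localization.AtPrime q)) :
    ∃ e, x - algebraMap R _ π * e ∈ coreIdeal P q := by
  let A := Localization.AtPrime q
  obtain ⟨⟨y, s⟩, hys⟩ := IsLocalization.surj q.primeCompl x
  have hy : y ∈ q := (IsLocalization.AtPrime.to_map_mem_maximal_iff A q y).1 (hys ▸ Ideal.mul_mem_right _ _ hx)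
  obtain ⟨s', hs', r, hr⟩ := hπx y hy
  obtain ⟨v, hv⟩ := (IsLocalization.map_units A (s * ⟨s', hs'⟩)).exists_left_inv
  rw [Submonoid.coe_mul, map_mul] at hv
  refine ⟨v * algebraMap R A r, ?_⟩
  have : x - algebraMap R A π * (v * algebraMap R A r) = v * algebraMap R A (s' * y - r * π) := by
    rw [map_sub, map_mul, map_mul, ← hys, mul_sub]
    linear_combination -x * hv
  rw [this]
  exact Ideal.mul_mem_left _ _ (Ideal.mem_map_of_mem _ hr)

include hPq in
theorem core_le_max : coreIdeal P q ≤ maximalIdeal (Localization.AtPrime q) := by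
  rw [← Localization.AtPrime.map_eq_maximalIdeal]
  exact Ideal.map_mono hPq

/-- The sequence `B →π B → k`. -/
noncomputable def piSeq (hPq : P.toIdeal ≤ q) {π : R} (hπ : π ∈ q) : ShortComplex (ModuleCat.{u} (Localization.AtPrime q)) :=
  ShortComplex.mk (X₁ := bMod P q) (X₂ := bMod P q)
    (X₃ := ModuleCat.of (Localization.AtPrime q) (ResidueField (Localization.AtPrime q)))
    (algebraMap R (Localization.AtPrime q) π • 𝟙 (bMod P q))
    (ModuleCat.ofHom (Submodule.factor (core_le_max P hPq)))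
    (ModuleCat.hom_ext (LinearMap.ext fun z => by
      show Submodule.factor (core_le_max P hPq) (algebraMap R (Localization.AtPrime q) π • z) = 0
      obtain ⟨c, rfl⟩ := Submodule.Quotient.mk_surjective _ z
      rw [← Submodule.Quotient.mk_smul]
      exact (Submodule.Quotient.mk_eq_zero _).2
        (Ideal.mul_mem_right _ _ ((IsLocalization.AtPrime.to_map_mem_maximal_iff _ q π).2 hπ))))

include hπP hπx in
theorem piSeq_shortExact : (piSeq P hPq hπ).ShortExact where
  exact := (ShortComplex.moduleCat_exact_iff _).2 fun z hz => by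
    obtain ⟨c, rfl⟩ := Submodule.Quotient.mk_surjective _ z
    obtain ⟨e, he⟩ := exists_div P hπx c ((Submodule.Quotient.mk_eq_zero _).1 hz)
    refine ⟨Submodule.Quotient.mk e, ?_⟩
    show algebraMap R (Localization.AtPrime q) π • (Submodule.Quotient.mk e : Localization.AtPrime q ⧸ coreIdeal P q) = _
    rw [← Submodule.Quotient.mk_smul, smul_eq_mul, Submodule.Quotient.eq, ← neg_sub]
    exact neg_mem he
  mono_f := (ModuleCat.mono_iff_injective _).2 (by
    rw [injective_iff_map_eq_zero]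
    intro z hz
    obtain ⟨c, rfl⟩ := Submodule.Quotient.mk_surjective _ z
    change algebraMap R (Localization.AtPrime q) π • (Submodule.Quotient.mk c : Localization.AtPrime q ⧸ coreIdeal P q) = 0 at hz
    rw [← Submodule.Quotient.mk_smul, smul_eq_mul, Submodule.Quotient.mk_eq_zero] at hz
    exact (Submodule.Quotient.mk_eq_zero _).2 (mem_core_of_mul P hPq hπP c hz))
  epi_g := (ModuleCat.epi_iff_surjective _).2 (Submodule.factor_surjective (core_le_max P hPq))

theorem piSeq_f_comp {Z : ModuleCat.{u} (Localization.AtPrime q)} (g : bMod P q ⟶ Z) :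
    (piSeq P hPq hπ).f ≫ g = algebraMap R (Localization.AtPrime q) π • g := by
  show (algebraMap R (Localization.AtPrime q) π • 𝟙 (bMod P q)) ≫ g = _
  rw [Linear.smul_comp, Category.id_comp]

variable {M : Type u} [AddCommGroup M] [Module R M] {ℳ : ι → AddSubgroup M} [DirectSum.Decomposition ℳ]
  [SetLike.GradedSMul 𝒜 ℳ]

include hPq hcore in
theorem exists_homParam (b : PBasis P ℳ) :
    ∃ G : (b.T →₀ Localization.AtPrime q) →ₗ[Localization.AtPrime q] (bMod P q ⟶ locMod q.primeCompl M),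
      Function.Surjective G ∧ ∀ a, G a = 0 ↔ ∀ t, a t ∈ coreIdeal P q := by
  classical
  let A := Localization.AtPrime q
  let Y := LocalizedModule q.primeCompl M
  let B := A ⧸ coreIdeal P q
  let u : B := Ideal.Quotient.mk (coreIdeal P q) 1
  have hex : ∀ a : b.T →₀ A, ∃ f : B →ₗ[A] Y, f u = param b q a := fun a =>
    exists_hom_of_killed (coreIdeal P q) fun c hc => smul_eq_zero_of_killed (param_killed b q a) c hc
  choose G hG using hex
  have hext : ∀ {f g : B →ₗ[A] Y}, f u = g u → f = g := fun {f g} h => hom_ext_quotient (coreIdeal P q) h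
  let G' : (b.T →₀ A) →ₗ[A] (B →ₗ[A] Y) :=
    { toFun := G
      map_add' := fun x y => hext (by rw [LinearMap.add_apply, hG, hG, hG, map_add])
      map_smul' := fun c x => hext (by rw [RingHom.id_apply, LinearMap.smul_apply, hG, hG, map_smul]) }
  refine ⟨(ModuleCat.homLinearEquiv (S := A)).symm.toLinearMap ∘ₗ G', fun f => ?_, fun a => ?_⟩
  · obtain ⟨a, ha⟩ := exists_param b q hcore (x := f.hom u) fun r hr => by
      have h0 : algebraMap R A r • u = 0 := by
        show algebraMap R A r • (Submodule.Quotient.mk (1 : A) : B) = 0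
        rw [← Submodule.Quotient.mk_smul, smul_eq_mul, mul_one, Submodule.Quotient.mk_eq_zero]
        exact Ideal.mem_map_of_mem _ hr
      rw [← algebraMap_smul A r, ← map_smul, h0, map_zero]
    exact ⟨a, ModuleCat.hom_ext (hext ((hG a).trans ha))⟩
  · rw [LinearMap.comp_apply, LinearEquiv.coe_coe, LinearEquiv.map_eq_zero_iff]
    refine ⟨fun h => mem_map_of_param_eq_zero b q hPq ?_, fun h => hext ?_⟩
    · rw [← hG]
      exact LinearMap.congr_fun h u
    · show G a u = (0 : B →ₗ[A] Y) u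
      rw [hG, LinearMap.zero_apply, param, Finsupp.linearCombination_apply]
      refine Finset.sum_eq_zero fun t _ => ?_
      exact smul_eq_zero_of_killed (P := P.toIdeal) (y := LocalizedModule.mkLinearMap q.primeCompl M t)
        (fun r hr => by rw [← map_smul, b.killed t t.2 r hr, map_zero]) _ (h t)

include hPq hcore hπP in
theorem smul_hom_eq_zero (ℳ : ι → AddSubgroup M) [DirectSum.Decomposition ℳ] [SetLike.GradedSMul 𝒜 ℳ]
    (g : bMod P q ⟶ locMod q.primeCompl M) (hg : algebraMap R (Localization.AtPrime q) π • g = 0) : g = 0 := by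
  obtain ⟨b⟩ := nonempty_pBasis P ℳ
  obtain ⟨G, hGs, hGk⟩ := exists_homParam P hPq hcore b
  obtain ⟨a, rfl⟩ := hGs g
  rw [← map_smul] at hg
  refine (hGk a).2 fun t => mem_core_of_mul P hPq hπP (a t) ?_
  have h := (hGk _).1 hg t
  rwa [Finsupp.smul_apply, smul_eq_mul] at h

include hPq hcore hπ hπP hπx in
theorem bassNum_zero_above (ℳ : ι → AddSubgroup M) [DirectSum.Decomposition ℳ] [SetLike.GradedSMul 𝒜 ℳ] :
    GrLC.bassNum q M 0 = 0 := by
  let C := piSeq P hPq hπ
  have hC := piSeq_shortExact P hPq hπ hπP hπx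
  show Module.length _ (Ext.{u} C.X₃ (locMod q.primeCompl M) 0) = 0
  rw [Module.length_eq_zero_iff]
  refine subsingleton_of_forall_eq 0 fun x => ?_
  obtain ⟨f, rfl⟩ := (Ext.mk₀_bijective _ _).2 x
  haveI : Epi C.g := hC.epi_g
  have hg : C.g ≫ f = 0 := smul_hom_eq_zero P hPq hcore hπP ℳ _ (by
    refine (piSeq_f_comp P hPq hπ (C.g ≫ f)).symm.trans ?_
    show C.f ≫ C.g ≫ f = 0
    rw [← Category.assoc, C.zero, Limits.zero_comp])
  rw [(cancel_epi C.g).1 (hg.trans Limits.comp_zero.symm), Ext.mk₀_zero]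

variable {X : Type u} [AddCommGroup X] [Module R X] {𝒳 : ι → AddSubgroup X} [DirectSum.Decomposition 𝒳]
  [SetLike.GradedSMul 𝒜 𝒳] {f : M →ₗ[R] X}

/-- The localised cokernel sequence of a graded injection. -/
theorem cokerSeq_shortExact (hfi : Function.Injective f) :
    (ShortComplex.mk (X₁ := ModuleCat.of R M) (X₂ := ModuleCat.of R X) (ModuleCat.ofHom f)
      (ModuleCat.ofHom (LinearMap.range f).mkQ)
      (ModuleCat.hom_ext (LinearMap.ext fun x => (Submodule.Quotient.mk_eq_zero _).2 ⟨x, rfl⟩))).ShortExact where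
  exact := (ShortComplex.ShortExact.moduleCat_exact_iff_function_exact _).2 (LinearMap.exact_map_mkQ_range f)
  mono_f := (ModuleCat.mono_iff_injective _).2 hfi
  epi_g := (ModuleCat.epi_iff_surjective _).2 (Submodule.mkQ_surjective _)

include hcore in
/-- Maps from `(R/P)_q` into the *hull die in the cokernel. -/
theorem comp_mkQ_eq_zero (hf : IsStarEss ℳ 𝒳 f) (g : bMod P q ⟶ locMod q.primeCompl X) :
    g ≫ (ModuleCat.ofHom (LocalizedModule.map q.primeCompl (LinearMap.range f).mkQ) :
      locMod q.primeCompl X ⟶ locMod q.primeCompl (X ⧸ LinearMap.range f)) = 0 := by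
  refine ModuleCat.hom_ext (hom_ext_quotient (coreIdeal P q) ?_)
  refine loc_mkQ_eq_zero P hf hcore fun r hr => ?_
  have h0 : algebraMap R (Localization.AtPrime q) r •
      (Ideal.Quotient.mk (coreIdeal P q) (1 : Localization.AtPrime q)) = 0 := by
    show algebraMap R (Localization.AtPrime q) r •
      (Submodule.Quotient.mk (1 : Localization.AtPrime q) : Localization.AtPrime q ⧸ coreIdeal P q) = 0
    rw [← Submodule.Quotient.mk_smul, smul_eq_mul, mul_one, Submodule.Quotient.mk_eq_zero]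
    exact Ideal.mem_map_of_mem _ hr
  rw [← algebraMap_smul (Localization.AtPrime q) r, ← map_smul, h0, map_zero]

include hPq hcore hπ hπP hπx in
/-- The first Bass number above the core. -/
theorem bassNum_one_above (ℳ : ι → AddSubgroup M) [DirectSum.Decomposition ℳ] [SetLike.GradedSMul 𝒜 ℳ] :
    GrLC.bassNum q M 1 = GrLC.bassNum P.toIdeal M 0 := by
  classical
  obtain ⟨b⟩ := nonempty_pBasis P ℳ
  rw [bassNum_core P b]
  let A := Localization.AtPrime q
  let p' : A := algebraMap R A π
  obtain ⟨G, hGs, hGk⟩ := exists_homParam P hPq hcore b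
  let C := piSeq P hPq hπ
  have hC := piSeq_shortExact P hPq hπ hπP hπx
  let Y := locMod q.primeCompl M
  let D : Ext.{u} C.X₁ Y 0 →ₗ[A] Ext.{u} C.X₃ Y 1 :=
    { toFun := fun x => hC.extClass.comp x (add_zero 1)
      map_add' := fun x y => Ext.comp_add _ _ _ _
      map_smul' := fun c x => Ext.comp_smul _ _ _ _ }
  let G1 : (b.T →₀ A) →ₗ[A] Ext.{u} C.X₃ Y 1 :=
    D ∘ₗ (Ext.linearEquiv₀ (R := A) (X := C.X₁) (Y := Y)).symm.toLinearMap ∘ₗ G
  have hG1 : ∀ a, G1 a = hC.extClass.comp (Ext.mk₀ (G a)) (add_zero 1) := fun a => rfl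
  show Module.length A (Ext.{u} C.X₃ Y 1) = _
  refine length_of_param G1 (fun x => ?_) fun a => ⟨fun h t => ?_, fun h => ?_⟩
  · have hz : (Ext.mk₀ C.g).comp x (zero_add 1) = 0 := by
      letI : DirectSum.Decomposition ℳ := inferInstance
      obtain ⟨E, j, hj⟩ := exists_hull 𝒜 ℳ
      have hjq : (LinearMap.range j).IsHomogeneous E.gr := hom_range hj.grHom
      letI : DirectSum.Decomposition (quoGr E.gr (LinearMap.range j)) := (isInternal_quo hjq).chooseDecomposition
      haveI : SetLike.GradedSMul 𝒜 (quoGr E.gr (LinearMap.range j)) := gsmul_quo _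
      have hS := LocCohLib.locSeq_shortExact (cokerSeq_shortExact hj.injective) q.primeCompl
      obtain ⟨y, hy⟩ := Ext.covariant_sequence_exact₁ _ hS ((Ext.mk₀ C.g).comp x (zero_add 1))
        (@Subsingleton.elim _ (subsingleton_ext_bMod P q hj.starInj 0) _ _) (rfl : 0 + 1 = 1)
      obtain ⟨y, rfl⟩ := (Ext.mk₀_bijective _ _).2 y
      have h2 : (Ext.mk₀ (C.f ≫ y)).comp hS.extClass (zero_add 1) = 0 := by
        rw [← Ext.mk₀_comp_mk₀, Ext.comp_assoc_of_second_deg_zero, hy]
        exact mk₀_comp_zero (A := Localization.AtPrime q) x C.zero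
      obtain ⟨v, hv⟩ := Ext.covariant_sequence_exact₃ _ hS _ rfl h2
      obtain ⟨v, rfl⟩ := (Ext.mk₀_bijective _ _).2 v
      rw [Ext.mk₀_comp_mk₀] at hv
      have hfy : C.f ≫ y = 0 := ((Ext.mk₀_bijective _ _).1 hv).symm.trans (comp_mkQ_eq_zero P hcore hj.toIsStarEss v)
      have hy0 : y = 0 := smul_hom_eq_zero P hPq hcore hπP (quoGr E.gr (LinearMap.range j)) y
        ((piSeq_f_comp P hPq hπ _).symm.trans hfy)
      rw [← hy, hy0, Ext.mk₀_zero, Ext.zero_comp]
      rfl
    obtain ⟨y, hy⟩ := Ext.contravariant_sequence_exact₃ hC _ x hz (rfl : 1 + 0 = 1)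
    obtain ⟨y, rfl⟩ := (Ext.mk₀_bijective _ _).2 y
    obtain ⟨a, rfl⟩ := hGs y
    exact ⟨a, (hG1 a).trans hy⟩
  · rw [hG1] at h
    obtain ⟨y, hy⟩ := Ext.contravariant_sequence_exact₁ hC _ _ (rfl : 1 + 0 = 1) h
    obtain ⟨y, rfl⟩ := (Ext.mk₀_bijective _ _).2 y
    obtain ⟨c, rfl⟩ := hGs y
    rw [Ext.mk₀_comp_mk₀] at hy
    have h1 : p' • G c = G a := by
      exact (piSeq_f_comp P hPq hπ (G c)).symm.trans ((Ext.mk₀_bijective _ _).1 hy)
    have h2 : G (a - p' • c) = 0 := by rw [map_sub, map_smul, h1, sub_self]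
    have h3 := (hGk _).1 h2 t
    have h4 : a t - p' * c t ∈ maximalIdeal A := core_le_max P hPq (by simpa using h3)
    have h5 := add_mem h4 (Ideal.mul_mem_right (c t) _ ((IsLocalization.AtPrime.to_map_mem_maximal_iff A q π).2 hπ))
    rwa [show p' = algebraMap R A π from rfl, sub_add_cancel] at h5
  · choose e he using fun t => exists_div P hπx (a t) (h t)
    let c : b.T →₀ A := Finsupp.onFinset a.support (fun t => if t ∈ a.support then e t else 0) fun t ht => by
      by_contra hn
      exact ht (if_neg hn)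
    have h2 : G (a - p' • c) = 0 := (hGk _).2 fun t => by
      rw [Finsupp.sub_apply, Finsupp.smul_apply, Finsupp.onFinset_apply, smul_eq_mul]
      by_cases ht : t ∈ a.support
      · rw [if_pos ht]; exact he t
      · rw [if_neg ht, mul_zero, sub_zero, Finsupp.notMem_support_iff.1 ht]; exact zero_mem _
    rw [map_sub, map_smul, sub_eq_zero] at h2
    rw [hG1, h2, show p' • G c = C.f ≫ G c from (piSeq_f_comp P hPq hπ (G c)).symm, ← Ext.mk₀_comp_mk₀]
    exact hC.extClass_comp_assoc _

include hPq hπ hπP hπx in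
/-- Above the core a *injective module has no second or higher Bass numbers. -/
theorem subsingleton_ext_above (hX : IsStarInj 𝒜 𝒳) (k : ℕ) :
    Subsingleton (Ext.{u} (ModuleCat.of (Localization.AtPrime q) (ResidueField (Localization.AtPrime q)))
      (locMod q.primeCompl X) (k + 2)) := by
  have hC := piSeq_shortExact P hPq hπ hπP hπx
  refine subsingleton_of_forall_eq 0 fun x => ?_
  obtain ⟨y, hy⟩ := Ext.contravariant_sequence_exact₃ hC _ x
    (@Subsingleton.elim _ (subsingleton_ext_bMod P q hX (k + 1)) _ _) (show 1 + (k + 1) = k + 2 by omega)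
  have hy0 : y = 0 := @Subsingleton.elim _ (subsingleton_ext_bMod P q hX k) y 0
  rw [← hy, hy0, Ext.comp_zero]
  rfl

include hPq hcore hπ hπP hπx in
/-- Shifting along the *hull, above the core. -/
theorem bassNum_shift_above (hf : IsStarInjHull 𝒜 ℳ 𝒳 f) (i : ℕ) :
    GrLC.bassNum q M (i + 2) = GrLC.bassNum q (X ⧸ LinearMap.range f) (i + 1) := by
  let A := Localization.AtPrime q
  have hC := piSeq_shortExact P hPq hπ hπP hπx
  have hS := LocCohLib.locSeq_shortExact (cokerSeq_shortExact hf.injective) q.primeCompl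
  let N := ModuleCat.of A (ResidueField A)
  refine length_ext_shift (A := A) hS N (show i + 1 + 1 = i + 2 by omega) (fun v => ?_)
    (subsingleton_ext_above P hPq hπ hπP hπx hf.starInj i)
  rcases i with _ | i
  · obtain ⟨y, hy⟩ := Ext.contravariant_sequence_exact₃ hC _ v
      (@Subsingleton.elim _ (subsingleton_ext_bMod P q hf.starInj 0) _ _) (rfl : 1 + 0 = 1)
    obtain ⟨y, rfl⟩ := (Ext.mk₀_bijective _ _).2 y
    subst hy
    exact comp_mk₀_zero (A := A) _ (comp_mkQ_eq_zero P hcore hf.toIsStarEss y)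
  · exact zero_comp_mk₀ (A := A) (@Subsingleton.elim _ (subsingleton_ext_above P hPq hπ hπP hπx hf.starInj i) v 0) _

end Above

/-- Shifting along the *hull, at a homogeneous prime. -/
theorem bassNum_shift_core {M : Type u} [AddCommGroup M] [Module R M] {ℳ : ι → AddSubgroup M}
    [DirectSum.Decomposition ℳ] [SetLike.GradedSMul 𝒜 ℳ]
    {X : Type u} [AddCommGroup X] [Module R X] {𝒳 : ι → AddSubgroup X} [DirectSum.Decomposition 𝒳]
    [SetLike.GradedSMul 𝒜 𝒳] {f : M →ₗ[R] X} (hf : IsStarInjHull 𝒜 ℳ 𝒳 f) (i : ℕ) :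
    GrLC.bassNum P.toIdeal M (i + 1) = GrLC.bassNum P.toIdeal (X ⧸ LinearMap.range f) i := by
  let A := Localization.AtPrime P.toIdeal
  have hS := LocCohLib.locSeq_shortExact (cokerSeq_shortExact hf.injective) P.toIdeal.primeCompl
  let N := ModuleCat.of A (ResidueField A)
  refine length_ext_shift (A := A) hS N rfl (fun v => ?_) (subsingleton_ext_residueField P hf.starInj i)
  rcases i with _ | i
  · obtain ⟨y, rfl⟩ := (Ext.mk₀_bijective _ _).2 v
    refine mk₀_comp_eq_zero (A := A) (ModuleCat.hom_ext (hom_ext_quotient (maximalIdeal A) ?_))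
    refine loc_mkQ_eq_zero P hf.toIsStarEss (fun d a _ h => h) fun r hr => ?_
    have h0 : algebraMap R A r • (Submodule.Quotient.mk (1 : A) : A ⧸ maximalIdeal A) = 0 := by
      rw [← Submodule.Quotient.mk_smul, smul_eq_mul, mul_one, Submodule.Quotient.mk_eq_zero]
      exact (IsLocalization.AtPrime.to_map_mem_maximal_iff A P.toIdeal r).2 hr
    rw [← algebraMap_smul A r]
    refine (map_smul y.hom (algebraMap R A r) _).symm.trans ?_
    exact (congrArg y.hom h0).trans (map_zero _)
  · exact zero_comp_mk₀ (A := A) (@Subsingleton.elim _ (subsingleton_ext_residueField P hf.starInj i) v 0) _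

/-- Bass numbers one step above the homogeneous core. -/
theorem bassNum_above {q : Ideal R} [q.IsPrime] (hPq : P.toIdeal ≤ q)
    (hcore : ∀ d, ∀ a ∈ 𝒜 d, a ∈ q → a ∈ P.toIdeal) {π : R} (hπ : π ∈ q) (hπP : π ∉ P.toIdeal)
    (hπx : ∀ x ∈ q, ∃ s ∉ q, ∃ r : R, s * x - r * π ∈ P.toIdeal) (i : ℕ) :
    ∀ (M : Type u) [AddCommGroup M] [Module R M] (ℳ : ι → AddSubgroup M) [DirectSum.Decomposition ℳ]
      [SetLike.GradedSMul 𝒜 ℳ], GrLC.bassNum q M (i + 1) = GrLC.bassNum P.toIdeal M i := by
  induction i with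
  | zero => intro M _ _ ℳ _ _; exact bassNum_one_above P hPq hcore hπ hπP hπx ℳ
  | succ i ih =>
    intro M _ _ ℳ _ _
    obtain ⟨E, j, hj⟩ := exists_hull 𝒜 ℳ
    letI : DirectSum.Decomposition (quoGr E.gr (LinearMap.range j)) :=
      (isInternal_quo (hom_range hj.grHom)).chooseDecomposition
    haveI : SetLike.GradedSMul 𝒜 (quoGr E.gr (LinearMap.range j)) := gsmul_quo _
    rw [bassNum_shift_above P hPq hcore hπ hπP hπx hj i, bassNum_shift_core P hj i]
    exact ih (E.carrier ⧸ LinearMap.range j) (quoGr E.gr (LinearMap.range j))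

end Groth.Agent.GrInj
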