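import Mathlib
import Groth.Agent.GrInj.NonHomBass
import Groth.Agent.GrInj.Coarse
import Groth.Agent.GrInj.GorCrit
import Groth.Agent.GorLib.Criterion
import Groth.Agent.GorLib.InjDim
import Groth.Agent.DepthLib.Quotient

/-!
# Bass numbers above the homogeneous core, for gradings by free groups of finite rank

A chain of coarsenings of the grading reduces the comparison of `q` with its homogeneous core to steps in
which one uniformizer suffices.
-/

set_option autoImplicit false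
set_option linter.style.haveILetI false
set_option linter.unusedSectionVars false
universe u

namespace Groth.Agent.GrInj

open GrLC CategoryTheory IsLocalRing
open CategoryTheory.Abelian (Ext)

variable {R : Type u} [CommRing R]

section Ratio
variable {ι : Type} [AddCommGroup ι] [DecidableEq ι] (𝒜 : ι → AddSubgroup R) [GradedRing 𝒜]

/-- Ratios of homogeneous elements of the same degree. -/
noncomputable def ratioFieldι {K : Type u} [Field K] (φ : R →+* K) : Subfield K where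
  carrier := {c | ∃ d : ι, ∃ a ∈ 𝒜 d, ∃ b ∈ 𝒜 d, φ b ≠ 0 ∧ c = φ a / φ b}
  one_mem' := ⟨0, 1, SetLike.one_mem_graded 𝒜, 1, SetLike.one_mem_graded 𝒜, by simp, by simp⟩
  zero_mem' := ⟨0, 0, zero_mem _, 1, SetLike.one_mem_graded 𝒜, by simp, by simp⟩
  mul_mem' := by
    rintro _ _ ⟨d, a, ha, b, hb, hb0, rfl⟩ ⟨d', a', ha', b', hb', hb0', rfl⟩
    exact ⟨d + d', a * a', SetLike.mul_mem_graded ha ha', b * b', SetLike.mul_mem_graded hb hb',
      by simp [hb0, hb0'], by rw [map_mul, map_mul, div_mul_div_comm]⟩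
  add_mem' := by
    rintro _ _ ⟨d, a, ha, b, hb, hb0, rfl⟩ ⟨d', a', ha', b', hb', hb0', rfl⟩
    refine ⟨d + d', a * b' + b * a', add_mem (SetLike.mul_mem_graded ha hb') (SetLike.mul_mem_graded hb ha'),
      b * b', SetLike.mul_mem_graded hb hb', by simp [hb0, hb0'], ?_⟩
    rw [map_add, map_mul, map_mul, map_mul, div_add_div _ _ hb0 hb0']
  neg_mem' := by
    rintro _ ⟨d, a, ha, b, hb, hb0, rfl⟩
    exact ⟨d, -a, neg_mem ha, b, hb, hb0, by rw [map_neg, neg_div]⟩
  inv_mem' := by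
    rintro _ ⟨d, a, ha, b, hb, hb0, rfl⟩
    by_cases ha0 : φ a = 0
    · exact ⟨0, 0, zero_mem _, 1, SetLike.one_mem_graded 𝒜, by simp, by simp [ha0]⟩
    · exact ⟨d, b, hb, a, ha, ha0, by rw [inv_div]⟩

variable {𝒜}

theorem div_mem_ratioFieldι {K : Type u} [Field K] {φ : R →+* K} {d : ι} {a b : R} (ha : a ∈ 𝒜 d)
    (hb : b ∈ 𝒜 d) (hb0 : φ b ≠ 0) : φ a / φ b ∈ ratioFieldι 𝒜 φ :=
  ⟨d, a, ha, b, hb, hb0, rfl⟩

variable {κ : Type} [AddCommGroup κ] [DecidableEq κ]

/-- A prime homogeneous for a coarsening with cyclic kernel is one element above its core. -/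
theorem exists_uniformizer_coarse (lam : ι →+ κ) (e₀ : ι) (hker : ∀ g, lam g = 0 → ∃ j : ℤ, g = j • e₀)
    (he₀ : lam e₀ = 0) {q : Ideal R} [q.IsPrime] {P : Ideal R} [P.IsPrime] (hPq : P ≤ q)
    (hcore : ∀ d, ∀ a ∈ 𝒜 d, a ∈ q → a ∈ P)
    (hq : ∀ x ∈ q, x ∈ Ideal.span {y | y ∈ q ∧ ∃ k, y ∈ coarse lam 𝒜 k}) (hne : P ≠ q) :
    ∃ π ∈ q, π ∉ P ∧ ∀ x ∈ q, ∃ s ∉ q, ∃ r : R, s * x - r * π ∈ P := by
  classical
  obtain ⟨φ, hφ⟩ : ∃ φ : R →+* FractionRing (R ⧸ P), ∀ r, φ r = 0 ↔ r ∈ P :=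
    ⟨(algebraMap (R ⧸ P) (FractionRing (R ⧸ P))).comp (Ideal.Quotient.mk P), fun r => by
      rw [RingHom.comp_apply, map_eq_zero_iff _ (IsFractionRing.injective _ _), Ideal.Quotient.eq_zero_iff_mem]⟩
  have hout : ∀ d, ∀ a ∈ 𝒜 d, φ a ≠ 0 → a ∉ q := fun d a ha h0 hq => h0 ((hφ a).2 (hcore d a ha hq))
  have hφq : ∀ s, s ∉ q → φ s ≠ 0 := fun s hs h => hs (hPq ((hφ s).1 h))
  let F := ratioFieldι 𝒜 φ
  let G : AddSubgroup ℤ :=
    { carrier := {n | ∃ d, ∃ a ∈ 𝒜 (d + n • e₀), ∃ b ∈ 𝒜 d, φ a ≠ 0 ∧ φ b ≠ 0}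
      zero_mem' := ⟨0, 1, by simpa using SetLike.one_mem_graded 𝒜, 1, SetLike.one_mem_graded 𝒜, by simp, by simp⟩
      add_mem' := by
        rintro n n' ⟨d, a, ha, b, hb, ha0, hb0⟩ ⟨d', a', ha', b', hb', ha0', hb0'⟩
        refine ⟨d + d', a * a', ?_, b * b', SetLike.mul_mem_graded hb hb', by simp [ha0, ha0'], by simp [hb0, hb0']⟩
        rw [show d + d' + (n + n') • e₀ = d + n • e₀ + (d' + n' • e₀) by rw [add_zsmul]; abel]
        exact SetLike.mul_mem_graded ha ha'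
      neg_mem' := by
        rintro n ⟨d, a, ha, b, hb, ha0, hb0⟩
        exact ⟨d + n • e₀, b, by simpa using hb, a, ha, hb0, ha0⟩ }
  obtain ⟨e, heG, hdvd⟩ : ∃ e : ℤ, e ∈ G ∧ ∀ n ∈ G, ∃ j : ℤ, n = j * e := by
    obtain ⟨e, he⟩ := Int.subgroup_cyclic G
    refine ⟨e, by rw [he]; exact AddSubgroup.subset_closure rfl, fun n hn => ?_⟩
    rw [he, AddSubgroup.mem_closure_singleton] at hn
    obtain ⟨j, rfl⟩ := hn
    exact ⟨j, by simp⟩
  obtain ⟨d₀, a, ha, b, hb, ha0, hb0⟩ := heG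
  let τ := φ a / φ b
  have haq : a ∉ q := hout _ a ha ha0
  have hbq : b ∉ q := hout _ b hb hb0
  let ev : Polynomial F →ₐ[F] FractionRing (R ⧸ P) := Polynomial.aeval τ
  let O : Subring (FractionRing (R ⧸ P)) :=
    { carrier := {z | ∃ r s, s ∉ q ∧ z * φ s = φ r}
      one_mem' := ⟨1, 1, fun h => (Ideal.IsPrime.ne_top ‹q.IsPrime›) ((Ideal.eq_top_iff_one q).2 h), one_mul _⟩
      zero_mem' := ⟨0, 1, fun h => (Ideal.IsPrime.ne_top ‹q.IsPrime›) ((Ideal.eq_top_iff_one q).2 h),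
        by rw [zero_mul, map_zero]⟩
      mul_mem' := by
        rintro z z' ⟨r, s, hs, hz⟩ ⟨r', s', hs', hz'⟩
        exact ⟨r * r', s * s', fun h => (Ideal.IsPrime.mem_or_mem ‹q.IsPrime› h).elim hs hs', by
          rw [map_mul, map_mul, ← hz, ← hz']; ring⟩
      add_mem' := by
        rintro z z' ⟨r, s, hs, hz⟩ ⟨r', s', hs', hz'⟩
        exact ⟨r * s' + r' * s, s * s', fun h => (Ideal.IsPrime.mem_or_mem ‹q.IsPrime› h).elim hs hs', by
          rw [map_add, map_mul, map_mul, map_mul, ← hz, ← hz']; ring⟩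
      neg_mem' := by
        rintro z ⟨r, s, hs, hz⟩
        exact ⟨-r, s, hs, by rw [map_neg, ← hz, neg_mul]⟩ }
  have hτO : τ ∈ O := ⟨a, b, hbq, div_mul_cancel₀ _ hb0⟩
  have hFO : ∀ c : F, (c : FractionRing (R ⧸ P)) ∈ O := fun c => by
    obtain ⟨d, x, hx, y, hy, hy0, hc⟩ := c.2
    exact ⟨x, y, hout d y hy hy0, by rw [hc, div_mul_cancel₀ _ hy0]⟩
  have hevO : ∀ p, ev p ∈ O := fun p => by
    induction p using Polynomial.induction_on' with
    | add p p' hp hp' => rw [map_add]; exact add_mem hp hp'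
    | monomial n c =>
      show Polynomial.aeval τ (Polynomial.monomial n c) ∈ O
      rw [Polynomial.aeval_monomial]
      exact mul_mem (hFO c) (pow_mem hτO n)
  let J : Ideal (Polynomial F) :=
    { carrier := {p | ∃ r ∈ q, ∃ s, s ∉ q ∧ ev p * φ s = φ r}
      zero_mem' := ⟨0, zero_mem q, b, hbq, by rw [map_zero, zero_mul, map_zero]⟩
      add_mem' := by
        rintro p p' ⟨r, hr, s, hs, hz⟩ ⟨r', hr', s', hs', hz'⟩
        exact ⟨r * s' + r' * s, add_mem (q.mul_mem_right _ hr) (q.mul_mem_right _ hr'), s * s',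
          fun h => (Ideal.IsPrime.mem_or_mem ‹q.IsPrime› h).elim hs hs', by
            rw [map_add, map_add, map_mul, map_mul, map_mul, ← hz, ← hz']; ring⟩
      smul_mem' := by
        rintro c p ⟨r, hr, s, hs, hz⟩
        obtain ⟨r', s', hs', hz'⟩ := hevO c
        exact ⟨r' * r, q.mul_mem_left _ hr, s' * s,
          fun h => (Ideal.IsPrime.mem_or_mem ‹q.IsPrime› h).elim hs' hs, by
            rw [smul_eq_mul, map_mul, map_mul, map_mul, ← hz, ← hz']; ring⟩ }
  -- a coarse-homogeneous element is one homogeneous element times a polynomial, up to powers of `τ`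
  have hexp : ∀ (k : κ), ∀ x ∈ coarse lam 𝒜 k, ∀ (d₁ : ι) (c : R), c ∈ 𝒜 d₁ → φ c ≠ 0 → lam d₁ = k →
      ∃ (N : ℕ) (p : Polynomial F), φ x * τ ^ N = φ c * ev p := by
    intro k x hx d₁ c hc hc0 hk
    refine coarse_induction lam 𝒜 (P := fun x => ∃ (N : ℕ) (p : Polynomial F), φ x * τ ^ N = φ c * ev p) hx ?_ ?_ ?_
    · exact ⟨0, 0, by rw [map_zero, map_zero, zero_mul, mul_zero]⟩
    swap
    · intro x y hx hy
      obtain ⟨N, p, hp⟩ := hx
      obtain ⟨N', p', hp'⟩ := hy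
      refine ⟨N + N', p * Polynomial.X ^ N' + p' * Polynomial.X ^ N, ?_⟩
      rw [map_add, map_add, map_mul, map_mul, map_pow, map_pow, show ev Polynomial.X = τ from Polynomial.aeval_X τ,
        mul_add, ← mul_assoc, ← mul_assoc, ← hp, ← hp']
      ring
    intro d hd y hy
    by_cases hy0 : φ y = 0
    · exact ⟨0, 0, by rw [hy0, map_zero, zero_mul, mul_zero]⟩
    obtain ⟨n, hn⟩ := hker (d - d₁) (by rw [map_sub, hd, hk, sub_self])
    obtain ⟨j, hj⟩ := hdvd n ⟨d₁, y, by rwa [← hn, add_sub_cancel], c, hc, hy0, hc0⟩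
    obtain ⟨l, rfl | rfl⟩ := Int.eq_nat_or_neg j
    · have h1 : y * b ^ l ∈ 𝒜 (d₁ + l • (d₀ + e • e₀)) := by
        have := SetLike.mul_mem_graded hy (SetLike.pow_mem_graded (A := 𝒜) l hb)
        rwa [show d + l • d₀ = d₁ + l • (d₀ + e • e₀) by
          rw [sub_eq_iff_eq_add.1 hn, hj, smul_add, mul_zsmul, natCast_zsmul]; abel] at this
      refine ⟨0, Polynomial.C ⟨_, div_mem_ratioFieldι (φ := φ) h1
        (SetLike.mul_mem_graded hc (SetLike.pow_mem_graded (A := 𝒜) l ha)) (by simp [hc0, ha0])⟩ * Polynomial.X ^ l, ?_⟩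
      rw [show ev = Polynomial.aeval τ from rfl, map_mul (Polynomial.aeval τ), map_pow (Polynomial.aeval τ),
        Polynomial.aeval_C, Polynomial.aeval_X]
      show φ y * τ ^ 0 = φ c * (φ (y * b ^ l) / φ (c * a ^ l) * τ ^ l)
      simp only [τ, map_mul, map_pow, div_pow, pow_zero, mul_one]
      field_simp
    · have h1 : y * a ^ l ∈ 𝒜 (d₁ + l • d₀) := by
        have := SetLike.mul_mem_graded hy (SetLike.pow_mem_graded (A := 𝒜) l ha)
        rwa [show d + l • (d₀ + e • e₀) = d₁ + l • d₀ by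
          rw [sub_eq_iff_eq_add.1 hn, hj, smul_add, mul_zsmul, neg_zsmul, natCast_zsmul]; abel] at this
      refine ⟨l, Polynomial.C ⟨_, div_mem_ratioFieldι (φ := φ) h1
        (SetLike.mul_mem_graded hc (SetLike.pow_mem_graded (A := 𝒜) l hb)) (by simp [hc0, hb0])⟩, ?_⟩
      rw [show ev = Polynomial.aeval τ from rfl, Polynomial.aeval_C]
      show _ = φ c * (φ (y * a ^ l) / φ (c * b ^ l))
      simp only [τ, map_mul, map_pow, div_pow]
      field_simp
  obtain ⟨g, hg⟩ : ∃ g, J = Ideal.span {g} :=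
    ⟨Submodule.IsPrincipal.generator J, (Ideal.span_singleton_generator J).symm⟩
  obtain ⟨π, hπ, s₀, hs₀, hgπ⟩ : g ∈ J := hg ▸ Ideal.mem_span_singleton_self g
  let K : Ideal R :=
    { carrier := {x | ∃ s, s ∉ q ∧ ∃ r : R, φ (s * x) = φ (r * π)}
      zero_mem' := ⟨b, hbq, 0, by rw [mul_zero, zero_mul]⟩
      add_mem' := by
        rintro x y ⟨s, hs, r, h⟩ ⟨s', hs', r', h'⟩
        refine ⟨s * s', fun hm => (Ideal.IsPrime.mem_or_mem ‹q.IsPrime› hm).elim hs hs', s' * r + s * r', ?_⟩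
        simp only [map_mul, map_add] at h h' ⊢
        linear_combination φ s' * h + φ s * h'
      smul_mem' := by
        rintro c x ⟨s, hs, r, h⟩
        refine ⟨s, hs, c * r, ?_⟩
        simp only [smul_eq_mul, map_mul] at h ⊢
        linear_combination φ c * h }
  have hK : ∀ x ∈ q, x ∈ K := by
    intro x hx
    refine Ideal.span_le.2 ?_ (hq x hx)
    rintro y ⟨hyq, k, hyk⟩
    by_cases hy0 : φ y = 0
    · exact ⟨b, hbq, 0, by rw [map_mul, hy0, mul_zero, zero_mul, map_zero]⟩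
    obtain ⟨d₁, hd₁, hd₁0⟩ : ∃ d₁, lam d₁ = k ∧ ∃ c ∈ 𝒜 d₁, φ c ≠ 0 := by
      by_contra hno
      push Not at hno
      refine hy0 (coarse_induction lam 𝒜 (P := fun z => φ z = 0) hyk (map_zero φ) (fun g hg z hz => ?_)
        fun u v hu hv => by rw [map_add, hu, hv, add_zero])
      exact hno g hg z hz
    obtain ⟨c, hc, hc0⟩ := hd₁0
    have hcq : c ∉ q := hout d₁ c hc hc0
    obtain ⟨N, p, hp⟩ := hexp k y hyk d₁ c hc hc0 hd₁
    have hev : ev p * φ (c * b ^ N) = φ (y * a ^ N) := by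
      calc ev p * φ (c * b ^ N) = φ c * ev p * φ (b ^ N) := by rw [map_mul]; ring
        _ = φ (y * a ^ N) := by
          rw [← hp, map_mul, map_pow, map_pow, mul_assoc, ← mul_pow, div_mul_cancel₀ _ hb0]
    have hcb : c * b ^ N ∉ q := fun h => (Ideal.IsPrime.mem_or_mem ‹q.IsPrime› h).elim hcq
      fun h' => hbq (Ideal.IsPrime.mem_of_pow_mem ‹_› N h')
    have hpJ : p ∈ J := ⟨y * a ^ N, q.mul_mem_right _ hyq, c * b ^ N, hcb, hev⟩
    rw [hg, Ideal.mem_span_singleton'] at hpJ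
    obtain ⟨h, rfl⟩ := hpJ
    obtain ⟨r, s, hs, hz⟩ := hevO h
    refine ⟨s₀ * s * a ^ N, fun hm => ?_, r * (c * b ^ N), ?_⟩
    · rcases Ideal.IsPrime.mem_or_mem ‹q.IsPrime› hm with h1 | h1
      · exact (Ideal.IsPrime.mem_or_mem ‹q.IsPrime› h1).elim hs₀ hs
      · exact haq (Ideal.IsPrime.mem_of_pow_mem ‹_› N h1)
    · rw [show s₀ * s * a ^ N * y = (y * a ^ N) * (s₀ * s) by ring, map_mul φ (y * a ^ N), ← hev, map_mul ev,
        map_mul φ s₀ s, map_mul φ (r * (c * b ^ N)), map_mul φ r, ← hz, ← hgπ]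
      ring
  refine ⟨π, hπ, fun hπP => hne (le_antisymm hPq fun x hx => ?_), fun x hx => ?_⟩
  · obtain ⟨s, hs, r, h⟩ := hK x hx
    rw [map_mul, map_mul, (hφ π).2 hπP, mul_zero] at h
    exact (hφ x).1 ((mul_eq_zero.1 h).resolve_left (hφq s hs))
  · obtain ⟨s, hs, r, h⟩ := hK x hx
    exact ⟨s, hs, r, (hφ _).1 (by rw [map_sub, h, sub_self])⟩

variable (𝒜) in
/-- The coarsened grading of the ring. -/
noncomputable def gradedRing_coarse (lam : ι →+ κ) : GradedRing (coarse lam 𝒜) :=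
  letI hM : SetLike.GradedMonoid (coarse lam 𝒜) :=
    { one_mem := by
        have h := le_coarse lam 𝒜 0 (SetLike.one_mem_graded 𝒜)
        rwa [map_zero] at h
      mul_mem := fun i j x y hx hy => by
        refine coarse_induction lam 𝒜 (P := fun x => x * y ∈ coarse lam 𝒜 (i + j)) hx
          (by rw [zero_mul]; exact zero_mem _) (fun g hg x hx => ?_)
          fun a b ha hb => by rw [add_mul]; exact add_mem ha hb
        refine coarse_induction lam 𝒜 (P := fun y => x * y ∈ coarse lam 𝒜 (i + j)) hy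
          (by rw [mul_zero]; exact zero_mem _) (fun g' hg' y hy => ?_)
          fun a b ha hb => by rw [mul_add]; exact add_mem ha hb
        rw [← hg, ← hg', ← map_add]
        exact le_coarse lam 𝒜 _ (SetLike.mul_mem_graded hx hy) }
  { hM, (isInternal_coarse lam 𝒜).chooseDecomposition with }

end Ratio

/-- Bass numbers at equal primes. -/
theorem bassNum_congr {p p' : Ideal R} [hp : p.IsPrime] [hp' : p'.IsPrime] (h : p = p') (M : Type u) [AddCommGroup M]
    [Module R M] (i : ℕ) : GrLC.bassNum p M i = GrLC.bassNum p' M i := by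
  subst h; rfl

/-- The shift of Bass numbers along the chain of coarsenings. -/
theorem exists_shift [IsNoetherianRing R] : ∀ (r : ℕ) {ι : Type} [AddCommGroup ι] [DecidableEq ι]
    (e : ι →+ (Fin r → ℤ)), Function.Injective e → ∀ (𝒜 : ι → AddSubgroup R) [GradedRing 𝒜] (q : Ideal R)
    [q.IsPrime] (P : HomogeneousIdeal 𝒜) [P.toIdeal.IsPrime], P.toIdeal ≤ q →
    (∀ d, ∀ a ∈ 𝒜 d, a ∈ q → a ∈ P.toIdeal) →
    ∃ c : ℕ, ∀ (M : Type u) [AddCommGroup M] [Module R M] (ℳ : ι → AddSubgroup M) [DirectSum.Decomposition ℳ]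
      [SetLike.GradedSMul 𝒜 ℳ], (∀ i < c, GrLC.bassNum q M i = 0) ∧
        ∀ i, GrLC.bassNum q M (i + c) = GrLC.bassNum P.toIdeal M i := by
  intro r
  induction r with
  | zero =>
    intro ι _ _ e he 𝒜 _ q _ P _ hPq hcore
    refine ⟨0, fun M _ _ ℳ _ _ => ⟨fun i hi => absurd hi (Nat.not_lt_zero i), fun i => bassNum_congr ?_ M i⟩⟩
    refine le_antisymm (fun a ha => ?_) hPq
    haveI : Subsingleton ι := he.subsingleton
    refine hcore 0 a ?_ ha
    rw [← sum_supp (ℳ := 𝒜) a]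
    exact sum_mem fun i _ => Subsingleton.elim i 0 ▸ pr_mem i a
  | succ r ih =>
    intro ι _ _ e he 𝒜 _ q _ P _ hPq hcore
    classical
    let lam : ι →+ (Fin r → ℤ) :=
      { toFun := fun g i => e g i.castSucc
        map_zero' := by funext i; simp
        map_add' := fun x y => by funext i; simp }
    let S : AddSubgroup ℤ := (lam.ker.map e).map (Pi.evalAddMonoidHom (fun _ => ℤ) (Fin.last r))
    obtain ⟨n₀, hn₀⟩ := Int.subgroup_cyclic S
    obtain ⟨-, ⟨g₀, hg₀, rfl⟩, hn₀'⟩ : n₀ ∈ S := by rw [hn₀]; exact AddSubgroup.subset_closure rfl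
    have hker : ∀ g, lam g = 0 → ∃ j : ℤ, g = j • g₀ := fun g hg => by
      have hmem : e g (Fin.last r) ∈ S := ⟨e g, ⟨g, hg, rfl⟩, rfl⟩
      rw [hn₀, AddSubgroup.mem_closure_singleton] at hmem
      obtain ⟨j, hj⟩ := hmem
      refine ⟨j, he (funext fun i => ?_)⟩
      rw [map_zsmul, Pi.smul_apply]
      induction i using Fin.lastCases with
      | last => rw [← hj, ← hn₀']; rfl
      | cast i =>
        rw [show e g i.castSucc = 0 from congrFun hg i, show e g₀ i.castSucc = 0 from congrFun hg₀ i, smul_zero]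
    let 𝒜' := coarse lam 𝒜
    letI : GradedRing 𝒜' := gradedRing_coarse 𝒜 lam
    let P₁ := q.homogeneousCore 𝒜'
    haveI : P₁.toIdeal.IsPrime := by
      refine isPrime_of_homogeneous 𝒜' P₁.isHomogeneous (fun h => Ideal.IsPrime.ne_top ‹q.IsPrime›
        (top_le_iff.1 (h ▸ Ideal.toIdeal_homogeneousCore_le 𝒜' q))) ?_
      intro a b x y hx hy hxy
      exact (Ideal.IsPrime.mem_or_mem ‹q.IsPrime› (Ideal.toIdeal_homogeneousCore_le 𝒜' q hxy)).imp
        (fun h => Ideal.mem_homogeneousCore_of_homogeneous_of_mem ⟨a, hx⟩ h)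
        (fun h => Ideal.mem_homogeneousCore_of_homogeneous_of_mem ⟨b, hy⟩ h)
    have hP₁q : P₁.toIdeal ≤ q := Ideal.toIdeal_homogeneousCore_le 𝒜' q
    obtain ⟨c, hc⟩ := ih (AddMonoidHom.id (Fin r → ℤ)) Function.injective_id 𝒜' q P₁ hP₁q
      fun d a ha haq => Ideal.mem_homogeneousCore_of_homogeneous_of_mem ⟨d, ha⟩ haq
    have hPP₁ : P.toIdeal ≤ P₁.toIdeal := fun x hx => by
      rw [← sum_supp (ℳ := 𝒜) x]
      exact sum_mem fun i _ => Ideal.mem_homogeneousCore_of_homogeneous_of_mem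
        ⟨lam i, le_coarse lam 𝒜 i (pr_mem i x)⟩ (hPq (P.isHomogeneous i hx))
    have hc' : ∀ (M : Type u) [AddCommGroup M] [Module R M] (ℳ : ι → AddSubgroup M) [DirectSum.Decomposition ℳ]
        [SetLike.GradedSMul 𝒜 ℳ], (∀ i < c, GrLC.bassNum q M i = 0) ∧
          ∀ i, GrLC.bassNum q M (i + c) = GrLC.bassNum P₁.toIdeal M i := by
      intro M _ _ ℳ _ _
      letI : DirectSum.Decomposition (coarse lam ℳ) := (isInternal_coarse lam ℳ).chooseDecomposition
      haveI : SetLike.GradedSMul 𝒜' (coarse lam ℳ) := gsmul_coarse lam ℳ fun _ => rfl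
      exact hc M (coarse lam ℳ)
    by_cases hne : P.toIdeal = P₁.toIdeal
    · refine ⟨c, fun M _ _ ℳ _ _ => ⟨(hc' M ℳ).1, fun i => ?_⟩⟩
      rw [(hc' M ℳ).2 i]
      exact (bassNum_congr hne M i).symm
    have hcore₁ : ∀ d, ∀ a ∈ 𝒜 d, a ∈ P₁.toIdeal → a ∈ P.toIdeal := fun d a ha h => hcore d a ha (hP₁q h)
    obtain ⟨π, hπ, hπP, hπx⟩ := exists_uniformizer_coarse (𝒜 := 𝒜) lam g₀ hker hg₀ hPP₁ hcore₁ (fun x hx => by
      rw [← sum_supp (ℳ := 𝒜') x]
      exact sum_mem fun k _ => Ideal.subset_span ⟨P₁.isHomogeneous k hx, k, pr_mem (ℳ := 𝒜') k x⟩) hne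
    refine ⟨c + 1, fun M _ _ ℳ _ _ => ⟨fun i hi => ?_, fun i => ?_⟩⟩
    · rcases Nat.lt_succ_iff_lt_or_eq.1 hi with h | rfl
      · exact (hc' M ℳ).1 i h
      · have h := (hc' M ℳ).2 0
        rw [zero_add] at h
        rw [h]
        exact bassNum_zero_above P hPP₁ hcore₁ hπ hπP hπx ℳ
    · rw [show i + (c + 1) = i + 1 + c by omega, (hc' M ℳ).2 (i + 1)]
      exact bassNum_above P hPP₁ hcore₁ hπ hπP hπx i M ℳ

variable {ι : Type} [AddCommGroup ι] [DecidableEq ι] {𝒜 : ι → AddSubgroup R} [GradedRing 𝒜]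

/-- The graded quotient ring. -/
noncomputable def gradedRing_quot (P : HomogeneousIdeal 𝒜) : GradedRing (quotGr 𝒜 P) :=
  letI hM : SetLike.GradedMonoid (quotGr 𝒜 P) :=
    { one_mem := ⟨1, SetLike.one_mem_graded 𝒜, map_one (Ideal.Quotient.mk P.toIdeal)⟩
      mul_mem := fun i j x y hx hy => by
        obtain ⟨a, ha, rfl⟩ := hx
        obtain ⟨b, hb, rfl⟩ := hy
        exact ⟨a * b, SetLike.mul_mem_graded (A := 𝒜) ha hb, map_mul (Ideal.Quotient.mk P.toIdeal) a b⟩ }
  { hM, (isInternal_quotGr P).chooseDecomposition with }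

/-- The zeroth Bass number of the residue ring at the core. -/
theorem bassNum_core_quot_ne_zero [IsNoetherianRing R] (P : HomogeneousIdeal 𝒜) [P.toIdeal.IsPrime] :
    GrLC.bassNum P.toIdeal (R ⧸ P.toIdeal) 0 ≠ 0 := by
  letI : DirectSum.Decomposition (quotGr 𝒜 P) := (isInternal_quotGr P).chooseDecomposition
  obtain ⟨b⟩ := nonempty_pBasis P (quotGr 𝒜 P)
  rw [bassNum_core P b, Ne, ENat.card_eq_zero_iff_empty]
  intro he
  obtain ⟨s, -, hs, hmem⟩ := b.spanning 1 fun r hr => smul_eq_zero_of_mem hr _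
  rw [Set.eq_empty_iff_forall_notMem.2 fun t ht => he.elim ⟨t, ht⟩, Submodule.span_empty, Submodule.mem_bot,
    smul_quot, Ideal.Quotient.eq_zero_iff_mem] at hmem
  exact hs hmem

/-- Bass numbers at `q` and at its homogeneous core. -/
theorem bassNum_core_shift [IsNoetherianRing R] [Module.Free ℤ ι] [Module.Finite ℤ ι] (q : Ideal R) [q.IsPrime]
    (P : HomogeneousIdeal 𝒜) [P.toIdeal.IsPrime] (hPq : P.toIdeal ≤ q)
    (hcore : ∀ d, ∀ a ∈ 𝒜 d, a ∈ q → a ∈ P.toIdeal) {d : ℕ}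
    (hd : (q.map (Ideal.Quotient.mk P.toIdeal)).height = d) (M : Type u) [AddCommGroup M] [Module R M]
    (ℳ : ι → AddSubgroup M) [DirectSum.Decomposition ℳ] [SetLike.GradedSMul 𝒜 ℳ] :
    (∀ i < d, GrLC.bassNum q M i = 0) ∧ ∀ i, GrLC.bassNum q M (i + d) = GrLC.bassNum P.toIdeal M i := by
  classical
  let e : ι →+ (Fin (Module.finrank ℤ ι) → ℤ) := (Module.finBasis ℤ ι).equivFun.toLinearMap.toAddMonoidHom
  have he : Function.Injective e := (Module.finBasis ℤ ι).equivFun.injective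
  obtain ⟨c, hc⟩ := exists_shift _ e he 𝒜 q P hPq hcore
  suffices hcd : c = d by subst hcd; exact hc M ℳ
  -- the depth of `(R/P)_q` over `R_q`
  let A := Localization.AtPrime q
  let J : Ideal A := P.toIdeal.map (algebraMap R A)
  letI : DirectSum.Decomposition (quotGr 𝒜 P) := (isInternal_quotGr P).chooseDecomposition
  obtain ⟨hlow, hhigh⟩ := hc (R ⧸ P.toIdeal) (quotGr 𝒜 P)
  let Y := LocalizedModule q.primeCompl (R ⧸ P.toIdeal)
  have hdepY : LocCoh.depth A Y = (c : ℕ∞) := by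
    refine le_antisymm ?_ ((DepthLib.natCast_le_idealDepth_iff_ext (maximalIdeal A) Y c).2 fun i hi =>
      Module.length_eq_zero_iff.1 (hlow i hi))
    by_contra hlt
    have h1 : ((c + 1 : ℕ) : ℕ∞) ≤ LocCoh.depth A Y := by
      push_cast
      exact Order.add_one_le_of_lt (not_le.1 hlt)
    have h2 := (DepthLib.natCast_le_idealDepth_iff_ext (maximalIdeal A) Y (c + 1)).1 h1 c (Nat.lt_succ_self c)
    have h3 : GrLC.bassNum q (R ⧸ P.toIdeal) c = 0 := Module.length_eq_zero_iff.2 h2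
    have h4 := hhigh 0
    rw [zero_add, h3] at h4
    exact bassNum_core_quot_ne_zero P h4.symm
  -- the quotient ring
  let D := R ⧸ P.toIdeal
  let qD : Ideal D := q.map (Ideal.Quotient.mk P.toIdeal)
  haveI : qD.IsPrime := Ideal.map_isPrime_of_surjective Ideal.Quotient.mk_surjective (by rwa [Ideal.mk_ker])
  letI : GradedRing (quotGr 𝒜 P) := gradedRing_quot P
  let P' : HomogeneousIdeal (quotGr 𝒜 P) := ⊥
  haveI : P'.toIdeal.IsPrime := by
    show (⊥ : Ideal D).IsPrime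
    exact Ideal.isPrime_bot
  have hcore' : ∀ g, ∀ a ∈ quotGr 𝒜 P g, a ∈ qD → a ∈ P'.toIdeal := by
    rintro g _ ⟨x, hx, rfl⟩ hxq
    show Ideal.Quotient.mk P.toIdeal x ∈ (⊥ : Ideal D)
    rw [Ideal.mem_bot, Ideal.Quotient.eq_zero_iff_mem]
    exact hcore g x hx ((Ideal.mem_quotient_iff_mem hPq).1 hxq)
  obtain ⟨c', hc'⟩ := exists_shift _ e he (quotGr 𝒜 P) qD P' (by show (⊥ : Ideal D) ≤ qD; exact bot_le) hcore'
  haveI : SetLike.GradedSMul (quotGr 𝒜 P) (quotGr 𝒜 P) :=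
    gsmul_mk fun i j r hr x hx => SetLike.GradedMul.mul_mem hr hx
  obtain ⟨hlow', hhigh'⟩ := hc' D (quotGr 𝒜 P)
  let A₀ := Localization.AtPrime P'.toIdeal
  have hmax : maximalIdeal A₀ = ⊥ := by
    rw [← Localization.AtPrime.map_eq_maximalIdeal, Ideal.map_eq_bot_iff_le_ker]
    intro x hx
    have hx0 : x = 0 := hx
    rw [RingHom.mem_ker, hx0, map_zero]
  let ek : A₀ ≃ₗ[A₀] ResidueField A₀ := LinearEquiv.ofBijective (Algebra.linearMap A₀ (ResidueField A₀))
    ⟨(injective_iff_map_eq_zero _).2 fun x hx => by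
      have h := (residue_eq_zero_iff x).1 hx
      rwa [hmax, Ideal.mem_bot] at h, residue_surjective⟩
  haveI : Module.Free A₀ (ResidueField A₀) := Module.Free.of_equiv ek
  haveI : Projective (ModuleCat.of A₀ (ResidueField A₀)) :=
    ModuleCat.projective_of_free (Module.Free.chooseBasis A₀ (ResidueField A₀))
  let el : LocalizedModule P'.toIdeal.primeCompl D ≃ₗ[A₀] A₀ :=
    ((IsLocalizedModule.linearEquiv P'.toIdeal.primeCompl (Algebra.linearMap D A₀)
      (LocalizedModule.mkLinearMap P'.toIdeal.primeCompl D)).symm).extendScalarsOfIsLocalization P'.toIdeal.primeCompl A₀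
  have hzero : ∀ i, GrLC.bassNum P'.toIdeal D (i + 1) = 0 := fun i =>
    Module.length_eq_zero_iff.2 (subsingleton_of_forall_eq 0 fun x => Ext.eq_zero_of_projective x)
  have hne : GrLC.bassNum P'.toIdeal D 0 ≠ 0 := fun h => by
    haveI : Subsingleton (Ext.{u} (ModuleCat.of A₀ (ResidueField A₀))
      (ModuleCat.of A₀ (LocalizedModule P'.toIdeal.primeCompl D)) 0) := Module.length_eq_zero_iff.1 h
    have h0 := (Ext.mk₀_bijective _ _).1 (Subsingleton.elim
      (Ext.mk₀ (ModuleCat.ofHom (el.symm.toLinearMap ∘ₗ ek.symm.toLinearMap) :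
        ModuleCat.of A₀ (ResidueField A₀) ⟶ ModuleCat.of A₀ (LocalizedModule P'.toIdeal.primeCompl D)))
      (Ext.mk₀ 0))
    have h1 : el.symm (ek.symm (ek 1)) = 0 := congrArg (fun f => f.hom (ek 1)) h0
    rw [ek.symm_apply_apply, LinearEquiv.map_eq_zero_iff] at h1
    exact one_ne_zero h1
  let AD := Localization.AtPrime qD
  have hgor : LocCoh.IsGorensteinLocalRing AD := GorLib.isGorensteinLocalRing_iff.2 ⟨c' + 1, fun i hi => by
    obtain ⟨j, rfl⟩ : ∃ j, i = j + 1 + c' := ⟨i - c' - 1, by omega⟩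
    have h := (hhigh' (j + 1)).trans (hzero j)
    rw [bassNum_self_eq] at h
    exact Module.length_eq_zero_iff.1 h⟩
  have hdim : ringKrullDim AD = d := by
    rw [IsLocalization.AtPrime.ringKrullDim_eq_height qD AD, hd]; rfl
  have hdep := GorLib.depth_eq_dim hdim
  have hc'd : c' = d := by
    refine le_antisymm ?_ ?_
    · by_contra hlt
      have h1 : ((d + 1 : ℕ) : ℕ∞) ≤ LocCoh.depth AD AD :=
        (DepthLib.natCast_le_idealDepth_iff_ext (maximalIdeal AD) AD (d + 1)).2 fun i hi => by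
          have h := hlow' i (by omega)
          rw [bassNum_self_eq] at h
          have hs := Module.length_eq_zero_iff.1 h
          exact hs
      rw [hdep] at h1
      exact absurd (Nat.cast_le.1 h1) (by omega)
    · by_contra hlt
      have h2 := (DepthLib.natCast_le_idealDepth_iff_ext (maximalIdeal AD) AD d).1 hdep.ge c' (not_le.1 hlt)
      have h3 := hhigh' 0
      rw [zero_add, bassNum_self_eq] at h3
      exact hne (h3.symm.trans (Module.length_eq_zero_iff.2 h2))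
  let f := Submodule.toLocalizedQuotient' A q.primeCompl (Algebra.linearMap R A) P.toIdeal
  let eY : (A ⧸ J) ≃ₗ[A] Y :=
    (Submodule.quotEquivOfEq _ _ (Ideal.localized'_eq_map A q.primeCompl P.toIdeal).symm).trans
      ((IsLocalizedModule.linearEquiv q.primeCompl f
        (LocalizedModule.mkLinearMap q.primeCompl (R ⧸ P.toIdeal))).extendScalarsOfIsLocalization q.primeCompl A)
  have hq := DepthLib.depth_quotient_localization P.toIdeal q hPq qD rfl
  rw [hdep, DepthLib.depth_congr eY, hdepY] at hq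
  exact_mod_cast hq.symm

end Groth.Agent.GrInj
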