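import Mathlib
import Groth.Agent.GrInj.NonHomChain
import Groth.Agent.GrInj.NonHom
import Groth.Agent.DepthLib.Quotient

/-!
# Dimension above the homogeneous core
-/

set_option autoImplicit false
set_option linter.style.haveILetI false
set_option linter.unusedSectionVars false
universe u

namespace Groth.Agent.GrInj

open GrLC IsLocalRing

variable {R : Type u} [CommRing R]

section Int
variable [IsNoetherianRing R] {𝒜 : ℤ → AddSubgroup R} [GradedRing 𝒜]

/-- No prime lies strictly between a prime and its homogeneous core. -/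
theorem eq_core_of_lt {P : Ideal R} [P.IsPrime] {q p : Ideal R} [q.IsPrime] [p.IsPrime] (hPq : P ≤ q) (hqp : q < p)
    (hcore : ∀ d, ∀ a ∈ 𝒜 d, a ∈ p → a ∈ P) : q = P := by
  obtain ⟨π, hπ, hπP, hπx⟩ := exists_uniformizer (𝒜 := 𝒜) (q := p) (hPq.trans hqp.le) hcore
    (fun h => not_lt_of_ge (h ▸ hPq) hqp)
  have hπq : π ∉ q := fun h => by
    obtain ⟨x, hxp, hxq⟩ := SetLike.exists_of_lt hqp
    obtain ⟨s, hs, r, hr⟩ := hπx x hxp
    have h1 : s * x ∈ q := by
      have := add_mem (hPq hr) (q.mul_mem_left r h)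
      rwa [sub_add_cancel] at this
    exact hxq ((Ideal.IsPrime.mem_or_mem inferInstance h1).resolve_left fun h => hs (hqp.le h))
  let A := Localization.AtPrime p
  have hle : q.map (algebraMap R A) ≤ P.map (algebraMap R A) := by
    refine Submodule.le_of_le_smul_of_le_jacobson_bot (I := maximalIdeal A) (IsNoetherian.noetherian _)
      (maximalIdeal_le_jacobson _) (Ideal.map_le_iff_le_comap.2 fun x hx => ?_)
    rw [Ideal.mem_comap]
    obtain ⟨s, hs, r, hr⟩ := hπx x (hqp.le hx)
    have hrq : r ∈ q := by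
      have h1 : r * π ∈ q := by
        have := sub_mem (q.mul_mem_left s hx) (hPq hr)
        rwa [sub_sub_cancel] at this
      exact (Ideal.IsPrime.mem_or_mem inferInstance h1).resolve_right hπq
    obtain ⟨v, hv⟩ := (IsLocalization.map_units A (⟨s, hs⟩ : p.primeCompl)).exists_left_inv
    rw [show algebraMap R A x = v * algebraMap R A (s * x - r * π) + (v * algebraMap R A π) • algebraMap R A r by
      rw [smul_eq_mul, map_sub, map_mul, map_mul]
      linear_combination -(algebraMap R A x) * hv]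
    exact Submodule.add_mem_sup (Ideal.mul_mem_left _ _ (Ideal.mem_map_of_mem _ hr))
      (Submodule.smul_mem_smul (Ideal.mul_mem_left _ _ ((IsLocalization.AtPrime.to_map_mem_maximal_iff A p π).2 hπ))
        (Ideal.mem_map_of_mem _ hrq))
  have hcomap : (P.map (algebraMap R A)).comap (algebraMap R A) = P :=
    IsLocalization.comap_map_of_isPrime_disjoint p.primeCompl A inferInstance
      (Set.disjoint_left.2 fun a ha hb => ha (hqp.le (hPq hb)))
  refine le_antisymm (fun x hx => ?_) hPq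
  rw [← hcomap]
  exact hle (Ideal.mem_map_of_mem _ hx)

theorem height_le_core_add_one_int : ∀ (n : ℕ) (p : Ideal R) [p.IsPrime], p.height ≤ n →
    p.height ≤ (p.homogeneousCore 𝒜).toIdeal.height + 1 := by
  intro n
  induction n with
  | zero => exact fun p _ h => (h.trans (by simp))
  | succ n ih =>
    intro p _ hpn
    haveI := Ideal.IsPrime.homogeneousCore (𝒜 := 𝒜) (I := p) inferInstance
    obtain ⟨c, hc⟩ : ∃ c : ℕ, (p.homogeneousCore 𝒜).toIdeal.height = c :=
      ⟨_, (ENat.natCast_toNat (Ideal.height_lt_top_of_isPrime (I := (p.homogeneousCore 𝒜).toIdeal)).ne).symm⟩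
    rw [hc, show (c : ℕ∞) + 1 = ((c + 1 : ℕ) : ℕ∞) by simp, Ideal.height_le_iff]
    intro q hq hqp
    haveI := Ideal.IsPrime.homogeneousCore (𝒜 := 𝒜) (I := q) hq
    refine lt_of_le_of_lt (b := (c : ℕ∞)) ?_ (by exact_mod_cast Nat.lt_succ_self c)
    have hlt : q.height < p.height := Ideal.height_strict_mono_of_isPrime hqp
    have hle : (q.homogeneousCore 𝒜).toIdeal ≤ (p.homogeneousCore 𝒜).toIdeal :=
      Ideal.homogeneousCore_mono 𝒜 hqp.le
    rcases eq_or_lt_of_le hle with heq | hlt'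
    · have hq0 : (p.homogeneousCore 𝒜).toIdeal ≤ q := heq ▸ Ideal.toIdeal_homogeneousCore_le 𝒜 q
      rw [eq_core_of_lt (𝒜 := 𝒜) hq0 hqp fun d a ha hap =>
        Ideal.mem_homogeneousCore_of_homogeneous_of_mem ⟨d, ha⟩ hap, hc]
    · have h1 : q.height ≤ n := by
        have h2 := hlt.trans_le hpn
        rw [Nat.cast_succ] at h2
        exact (ENat.lt_add_one_iff (ENat.natCast_ne_top n)).1 h2
      refine (ih q h1).trans ?_
      rw [← hc]
      exact Order.add_one_le_of_lt (Ideal.height_strict_mono_of_isPrime hlt')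

/-- The height of a nonhomogeneous prime exceeds that of its core by exactly one. -/
theorem height_eq_core_add_one_int (p : Ideal R) [p.IsPrime] (P : Ideal R) [P.IsPrime] (hP : P.IsHomogeneous 𝒜)
    (hPp : P ≤ p) (hcore : ∀ d, ∀ a ∈ 𝒜 d, a ∈ p → a ∈ P) (hne : P ≠ p) : p.height = P.height + 1 := by
  have hPeq : (p.homogeneousCore 𝒜).toIdeal = P := by
    refine le_antisymm (fun x hx => ?_) (fun x hx => ?_)
    · exact mem_of_pr (ℳ := 𝒜) (P := P) fun i => hcore i _ (pr_mem i x)
        (Ideal.toIdeal_homogeneousCore_le 𝒜 p ((p.homogeneousCore 𝒜).isHomogeneous i hx))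
    · exact mem_of_pr (ℳ := 𝒜) (P := (p.homogeneousCore 𝒜).toIdeal) fun i =>
        Ideal.mem_homogeneousCore_of_homogeneous_of_mem ⟨i, pr_mem i x⟩ (hPp (hP i hx))
  obtain ⟨n, hn⟩ : ∃ n : ℕ, p.height = n :=
    ⟨_, (ENat.natCast_toNat (Ideal.height_lt_top_of_isPrime (I := p)).ne).symm⟩
  refine le_antisymm ?_ (Order.add_one_le_of_lt (Ideal.height_strict_mono_of_isPrime (lt_of_le_of_ne hPp hne)))
  rw [← hPeq]
  exact height_le_core_add_one_int n p hn.le

end Int

variable {ι κ : Type} [AddCommGroup ι] [DecidableEq ι] [AddCommGroup κ] [DecidableEq κ] {𝒜 : ι → AddSubgroup R}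
  [GradedRing 𝒜]

theorem coarsePr_mem_self (lam : ι →+ κ) {I : Ideal R} (hI : I.IsHomogeneous 𝒜) {x : R} (hx : x ∈ I) (k : κ) :
    coarsePr lam 𝒜 k x ∈ I := by
  rw [← sum_supp (ℳ := 𝒜) x, map_sum]
  refine sum_mem fun i _ => ?_
  rw [coarsePr_of_mem lam 𝒜 k (pr_mem i x)]
  split_ifs
  · exact hI i hx
  · exact zero_mem _

theorem pr_coarse (lam : ι →+ κ) [GradedRing (coarse lam 𝒜)] (k : κ) (x : R) :
    pr (coarse lam 𝒜) k x = coarsePr lam 𝒜 k x := by
  induction x using GrInj.induction 𝒜 with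
  | h0 => rw [map_zero, map_zero]
  | hh i x hx =>
    rw [coarsePr_of_mem lam 𝒜 k hx]
    rcases eq_or_ne (lam i) k with h | h
    · rw [if_pos h]
      exact pr_of_mem (h ▸ le_coarse lam 𝒜 i hx)
    · rw [if_neg h]
      exact pr_of_ne (le_coarse lam 𝒜 i hx) h
  | hadd a b ha hb => rw [map_add, map_add, ha, hb]

theorem isHomogeneous_coarse (lam : ι →+ κ) [GradedRing (coarse lam 𝒜)] {I : Ideal R} (hI : I.IsHomogeneous 𝒜) :
    I.IsHomogeneous (coarse lam 𝒜) := fun k x hx => by
  show pr (coarse lam 𝒜) k x ∈ I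
  rw [pr_coarse]
  exact coarsePr_mem_self lam hI hx k

/-- Relative heights above the homogeneous core. -/
theorem exists_height_shift [IsNoetherianRing R] : ∀ (r : ℕ) {ι : Type} [AddCommGroup ι] [DecidableEq ι]
    (e : ι →+ (Fin r → ℤ)), Function.Injective e → ∀ (𝒜 : ι → AddSubgroup R) [GradedRing 𝒜] (q : Ideal R)
    [q.IsPrime] (P : HomogeneousIdeal 𝒜) [P.toIdeal.IsPrime], P.toIdeal ≤ q →
    (∀ d, ∀ a ∈ 𝒜 d, a ∈ q → a ∈ P.toIdeal) →
    ∃ c : ℕ, ∀ I : HomogeneousIdeal 𝒜, I.toIdeal ≤ P.toIdeal →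
      (q.map (Ideal.Quotient.mk I.toIdeal)).height = (P.toIdeal.map (Ideal.Quotient.mk I.toIdeal)).height + c := by
  intro r
  induction r with
  | zero =>
    intro ι _ _ e he 𝒜 _ q _ P _ hPq hcore
    have hqP : q = P.toIdeal := by
      refine le_antisymm (fun a ha => ?_) hPq
      haveI : Subsingleton ι := he.subsingleton
      refine hcore 0 a ?_ ha
      rw [← sum_supp (ℳ := 𝒜) a]
      exact sum_mem fun i _ => Subsingleton.elim i 0 ▸ pr_mem i a
    exact ⟨0, fun I _ => by rw [hqP, Nat.cast_zero, add_zero]⟩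
  | succ r ih =>
    intro ι _ _ e he 𝒜 _ q _ P _ hPq hcore
    classical
    let lam : ι →+ (Fin r → ℤ) :=
      { toFun := fun g i => e g i.castSucc
        map_zero' := by funext i; simp
        map_add' := fun x y => by funext i; simp }
    let μ : ι →+ ℤ :=
      { toFun := fun g => e g (Fin.last r)
        map_zero' := by simp
        map_add' := fun x y => by simp }
    let 𝒜' := coarse lam 𝒜
    letI : GradedRing 𝒜' := gradedRing_coarse 𝒜 lam
    let P₁ := q.homogeneousCore 𝒜'
    haveI : P₁.toIdeal.IsPrime := by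
      refine isPrime_of_homogeneous 𝒜' P₁.isHomogeneous (fun h => Ideal.IsPrime.ne_top ‹q.IsPrime›
        (top_le_iff.1 (h ▸ Ideal.toIdeal_homogeneousCore_le 𝒜' q))) ?_
      intro a b x y hx hy hxy
      exact (Ideal.IsPrime.mem_or_mem ‹q.IsPrime› (Ideal.toIdeal_homogeneousCore_le 𝒜' q hxy)).imp
        (fun h => Ideal.mem_homogeneousCore_of_homogeneous_of_mem ⟨a, hx⟩ h)
        (fun h => Ideal.mem_homogeneousCore_of_homogeneous_of_mem ⟨b, hy⟩ h)
    have hP₁q : P₁.toIdeal ≤ q := Ideal.toIdeal_homogeneousCore_le 𝒜' q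
    obtain ⟨c, hc⟩ := ih (AddMonoidHom.id (Fin r → ℤ)) Function.injective_id 𝒜' q P₁ hP₁q
      fun d a ha haq => Ideal.mem_homogeneousCore_of_homogeneous_of_mem ⟨d, ha⟩ haq
    have hPP₁ : P.toIdeal ≤ P₁.toIdeal := fun x hx => by
      rw [← sum_supp (ℳ := 𝒜) x]
      exact sum_mem fun i _ => Ideal.mem_homogeneousCore_of_homogeneous_of_mem
        ⟨lam i, le_coarse lam 𝒜 i (pr_mem i x)⟩ (hPq (P.isHomogeneous i hx))
    have hc' : ∀ I : HomogeneousIdeal 𝒜, I.toIdeal ≤ P.toIdeal →
        (q.map (Ideal.Quotient.mk I.toIdeal)).height =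
          (P₁.toIdeal.map (Ideal.Quotient.mk I.toIdeal)).height + c := fun I hI =>
      hc ⟨I.toIdeal, isHomogeneous_coarse lam I.isHomogeneous⟩ (hI.trans hPP₁)
    by_cases hne : P.toIdeal = P₁.toIdeal
    · exact ⟨c, fun I hI => by rw [hc' I hI, hne]⟩
    refine ⟨c + 1, fun I hI => ?_⟩
    rw [hc' I hI]
    -- one step, for the grading by the last coordinate
    let ℬ := coarse μ 𝒜
    letI : GradedRing ℬ := gradedRing_coarse 𝒜 μ
    let I' : HomogeneousIdeal ℬ := ⟨I.toIdeal, isHomogeneous_coarse μ I.isHomogeneous⟩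
    letI : GradedRing (quotGr ℬ I') := gradedRing_quot I'
    let P₁q := P₁.toIdeal.map (Ideal.Quotient.mk I.toIdeal)
    let Pq := P.toIdeal.map (Ideal.Quotient.mk I.toIdeal)
    haveI : P₁q.IsPrime := Ideal.map_isPrime_of_surjective Ideal.Quotient.mk_surjective
      (by rw [Ideal.mk_ker]; exact hI.trans hPP₁)
    haveI : Pq.IsPrime := Ideal.map_isPrime_of_surjective Ideal.Quotient.mk_surjective (by rwa [Ideal.mk_ker])
    have hμcore : ∀ j, ∀ a ∈ ℬ j, a ∈ P₁.toIdeal → a ∈ P.toIdeal := fun j a ha ha1 => by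
      refine mem_of_pr (ℳ := 𝒜) (P := P.toIdeal) fun d => hcore d _ (pr_mem d a) ?_
      by_cases hd : μ d = j
      · have h1 : coarsePr lam 𝒜 (lam d) a = pr 𝒜 d a := by
          refine coarse_induction μ 𝒜 (P := fun z => coarsePr lam 𝒜 (lam d) z = pr 𝒜 d z) ha
            (by rw [map_zero, map_zero]) (fun g hg z hz => ?_) fun u v hu hv => by rw [map_add, map_add, hu, hv]
          rw [coarsePr_of_mem lam 𝒜 (lam d) hz]
          rcases eq_or_ne g d with rfl | hgd
          · rw [if_pos rfl, pr_of_mem hz]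
          · rw [pr_of_ne hz hgd, if_neg]
            intro hl
            refine hgd (he (funext fun i => ?_))
            induction i using Fin.lastCases with
            | last => exact hg.trans hd.symm
            | cast i => exact congrFun hl i
        rw [← h1, ← pr_coarse lam]
        exact hP₁q (P₁.isHomogeneous (lam d) ha1)
      · have h0 : pr 𝒜 d a = 0 := by
          refine coarse_induction μ 𝒜 (P := fun z => pr 𝒜 d z = 0) ha (map_zero _) (fun g hg z hz => ?_)
            fun u v hu hv => by rw [map_add, hu, hv, add_zero]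
          exact pr_of_ne hz fun e => hd (e ▸ hg)
        rw [h0]; exact zero_mem _
    have hPqhom : Pq.IsHomogeneous (quotGr ℬ I') := by
      intro j z hz
      obtain ⟨x, hx, rfl⟩ := (Ideal.mem_map_iff_of_surjective _ Ideal.Quotient.mk_surjective).1 hz
      show pr (quotGr ℬ I') j (Ideal.Quotient.mk I.toIdeal x) ∈ Pq
      rw [← sum_supp (ℳ := ℬ) x, map_sum, map_sum]
      refine sum_mem fun i _ => ?_
      have hi : Ideal.Quotient.mk I.toIdeal (pr ℬ i x) ∈ quotGr ℬ I' i := ⟨pr ℬ i x, pr_mem i x, rfl⟩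
      rcases eq_or_ne i j with rfl | hij
      · rw [pr_of_mem hi]
        exact Ideal.mem_map_of_mem _ (isHomogeneous_coarse μ P.isHomogeneous i hx)
      · rw [pr_of_ne hi hij]; exact zero_mem _
    have hstep := height_eq_core_add_one_int (𝒜 := quotGr ℬ I') P₁q Pq hPqhom (Ideal.map_mono hPP₁)
      (fun j a ha ha1 => by
        obtain ⟨x, hx, rfl⟩ := ha
        exact Ideal.mem_map_of_mem _ (hμcore j x hx ((Ideal.mem_quotient_iff_mem (hI.trans hPP₁)).1 ha1)))
      fun h => hne (le_antisymm hPP₁ fun x hx => (Ideal.mem_quotient_iff_mem hI).1 (by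
        show Ideal.Quotient.mk I.toIdeal x ∈ Pq
        rw [h]
        exact Ideal.mem_map_of_mem _ hx))
    rw [hstep, Nat.cast_add, Nat.cast_one, add_assoc, add_comm (1 : ℕ∞)]

end Groth.Agent.GrInj
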