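import Mathlib
import Groth.Agent.GrInj.CanLoc
import Groth.Agent.GrInj.Prime
import Groth.Agent.S13225
import Groth.Agent.LocCohLib.InjHullGor
import Groth.Agent.GorLib.InjDim

/-!
# Top local cohomology of a *local Gorenstein ring is the shifted *hull of the residue ring
-/

set_option autoImplicit false
set_option linter.style.haveILetI false
universe u

namespace Groth.Agent.GrInj

open GrLC CategoryTheory IsLocalRing

/-- An element killed by the maximal ideal lies in the image of the residue field of an essential extension. -/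
theorem socle_mem_range {A : Type u} [CommRing A] [IsLocalRing A] [IsNoetherianRing A] {X : Type u} [AddCommGroup X] [Module A X]
    {f : ResidueField A →ₗ[A] X} (hf : InjHull.IsEssentialInj f) {x : X}
    (hx : ∀ a ∈ maximalIdeal A, a • x = 0) : x ∈ LinearMap.range f := by
  by_cases h0 : x = 0
  · rw [h0]; exact zero_mem _
  obtain ⟨a, ha, z, hz⟩ := MatlisLib.exists_smul_mem_range hf h0
  have hu : IsUnit a := IsLocalRing.notMem_maximalIdeal.1 fun h => ha (hx a h)
  obtain ⟨b, hb⟩ := hu.exists_left_inv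
  exact ⟨b • z, by rw [map_smul, hz, ← mul_smul, hb, one_smul]⟩

/-- The socle of an essential extension of the residue field is cyclic on any nonzero element. -/
theorem exists_smul_of_socle {A : Type u} [CommRing A] [IsLocalRing A] [IsNoetherianRing A] {X : Type u} [AddCommGroup X] [Module A X]
    {f : ResidueField A →ₗ[A] X} (hf : InjHull.IsEssentialInj f) {x y : X} (hx0 : x ≠ 0)
    (hx : ∀ a ∈ maximalIdeal A, a • x = 0) (hy : ∀ a ∈ maximalIdeal A, a • y = 0) : ∃ a : A, y = a • x := by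
  obtain ⟨z, rfl⟩ := socle_mem_range hf hx
  obtain ⟨w, rfl⟩ := socle_mem_range hf hy
  have hz : z ≠ 0 := fun h => hx0 (by rw [h, map_zero])
  obtain ⟨a, ha⟩ := residue_surjective (R := A) (w / z)
  refine ⟨a, ?_⟩
  rw [← map_smul, Algebra.smul_def]
  congr 1
  show w = residue A a * z
  rw [ha, div_mul_cancel₀ _ hz]

variable {ι : Type} [AddCommGroup ι] [DecidableEq ι] {R : Type u} [CommRing R] [IsNoetherianRing R]
  {𝒜 : ι → AddSubgroup R} [GradedRing 𝒜] {m : HomogeneousIdeal 𝒜}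

theorem le_star (hm : IsStarLocal 𝒜 m) (I : HomogeneousIdeal 𝒜) (hI : I.toIdeal ≠ ⊤) :
    I.toIdeal ≤ m.toIdeal := by
  obtain ⟨J, hJ, hmax⟩ := set_has_maximal_iff_noetherian.2 ‹IsNoetherianRing R›
    {J : Ideal R | J.IsHomogeneous 𝒜 ∧ J ≠ ⊤ ∧ I.toIdeal ≤ J} ⟨_, I.isHomogeneous, hI, le_rfl⟩
  have hco : IsCoatom (⟨J, hJ.1⟩ : HomogeneousIdeal 𝒜) := by
    refine ⟨fun h => hJ.2.1 (congrArg HomogeneousIdeal.toIdeal h), fun K hK => by_contra fun hKt => ?_⟩
    refine hmax (HomogeneousIdeal.toIdeal K) ⟨K.isHomogeneous, fun h => hKt (HomogeneousIdeal.ext (by simpa using h)),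
      hJ.2.2.trans ?_⟩ ?_
    · exact hK.le
    · exact lt_of_le_of_ne hK.le fun h => hK.ne (HomogeneousIdeal.ext h)
  rw [← hm.2 _ hco]
  exact hJ.2.2

/-- Homogeneous elements outside the *maximal ideal are units. -/
theorem isUnit_of_notMem (hm : IsStarLocal 𝒜 m) {d : ι} {x : R} (hx : x ∈ 𝒜 d) (hxm : x ∉ m.toIdeal) :
    IsUnit x := by
  rw [← Ideal.span_singleton_eq_top]
  by_contra h
  let P : HomogeneousIdeal 𝒜 :=
    ⟨Ideal.span {x}, Ideal.homogeneous_span 𝒜 _ (by rintro _ rfl; exact ⟨d, hx⟩)⟩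
  exact hxm (le_star hm P h (Ideal.subset_span rfl))

theorem star_isPrime [Module.Free ℤ ι] [Module.Finite ℤ ι] (hm : IsStarLocal 𝒜 m) : m.toIdeal.IsPrime := by
  refine isPrime_of_homogeneous 𝒜 m.isHomogeneous (fun h => hm.1.1 (HomogeneousIdeal.ext (by simpa using h))) ?_
  intro a b x y hx hy hxy
  by_contra h
  push Not at h
  obtain ⟨v, hv⟩ := (isUnit_of_notMem hm hx h.1).exists_left_inv
  exact h.2 (by simpa [← mul_assoc, hv] using Ideal.mul_mem_left m.toIdeal v hxy)

section Graded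
variable {H : Type u} [AddCommGroup H] [Module R H] {ℋ : ι → AddSubgroup H} [DirectSum.Decomposition ℋ]
  [SetLike.GradedSMul 𝒜 ℋ]

theorem pr_smul_right {h : ι} {x : H} (hx : x ∈ ℋ h) (t : R) (d : ι) :
    pr ℋ (d + h) (t • x) = pr 𝒜 d t • x := by
  rw [← sum_supp (ℳ := 𝒜) t, Finset.sum_smul, map_sum, map_sum, Finset.sum_smul]
  refine Finset.sum_congr rfl fun i _ => ?_
  have hi := smul_mem_gr (pr_mem (ℳ := 𝒜) i t) hx
  rcases eq_or_ne i d with rfl | hne
  · rw [pr_of_mem hi, pr_of_mem (pr_mem (ℳ := 𝒜) i t)]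
  · rw [pr_of_ne hi fun e => hne (add_right_cancel e), pr_of_ne (pr_mem (ℳ := 𝒜) i t) hne, zero_smul]

/-- If a scalar outside `m` moves a homogeneous element into a homogeneous submodule, it was already there. -/
theorem mem_of_smul_mem (hm : IsStarLocal 𝒜 m) {P : Submodule R H} (hP : P.IsHomogeneous ℋ) {h : ι} {x : H}
    (hx : x ∈ ℋ h) {t : R} (ht : t ∉ m.toIdeal) (htx : t • x ∈ P) : x ∈ P := by
  obtain ⟨d, hd⟩ : ∃ d, pr 𝒜 d t ∉ m.toIdeal := by
    by_contra hno
    push Not at hno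
    exact ht (mem_of_pr (ℳ := 𝒜) (P := m.toIdeal) hno)
  obtain ⟨v, hv⟩ := (isUnit_of_notMem hm (pr_mem d t) hd).exists_left_inv
  have h1 : pr 𝒜 d t • x ∈ P := by
    rw [← pr_smul_right (𝒜 := 𝒜) hx t d]; exact hP (d + h) htx
  simpa [← mul_smul, hv] using P.smul_mem v h1

variable (ℋ) in
/-- In a torsion graded module a nonzero homogeneous element has a nonzero homogeneous multiple in the socle. -/
theorem exists_socle_smul (hT : LocCoh.IsPowerTorsion m.toIdeal H) {h : ι} {x : H} (hx : x ∈ ℋ h) (hx0 : x ≠ 0) :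
    ∃ (d : ι) (r : R), r ∈ 𝒜 d ∧ r • x ≠ 0 ∧ ∀ s ∈ m.toIdeal, s • r • x = 0 := by
  obtain ⟨k, hk⟩ := hT x
  induction k generalizing h x with
  | zero => exact absurd (by simpa using hk 1 (by simp)) hx0
  | succ k ih =>
    by_cases hall : ∀ s ∈ m.toIdeal, s • x = 0
    · exact ⟨0, 1, SetLike.one_mem_graded 𝒜, by rwa [one_smul], fun s hs => by rw [one_smul]; exact hall s hs⟩
    push Not at hall
    obtain ⟨s, hs, hsx⟩ := hall
    obtain ⟨d, hd⟩ : ∃ d, pr 𝒜 d s • x ≠ 0 := by
      by_contra hno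
      push Not at hno
      exact hsx (by rw [← sum_supp (ℳ := 𝒜) s, Finset.sum_smul]; exact Finset.sum_eq_zero fun i _ => hno i)
    have hk' : ∀ a ∈ m.toIdeal ^ k, a • pr 𝒜 d s • x = 0 := fun a ha => by
      rw [← mul_smul]
      exact hk _ (by rw [pow_succ]; exact Ideal.mul_mem_mul ha (m.isHomogeneous d hs))
    obtain ⟨e, r, hr, hr0, hrk⟩ := ih (smul_mem_gr (pr_mem (ℳ := 𝒜) d s) hx) hd hk'
    exact ⟨e + d, r * pr 𝒜 d s, SetLike.mul_mem_graded hr (pr_mem d s), by rwa [mul_smul], fun a ha => by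
      rw [mul_smul]; exact hrk a ha⟩

end Graded

/-- Local cohomology computed from a *injective resolution is torsion. -/
theorem torsion_H {M : Type u} [AddCommGroup M] [Module R M] {ℳ : ι → AddSubgroup M} [DirectSum.Decomposition ℳ]
    [SetLike.GradedSMul 𝒜 ℳ] (E : StarInjRes 𝒜 ℳ) (a : HomogeneousIdeal 𝒜) (n : ℕ) :
    LocCoh.IsPowerTorsion a.toIdeal (E.H a n) := fun c => by
  obtain ⟨z, rfl⟩ := Submodule.mkQ_surjective _ c
  obtain ⟨k, hk⟩ := z.2.1
  exact ⟨k, fun r hr => by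
    rw [← map_smul, show r • z = 0 from Subtype.ext (hk r hr), map_zero]⟩

/-- The torsion passes to the localisation. -/
theorem torsion_loc (P : Ideal R) [P.IsPrime] {E : Type u} [AddCommGroup E] [Module R E]
    (hT : LocCoh.IsPowerTorsion P E) :
    LocCoh.IsPowerTorsion (maximalIdeal (Localization.AtPrime P)) (LocalizedModule P.primeCompl E) := by
  intro x
  induction x using LocalizedModule.induction_on with
  | h y s =>
    obtain ⟨t, ht⟩ := hT y
    refine ⟨t, fun a ha => ?_⟩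
    rw [← Localization.AtPrime.map_eq_maximalIdeal, ← Ideal.map_pow] at ha
    induction ha using Submodule.span_induction with
    | mem w hw =>
      obtain ⟨b, hb, rfl⟩ := hw
      rw [algebraMap_smul, LocalizedModule.smul'_mk, ht b hb, LocalizedModule.zero_mk]
    | zero => exact zero_smul _ _
    | add p q _ _ hp hq => rw [add_smul, hp, hq, add_zero]
    | smul c p _ hp => rw [smul_eq_mul, mul_smul, hp, smul_zero]

/-- Localised graded local cohomology of the ring is the local cohomology of the local ring. -/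
theorem nonempty_H_loc [m.toIdeal.IsPrime] (I : StarInjRes 𝒜 𝒜) (n : ℕ) :
    Nonempty (LocalizedModule m.toIdeal.primeCompl (I.H m n) ≃ₗ[Localization.AtPrime m.toIdeal]
      LocCoh.H (maximalIdeal (Localization.AtPrime m.toIdeal)) n (Localization.AtPrime m.toIdeal)) := by
  let S := m.toIdeal.primeCompl
  let A := Localization.AtPrime m.toIdeal
  obtain ⟨eH⟩ : Nonempty (I.H m n ≃ₗ[R] LocCoh.H m.toIdeal n R) := by
    cases n with
    | zero => exact S13224.zero_case I m
    | succ n => exact S13224.succ_case I m n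
  have hbc : IsBaseChange A (LocalizedModule.mkLinearMap S (I.H m n)) := IsLocalizedModule.isBaseChange S A _
  haveI : Module.Flat R A := IsLocalization.flat A S
  obtain ⟨eT⟩ := LocCohLib.nonempty_tensEquiv (R' := A) m.toIdeal n (ModuleCat.of R R)
  have hmax : m.toIdeal.map (algebraMap R A) = maximalIdeal A := Localization.AtPrime.map_eq_maximalIdeal
  rw [← hmax]
  let eR := ((localCohomology (m.toIdeal.map (algebraMap R A)) n).mapIso
    ((TensorProduct.AlgebraTensorModule.rid R A A).toModuleIso :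
      (LocCohLib.tens A).obj (ModuleCat.of R R) ≅ ModuleCat.of A A)).toLinearEquiv
  exact ⟨hbc.equiv.symm ≪≫ₗ eH.baseChange R A _ _ ≪≫ₗ eT ≪≫ₗ eR⟩

/-- Gorenstein *local rings: top local cohomology is a shift of the *hull. -/
theorem exists_equiv_hull [LocCoh.IsGorensteinRing R] [Module.Free ℤ ι] [Module.Finite ℤ ι]
    (hm : IsStarLocal 𝒜 m) {n : ℕ} (hn : m.toIdeal.height = n) (I : StarInjRes 𝒜 𝒜) {E' : Type u}
    [AddCommGroup E'] [Module R E'] {𝓔 : ι → AddSubgroup E'} [DirectSum.Decomposition 𝓔]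
    [SetLike.GradedSMul 𝒜 𝓔] {e : (R ⧸ m.toIdeal) →ₗ[R] E'} (he : IsStarInjHull 𝒜 (quotGr 𝒜 m) 𝓔 e) :
    ∃ (g : ι) (φ : I.H m n ≃ₗ[R] E'), IsGrHomDeg (I.Hgr m n) 𝓔 φ.toLinearMap g := by
  classical
  haveI := star_isPrime hm
  let S := m.toIdeal.primeCompl
  let A := Localization.AtPrime m.toIdeal
  haveI : LocCoh.IsGorensteinLocalRing A := LocCoh.IsGorensteinRing.isGorensteinLocalRing_localization m.toIdeal
  have hdim : ringKrullDim A = n := by
    rw [IsLocalization.AtPrime.ringKrullDim_eq_height m.toIdeal A, hn]; rfl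
  obtain ⟨f₀, hf₀⟩ := LocCohLib.Gor.exists_injectiveHull_H_top (GorLib.depth_eq_dim hdim)
  obtain ⟨eL⟩ := nonempty_H_loc (m := m) I n
  haveI : Module.Injective A (LocCoh.H (maximalIdeal A) n A) := hf₀.isInjective
  letI := (S13225.isInternal_Hgr I m n).chooseDecomposition
  haveI : SetLike.GradedSMul 𝒜 (I.Hgr m n) := ⟨fun {p q} r c hr hc => by
    obtain ⟨z, hz, rfl⟩ := hc
    exact ⟨r • z, (I.X n).gsmul.smul_mem hr hz, map_smul _ r z⟩⟩
  let X := LocalizedModule S (I.H m n)
  let f₁ : ResidueField A →ₗ[A] X := eL.symm.toLinearMap ∘ₗ f₀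
  have hf₁ : InjHull.IsEssentialInj f₁ := by
    refine ⟨eL.symm.injective.comp hf₀.injective, fun P hP => ?_⟩
    obtain ⟨p, hp, hp0⟩ := Submodule.exists_mem_ne_zero_of_ne_bot hP
    obtain ⟨a, ha, z, hz⟩ := MatlisLib.exists_smul_mem_range hf₀.toIsEssentialInj (x := eL p)
      (fun h => hp0 (eL.map_eq_zero_iff.1 h))
    have hfz : f₁ z = a • p := by
      show eL.symm (f₀ z) = a • p
      rw [hz, map_smul, eL.symm_apply_apply]
    refine (Submodule.ne_bot_iff _).2 ⟨a • p, ⟨P.smul_mem a hp, z, hfz⟩, fun h => ha ?_⟩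
    rw [← map_smul, h, map_zero]
  have hkill : ∀ w : I.H m n, (∀ s ∈ m.toIdeal, s • w = 0) →
      ∀ a ∈ maximalIdeal A, a • LocalizedModule.mkLinearMap S (I.H m n) w = 0 := fun w hw a ha => by
    rw [← Localization.AtPrime.map_eq_maximalIdeal] at ha
    induction ha using Submodule.span_induction with
    | mem v hv =>
      obtain ⟨b, hb, rfl⟩ := hv
      rw [algebraMap_smul, ← map_smul, hw b hb, map_zero]
    | zero => exact zero_smul _ _
    | add p q _ _ hp hq => rw [add_smul, hp, hq, add_zero]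
    | smul c p _ hp => rw [smul_eq_mul, mul_smul, hp, smul_zero]
  have hne : ∀ {h : ι} {w : I.H m n}, w ∈ I.Hgr m n h → w ≠ 0 →
      LocalizedModule.mkLinearMap S (I.H m n) w ≠ 0 := fun {h w} hw hw0 h0 => hw0 (by
    obtain ⟨t, ht⟩ := (IsLocalizedModule.eq_zero_iff S (LocalizedModule.mkLinearMap S (I.H m n))).1 h0
    simpa using mem_of_smul_mem (ℋ := I.Hgr m n) hm hom_bot hw t.2 (by simpa [Submonoid.smul_def] using ht))
  have hT := torsion_H I m n
  -- a socle generator
  obtain ⟨g, u, hu, hu0, huk⟩ : ∃ g, ∃ u ∈ I.Hgr m n g, u ≠ 0 ∧ ∀ s ∈ m.toIdeal, s • u = 0 := by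
    obtain ⟨c, hc⟩ : ∃ c : I.H m n, c ≠ 0 := by
      by_contra hno
      push Not at hno
      haveI : Subsingleton (I.H m n) := subsingleton_of_forall_eq 0 hno
      have : Subsingleton X := by
        refine subsingleton_of_forall_eq 0 fun x => ?_
        induction x using LocalizedModule.induction_on with
        | h y s => rw [Subsingleton.elim y 0, LocalizedModule.zero_mk]
      exact one_ne_zero (hf₁.injective (Subsingleton.elim (f₁ 1) (f₁ 0)))
    obtain ⟨h, hh⟩ : ∃ h, pr (I.Hgr m n) h c ≠ 0 := by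
      by_contra hno
      push Not at hno
      exact hc (eq_zero_of_pr (ℳ := I.Hgr m n) hno)
    obtain ⟨d, r, hr, hr0, hrk⟩ := exists_socle_smul (ℋ := I.Hgr m n) hT (pr_mem h c) hh
    exact ⟨d + h, _, smul_mem_gr hr (pr_mem h c), hr0, hrk⟩
  have hgen : ∀ {h : ι} {w : I.H m n}, w ∈ I.Hgr m n h → (∀ s ∈ m.toIdeal, s • w = 0) →
      ∃ a : R, w = a • u := fun {h w} hw hwk => by
    obtain ⟨a, ha⟩ := exists_smul_of_socle hf₁ (hne hu hu0) (hkill u huk) (hkill w hwk)
    obtain ⟨⟨r, s⟩, hrs⟩ := IsLocalization.surj S a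
    have h1 : LocalizedModule.mkLinearMap S (I.H m n) ((s : R) • w) =
        LocalizedModule.mkLinearMap S (I.H m n) (r • u) := by
      rw [map_smul, map_smul, ha, ← algebraMap_smul A (s : R), ← algebraMap_smul A r, ← mul_smul, ← hrs, mul_comm]
    obtain ⟨t, ht⟩ := (IsLocalizedModule.eq_iff_exists S (LocalizedModule.mkLinearMap S (I.H m n))).1 h1
    simp only [Submonoid.smul_def] at ht
    have hP : (Submodule.span R {u}).IsHomogeneous (I.Hgr m n) := hom_span_singleton 𝒜 hu
    have hts : (t : R) * (s : R) ∉ m.toIdeal := (S.mul_mem t.2 s.2)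
    have hmem : ((t : R) * (s : R)) • w ∈ Submodule.span R {u} := by
      rw [mul_smul, ht]
      exact Submodule.smul_mem _ _ (Submodule.smul_mem _ _ (Submodule.mem_span_singleton_self u))
    obtain ⟨a', ha'⟩ := Submodule.mem_span_singleton.1 (mem_of_smul_mem (ℋ := I.Hgr m n) hm hP hw hts hmem)
    exact ⟨a', ha'.symm⟩
  -- the map
  let t₀ : (R ⧸ m.toIdeal) →ₗ[R] I.H m n :=
    Submodule.liftQ m.toIdeal (LinearMap.toSpanSingleton R _ u) fun r hr => huk r hr
  have ht₀ : ∀ r : R, t₀ (Ideal.Quotient.mk m.toIdeal r) = r • u := fun r => rfl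
  have htinj : Function.Injective t₀ := (injective_iff_map_eq_zero _).2 fun z hz => by
    obtain ⟨r, rfl⟩ := Ideal.Quotient.mk_surjective z
    rw [ht₀] at hz
    refine Ideal.Quotient.eq_zero_iff_mem.2 (by_contra fun hr => hu0 ?_)
    simpa using mem_of_smul_mem (ℋ := I.Hgr m n) hm hom_bot hu hr (by simpa using hz)
  letI : DirectSum.Decomposition (quotGr 𝒜 m) := (isInternal_quotGr m).chooseDecomposition
  have htgr : IsGrHom (quotGr 𝒜 m) (shGr (I.Hgr m n) (-g)) t₀ := fun i z hz => by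
    obtain ⟨r, hr, rfl⟩ := hz
    show t₀ (Ideal.Quotient.mk m.toIdeal r) ∈ I.Hgr m n (i - -g)
    rw [ht₀, sub_neg_eq_add]
    exact smul_mem_gr hr hu
  obtain ⟨φ, hφgr, hφt⟩ := he.starInj (GMod.of 𝒜 (R ⧸ m.toIdeal) (quotGr 𝒜 m))
    (GMod.of 𝒜 (I.H m n) (shGr (I.Hgr m n) (-g))) t₀ htgr htinj e he.grHom
  change I.H m n →ₗ[R] E' at φ
  have hφu : ∀ r : R, φ (r • u) = e (Ideal.Quotient.mk m.toIdeal r) := fun r => by
    rw [← ht₀]; exact LinearMap.congr_fun hφt _
  have hdeg : IsGrHomDeg (I.Hgr m n) 𝓔 φ (-g) := fun h x hx => by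
    refine hφgr (h + -g) x ?_
    show x ∈ I.Hgr m n (h + -g - -g)
    rwa [add_sub_cancel_right]
  have hφinj : Function.Injective φ := by
    rw [← LinearMap.ker_eq_bot]
    by_contra hker
    obtain ⟨c, hc, hc0⟩ := Submodule.exists_mem_ne_zero_of_ne_bot hker
    obtain ⟨h, hh⟩ : ∃ h, pr (I.Hgr m n) h c ≠ 0 := by
      by_contra hno
      push Not at hno
      exact hc0 (eq_zero_of_pr (ℳ := I.Hgr m n) hno)
    have hch : φ (pr (I.Hgr m n) h c) = 0 := by
      have h1 := pr_map (ℳ := I.Hgr m n) (𝒩 := 𝓔) (f := φ.toAddMonoidHom) (d := -g) hdeg h c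
      rw [LinearMap.toAddMonoidHom_coe, show φ c = 0 from hc, map_zero] at h1
      exact h1.symm
    obtain ⟨d, r, hr, hr0, hrk⟩ := exists_socle_smul (ℋ := I.Hgr m n) hT (pr_mem h c) hh
    obtain ⟨a, ha⟩ := hgen (smul_mem_gr hr (pr_mem h c)) hrk
    have h2 : e (Ideal.Quotient.mk m.toIdeal a) = 0 := by rw [← hφu, ← ha, map_smul, hch, smul_zero]
    have h3 : a ∈ m.toIdeal := Ideal.Quotient.eq_zero_iff_mem.1 (he.injective (h2.trans (map_zero e).symm))
    exact hr0 (ha.trans (huk a h3))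
  -- surjectivity
  obtain ⟨f₂, hf₂⟩ := exists_hull_loc m he
  let Φ : X →ₗ[A] LocalizedModule S E' := LocalizedModule.map S φ
  have hΦinj : Function.Injective Φ := LocalizedModule.map_injective S φ hφinj
  obtain ⟨ρ', hρ⟩ := Module.Injective.out (Φ ∘ₗ eL.symm.toLinearMap) (hΦinj.comp eL.symm.injective)
    (LinearMap.id (R := A) (M := LocCoh.H (maximalIdeal A) n A))
  let ρ := eL.symm.toLinearMap ∘ₗ ρ'
  have hρΦ : ∀ x, ρ (Φ x) = x := fun x => eL.symm_apply_eq.2 (by
    have h := hρ (eL x)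
    rwa [LinearMap.comp_apply, LinearEquiv.coe_coe, eL.symm_apply_apply] at h)
  have hv0 : Φ (LocalizedModule.mkLinearMap S _ u) ≠ 0 := fun h =>
    hne hu hu0 (hΦinj (h.trans (map_zero Φ).symm))
  have hvk : ∀ a ∈ maximalIdeal A, a • Φ (LocalizedModule.mkLinearMap S _ u) = 0 := fun a ha => by
    rw [← map_smul, hkill u huk a ha, map_zero]
  have hΦsurj : Function.Surjective Φ := fun y => by
    refine ⟨ρ y, (sub_eq_zero.1 (by_contra fun hy => ?_)).symm⟩
    obtain ⟨a, ha, z, hz⟩ := MatlisLib.exists_smul_mem_range hf₂.toIsEssentialInj hy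
    obtain ⟨b, hb⟩ := exists_smul_of_socle hf₂.toIsEssentialInj hv0 hvk (y := f₂ z) fun c hc => by
      rw [← map_smul, Algebra.smul_def, show algebraMap A (ResidueField A) c = 0 from
        (residue_eq_zero_iff c).2 hc, zero_mul, map_zero]
    have h1 : ρ (f₂ z) = 0 := by rw [hz, map_smul, map_sub, hρΦ, sub_self, smul_zero]
    rw [hb, map_smul, hρΦ] at h1
    exact ha (by rw [← hz, hb, ← map_smul, h1, map_zero])
  have hφsurj : Function.Surjective φ := fun y => by
    induction y using GrInj.induction 𝓔 with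
    | h0 => exact ⟨0, map_zero φ⟩
    | hh i y hy =>
      obtain ⟨x, hx⟩ := hΦsurj (LocalizedModule.mk y 1)
      induction x using LocalizedModule.induction_on with
      | h z s =>
        change LocalizedModule.map S φ (LocalizedModule.mk z s) = _ at hx
        rw [LocalizedModule.map_mk] at hx
        obtain ⟨t, ht⟩ := LocalizedModule.mk_eq.1 hx
        simp only [Submonoid.smul_def, OneMemClass.coe_one, one_smul] at ht
        have hrange : (LinearMap.range φ).IsHomogeneous 𝓔 := fun j w hw => by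
          obtain ⟨w, rfl⟩ := hw
          refine ⟨pr (I.Hgr m n) (j + g) w, ?_⟩
          have h1 := pr_map (ℳ := I.Hgr m n) (𝒩 := 𝓔) (f := φ.toAddMonoidHom) (d := -g) hdeg (j + g) w
          rw [add_neg_cancel_right] at h1
          exact h1.symm
        exact mem_of_smul_mem (ℋ := 𝓔) hm hrange hy (S.mul_mem t.2 s.2)
          ⟨(t : R) • z, by rw [map_smul, ht, mul_smul]⟩
    | hadd a b ha hb =>
      obtain ⟨a, rfl⟩ := ha
      obtain ⟨b, rfl⟩ := hb
      exact ⟨a + b, map_add φ a b⟩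
  exact ⟨-g, LinearEquiv.ofBijective φ ⟨hφinj, hφsurj⟩, hdeg⟩

end Groth.Agent.GrInj
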