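import Groth.Agent.GrInj.StarLoc
import Groth.Agent.GrInj.NonHomDim
import Groth.Agent.DepthLib.SupportHeight
import Groth.Agent.DepthLib.Sequence
import Groth.Agent.S13224
import Groth.Agent.S13232
import Groth.Agent.S13234

/-!
# The Cohen-Macaulay criterion for graded modules at the irrelevant ideal
-/

set_option autoImplicit false
set_option linter.unusedSectionVars false
universe u

namespace Groth.Agent.GrInj.CMCrit

open GrLC LocCoh

variable {R : Type u} [CommRing R] [IsNoetherianRing R] {M : Type u} [AddCommGroup M] [Module R M]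
  [Module.Finite R M]

theorem supportDim_add_height_le (p q : Ideal R) [p.IsPrime] [q.IsPrime] (hpq : p ≤ q)
    [Nontrivial (LocalizedModule p.primeCompl M)] :
    Module.supportDim (Localization.AtPrime p) (LocalizedModule p.primeCompl M) +
        (((q.map (Ideal.Quotient.mk p)).height : ℕ∞) : WithBot ℕ∞) ≤
      Module.supportDim (Localization.AtPrime q) (LocalizedModule q.primeCompl M) := by
  have hp : (⟨p, ‹_›⟩ : PrimeSpectrum R) ∈ Module.support R M :=
    (DepthLib.nontrivial_localizedModule_iff (⟨p, ‹_›⟩ : PrimeSpectrum R)).1 ‹_›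
  have hq : (⟨q, ‹_›⟩ : PrimeSpectrum R) ∈ Module.support R M :=
    Module.mem_support_mono (p := ⟨p, ‹_›⟩) hpq hp
  let a : Module.support R M := ⟨_, hp⟩
  let b : Module.support R M := ⟨_, hq⟩
  rw [DepthLib.supportDim_localization_eq_height a, DepthLib.supportDim_localization_eq_height b,
    Order.height_eq_krullDim_Iic b]
  let a' : Set.Iic b := ⟨a, hpq⟩
  haveI : Nonempty (Set.Iic b) := ⟨a'⟩
  haveI : (q.map (Ideal.Quotient.mk p)).IsPrime :=
    Ideal.map_isPrime_of_surjective Ideal.Quotient.mk_surjective (by rwa [Ideal.mk_ker])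
  let qb : PrimeSpectrum (R ⧸ p) := ⟨q.map (Ideal.Quotient.mk p), inferInstance⟩
  have h1 : (Order.height a : WithBot ℕ∞) ≤ Order.height a' := by
    rw [Order.height_eq_krullDim_Iic, Order.height_eq_krullDim_Iic]
    exact Order.krullDim_le_of_strictMono (fun c => ⟨⟨c.1, le_trans c.2 hpq⟩, c.2⟩) (fun _ _ h => h)
  have h2 : (((q.map (Ideal.Quotient.mk p)).height : ℕ∞) : WithBot ℕ∞) ≤ Order.coheight a' := by
    rw [show (q.map (Ideal.Quotient.mk p)).height = Order.height qb from PrimeSpectrum.height_eq_orderHeight qb,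
      Order.height_eq_krullDim_Iic, Order.coheight_eq_krullDim_Ici]
    have hcomap : (q.map (Ideal.Quotient.mk p)).comap (Ideal.Quotient.mk p) = q := by
      rw [Ideal.comap_map_of_surjective _ Ideal.Quotient.mk_surjective, ← RingHom.ker_eq_comap_bot,
        Ideal.mk_ker, sup_eq_left.2 hpq]
    have hge : ∀ c : Set.Iic qb, p ≤ c.1.asIdeal.comap (Ideal.Quotient.mk p) := fun c x hx => by
      simp [Ideal.mem_comap, Ideal.Quotient.eq_zero_iff_mem.2 hx]
    have hle : ∀ c : Set.Iic qb, c.1.asIdeal.comap (Ideal.Quotient.mk p) ≤ q := fun c =>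
      (Ideal.comap_mono (show c.1.asIdeal ≤ qb.asIdeal from c.2)).trans hcomap.le
    refine Order.krullDim_le_of_strictMono (fun c => ⟨⟨⟨⟨c.1.asIdeal.comap (Ideal.Quotient.mk p), inferInstance⟩,
      Module.mem_support_mono (p := ⟨p, ‹_›⟩) (hge c) hp⟩, hle c⟩, hge c⟩) ?_
    intro c d h
    show c.1.asIdeal.comap (Ideal.Quotient.mk p) < d.1.asIdeal.comap (Ideal.Quotient.mk p)
    exact lt_of_le_of_ne (Ideal.comap_mono (show c.1.asIdeal ≤ d.1.asIdeal from h.le)) fun he =>
      h.ne (Subtype.ext (PrimeSpectrum.ext (Ideal.comap_injective_of_surjective _ Ideal.Quotient.mk_surjective he)))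
  refine (add_le_add h1 h2).trans ?_
  rw [Order.krullDim_eq_iSup_height_add_coheight_of_nonempty, ← WithBot.coe_add, WithBot.coe_le_coe]
  exact le_iSup (fun c : Set.Iic b => Order.height c + Order.coheight c) a'

/-- The Cohen-Macaulay property passes to generalisations. -/
theorem cm_of_le (p q : Ideal R) [p.IsPrime] [q.IsPrime] (hpq : p ≤ q)
    (hq : IsCohenMacaulayModule (Localization.AtPrime q) (LocalizedModule q.primeCompl M)) :
    Subsingleton (LocalizedModule p.primeCompl M) ∨
      IsCohenMacaulayModule (Localization.AtPrime p) (LocalizedModule p.primeCompl M) := by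
  rcases subsingleton_or_nontrivial (LocalizedModule p.primeCompl M) with h | h
  · exact Or.inl h
  refine Or.inr (DepthLib.isCohenMacaulayModule_iff.2 ?_)
  have h1 := supportDim_add_height_le (M := M) p q hpq
  rw [hq] at h1
  have h2 := DepthLib.depth_localization_le_add_height M p q hpq
  haveI : (q.map (Ideal.Quotient.mk p)).IsPrime :=
    Ideal.map_isPrime_of_surjective Ideal.Quotient.mk_surjective (by rwa [Ideal.mk_ker])
  have hfin : (q.map (Ideal.Quotient.mk p)).height ≠ ⊤ :=
    (Ideal.height_lt_top_of_isPrime (I := q.map (Ideal.Quotient.mk p))).ne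
  obtain ⟨e, he⟩ := WithBot.ne_bot_iff_exists.mp
    (Module.supportDim_ne_bot_of_nontrivial (Localization.AtPrime p) (LocalizedModule p.primeCompl M))
  rw [← he, ← WithBot.coe_add, WithBot.coe_le_coe] at h1
  rw [← he, WithBot.coe_le_coe]
  exact (ENat.add_le_add_iff_right hfin).1 (h1.trans h2)

section Graded

variable {𝒜 : ℤ → AddSubgroup R} [GradedRing 𝒜] (hpos : ∀ n : ℤ, n < 0 → 𝒜 n = ⊥)
  {m : HomogeneousIdeal 𝒜} (hm : IsStarLocal 𝒜 m) [m.toIdeal.IsMaximal]
  (ℳ : ℤ → AddSubgroup M) [DirectSum.Decomposition ℳ] [SetLike.GradedSMul 𝒜 ℳ]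

include hpos hm ℳ

/-- A graded module which is Cohen-Macaulay at the irrelevant ideal is Cohen-Macaulay. -/
theorem cm_of_star (h : IsCohenMacaulayModule (Localization.AtPrime m.toIdeal) (LocalizedModule m.toIdeal.primeCompl M))
    (q : Ideal R) [q.IsPrime] : Subsingleton (LocalizedModule q.primeCompl M) ∨
      IsCohenMacaulayModule (Localization.AtPrime q) (LocalizedModule q.primeCompl M) := by
  rcases subsingleton_or_nontrivial (LocalizedModule q.primeCompl M) with hq | hq
  · exact Or.inl hq
  haveI : (Ideal.homogeneousCore 𝒜 q).toIdeal.IsPrime := Ideal.IsPrime.homogeneousCore ‹q.IsPrime›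
  haveI : (q.map (Ideal.Quotient.mk (Ideal.homogeneousCore 𝒜 q).toIdeal)).IsPrime :=
    Ideal.map_isPrime_of_surjective Ideal.Quotient.mk_surjective
      (by rw [Ideal.mk_ker]; exact Ideal.toIdeal_homogeneousCore_le 𝒜 q)
  obtain ⟨d, hd⟩ := ENat.ne_top_iff_exists.1
    (Ideal.height_lt_top_of_isPrime (I := q.map (Ideal.Quotient.mk (Ideal.homogeneousCore 𝒜 q).toIdeal))).ne
  have hs := S13232.result R 𝒜 M ℳ q d hd.symm hq
  have hdep := S13234.result R 𝒜 M ℳ q d hd.symm
  rcases cm_of_le (M := M) (Ideal.homogeneousCore 𝒜 q).toIdeal m.toIdeal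
    (star_le hm _ (Ideal.IsPrime.ne_top inferInstance)) h with hC | hC
  · exfalso
    rw [Module.supportDim_eq_bot_of_subsingleton (R := Localization.AtPrime (Ideal.homogeneousCore 𝒜 q).toIdeal) (M := LocalizedModule (Ideal.homogeneousCore 𝒜 q).toIdeal.primeCompl M), WithBot.bot_add] at hs
    exact Module.supportDim_ne_bot_of_nontrivial _ _ hs
  · refine Or.inr (DepthLib.isCohenMacaulayModule_iff.2 ?_)
    rw [hs, hC, hdep, WithBot.coe_add]
    simp

omit hm hpos [m.toIdeal.IsMaximal] in
theorem subsingleton_H_of_subsingleton (E : StarInjRes 𝒜 ℳ) (i : ℕ)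
    (h : Subsingleton ((localCohomology m.toIdeal i).obj (ModuleCat.of R M))) : Subsingleton (E.H m i) := by
  rcases i with _ | i
  · obtain ⟨e⟩ := S13224.zero_case E m
    exact e.injective.subsingleton
  · obtain ⟨e⟩ := S13224.succ_case E m i
    exact e.injective.subsingleton

omit hm hpos [m.toIdeal.IsMaximal] in
theorem subsingleton_of_subsingleton_H (E : StarInjRes 𝒜 ℳ) (i : ℕ) (h : Subsingleton (E.H m i)) :
    Subsingleton ((localCohomology m.toIdeal i).obj (ModuleCat.of R M)) := by
  rcases i with _ | i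
  · obtain ⟨e⟩ := S13224.zero_case E m
    exact e.surjective.subsingleton
  · obtain ⟨e⟩ := S13224.succ_case E m i
    exact e.surjective.subsingleton

/-- Vanishing of cohomology below the dimension gives the Cohen-Macaulay property everywhere. -/
theorem cm_of_vanishing (E : StarInjRes 𝒜 ℳ) {n : ℕ} (hn : Module.supportDim R M ≤ n)
    (hv : ∀ i < n, Subsingleton (E.H m i)) (q : Ideal R) [q.IsPrime] :
    Subsingleton (LocalizedModule q.primeCompl M) ∨
      IsCohenMacaulayModule (Localization.AtPrime q) (LocalizedModule q.primeCompl M) := by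
  rcases subsingleton_or_nontrivial (LocalizedModule q.primeCompl M) with hq | hq
  · exact Or.inl hq
  have hsupp : (⟨m.toIdeal, inferInstance⟩ : PrimeSpectrum R) ∈ Module.support R M := by
    haveI : (Ideal.homogeneousCore 𝒜 q).toIdeal.IsPrime := Ideal.IsPrime.homogeneousCore ‹q.IsPrime›
    haveI : (q.map (Ideal.Quotient.mk (Ideal.homogeneousCore 𝒜 q).toIdeal)).IsPrime :=
      Ideal.map_isPrime_of_surjective Ideal.Quotient.mk_surjective
        (by rw [Ideal.mk_ker]; exact Ideal.toIdeal_homogeneousCore_le 𝒜 q)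
    obtain ⟨d, hd⟩ := ENat.ne_top_iff_exists.1
      (Ideal.height_lt_top_of_isPrime (I := q.map (Ideal.Quotient.mk (Ideal.homogeneousCore 𝒜 q).toIdeal))).ne
    have hs := S13232.result R 𝒜 M ℳ q d hd.symm hq
    haveI : Nontrivial (LocalizedModule (Ideal.homogeneousCore 𝒜 q).toIdeal.primeCompl M) := by
      rw [← not_subsingleton_iff_nontrivial]
      intro hC
      rw [Module.supportDim_eq_bot_of_subsingleton (R := Localization.AtPrime (Ideal.homogeneousCore 𝒜 q).toIdeal) (M := LocalizedModule (Ideal.homogeneousCore 𝒜 q).toIdeal.primeCompl M), WithBot.bot_add] at hs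
      exact Module.supportDim_ne_bot_of_nontrivial _ _ hs
    exact Module.mem_support_mono (p := ⟨_, ‹_›⟩) (star_le hm _ (Ideal.IsPrime.ne_top inferInstance))
      ((DepthLib.nontrivial_localizedModule_iff (⟨(Ideal.homogeneousCore 𝒜 q).toIdeal, inferInstance⟩ :
        PrimeSpectrum R)).1 ‹_›)
  haveI : Nontrivial (LocalizedModule m.toIdeal.primeCompl M) :=
    (DepthLib.nontrivial_localizedModule_iff (⟨m.toIdeal, inferInstance⟩ : PrimeSpectrum R)).2 hsupp
  refine cm_of_star hpos hm ℳ (DepthLib.isCohenMacaulayModule_iff.2 ?_) q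
  have h1 : (n : ℕ∞) ≤ depth (Localization.AtPrime m.toIdeal) (LocalizedModule m.toIdeal.primeCompl M) :=
    ((LocCohLib.natCast_le_idealDepth_iff_vanishing m.toIdeal M n).2 fun i hi =>
      subsingleton_of_subsingleton_H ℳ E i (hv i hi)).trans (DepthLib.idealDepth_le_depth_localization _ le_rfl)
  have h2 := DepthLib.supportDim_localization_add_le (⟨m.toIdeal, inferInstance⟩ : PrimeSpectrum R) hsupp
  have h3 : (0 : WithBot ℕ∞) ≤ ringKrullDim (R ⧸ m.toIdeal) := ringKrullDim_nonneg_of_nontrivial
  refine ((le_add_of_nonneg_right h3).trans (h2.trans hn)).trans ?_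
  exact WithBot.coe_le_coe.2 h1

theorem supportDim_le_star [Nontrivial M] :
    Module.supportDim R M ≤
      Module.supportDim (Localization.AtPrime m.toIdeal) (LocalizedModule m.toIdeal.primeCompl M) := by
  rw [Module.supportDim, Order.krullDim_eq_iSup_height]
  refine iSup_le fun c => ?_
  rw [← DepthLib.supportDim_localization_eq_height c]
  set q := c.1.asIdeal
  haveI : Nontrivial (LocalizedModule q.primeCompl M) := (DepthLib.nontrivial_localizedModule_iff c.1).2 c.2
  haveI : (Ideal.homogeneousCore 𝒜 q).toIdeal.IsPrime := Ideal.IsPrime.homogeneousCore c.1.isPrime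
  set C := (Ideal.homogeneousCore 𝒜 q).toIdeal
  have hCq : C ≤ q := Ideal.toIdeal_homogeneousCore_le 𝒜 q
  haveI : (q.map (Ideal.Quotient.mk C)).IsPrime :=
    Ideal.map_isPrime_of_surjective Ideal.Quotient.mk_surjective (by rwa [Ideal.mk_ker])
  obtain ⟨d, hd⟩ := ENat.ne_top_iff_exists.1
    (Ideal.height_lt_top_of_isPrime (I := q.map (Ideal.Quotient.mk C))).ne
  have hs := S13232.result R 𝒜 M ℳ q d hd.symm ‹_›
  haveI : Nontrivial (LocalizedModule C.primeCompl M) := by
    rw [← not_subsingleton_iff_nontrivial]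
    intro hC
    rw [Module.supportDim_eq_bot_of_subsingleton (R := Localization.AtPrime C) (M := LocalizedModule C.primeCompl M), WithBot.bot_add] at hs
    exact Module.supportDim_ne_bot_of_nontrivial _ _ hs
  have hCm : C ≤ m.toIdeal := star_le hm _ (Ideal.IsPrime.ne_top inferInstance)
  rcases eq_or_lt_of_le hCm with heq | hlt
  · have hqm : m.toIdeal = q := Ideal.IsMaximal.eq_of_le inferInstance c.1.isPrime.ne_top (heq ▸ hCq)
    have key : ∀ (p : Ideal R) [p.IsPrime], p = q →
        Module.supportDim (Localization.AtPrime q) (LocalizedModule q.primeCompl M) ≤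
          Module.supportDim (Localization.AtPrime p) (LocalizedModule p.primeCompl M) := by
      rintro p _ rfl
      exact le_rfl
    exact key _ hqm
  · refine le_trans (le_of_eq hs) (le_trans ?_ (supportDim_add_height_le (M := M) C m.toIdeal hCm))
    refine add_le_add le_rfl ?_
    haveI : (m.toIdeal.map (Ideal.Quotient.mk C)).IsPrime :=
      Ideal.map_isPrime_of_surjective Ideal.Quotient.mk_surjective (by rwa [Ideal.mk_ker])
    have h1 : (q.map (Ideal.Quotient.mk C)).height ≤ ((1 : ℕ) : ℕ∞) := by
      rw [Ideal.height_le_iff]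
      intro Q hQ hQq
      have hcomap : (q.map (Ideal.Quotient.mk C)).comap (Ideal.Quotient.mk C) = q := by
        rw [Ideal.comap_map_of_surjective _ Ideal.Quotient.mk_surjective, ← RingHom.ker_eq_comap_bot,
          Ideal.mk_ker, sup_eq_left.2 hCq]
      have hlt' : Q.comap (Ideal.Quotient.mk C) < q := lt_of_le_of_ne
        ((Ideal.comap_mono hQq.le).trans hcomap.le) fun he =>
          hQq.ne (Ideal.comap_injective_of_surjective _ Ideal.Quotient.mk_surjective (he.trans hcomap.symm))
      have hge : C ≤ Q.comap (Ideal.Quotient.mk C) := fun x hx => by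
        simp [Ideal.mem_comap, Ideal.Quotient.eq_zero_iff_mem.2 hx]
      have hQC : Q.comap (Ideal.Quotient.mk C) = C :=
        eq_core_of_lt (𝒜 := 𝒜) hge hlt' fun d a ha hap => Ideal.mem_homogeneousCore_of_homogeneous_of_mem ⟨d, ha⟩ hap
      have hQ0 : Q = ⊥ := by
        rw [← Ideal.map_comap_of_surjective _ Ideal.Quotient.mk_surjective Q, hQC, Ideal.map_quotient_self]
      rw [hQ0, Ideal.height_bot]
      simp
    have h2 : (1 : ℕ∞) ≤ (m.toIdeal.map (Ideal.Quotient.mk C)).height := by
      have hne : (⊥ : Ideal (R ⧸ C)) < m.toIdeal.map (Ideal.Quotient.mk C) := by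
        rw [bot_lt_iff_ne_bot]
        intro h0
        exact not_le_of_gt hlt ((Ideal.map_eq_bot_iff_le_ker _).1 h0 |>.trans Ideal.mk_ker.le)
      have := Ideal.height_strict_mono_of_isPrime hne
      rw [Ideal.height_bot] at this
      exact Order.one_le_iff_pos.2 this
    have h3 : (d : ℕ∞) ≤ (m.toIdeal.map (Ideal.Quotient.mk C)).height := by
      rw [hd]
      exact h1.trans (by simpa using h2)
    exact_mod_cast h3

/-- Cohomology of a Cohen-Macaulay graded module vanishes below its dimension. -/
theorem vanishing_of_cm [Nontrivial M] (E : StarInjRes 𝒜 ℳ) {n : ℕ} (hn : Module.supportDim R M = n)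
    (h : Subsingleton (LocalizedModule m.toIdeal.primeCompl M) ∨
      IsCohenMacaulayModule (Localization.AtPrime m.toIdeal) (LocalizedModule m.toIdeal.primeCompl M))
    (i : ℕ) (hi : i < n) : Subsingleton (E.H m i) := by
  refine subsingleton_H_of_subsingleton ℳ E i
    ((LocCohLib.natCast_le_idealDepth_iff_vanishing m.toIdeal M n).1 ?_ i hi)
  rw [DepthLib.natCast_le_idealDepth_iff_forall_localization]
  intro p hp hmp
  have hpm : m.toIdeal = p := Ideal.IsMaximal.eq_of_le inferInstance hp.ne_top hmp
  subst hpm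
  have h1 := supportDim_le_star (M := M) hpos hm ℳ
  rcases h with h | h
  · rw [Module.supportDim_eq_bot_of_subsingleton (R := Localization.AtPrime m.toIdeal) (M := LocalizedModule m.toIdeal.primeCompl M), le_bot_iff] at h1
    rw [hn] at h1
    exact absurd h1 (by simp)
  · rw [hn, h] at h1
    exact_mod_cast h1

end Graded

end Groth.Agent.GrInj.CMCrit
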