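import Groth.Agent.GrInj.Regularity

/-!
# Regularity from minimal free resolutions
-/

set_option autoImplicit false
set_option linter.unusedSectionVars false
universe u

namespace Groth.Agent.GrInj

open GrLC

variable {R : Type u} [CommRing R] [IsNoetherianRing R] {𝒜 : ℤ → AddSubgroup R} [GradedRing 𝒜]
  {a : HomogeneousIdeal 𝒜}

variable (a) in
/-- All pieces beyond the line `k + n = c` vanish. -/
def VanAbove (c : ℤ) (X : GMod.{u} 𝒜) : Prop :=
  ∀ (k : ℕ) (n : ℤ), c < (k : ℤ) + n → Van a k n X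

theorem VanAbove.mono {c c' : ℤ} {X : GMod.{u} 𝒜} (h : VanAbove a c X) (hc : c ≤ c') : VanAbove a c' X :=
  fun k n hk => h k n (lt_of_le_of_lt hc hk)

theorem van_zero_of {n : ℤ} {X : GMod.{u} 𝒜} (h : ∀ x ∈ X.gr n, x ∈ gam a.toIdeal X.carrier → x = 0) :
    Van a 0 n X := by
  intro E
  refine eq_bot_iff.2 fun c hc => (Submodule.mem_bot _).2 ?_
  obtain ⟨⟨z, hz, hd⟩, hzn, rfl⟩ := hc
  obtain ⟨m, rfl⟩ := E.exact_zero.le hd
  obtain ⟨l, hl⟩ := hz
  have hm : m = 0 := h m (inverse_grHom E.ε_grHom E.ε_injective hzn)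
    ⟨l, fun r hr => E.ε_injective (by rw [map_smul, hl r hr, map_zero])⟩
  subst hm
  exact (congrArg (E.toH a 0) (Subtype.ext (map_zero E.ε))).trans (map_zero _)

theorem van_subsingleton {X : GMod.{u} 𝒜} [Subsingleton X.carrier] (k : ℕ) (n : ℤ) : Van a k n X := by
  cases k with
  | zero => exact van_zero_of fun x _ _ => Subsingleton.elim x 0
  | succ k => exact van_torsion fun x => ⟨0, fun r _ => Subsingleton.elim _ _⟩

section SES
variable {A B C : GMod.{u} 𝒜} {f : A.carrier →ₗ[R] B.carrier}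
  (hf : IsGrHom A.gr B.gr f) (hfi : Function.Injective f) {n : ℤ}

include hf hfi in
theorem van_sub_zero (hB : Van a 0 n B) : Van a 0 n A :=
  van_zero_of fun x hx hg => hfi ((eq_zero_of_van hB (hf n x hx) (gam_map _ f hg)).trans (map_zero f).symm)

variable {g : B.carrier →ₗ[R] C.carrier} (hg : IsGrHom B.gr C.gr g) (hgs : Function.Surjective g)
  (hfg : LinearMap.ker g = LinearMap.range f)

include hf hfi hg hgs hfg in
theorem vanAbove_mid {c : ℤ} (hA : VanAbove a c A) (hC : VanAbove a c C) : VanAbove a c B :=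
  fun k m h => van_mid hf hfi hg hgs hfg (hA k m h) (hC k m h)

include hf hfi hg hgs hfg in
theorem vanAbove_left {c : ℤ} (hC : VanAbove a c C) (hB : VanAbove a (c + 1) B) : VanAbove a (c + 1) A := by
  intro k m h
  cases k with
  | zero => exact van_sub_zero hf hfi (hB 0 m h)
  | succ k => exact van_left hf hfi hg hgs hfg (hC k m (by push_cast at h ⊢; omega)) (hB (k + 1) m h)

end SES

theorem vanAbove_torsion {c : ℤ} {X : GMod.{u} 𝒜} (ht : LocCoh.IsPowerTorsion a.toIdeal X.carrier)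
    (h : ∀ n, c < n → ∀ x ∈ X.gr n, x = 0) : VanAbove a c X := by
  intro k n hk
  cases k with
  | zero => exact van_zero_of fun x hx _ => h n (by simpa using hk) x hx
  | succ k => exact van_torsion ht

/-- A regular linear form does not raise the regularity. -/
theorem vanAbove_of_regular (hpos : ∀ n : ℤ, n < 0 → 𝒜 n = ⊥)
    (ha : a.toIdeal = Ideal.span (⋃ n ∈ Set.Ioi (0 : ℤ), (𝒜 n : Set R))) {P Q : GMod.{u} 𝒜}
    [Module.Finite R P.carrier] {x : R} (hx : x ∈ 𝒜 1) (hreg : IsSMulRegular P.carrier x)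
    {g : P.carrier →ₗ[R] Q.carrier} (hg : IsGrHom P.gr Q.gr g) (hgs : Function.Surjective g)
    (hgk : LinearMap.ker g = LinearMap.range (LinearMap.lsmul R P.carrier x)) {c : ℤ} (hQ : VanAbove a c Q) :
    VanAbove a c P := by
  have hxa : x ∈ a.toIdeal := mem_a a hpos ha one_ne_zero hx
  intro k n hk
  cases k with
  | zero =>
    refine van_zero_of fun y _ hy => ?_
    obtain ⟨l, hl⟩ := hy
    exact (hreg.pow l) ((hl _ (Ideal.pow_mem_pow hxa l)).trans (smul_zero _).symm)
  | succ k =>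
    intro E
    obtain ⟨F⟩ := S13215.result R 𝒜 Q.carrier Q.gr
    have hf : IsGrHom (shGr P.gr 1) P.gr (LinearMap.lsmul R P.carrier x) := grHom_lsmul hx
    obtain ⟨δ, hδ, -, h1, -, -⟩ := exists_les (a := a) hg hgs hgk E (shiftRes E 1) F hf hreg
    have hinj : ∀ m, n ≤ m → ∀ c' ∈ E.Hcomp a (k + 1) m, x • c' = 0 → c' = 0 := by
      intro m hm c' hc' hxc
      have hind : ind (shiftRes E 1) E a (LinearMap.lsmul R P.carrier x) hf (k + 1)
          (c' : (shiftRes E 1).H a (k + 1)) = 0 := (ind_lsmul a hx (k + 1) _).trans hxc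
      obtain ⟨y, hy⟩ := (SetLike.ext_iff.1 (h1 k) _).1 (LinearMap.mem_ker.2 hind)
      letI := (S13225.isInternal_Hgr F a k).chooseDecomposition
      letI := (S13225.isInternal_Hgr (shiftRes E 1) a (k + 1)).chooseDecomposition
      have hp := pr_grHom (hδ k) (m + 1) y
      have hcm : (c' : (shiftRes E 1).H a (k + 1)) ∈ (shiftRes E 1).Hgr a (k + 1) (m + 1) :=
        (mem_shiftRes_Hgr a).2 (by rw [add_sub_cancel_right]; exact hc')
      rw [hy] at hp
      replace hp := (pr_of_mem (ℳ := (shiftRes E 1).Hgr a (k + 1)) hcm).symm.trans hp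
      rw [(Submodule.mem_bot _).1 ((hQ k (m + 1) (by push_cast at hk; omega) F).le
        (pr_mem (ℳ := F.Hgr a k) (m + 1) y))] at hp
      exact hp.trans (map_zero _)
    have hall : ∀ l : ℕ, ∀ m, n ≤ m → ∀ c' ∈ E.Hcomp a (k + 1) m, x ^ l • c' = 0 → c' = 0 := by
      intro l
      induction l with
      | zero => exact fun m _ c' _ h => by rwa [pow_zero, one_smul] at h
      | succ l ih =>
        intro m hm c' hc' h
        refine hinj m hm c' hc' (ih (1 + m) (by omega) _ (smul_mem_Hcomp E hx hc') ?_)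
        rw [smul_smul, ← pow_succ]; exact h
    refine eq_bot_iff.2 fun c' hc' => (Submodule.mem_bot _).2 ?_
    obtain ⟨z, hz, rfl⟩ := hc'
    obtain ⟨l, hl⟩ := z.2.1
    refine hall l n le_rfl _ ⟨z, hz, rfl⟩ ?_
    rw [← map_smul, show x ^ l • z = 0 from Subtype.ext (hl _ (Ideal.pow_mem_pow hxa l)), map_zero]

/-! ### Free modules -/

theorem mem_freeGr {m : ℕ} {deg : Fin m → ℤ} {n : ℤ} {v : Fin m → R} :
    v ∈ freeGr 𝒜 deg n ↔ ∀ b, v b ∈ 𝒜 (n - deg b) :=
  ⟨fun h b => h b (Set.mem_univ b), fun h b _ => h b⟩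

variable (𝒜) in
/-- A free graded module with basis in given degrees. -/
noncomputable abbrev freeG {m : ℕ} (deg : Fin m → ℤ) : GMod.{u} 𝒜 := freeMod 𝒜 deg

instance {m : ℕ} (deg : Fin m → ℤ) : Module.Finite R (freeG 𝒜 deg).carrier :=
  inferInstanceAs (Module.Finite R (Fin m → R))

theorem single_mem_free {m : ℕ} (deg : Fin m → ℤ) (b : Fin m) :
    (Pi.single b 1 : Fin m → R) ∈ freeGr 𝒜 deg (deg b) := mem_freeGr.2 fun b' => by
  rcases eq_or_ne b' b with rfl | h
  · rw [Pi.single_eq_same, sub_self]; exact SetLike.GradedOne.one_mem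
  · rw [Pi.single_eq_of_ne h]; exact zero_mem _

variable (𝒜) in
/-- The ring as a graded module. -/
noncomputable def selfMod : GMod.{u} 𝒜 := GMod.of 𝒜 R 𝒜

theorem vanAbove_free {c : ℤ} (hR : VanAbove a 0 (selfMod 𝒜)) :
    ∀ (m : ℕ) (deg : Fin m → ℤ), (∀ b, deg b ≤ c) → VanAbove a c (freeG 𝒜 deg) := by
  intro m
  induction m with
  | zero =>
    intro deg _ k n _
    haveI : Subsingleton (freeG 𝒜 deg).carrier := inferInstanceAs (Subsingleton (Fin 0 → R))
    exact van_subsingleton k n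
  | succ m ih =>
    intro deg hdeg
    let f' : (Fin m → R) →ₗ[R] (Fin (m + 1) → R) :=
      { toFun := fun v => Fin.snoc v 0
        map_add' := fun v w => funext fun b => Fin.lastCases (by simp) (fun b' => by simp) b
        map_smul' := fun r v => funext fun b => Fin.lastCases (by simp) (fun b' => by simp) b }
    let f : (freeG 𝒜 fun b => deg (Fin.castSucc b)).carrier →ₗ[R] (freeG 𝒜 deg).carrier := f'
    have hf0 : ∀ (v : Fin m → R) (b' : Fin m), (f v : Fin (m + 1) → R) (Fin.castSucc b') = v b' :=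
      fun v b' => Fin.snoc_castSucc (α := fun _ => R) 0 v b'
    have hf1 : ∀ v : Fin m → R, (f v : Fin (m + 1) → R) (Fin.last m) = 0 :=
      fun v => Fin.snoc_last (α := fun _ => R) 0 v
    let g : (freeG 𝒜 deg).carrier →ₗ[R] (shMod 𝒜 (selfMod 𝒜) (deg (Fin.last m))).carrier :=
      LinearMap.proj (R := R) (φ := fun _ : Fin (m + 1) => R) (Fin.last m)
    refine vanAbove_mid (f := f) (g := g) (fun n v hv => mem_freeGr.2 fun b => ?_) (fun v w h => ?_)
      (fun n v hv => mem_freeGr.1 hv _) (fun r => ⟨fun _ => r, rfl⟩) ?_ (ih _ fun b => hdeg _) ?_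
    · induction b using Fin.lastCases with
      | last => rw [hf1]; exact zero_mem _
      | cast b' => rw [hf0]; exact mem_freeGr.1 hv b'
    · funext b'
      rw [← hf0 v b', h, hf0]
    · ext v
      constructor
      · intro hv
        refine ⟨fun b' => v (Fin.castSucc b'), funext fun b => ?_⟩
        induction b using Fin.lastCases with
        | last => rw [hf1]; exact (LinearMap.mem_ker.1 hv).symm
        | cast b' => rw [hf0]
      · rintro ⟨w, rfl⟩
        exact LinearMap.mem_ker.2 (hf1 w)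
    · intro k n hk
      have h := hdeg (Fin.last m)
      obtain ⟨E⟩ := S13215.result R 𝒜 (selfMod 𝒜).carrier (selfMod 𝒜).gr
      refine van_of_res (shiftRes E (deg (Fin.last m))) (eq_bot_iff.2 fun y hy => ?_)
      exact (hR k (n - deg (Fin.last m)) (by omega) E).le ((mem_shiftRes_Hgr a).1 hy)

/-! ### Resolutions -/

section Res
variable {X : GMod.{u} 𝒜} {m : ℕ} {deg : Fin m → ℤ} {π : (freeG 𝒜 deg).carrier →ₗ[R] X.carrier}
  (hπ : IsGrHom (freeG 𝒜 deg).gr X.gr π) (hπs : Function.Surjective π)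

include hπ hπs in
theorem van_of_syzygy {K : GMod.{u} 𝒜} {f : K.carrier →ₗ[R] (freeG 𝒜 deg).carrier}
    (hf : IsGrHom K.gr (freeG 𝒜 deg).gr f) (hfi : Function.Injective f)
    (hfg : LinearMap.ker π = LinearMap.range f) (hR : VanAbove a 0 (selfMod 𝒜)) {c : ℤ} (hdeg : ∀ b, deg b ≤ c)
    {k : ℕ} {n : ℤ} (hk : c < (k : ℤ) + n) (hK : Van a (k + 1) n K) : Van a k n X :=
  van_right hf hfi hπ hπs hfg (vanAbove_free hR m deg hdeg k n hk) hK

include hπ hπs in
/-- The degrees of a minimal system of generators are at most the regularity. -/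
theorem deg_le_of_vanAbove (hpos : ∀ n : ℤ, n < 0 → 𝒜 n = ⊥)
    (hhom : a.toIdeal = Ideal.span ((𝒜 1 : AddSubgroup R) : Set R)) (h1 : (1 : R) ∉ a.toIdeal)
    (hmin : ∀ v : Fin m → R, π v = 0 → ∀ b, v b ∈ a.toIdeal) {c : ℤ} (hX : VanAbove a c X) (b : Fin m) :
    deg b ≤ c := by
  classical
  by_contra hlt
  haveI : Module.Finite R X.carrier := Module.Finite.of_surjective π hπs
  let W : Submodule R (freeG 𝒜 deg).carrier :=
    Submodule.comap (LinearMap.proj (R := R) (φ := fun _ : Fin m => R) b) a.toIdeal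
  have hlow : Submodule.span R (⋃ (n : ℤ) (_ : n ≤ c), (X.gr n : Set X.carrier)) ≤ W.map π := by
    refine Submodule.span_le.2 fun y hy => ?_
    obtain ⟨n, hn, hy⟩ := Set.mem_iUnion₂.1 hy
    obtain ⟨v, rfl⟩ := hπs y
    refine ⟨pr (freeG 𝒜 deg).gr n v, ?_, by rw [← pr_grHom hπ, pr_of_mem hy]⟩
    have h0 := mem_freeGr.1 (pr_mem (ℳ := (freeG 𝒜 deg).gr) n v) b
    rw [hpos _ (by omega), AddSubgroup.mem_bot] at h0
    show (pr (freeG 𝒜 deg).gr n v : Fin m → R) b ∈ a.toIdeal
    rw [h0]; exact zero_mem _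
  obtain ⟨w, hw, hwe⟩ := hlow (mem_span_low hpos hhom X (fun n => n ≤ c)
    (fun n hn y hy => mem_smul_top_of_van hhom (hX 0 n (by push_cast; omega))
      (fun j l _ hjl => hX j l (by omega)) hy) (π (Pi.single b 1 : Fin m → R)))
  let w' : Fin m → R := w
  have h := hmin ((Pi.single b 1 : Fin m → R) - w')
    ((map_sub π (Pi.single b 1 : Fin m → R) w).trans (sub_eq_zero.2 hwe.symm)) b
  rw [Pi.sub_apply, Pi.single_eq_same] at h
  exact h1 (by simpa using add_mem h (show w' b ∈ a.toIdeal from hw))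

end Res

/-- An abstract resolution by free modules. -/
structure Res (X : GMod.{u} 𝒜) where
  rk : ℕ → ℕ
  deg : ∀ i, Fin (rk i) → ℤ
  d : ∀ i, (freeG 𝒜 (deg (i + 1))).carrier →ₗ[R] (freeG 𝒜 (deg i)).carrier
  π : (freeG 𝒜 (deg 0)).carrier →ₗ[R] X.carrier
  d_grHom : ∀ i, IsGrHom (freeG 𝒜 (deg (i + 1))).gr (freeG 𝒜 (deg i)).gr (d i)
  π_grHom : IsGrHom (freeG 𝒜 (deg 0)).gr X.gr π
  π_surjective : Function.Surjective π
  exact_zero : LinearMap.ker π = LinearMap.range (d 0)
  exact_succ : ∀ i, LinearMap.ker (d i) = LinearMap.range (d (i + 1))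

namespace Res
variable {X : GMod.{u} 𝒜} (F : Res X)

/-- The syzygy modules. -/
noncomputable def syz (i : ℕ) : GMod.{u} 𝒜 := subMod 𝒜 (LinearMap.range (F.d i)) (hom_range (F.d_grHom i))

theorem exists_cover (i : ℕ) : ∃ p : (freeG 𝒜 (F.deg (i + 1))).carrier →ₗ[R] (F.syz i).carrier,
    IsGrHom (freeG 𝒜 (F.deg (i + 1))).gr (F.syz i).gr p ∧ Function.Surjective p ∧
      (∀ v, subInc 𝒜 _ (hom_range (F.d_grHom i)) (p v) = F.d i v) ∧
      LinearMap.ker p = LinearMap.range (subInc 𝒜 _ (hom_range (F.d_grHom (i + 1)))) := by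
  obtain ⟨p, hp, hpe⟩ := exists_lift (𝒜 := 𝒜) (hom_range (F.d_grHom i)) (F.d_grHom i) le_rfl
  have hpe' : ∀ v, subInc 𝒜 _ (hom_range (F.d_grHom i)) (p v) = F.d i v := fun v => LinearMap.congr_fun hpe v
  refine ⟨p, hp, fun w => ?_, hpe', ?_⟩
  · obtain ⟨z, hz⟩ := (range_subInc (𝒜 := 𝒜) (hom_range (F.d_grHom i))).le ⟨w, rfl⟩
    exact ⟨z, subInc_injective _ ((hpe' z).trans hz)⟩
  · rw [range_subInc, ← F.exact_succ i]
    ext v
    show p v = 0 ↔ F.d i v = 0
    rw [← hpe' v, map_eq_zero_iff _ (subInc_injective _)]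

variable (hR : VanAbove a 0 (selfMod 𝒜))

include hR in
theorem vanAbove_of_genLE {N : ℕ} (hN : ∀ (Y : GMod.{u} 𝒜) (k : ℕ) (n : ℤ), N ≤ k → Van a k n Y) {c : ℤ}
    (hF : ∀ i b, F.deg i b ≤ c + i) : VanAbove a c X := by
  have key : ∀ (t i k : ℕ) (n : ℤ), N ≤ k + t → c + i + 1 < (k : ℤ) + n → Van a k n (F.syz i) := by
    intro t
    induction t with
    | zero => exact fun i k n hk _ => hN _ k n (by simpa using hk)
    | succ t ih =>
      intro i k n hk hkn
      obtain ⟨p, hp, hps, -, hpk⟩ := F.exists_cover i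
      exact van_of_syzygy hp hps (grHom_subInc _) (subInc_injective _) hpk hR (fun b => hF (i + 1) b)
        (by push_cast; omega) (ih (i + 1) (k + 1) n (by omega) (by push_cast; omega))
  intro k n hk
  exact van_of_syzygy F.π_grHom F.π_surjective (grHom_subInc _) (subInc_injective _)
    (F.exact_zero.trans (range_subInc (𝒜 := 𝒜) (hom_range (F.d_grHom 0))).symm) hR
    (fun b => by simpa using hF 0 b) hk (key N 0 (k + 1) n (by omega) (by push_cast; omega))

include hR in
theorem genLE_of_vanAbove (hpos : ∀ n : ℤ, n < 0 → 𝒜 n = ⊥)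
    (hhom : a.toIdeal = Ideal.span ((𝒜 1 : AddSubgroup R) : Set R)) (h1 : (1 : R) ∉ a.toIdeal)
    (hmin : ∀ i v b, (F.d i v : Fin (F.rk i) → R) b ∈ a.toIdeal) {c : ℤ} (hX : VanAbove a c X) :
    ∀ i b, F.deg i b ≤ c + i := by
  have h0 : ∀ b, F.deg 0 b ≤ c := deg_le_of_vanAbove F.π_grHom F.π_surjective hpos hhom h1
    (fun v hv b => by
      obtain ⟨w, rfl⟩ := F.exact_zero.le (LinearMap.mem_ker.2 hv)
      exact hmin 0 w b) hX
  have key : ∀ i : ℕ, (∀ b, F.deg (i + 1) b ≤ c + i + 1) ∧ VanAbove a (c + i + 1) (F.syz i) := by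
    have hgen : ∀ i : ℕ, VanAbove a (c + i + 1) (F.syz i) → ∀ b, F.deg (i + 1) b ≤ c + i + 1 := by
      intro i hi
      obtain ⟨p, hp, hps, -, hpk⟩ := F.exists_cover i
      refine deg_le_of_vanAbove hp hps hpos hhom h1 (fun v hv b => ?_) hi
      obtain ⟨w, hw⟩ := (range_subInc (𝒜 := 𝒜) (hom_range (F.d_grHom (i + 1)))).le (hpk.le (LinearMap.mem_ker.2 hv))
      rw [← hw]
      exact hmin (i + 1) w b
    intro i
    induction i with
    | zero =>
      have h : VanAbove a (c + 1) (F.syz 0) := vanAbove_left (grHom_subInc _) (subInc_injective _) F.π_grHom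
        F.π_surjective (F.exact_zero.trans (range_subInc (𝒜 := 𝒜) (hom_range (F.d_grHom 0))).symm) hX
        ((vanAbove_free hR _ _ h0).mono (by omega))
      exact ⟨hgen 0 (h.mono (by simp)), h.mono (by simp)⟩
    | succ i ih =>
      obtain ⟨p, hp, hps, -, hpk⟩ := F.exists_cover i
      have h : VanAbove a (c + i + 1 + 1) (F.syz (i + 1)) := vanAbove_left (grHom_subInc _) (subInc_injective _)
        hp hps hpk ih.2 ((vanAbove_free hR _ _ ih.1).mono (by omega))
      exact ⟨hgen (i + 1) (h.mono (by push_cast; omega)), h.mono (by push_cast; omega)⟩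
  intro i b
  cases i with
  | zero => simpa using h0 b
  | succ i => exact ((key i).1 b).trans (by push_cast; omega)

end Res

end Groth.Agent.GrInj
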