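import Groth.Agent.GrInj.Regularity
import Groth.Agent.LocCohLib.Grothendieck

/-!
# Top-dimensional local cohomology of standard graded rings
-/

set_option autoImplicit false
set_option linter.unusedSectionVars false
universe u

namespace Groth.Agent.GrInj

open GrLC

variable {ι : Type} [AddCommGroup ι] [DecidableEq ι] {R : Type u} [CommRing R] [IsNoetherianRing R]
  {𝒜 : ι → AddSubgroup R} [GradedRing 𝒜]
variable {M : Type u} [AddCommGroup M] [Module R M] {ℳ : ι → AddSubgroup M} [DirectSum.Decomposition ℳ]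
  [SetLike.GradedSMul 𝒜 ℳ]

theorem subsingleton_H_above {d : ℕ} (hd : ringKrullDim R = d) (E : StarInjRes 𝒜 ℳ)
    (a : HomogeneousIdeal 𝒜) {i : ℕ} (hi : d < i) : Subsingleton (E.H a i) := by
  obtain ⟨i, rfl⟩ : ∃ j, i = j + 1 := ⟨i - 1, by omega⟩
  obtain ⟨e⟩ := S13224.succ_case E a i
  have hs := LocCohLib.subsingleton_of_dimLt a.toIdeal (i + 1) (ModuleCat.of R M) fun l => by
    have h1 : ((l.map Subtype.val (fun _ _ h => h)).length : WithBot ℕ∞) ≤ ringKrullDim R :=
      Order.LTSeries.length_le_krullDim _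
    rw [hd, LTSeries.map_length] at h1
    have h2 : l.length ≤ d := by exact_mod_cast h1
    omega
  haveI : Subsingleton (LocCoh.H a.toIdeal (i + 1) M) := hs
  exact e.injective.subsingleton

theorem gam_congr {I J : Ideal R} (h : I.radical = J.radical) (X : Type u) [AddCommGroup X] [Module R X] :
    gam I X = gam J X := by
  have key : ∀ {I J : Ideal R}, I ≤ J.radical → gam J X ≤ gam I X := fun {I J} hIJ x ⟨K, hK⟩ => by
    obtain ⟨L, hL⟩ := Ideal.exists_pow_le_of_le_radical_of_fg hIJ (IsNoetherian.noetherian I)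
    exact ⟨L * K, fun r hr => hK r ((pow_mul I L K ▸ Ideal.pow_right_mono hL K) hr)⟩
  exact le_antisymm (key (J.le_radical.trans h.ge)) (key (I.le_radical.trans h.le))

theorem Hcomp_eq_bot_iff_radical {a b : HomogeneousIdeal 𝒜} (h : a.toIdeal.radical = b.toIdeal.radical)
    (E : StarInjRes 𝒜 ℳ) (i : ℕ) (g : ι) (hb : E.Hcomp b i g = ⊥) : E.Hcomp a i g = ⊥ := by
  have hz : E.cocyc a i = E.cocyc b i := by rw [StarInjRes.cocyc, StarInjRes.cocyc, gam_congr h]
  have hc : E.cobdy a i = E.cobdy b i := by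
    cases i with
    | zero => rfl
    | succ n => rw [StarInjRes.cobdy, StarInjRes.cobdy, gam_congr h]
  refine eq_bot_iff.2 ?_
  rintro _ ⟨z, hzg, rfl⟩
  have h0 : E.toH b i ⟨z.1, hz ▸ z.2⟩ = 0 :=
    (Submodule.mem_bot _).1 (hb.le ⟨⟨z.1, hz ▸ z.2⟩, hzg, rfl⟩)
  have h1 : (z : (E.X i).carrier) ∈ E.cobdy b i :=
    Submodule.mem_comap.1 ((Submodule.Quotient.mk_eq_zero _).1 h0)
  exact (Submodule.mem_bot _).2 ((Submodule.Quotient.mk_eq_zero _).2 (Submodule.mem_comap.2 (hc.symm ▸ h1)))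

end Groth.Agent.GrInj
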