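import Groth.Agent.GrInj.TopShift
import Groth.Agent.GrInj.FreeReg
import Groth.Agent.GrInj.TopDim

/-!
# Socle and annihilator of top local cohomology
-/

set_option autoImplicit false
set_option linter.unusedSectionVars false
universe u

namespace Groth.Agent.GrInj

open GrLC
open scoped Pointwise

variable {R : Type u} [CommRing R] [IsNoetherianRing R] {𝒜 : ℤ → AddSubgroup R} [GradedRing 𝒜]
  {a : HomogeneousIdeal 𝒜}

/-- The socle of a graded module sits in one degree and is cyclic over the degree zero part there. -/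
def OneSoc (a : HomogeneousIdeal 𝒜) {H : Type u} [AddCommGroup H] [Module R H] (ℋ : ℤ → AddSubgroup H)
    (g₀ : ℤ) : Prop :=
  (∀ g, ∀ c ∈ ℋ g, (∀ s ∈ a.toIdeal, s • c = 0) → c ≠ 0 → g = g₀) ∧
  (∃ c ∈ ℋ g₀, c ≠ 0 ∧ ∀ s ∈ a.toIdeal, s • c = 0) ∧
  ∀ c ∈ ℋ g₀, ∀ c' ∈ ℋ g₀, (∀ s ∈ a.toIdeal, s • c = 0) → (∀ s ∈ a.toIdeal, s • c' = 0) → c ≠ 0 →
    ∃ r ∈ 𝒜 0, c' = r • c

section Step
variable {M : Type u} [AddCommGroup M] [Module R M] {ℳ : ℤ → AddSubgroup M} [DirectSum.Decomposition ℳ]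
  [SetLike.GradedSMul 𝒜 ℳ]
variable {N : Type u} [AddCommGroup N] [Module R N] {𝒩 : ℤ → AddSubgroup N} [DirectSum.Decomposition 𝒩]
  [SetLike.GradedSMul 𝒜 𝒩]
variable {x : R} {k : ℤ} (hxk : x ∈ 𝒜 k) (hxm : x ∈ a.toIdeal) (hxr : IsSMulRegular M x)
  {π : M →ₗ[R] N} (hπ : IsGrHom ℳ 𝒩 π) (hπs : Function.Surjective π)
  (hπk : LinearMap.ker π = LinearMap.range (LinearMap.lsmul R M x))
  (E : StarInjRes 𝒜 ℳ) (F : StarInjRes 𝒜 𝒩)

include hxk hxm hxr hπ hπs hπk in
theorem oneSoc_step {n : ℕ} (hE : Subsingleton (E.H a n)) {g₀ : ℤ} (h : OneSoc a (F.Hgr a n) g₀) :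
    OneSoc a (E.Hgr a (n + 1)) (g₀ - k) := by
  obtain ⟨δ, hδ, -, h1, -, h3⟩ :=
    exists_les (a := a) hπ hπs hπk E (shiftRes E k) F (grHom_lsmul hxk) (fun p q h => hxr h)
  let δ' : F.H a n →ₗ[R] E.H a (n + 1) := δ n
  have hinj : ∀ c, δ' c = 0 → c = 0 := fun c hc => by
    obtain ⟨b, rfl⟩ := (h3 n).le hc
    rw [Subsingleton.elim b 0, map_zero]
  have hdeg : ∀ g, ∀ b ∈ F.Hgr a n g, δ' b ∈ E.Hgr a (n + 1) (g - k) := fun g b hb =>
    (mem_shiftRes_Hgr a).1 (hδ n g b hb)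
  have hpre : ∀ g, ∀ c ∈ E.Hgr a (n + 1) g, (∀ s ∈ a.toIdeal, s • c = 0) →
      ∃ b ∈ F.Hgr a n (g + k), (∀ s ∈ a.toIdeal, s • b = 0) ∧ δ' b = c := by
    intro g c hc hkill
    let v : (shiftRes E k).H a (n + 1) := c
    obtain ⟨b, hb⟩ : v ∈ LinearMap.range (δ n) :=
      (h1 n).le (show ind (shiftRes E k) E a _ (grHom_lsmul hxk) (n + 1) v = 0 from
        (ind_lsmul a hxk (n + 1) v).trans (hkill x hxm))
    letI := (S13225.isInternal_Hgr F a n).chooseDecomposition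
    letI := (S13225.isInternal_Hgr (shiftRes E k) a (n + 1)).chooseDecomposition
    have hp := pr_grHom (hδ n) (g + k) b
    rw [hb, pr_of_mem (show v ∈ (shiftRes E k).Hgr a (n + 1) (g + k) from
      (mem_shiftRes_Hgr a).2 (by rw [add_sub_cancel_right]; exact hc))] at hp
    have hp' : δ' (pr (F.Hgr a n) (g + k) b) = c := hp.symm
    exact ⟨_, pr_mem _ b, fun s hs => hinj _ (by rw [map_smul, hp']; exact hkill s hs), hp'⟩
  obtain ⟨ha, ⟨b₀, hb₀, hb0, hbk⟩, hc⟩ := h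
  refine ⟨fun g c hcg hkill hc0 => ?_, ⟨δ' b₀, hdeg _ _ hb₀, fun h0 => hb0 (hinj _ h0),
    fun s hs => by rw [← map_smul, hbk s hs, map_zero]⟩, fun c hcg c' hc'g hkill hkill' hc0 => ?_⟩
  · obtain ⟨b, hb, hbkill, rfl⟩ := hpre g c hcg hkill
    have := ha _ b hb hbkill fun h0 => hc0 (by rw [h0, map_zero])
    omega
  · obtain ⟨b, hb, hbkill, rfl⟩ := hpre _ c hcg hkill
    obtain ⟨b', hb', hbkill', rfl⟩ := hpre _ c' hc'g hkill'
    rw [sub_add_cancel] at hb hb'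
    obtain ⟨r, hr, rfl⟩ := hc b hb b' hb' hbkill hbkill' fun h0 => hc0 (by rw [h0, map_zero])
    exact ⟨r, hr, map_smul _ _ _⟩

end Step

/-- Descending a regular sequence to the quotient by the irrelevant ideal. -/
theorem oneSoc_regular :
    ∀ (t : ℕ) (f : Fin t → R) (deg : Fin t → ℤ), (∀ i, f i ∈ 𝒜 (deg i)) → (∀ i, f i ∈ a.toIdeal) →
    ∀ (X : GMod.{u} 𝒜) (E : StarInjRes 𝒜 X.gr), RingTheory.Sequence.IsWeaklyRegular X.carrier (List.ofFn f) →
    ∀ (n : ℕ), (∀ i < n + t, Subsingleton (E.H a i)) →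
    (∀ (Q : GMod.{u} 𝒜) (π : X.carrier →ₗ[R] Q.carrier), IsGrHom X.gr Q.gr π → Function.Surjective π →
      LinearMap.ker π = Ideal.ofList (List.ofFn f) • (⊤ : Submodule R X.carrier) →
      ∀ F : StarInjRes 𝒜 Q.gr, OneSoc a (F.Hgr a n) 0) →
    OneSoc a (E.Hgr a (n + t)) (-(Finset.univ : Finset (Fin t)).sum deg) := by
  intro t
  induction t with
  | zero =>
    intro f deg _ _ X E _ n _ hQ
    simpa using hQ X LinearMap.id (fun _ _ h => h) Function.surjective_id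
      (by rw [LinearMap.ker_id, List.ofFn_zero, Ideal.ofList_nil, Submodule.bot_smul]) E
  | succ t ih =>
    intro f deg hfd hfm X E hreg n hE hQ
    rw [List.ofFn_succ] at hreg
    obtain ⟨hx, hreg'⟩ := (RingTheory.Sequence.isWeaklyRegular_cons_iff _ _ _).1 hreg
    have hP : (f 0 • (⊤ : Submodule R X.carrier)).IsHomogeneous X.gr := by
      have he : (f 0 • (⊤ : Submodule R X.carrier)) = LinearMap.range (LinearMap.lsmul R X.carrier (f 0)) := by
        rw [← Submodule.map_top]; rfl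
      rw [he]; exact hom_range (grHom_lsmul (ℳ := X.gr) (hfd 0))
    let Y : GMod.{u} 𝒜 := quoMod 𝒜 (f 0 • (⊤ : Submodule R X.carrier)) hP
    obtain ⟨G⟩ := S13215.result R 𝒜 Y.carrier Y.gr
    let ρ : X.carrier →ₗ[R] Y.carrier := Submodule.mkQ (f 0 • (⊤ : Submodule R X.carrier))
    have hρk : LinearMap.ker ρ = LinearMap.range (LinearMap.lsmul R X.carrier (f 0)) :=
      (Submodule.ker_mkQ _).trans (by rw [← Submodule.map_top]; rfl)
    have hρs : Function.Surjective ρ := Submodule.mkQ_surjective _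
    have hρ : IsGrHom X.gr Y.gr ρ := grHom_quoMk hP
    have hG : ∀ i < n + t, Subsingleton (G.H a i) :=
      subsingleton_step (hfd 0) hx hρ hρs hρk E G (n := n + t) fun i hi => hE i (by omega)
    have h1 := ih (fun i => f i.succ) (fun i => deg i.succ) (fun i => hfd _) (fun i => hfm _) Y G hreg' n hG
      fun Q π hπ hπs hπk F => by
        refine hQ Q (π ∘ₗ ρ) (fun i m hm => hπ i _ (hρ i m hm)) (hπs.comp hρs) ?_ F
        rw [LinearMap.ker_comp, hπk, List.ofFn_succ, Ideal.ofList_cons_smul]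
        refine Eq.trans (congrArg (Submodule.comap ρ) (?_ : _ = Submodule.map ρ
          (Ideal.ofList (List.ofFn fun i : Fin t => f i.succ) • (⊤ : Submodule R X.carrier)))) ?_
        · rw [Submodule.map_smul'', Submodule.map_top, LinearMap.range_eq_top.2 hρs]
        · rw [Submodule.comap_map_eq, show LinearMap.ker ρ = f 0 • (⊤ : Submodule R X.carrier) from Submodule.ker_mkQ _, sup_comm]
    have h2 := oneSoc_step (hfd 0) (hfm 0) hx hρ hρs hρk E G (n := n + t) (hE _ (by omega)) h1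
    rw [Fin.sum_univ_succ, show -(deg 0 + ∑ i : Fin t, deg i.succ) = -(∑ i : Fin t, deg i.succ) - deg 0 by ring]
    exact h2

/-- The residue field has one socle degree. -/
theorem oneSoc_residue (hpos : ∀ n : ℤ, n < 0 → 𝒜 n = ⊥)
    (ha : a.toIdeal = Ideal.span (⋃ n ∈ Set.Ioi (0 : ℤ), (𝒜 n : Set R))) (h0 : IsField (deg0 𝒜))
    (ha1 : a.toIdeal ≠ ⊤) (Q : GMod.{u} 𝒜) (π : (selfMod 𝒜).carrier →ₗ[R] Q.carrier)
    (hπ : IsGrHom (selfMod 𝒜).gr Q.gr π) (hπs : Function.Surjective π)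
    (hπk : ∀ x : R, π x = 0 ↔ x ∈ a.toIdeal) (F : StarInjRes 𝒜 Q.gr) : OneSoc a (F.Hgr a 0) 0 := by
  classical
  let o : (selfMod 𝒜).carrier := (1 : R)
  have hlin : ∀ x : R, π x = x • π o := fun x =>
    ((congrArg π (show x = (x • o : (selfMod 𝒜).carrier) from (mul_one x).symm)).trans (map_smul π x o))
  have hkillQ : ∀ s ∈ a.toIdeal, ∀ q : Q.carrier, s • q = 0 := fun s hs q => by
    obtain ⟨y, rfl⟩ := hπs q
    rw [← map_smul]
    let y' : R := y
    exact (hπk (s • y : (selfMod 𝒜).carrier)).2 (show s * y' ∈ a.toIdeal from Ideal.mul_mem_right _ _ hs)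
  have hmem : ∀ q : Q.carrier, q ∈ gam a.toIdeal Q.carrier := fun q =>
    ⟨1, fun s hs => hkillQ s (by rwa [pow_one] at hs) q⟩
  let θ : Q.carrier →ₗ[R] F.H a 0 := F.toH a 0 ∘ₗ
    { toFun := fun q => (⟨F.ε q, gam_map _ F.ε (hmem q), d_aug F q⟩ : F.cocyc a 0)
      map_add' := fun p q => Subtype.ext (map_add F.ε p q)
      map_smul' := fun r q => Subtype.ext (map_smul F.ε r q) }
  have hθ : ∀ q, θ q = 0 → q = 0 := fun q hq => by
    have h1 : F.ε q ∈ F.cobdy a 0 := Submodule.mem_comap.1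
      ((Submodule.Quotient.mk_eq_zero ((F.cobdy a 0).comap (F.cocyc a 0).subtype)).1 hq)
    exact F.ε_injective (((Submodule.mem_bot _).1 h1).trans (map_zero _).symm)
  have hlift : ∀ g, ∀ c ∈ F.Hgr a 0 g, ∃ q ∈ Q.gr g, θ q = c := by
    rintro g _ ⟨z, hz, rfl⟩
    obtain ⟨m, hm⟩ := F.exact_zero.le z.2.2
    exact ⟨m, inverse_grHom F.ε_grHom F.ε_injective (hm ▸ hz), congrArg (F.toH a 0) (Subtype.ext hm)⟩
  have hone : π o ≠ 0 := fun h => ha1 ((Ideal.eq_top_iff_one _).2 ((hπk 1).1 h))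
  have hrep : ∀ g, ∀ q ∈ Q.gr g, ∃ r ∈ 𝒜 g, q = π r := fun g q hq => by
    obtain ⟨y, rfl⟩ := hπs q
    refine ⟨pr (selfMod 𝒜).gr g y, pr_mem (ℳ := (selfMod 𝒜).gr) g y, ?_⟩
    rw [← pr_grHom hπ, pr_of_mem hq]
  refine ⟨fun g c hc _ hc0 => ?_, ⟨θ (π o), ⟨⟨F.ε (π o), gam_map _ F.ε (hmem _), d_aug F _⟩,
    F.ε_grHom 0 _ (hπ 0 _ (SetLike.one_mem_graded 𝒜)), rfl⟩, fun h => hone (hθ _ h),
    fun s hs => by rw [← map_smul, hkillQ s hs, map_zero]⟩, fun c hc c' hc' _ _ hc0 => ?_⟩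
  · obtain ⟨q, hq, rfl⟩ := hlift g c hc
    obtain ⟨r, hr, rfl⟩ := hrep g q hq
    by_contra hg
    exact hc0 (by rw [(hπk r).2 (mem_a a hpos ha hg hr), map_zero])
  · obtain ⟨q, hq, rfl⟩ := hlift 0 c hc
    obtain ⟨q', hq', rfl⟩ := hlift 0 c' hc'
    obtain ⟨r, hr, rfl⟩ := hrep 0 q hq
    obtain ⟨r', hr', rfl⟩ := hrep 0 q' hq'
    have hr0 : (⟨r, hr⟩ : deg0 𝒜) ≠ 0 := fun h => hc0 (by
      rw [show r = 0 from congrArg Subtype.val h]
      exact (congrArg θ ((hπk 0).2 (zero_mem _))).trans (map_zero θ))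
    obtain ⟨t, ht⟩ := h0.mul_inv_cancel hr0
    refine ⟨r' * (t : R), ?_, ?_⟩
    · have := SetLike.mul_mem_graded hr' t.2
      rwa [add_zero] at this
    · rw [← map_smul, hlin r, smul_smul, mul_assoc, mul_comm (t : R), show r * (t : R) = 1 from congrArg Subtype.val ht,
        mul_one, ← hlin]

/-- In a domain no nonzero element kills nonzero top local cohomology. -/
theorem eq_zero_of_smul_top [IsDomain R] {d : ℕ} (hd : ringKrullDim R = d) (E : StarInjRes 𝒜 (selfMod 𝒜).gr)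
    (hne : ¬ Subsingleton (E.H a d)) {g : ℤ} {f : R} (hf : f ∈ 𝒜 g) (hkill : ∀ c : E.H a d, f • c = 0) : f = 0 := by
  by_contra hf0
  have hregR : IsSMulRegular R f := fun p q h => mul_left_cancel₀ hf0 h
  have hreg : IsSMulRegular (selfMod 𝒜).carrier f := hregR
  let P : Submodule R (selfMod 𝒜).carrier := LinearMap.range (LinearMap.lsmul R (selfMod 𝒜).carrier f)
  have hP : P.IsHomogeneous (selfMod 𝒜).gr := hom_range (grHom_lsmul (ℳ := (selfMod 𝒜).gr) hf)
  let Y : GMod.{u} 𝒜 := quoMod 𝒜 P hP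
  obtain ⟨F⟩ := S13215.result R 𝒜 Y.carrier Y.gr
  let ρ : (selfMod 𝒜).carrier →ₗ[R] Y.carrier := P.mkQ
  have hρ : IsGrHom (selfMod 𝒜).gr Y.gr ρ := fun i y hy => ⟨y, hy, rfl⟩
  have hρs : Function.Surjective ρ := Submodule.mkQ_surjective P
  have hρk : LinearMap.ker ρ = P := Submodule.ker_mkQ P
  obtain ⟨δ, -, -, -, h2, -⟩ := exists_les (a := a) hρ hρs hρk E (shiftRes E g) F
    (grHom_lsmul hf) hreg
  haveI : Subsingleton (F.H a d) := by
    rcases Nat.eq_zero_or_pos d with rfl | hdpos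
    · haveI : Ring.KrullDimLE 0 R := Ring.krullDimLE_iff.2 hd.le
      have hunit : IsUnit f := (Ring.KrullDimLE.isField_of_isDomain (R := R)).mul_inv_cancel hf0 |>.elim
        fun b hb => ⟨⟨f, b, hb, (mul_comm b f).trans hb⟩, rfl⟩
      exfalso
      refine hne (subsingleton_of_forall_eq 0 fun c => ?_)
      have := hkill c
      rwa [hunit.smul_eq_zero] at this
    obtain ⟨i, rfl⟩ : ∃ i, d = i + 1 := ⟨d - 1, by omega⟩
    obtain ⟨e⟩ := S13224.succ_case F a i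
    have hs := LocCohLib.subsingleton_of_dimLt a.toIdeal (i + 1) (ModuleCat.of R Y.carrier) fun l => by
      let l' : LTSeries (PrimeSpectrum R) := l.map Subtype.val (fun _ _ h => h)
      have hhead : (⟨⊥, Ideal.isPrime_bot⟩ : PrimeSpectrum R) < l'.head := by
        refine lt_of_le_of_ne (by exact (bot_le : (⊥ : Ideal R) ≤ l'.head.asIdeal)) fun h => ?_
        have hmem : f ∈ l'.head.asIdeal := by
          obtain ⟨y, hy⟩ := Module.mem_support_iff'.1 l.head.2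
          by_contra hnot
          refine hy f hnot ?_
          have hz : ∀ z : Y.carrier, f • z = 0 := fun z => by
            obtain ⟨z, rfl⟩ := Submodule.mkQ_surjective P z
            exact (Submodule.Quotient.mk_smul P f z).symm.trans ((Submodule.Quotient.mk_eq_zero P).2 ⟨z, rfl⟩)
          exact hz y
        rw [← h] at hmem
        exact hf0 hmem
      have h1 : (((l'.cons _ hhead).length : ℕ) : WithBot ℕ∞) ≤ ringKrullDim R := Order.LTSeries.length_le_krullDim _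
      rw [hd, RelSeries.cons_length] at h1
      have h2 : l'.length + 1 ≤ i + 1 := by exact_mod_cast h1
      have h3 : l'.length = l.length := rfl
      omega
    haveI : Subsingleton (LocCoh.H a.toIdeal (i + 1) Y.carrier) := hs
    exact e.injective.subsingleton
  refine hne (subsingleton_of_forall_eq 0 fun c => ?_)
  obtain ⟨b, hb⟩ := (h2 d).le (show ind E F a _ _ d c = 0 from Subsingleton.elim _ _)
  rw [← hb, ind_lsmul a hf]
  exact hkill _

end Groth.Agent.GrInj
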