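import Mathlib
import Groth.Agent.GrInj.Socle
import Groth.Agent.GrInj.StarLoc
import Groth.Agent.DepthLib.Basic

/-!
# The top local cohomology of a Cohen-Macaulay ring is faithful
-/

set_option autoImplicit false
universe u

namespace Groth.Agent.GrInj

open GrLC
open scoped Pointwise

variable {R : Type u} [CommRing R] [IsNoetherianRing R] {𝒜 : ℤ → AddSubgroup R} [GradedRing 𝒜]
  {a : HomogeneousIdeal 𝒜}

variable {M : Type u} [AddCommGroup M] [Module R M] {ℳ : ℤ → AddSubgroup M} [DirectSum.Decomposition ℳ]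
  [SetLike.GradedSMul 𝒜 ℳ] in
/-- Torsion injects into the zeroth cohomology. -/
theorem exists_inj_H_zero (E : StarInjRes 𝒜 ℳ) :
    ∃ θ : gam a.toIdeal M →ₗ[R] E.H a 0, Function.Injective θ := by
  refine ⟨E.toH a 0 ∘ₗ
    { toFun := fun q => (⟨E.ε q, gam_map _ E.ε q.2, d_aug E q⟩ : E.cocyc a 0)
      map_add' := fun p q => Subtype.ext (map_add E.ε (p : M) q)
      map_smul' := fun r q => Subtype.ext (map_smul E.ε r (q : M)) }, (injective_iff_map_eq_zero _).2 fun q hq => ?_⟩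
  have h1 : E.ε (q : M) ∈ E.cobdy a 0 := Submodule.mem_comap.1
    ((Submodule.Quotient.mk_eq_zero ((E.cobdy a 0).comap (E.cocyc a 0).subtype)).1 hq)
  exact Subtype.ext (E.ε_injective (((Submodule.mem_bot R).1 h1).trans (map_zero _).symm))

theorem exists_regular_kill (hpos : ∀ n : ℤ, n < 0 → 𝒜 n = ⊥)
    (ha : a.toIdeal = Ideal.span (⋃ n ∈ Set.Ioi (0 : ℤ), (𝒜 n : Set R))) (k : ℕ) {s : R} :
    ∀ (t : ℕ) (X : GMod.{u} 𝒜) (_ : Module.Finite R X.carrier) (E : StarInjRes 𝒜 X.gr),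
    (∀ i < t, Subsingleton (E.H a i)) → (∀ c : E.H a t, s • c = 0) →
    ∃ fs : List R, fs.length = t ∧ RingTheory.Sequence.IsWeaklyRegular X.carrier fs ∧
      (∀ r ∈ fs, r ∈ a.toIdeal ^ (k + 1) ∧ SetLike.IsHomogeneousElem 𝒜 r) ∧
      ∀ (K : ℕ) (y : X.carrier), (∀ r ∈ a.toIdeal ^ K, r • y ∈ Ideal.ofList fs • (⊤ : Submodule R X.carrier)) →
        s • y ∈ Ideal.ofList fs • (⊤ : Submodule R X.carrier) := by
  intro t
  induction t with
  | zero =>
    intro X _ E _ hkill
    refine ⟨[], rfl, .nil R _, by simp, fun K y hy => ?_⟩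
    simp only [Ideal.ofList_nil, Submodule.bot_smul, Submodule.mem_bot] at hy ⊢
    obtain ⟨θ, hθ⟩ := exists_inj_H_zero (a := a) E
    have h : s • (⟨y, K, hy⟩ : gam a.toIdeal X.carrier) = 0 := hθ (by rw [map_smul, hkill, map_zero])
    exact congrArg Subtype.val h
  | succ t ih =>
    intro X _ E hvan hkill
    have hg : gam a.toIdeal X.carrier = ⊥ := by
      obtain ⟨θ, hθ⟩ := exists_inj_H_zero (a := a) E
      exact Submodule.subsingleton_iff_eq_bot.1 (@Function.Injective.subsingleton _ _ _ hθ (hvan 0 (Nat.succ_pos t)))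
    obtain ⟨x, d, hd, hx, hxr⟩ := exists_regular a hpos ha X.carrier hg
    have hxk : x ^ (k + 1) ∈ 𝒜 ((k + 1) • d) := SetLike.pow_mem_graded (k + 1) hx
    have hxkr : IsSMulRegular X.carrier (x ^ (k + 1)) := hxr.pow (k + 1)
    have hxa : x ^ (k + 1) ∈ a.toIdeal ^ (k + 1) := Ideal.pow_mem_pow (mem_a a hpos ha (by omega) hx) _
    have hPe : LinearMap.range (LinearMap.lsmul R X.carrier (x ^ (k + 1))) = (x ^ (k + 1)) • (⊤ : Submodule R X.carrier) :=
      (Submodule.map_top _).symm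
    have hP : ((x ^ (k + 1)) • (⊤ : Submodule R X.carrier)).IsHomogeneous X.gr :=
      hPe ▸ hom_range (grHom_lsmul (ℳ := X.gr) hxk)
    let Y : GMod.{u} 𝒜 := quoMod 𝒜 ((x ^ (k + 1)) • (⊤ : Submodule R X.carrier)) hP
    obtain ⟨G⟩ := S13215.result R 𝒜 Y.carrier Y.gr
    let ρ : X.carrier →ₗ[R] Y.carrier := Submodule.mkQ ((x ^ (k + 1)) • (⊤ : Submodule R X.carrier))
    have hρk : LinearMap.ker ρ = LinearMap.range (LinearMap.lsmul R X.carrier (x ^ (k + 1))) :=
      (Submodule.ker_mkQ _).trans hPe.symm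
    have hρs : Function.Surjective ρ := Submodule.mkQ_surjective _
    have hρ : IsGrHom X.gr Y.gr ρ := grHom_quoMk hP
    have hG : ∀ i < t, Subsingleton (G.H a i) :=
      subsingleton_step hxk hxkr hρ hρs hρk E G (n := t) hvan
    obtain ⟨δ, -, -, -, -, h3⟩ :=
      exists_les (a := a) hρ hρs hρk E (shiftRes E ((k + 1) • d)) G (grHom_lsmul hxk) (fun p q h => hxkr h)
    have hkill' : ∀ c : G.H a t, s • c = 0 := fun c => by
      let δ' : G.H a t →ₗ[R] E.H a (t + 1) := δ t
      have h0 : δ' (s • c) = 0 := (δ'.map_smul s c).trans (hkill _)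
      obtain ⟨b, hb⟩ := (h3 t).le h0
      rw [← hb, show b = 0 from @Subsingleton.elim _ (hvan t (Nat.lt_succ_self t)) b 0, map_zero]
    haveI : Module.Finite R Y.carrier :=
      inferInstanceAs (Module.Finite R (X.carrier ⧸ (x ^ (k + 1)) • (⊤ : Submodule R X.carrier)))
    obtain ⟨fs, hlen, hregY, hmem, hY⟩ := ih Y inferInstance G hG hkill'
    refine ⟨x ^ (k + 1) :: fs, by simp [hlen], ?_, ?_, fun K y hy => ?_⟩
    · exact (RingTheory.Sequence.isWeaklyRegular_cons_iff _ _ _).2 ⟨hxkr, hregY⟩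
    · intro r hr
      rcases List.mem_cons.1 hr with rfl | hr
      exacts [⟨hxa, _, hxk⟩, hmem r hr]
    · have hcomap : Submodule.comap ρ (Ideal.ofList fs • (⊤ : Submodule R Y.carrier)) =
          Ideal.ofList (x ^ (k + 1) :: fs) • (⊤ : Submodule R X.carrier) := by
        rw [show (Ideal.ofList fs • (⊤ : Submodule R Y.carrier)) = Submodule.map ρ (Ideal.ofList fs • ⊤) by
            rw [Submodule.map_smul'', Submodule.map_top, LinearMap.range_eq_top.2 hρs],
          Submodule.comap_map_eq, show LinearMap.ker ρ = (x ^ (k + 1)) • (⊤ : Submodule R X.carrier) from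
            Submodule.ker_mkQ _, sup_comm, Ideal.ofList_cons_smul]
      have h := hY K (ρ y) fun r hr => by
        have h1 := hy r hr
        rw [← hcomap, Submodule.mem_comap, map_smul] at h1
        exact h1
      rw [← hcomap, Submodule.mem_comap, map_smul]
      exact h

theorem pr_zero_of_mem_pow (hpos : ∀ n : ℤ, n < 0 → 𝒜 n = ⊥)
    (ha : a.toIdeal = Ideal.span (⋃ n ∈ Set.Ioi (0 : ℤ), (𝒜 n : Set R))) :
    ∀ (k : ℕ) (r : R), r ∈ a.toIdeal ^ k → ∀ j : ℤ, j < k → pr 𝒜 j r = 0 := by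
  have hsm : ∀ (b : R) (k : ℕ) (r : R), (∀ j : ℤ, j < k → pr 𝒜 j r = 0) → ∀ j : ℤ, j < k → pr 𝒜 j (b * r) = 0 := by
    intro b k r hr j hj
    rw [← sum_supp (ℳ := 𝒜) b, Finset.sum_mul, map_sum]
    refine Finset.sum_eq_zero fun i _ => ?_
    rw [← smul_eq_mul, pr_smul' (pr_mem (ℳ := 𝒜) i b)]
    rcases lt_or_ge i 0 with hi | hi
    · rw [AddSubgroup.mem_bot.1 ((hpos i hi).le (pr_mem (ℳ := 𝒜) i b)), zero_smul]
    · rw [hr (j - i) (by omega), smul_zero]
  intro k
  induction k with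
  | zero => intro r _ j hj; exact AddSubgroup.mem_bot.1 ((hpos j (by simpa using hj)).le (pr_mem (ℳ := 𝒜) j r))
  | succ k ih =>
    intro r hr
    rw [pow_succ] at hr
    refine Submodule.mul_induction_on hr (fun u hu v hv j hj => ?_) fun p q hp hq j hj => by
      rw [map_add, hp j hj, hq j hj, add_zero]
    rw [ha] at hv
    induction hv using Submodule.span_induction generalizing u j with
    | mem v hv =>
      simp only [Set.mem_iUnion] at hv
      obtain ⟨i, hi, hv⟩ := hv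
      rw [mul_comm, ← smul_eq_mul, pr_smul' (show v ∈ 𝒜 i from hv), ih u hu (j - i) (by
        have : (0 : ℤ) < i := hi
        push_cast at hj; omega), smul_zero]
    | zero => rw [mul_zero, map_zero]
    | add p q _ _ hp hq => rw [mul_add, map_add, hp u hu j hj, hq u hu j hj, add_zero]
    | smul b p _ hp => rw [smul_eq_mul, ← mul_assoc]; exact hp _ (Ideal.mul_mem_right _ _ hu) j hj

/-- A homogeneous element killing the top local cohomology of a Cohen–Macaulay ring is zero. -/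
theorem eq_zero_of_smul_top_cm [LocCoh.IsCohenMacaulayRing R] (hpos : ∀ n : ℤ, n < 0 → 𝒜 n = ⊥)
    (hm : IsStarLocal 𝒜 a) (ha : a.toIdeal = Ideal.span (⋃ n ∈ Set.Ioi (0 : ℤ), (𝒜 n : Set R)))
    {n : ℕ} (hn : ringKrullDim R = n) (E : StarInjRes 𝒜 𝒜) {g : ℤ} {s : R} (hs : s ∈ 𝒜 g)
    (hkill : ∀ c : E.H a n, s • c = 0) : s = 0 := by
  haveI : Module.Finite R (selfMod 𝒜).carrier := inferInstanceAs (Module.Finite R R)
  haveI := star_isMaximal hpos hm
  obtain ⟨fs, hlen, hreg, hmem, hkey⟩ := exists_regular_kill hpos ha g.toNat n (selfMod 𝒜) inferInstance E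
    (subsingleton_H_cm hpos hm hn E) hkill
  let J := Ideal.ofList fs
  have hle : J ≤ a.toIdeal ^ (g.toNat + 1) := Ideal.span_le.2 fun r hr => (hmem r hr).1
  have hJa : J ≤ a.toIdeal := hle.trans (Ideal.pow_le_self (Nat.succ_ne_zero _))
  have hJh : J.IsHomogeneous 𝒜 := Ideal.homogeneous_span 𝒜 _ fun r hr => (hmem r hr).2
  have hrad : a.toIdeal ≤ J.radical := by
    rw [← Ideal.sInf_minimalPrimes]
    refine le_sInf fun q hq => ?_
    haveI := hq.isPrime
    haveI := Ideal.IsPrime.homogeneousCore (𝒜 := 𝒜) (I := q) hq.isPrime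
    have hcore : q ≤ a.toIdeal := by
      have hJc : J ≤ (q.homogeneousCore 𝒜).toIdeal := by
        rw [← hJh.toIdeal_homogeneousCore_eq_self]
        exact Ideal.homogeneousCore_mono 𝒜 hq.1.2
      exact (hq.2 ⟨inferInstance, hJc⟩ (Ideal.toIdeal_homogeneousCore_le 𝒜 q)).trans
        (star_le hm _ (Ideal.IsPrime.ne_top inferInstance))
    rcases eq_or_lt_of_le hcore with h | h
    · exact h.ge
    exfalso
    have h1 : (n : ℕ∞) ≤ q.height := by
      rw [← (S14424.result R).1 inferInstance q hq.isPrime.ne_top]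
      have hregR : RingTheory.Sequence.IsWeaklyRegular R fs := hreg
      have h := Groth.Agent.DepthLib.le_idealDepth_of_isWeaklyRegular (I := q) fs hregR
        (fun r hr => hq.1.2 (Ideal.subset_span hr))
      rwa [hlen] at h
    have h2 := (ringKrullDim_eq_height_star hpos hm).symm.trans hn
    have h3 : a.toIdeal.height = (n : ℕ∞) := by exact_mod_cast h2
    exact absurd (h1.trans_lt (Ideal.height_strict_mono_of_isPrime h)) (by rw [h3]; exact lt_irrefl _)
  obtain ⟨K, hK⟩ := Ideal.exists_pow_le_of_le_radical_of_fg hrad (IsNoetherian.noetherian _)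
  let o : (selfMod 𝒜).carrier := (1 : R)
  have hiff : ∀ y : R, y ∈ J ↔ y ∈ J • (⊤ : Submodule R R) := fun y => by rw [smul_eq_mul, Ideal.mul_top]
  have h1 := hkey K o fun r hr => (hiff (r * 1)).1 (by rw [mul_one]; exact hK hr)
  have hsJ : s * 1 ∈ J := (hiff (s * 1)).2 h1
  rw [mul_one] at hsJ
  rcases lt_or_ge g 0 with hg | hg
  · exact AddSubgroup.mem_bot.1 ((hpos g hg).le hs)
  rw [← pr_of_mem hs]
  exact pr_zero_of_mem_pow hpos ha _ s (hle hsJ) g (by omega)

end Groth.Agent.GrInj
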