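import Groth.Agent.GrInj.TopDim
import Groth.Agent.GrInj.StarLoc
import Groth.Agent.GrInj.AcyclicGr
import Mathlib.RingTheory.Length
import Mathlib.Algebra.Polynomial.Roots

/-!
# Hilbert functions and graded local cohomology
-/

set_option autoImplicit false
set_option linter.unusedSectionVars false
universe u

namespace Groth.Agent.GrInj

open GrLC

variable {R : Type u} [CommRing R] {𝒜 : ℤ → AddSubgroup R} [GradedRing 𝒜]

/-- The irrelevant ideal. -/
def irrel (𝒜 : ℤ → AddSubgroup R) [GradedRing 𝒜] : HomogeneousIdeal 𝒜 :=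
  ⟨Ideal.span (⋃ n ∈ Set.Ioi (0 : ℤ), (𝒜 n : Set R)), Ideal.homogeneous_span 𝒜 _ fun x hx => by
    simp only [Set.mem_iUnion] at hx
    obtain ⟨n, -, hn⟩ := hx
    exact ⟨n, hn⟩⟩

theorem irrel_def : (irrel 𝒜).toIdeal = Ideal.span (⋃ n ∈ Set.Ioi (0 : ℤ), (𝒜 n : Set R)) := rfl

theorem radical_irrel_eq [IsNoetherianRing R] (hpos : ∀ n : ℤ, n < 0 → 𝒜 n = ⊥)
    [IsArtinianRing (deg0 𝒜)] {m : HomogeneousIdeal 𝒜} (hm : IsStarLocal 𝒜 m) :
    (irrel 𝒜).toIdeal.radical = m.toIdeal.radical := by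
  have hle : (irrel 𝒜).toIdeal ≤ m.toIdeal := Ideal.span_le.2 fun x hx => by
    simp only [Set.mem_iUnion] at hx
    obtain ⟨n, hn, hx⟩ := hx
    exact mem_star_of_pos hpos hm hn hx
  refine le_antisymm (Ideal.radical_mono hle) (Ideal.radical_le_radical_iff.2 ?_)
  rw [Ideal.radical_eq_sInf]
  refine le_sInf fun P hP => le_of_eq (Eq.symm ?_)
  haveI := hP.2
  have hoff : ∀ i : ℤ, i ≠ 0 → ∀ y ∈ 𝒜 i, y ∈ P := fun i hi y hy =>
    hP.1 (mem_a (irrel 𝒜) hpos irrel_def hi hy)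
  have hsub : ∀ x : R, pr 𝒜 0 x - x ∈ P := fun x => by
    refine mem_of_pr (ℳ := 𝒜) (P := P) fun i => ?_
    rw [map_sub]
    rcases eq_or_ne i 0 with rfl | h
    · rw [pr_of_mem (pr_mem (ℳ := 𝒜) 0 x), sub_self]; exact zero_mem _
    · rw [pr_of_ne (pr_mem 0 x) h.symm, zero_sub]
      exact neg_mem (hoff i h _ (pr_mem i x))
  have hsur : Function.Surjective ((Ideal.Quotient.mk P).comp (deg0 𝒜).subtype) := fun c => by
    obtain ⟨x, rfl⟩ := Ideal.Quotient.mk_surjective c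
    exact ⟨⟨pr 𝒜 0 x, pr_mem 0 x⟩, Ideal.Quotient.eq.2 (hsub x)⟩
  haveI : IsArtinianRing (R ⧸ P) := hsur.isArtinianRing
  haveI : P.IsMaximal := Ideal.Quotient.maximal_of_isField P (IsArtinianRing.isField_of_isDomain _)
  have hhom : P.IsHomogeneous 𝒜 := fun i x hx => by
    show pr 𝒜 i x ∈ P
    rcases eq_or_ne i 0 with rfl | h
    · simpa using add_mem (hsub x) hx
    · exact hoff i h _ (pr_mem i x)
  exact Ideal.IsMaximal.eq_of_le inferInstance (star_ne_top hm) (star_le hm ⟨P, hhom⟩ hP.2.ne_top)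

theorem Hcomp_length_congr [IsNoetherianRing R] {M : Type u} [AddCommGroup M] [Module R M]
    {ℳ : ℤ → AddSubgroup M} [DirectSum.Decomposition ℳ] [SetLike.GradedSMul 𝒜 ℳ] (E : StarInjRes 𝒜 ℳ)
    {a b : HomogeneousIdeal 𝒜} (h : a.toIdeal.radical = b.toIdeal.radical) (i : ℕ) (n : ℤ) :
    Module.length (deg0 𝒜) (E.Hcomp a i n) = Module.length (deg0 𝒜) (E.Hcomp b i n) := by
  obtain ⟨e₁⟩ := AcRes.nonempty_pieceEquiv (AcRes.ofStar E a) E i n
  obtain ⟨e₂⟩ := AcRes.nonempty_pieceEquiv (AcRes.ofStar E b) E i n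
  have hcoc : (AcRes.ofStar E a).coc i n = (AcRes.ofStar E b).coc i n := by
    unfold AcRes.coc
    rw [show gam a.toIdeal ((AcRes.ofStar E a).X i).carrier = gam b.toIdeal ((AcRes.ofStar E a).X i).carrier from
      gam_congr h _]
    rfl
  have hcob : (AcRes.ofStar E a).cob i = (AcRes.ofStar E b).cob i := by
    cases i with
    | zero => rfl
    | succ p =>
      show (gam a.toIdeal (E.X p).carrier).map (E.d p) = (gam b.toIdeal (E.X p).carrier).map (E.d p)
      rw [gam_congr h]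
  rw [← e₁.length_eq, ← e₂.length_eq]
  refine (Submodule.Quotient.equiv _ _ (LinearEquiv.ofEq _ _ hcoc) ?_).length_eq
  ext x
  simp only [Submodule.mem_map, Submodule.mem_comap, Submodule.restrictScalars_mem]
  constructor
  · rintro ⟨y, hy, rfl⟩
    exact hcob.le hy
  · intro hx
    exact ⟨⟨x.1, hcoc.ge x.2⟩, hcob.ge hx, rfl⟩

/-! ### Lengths -/

/-- The length as a rational number. -/
noncomputable def lenQ (A : Type u) [AddCommGroup A] [Module (deg0 𝒜) A] : ℚ :=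
  ((Module.length (deg0 𝒜) A).toNat : ℚ)

theorem lenQ_equiv {A B : Type u} [AddCommGroup A] [Module (deg0 𝒜) A] [AddCommGroup B] [Module (deg0 𝒜) B]
    (e : A ≃ₗ[deg0 𝒜] B) : lenQ (𝒜 := 𝒜) A = lenQ (𝒜 := 𝒜) B := by rw [lenQ, lenQ, e.length_eq]

theorem lenQ_subsingleton (A : Type u) [AddCommGroup A] [Module (deg0 𝒜) A] [Subsingleton A] :
    lenQ (𝒜 := 𝒜) A = 0 := by
  rw [lenQ, Module.length_eq_zero_iff.2 inferInstance]; rfl

theorem lenQ_eq_ker_add_range [IsArtinianRing (deg0 𝒜)] {A B : Type u} [AddCommGroup A] [Module (deg0 𝒜) A]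
    [AddCommGroup B] [Module (deg0 𝒜) B] [IsNoetherian (deg0 𝒜) A] (u : A →ₗ[deg0 𝒜] B) :
    lenQ (𝒜 := 𝒜) A = lenQ (𝒜 := 𝒜) (LinearMap.ker u) + lenQ (𝒜 := 𝒜) (LinearMap.range u) := by
  haveI : Module.Finite (deg0 𝒜) A := Module.IsNoetherian.finite _ _
  haveI : IsArtinian (deg0 𝒜) A := inferInstance
  haveI : IsArtinian (deg0 𝒜) (LinearMap.range u) := isArtinian_of_surjective A u.rangeRestrict u.surjective_rangeRestrict
  haveI : IsNoetherian (deg0 𝒜) (LinearMap.range u) := isNoetherian_of_surjective u.rangeRestrict u.range_rangeRestrict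
  have h := Module.length_eq_add_of_exact (LinearMap.ker u).subtype u.rangeRestrict
    Subtype.val_injective u.surjective_rangeRestrict
    (LinearMap.exact_iff.2 (by rw [LinearMap.ker_rangeRestrict, Submodule.range_subtype]))
  rw [lenQ, lenQ, lenQ, h, ENat.toNat_add Module.length_ne_top Module.length_ne_top, Nat.cast_add]

theorem lenQ_range_of_injective {A B : Type u} [AddCommGroup A] [Module (deg0 𝒜) A]
    [AddCommGroup B] [Module (deg0 𝒜) B] (u : A →ₗ[deg0 𝒜] B) (hu : Function.Injective u) :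
    lenQ (𝒜 := 𝒜) (LinearMap.range u) = lenQ (𝒜 := 𝒜) A :=
  (lenQ_equiv (LinearEquiv.ofInjective u hu)).symm

variable [IsNoetherianRing R]

theorem exact_pieces {A B C : Type u} [AddCommGroup A] [Module R A] [AddCommGroup B] [Module R B]
    [AddCommGroup C] [Module R C] {𝒳 : ℤ → AddSubgroup A} {𝒴 : ℤ → AddSubgroup B} {𝒵 : ℤ → AddSubgroup C}
    (hX : DirectSum.IsInternal 𝒳) (hY : DirectSum.IsInternal 𝒴)
    (f : A →ₗ[R] B) (g : B →ₗ[R] C) (hf : IsGrHom 𝒳 𝒴 f) (hg : IsGrHom 𝒴 𝒵 g)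
    (hex : LinearMap.ker g = LinearMap.range f) {j : ℤ} {S : Submodule (deg0 𝒜) A} {T : Submodule (deg0 𝒜) B}
    {U : Submodule (deg0 𝒜) C} (hS : ∀ x, x ∈ S ↔ x ∈ 𝒳 j) (hT : ∀ x, x ∈ T ↔ x ∈ 𝒴 j)
    (hU : ∀ x, x ∈ U ↔ x ∈ 𝒵 j) :
    LinearMap.ker (pieceMap (S := T) (S' := U) g fun x hx => (hU _).2 (hg j x ((hT x).1 hx))) =
      LinearMap.range (pieceMap (S := S) (S' := T) f fun x hx => (hT _).2 (hf j x ((hS x).1 hx))) := by
  letI := hX.chooseDecomposition
  letI := hY.chooseDecomposition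
  refine le_antisymm ?_ ?_
  · rintro ⟨c, hc⟩ h
    obtain ⟨b, hb⟩ := hex.le (show g c = 0 from congrArg Subtype.val h)
    refine ⟨⟨pr 𝒳 j b, (hS _).2 (pr_mem j b)⟩, Subtype.ext ?_⟩
    show f (pr 𝒳 j b) = c
    rw [← pr_grHom hf, hb, pr_of_mem ((hT c).1 hc)]
  · rintro _ ⟨b, rfl⟩
    exact Subtype.ext (hex.ge ⟨b.1, rfl⟩ : g (f b.1) = 0)

variable (a : HomogeneousIdeal 𝒜) (hpos : ∀ n : ℤ, n < 0 → 𝒜 n = ⊥)
  (ha : a.toIdeal = Ideal.span (⋃ n ∈ Set.Ioi (0 : ℤ), (𝒜 n : Set R))) {d : ℕ} (hd : ringKrullDim R = d)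

/-- The alternating sum of the lengths of the pieces of local cohomology. -/
noncomputable def euler (d : ℕ) {M : Type u} [AddCommGroup M] [Module R M] {ℳ : ℤ → AddSubgroup M}
    [DirectSum.Decomposition ℳ] [SetLike.GradedSMul 𝒜 ℳ] (E : StarInjRes 𝒜 ℳ) (n : ℤ) : ℚ :=
  ∑ i ∈ Finset.range (d + 1), (-1 : ℚ) ^ i * lenQ (𝒜 := 𝒜) (E.Hcomp a i n)

variable [IsArtinianRing (deg0 𝒜)]

include hpos ha hd in
theorem euler_add {A B C : GMod.{u} 𝒜} [Module.Finite R A.carrier] [Module.Finite R B.carrier]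
    [Module.Finite R C.carrier] (f : A.carrier →ₗ[R] B.carrier) (g : B.carrier →ₗ[R] C.carrier)
    (hf : IsGrHom A.gr B.gr f) (hfi : Function.Injective f) (hg : IsGrHom B.gr C.gr g)
    (hgs : Function.Surjective g) (hfg : LinearMap.ker g = LinearMap.range f)
    (E' : StarInjRes 𝒜 A.gr) (E : StarInjRes 𝒜 B.gr) (E'' : StarInjRes 𝒜 C.gr) (n : ℤ) :
    euler a d E n = euler a d E' n + euler a d E'' n := by
  obtain ⟨δ, hδ, h0, h1, h2, h3⟩ := exists_les (a := a) hg hgs hfg E E' E'' hf hfi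
  let F := fun i => pieceMap (S := E'.Hcomp a i n) (S' := E.Hcomp a i n) (ind E' E a f hf i)
    fun x hx => ind_grHom a hf i n x hx
  let G := fun i => pieceMap (S := E.Hcomp a i n) (S' := E''.Hcomp a i n) (ind E E'' a g hg i)
    fun x hx => ind_grHom a hg i n x hx
  let D := fun i => pieceMap (S := E''.Hcomp a i n) (S' := E'.Hcomp a (i + 1) n) (δ i)
    fun x hx => hδ i n x hx
  haveI : ∀ i, IsNoetherian (deg0 𝒜) (E'.Hcomp a i n) := fun i => (goodPieces a hpos ha i A E').1 n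
  haveI : ∀ i, IsNoetherian (deg0 𝒜) (E.Hcomp a i n) := fun i => (goodPieces a hpos ha i B E).1 n
  haveI : ∀ i, IsNoetherian (deg0 𝒜) (E''.Hcomp a i n) := fun i => (goodPieces a hpos ha i C E'').1 n
  have e1 : ∀ i, LinearMap.ker (G i) = LinearMap.range (F i) := fun i =>
    exact_pieces (S13225.isInternal_Hgr E' a i) (S13225.isInternal_Hgr E a i) _ _ (ind_grHom a hf i)
      (ind_grHom a hg i) (h2 i) (fun _ => Iff.rfl) (fun _ => Iff.rfl) (fun _ => Iff.rfl)
  have e2 : ∀ i, LinearMap.ker (D i) = LinearMap.range (G i) := fun i =>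
    exact_pieces (S13225.isInternal_Hgr E a i) (S13225.isInternal_Hgr E'' a i) _ _ (ind_grHom a hg i)
      (hδ i) (h3 i) (fun _ => Iff.rfl) (fun _ => Iff.rfl) (fun _ => Iff.rfl)
  have e3 : ∀ i, LinearMap.ker (F (i + 1)) = LinearMap.range (D i) := fun i =>
    exact_pieces (S13225.isInternal_Hgr E'' a i) (S13225.isInternal_Hgr E' a (i + 1)) _ _ (hδ i)
      (ind_grHom a hf (i + 1)) (h1 i) (fun _ => Iff.rfl) (fun _ => Iff.rfl) (fun _ => Iff.rfl)
  have hF0 : Function.Injective (F 0) := fun p q h => Subtype.ext (h0 (congrArg Subtype.val h))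
  have key : ∀ N : ℕ, ∑ i ∈ Finset.range (N + 1), (-1 : ℚ) ^ i *
      (lenQ (𝒜 := 𝒜) (E'.Hcomp a i n) - lenQ (𝒜 := 𝒜) (E.Hcomp a i n) + lenQ (𝒜 := 𝒜) (E''.Hcomp a i n))
      = (-1 : ℚ) ^ N * lenQ (𝒜 := 𝒜) (LinearMap.range (D N)) := by
    intro N
    induction N with
    | zero =>
      rw [Finset.sum_range_one, lenQ_eq_ker_add_range (G 0), e1 0, lenQ_eq_ker_add_range (D 0), e2 0,
        lenQ_range_of_injective (F 0) hF0]
      ring
    | succ N ih =>
      rw [Finset.sum_range_succ, ih, lenQ_eq_ker_add_range (F (N + 1)), e3 N,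
        lenQ_eq_ker_add_range (G (N + 1)), e1 (N + 1), lenQ_eq_ker_add_range (D (N + 1)), e2 (N + 1), pow_succ]
      ring
  have hk := key d
  haveI : Subsingleton (E'.H a (d + 1)) := subsingleton_H_above hd E' a (Nat.lt_succ_self d)
  haveI : Subsingleton (LinearMap.range (D d)) := ⟨fun p q => Subtype.ext (Subtype.ext (Subsingleton.elim _ _))⟩
  rw [lenQ_subsingleton (LinearMap.range (D d)), mul_zero] at hk
  simp only [mul_add, mul_sub, Finset.sum_add_distrib, Finset.sum_sub_distrib] at hk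
  unfold euler
  linarith

/-- The Hilbert function. -/
noncomputable def hilb (X : GMod.{u} 𝒜) (n : ℤ) : ℚ := lenQ (𝒜 := 𝒜) (comp 𝒜 X.gr n)

theorem hilb_add {A B C : GMod.{u} 𝒜} [Module.Finite R B.carrier]
    (f : A.carrier →ₗ[R] B.carrier) (g : B.carrier →ₗ[R] C.carrier)
    (hf : IsGrHom A.gr B.gr f) (hfi : Function.Injective f) (hg : IsGrHom B.gr C.gr g)
    (hgs : Function.Surjective g) (hfg : LinearMap.ker g = LinearMap.range f) (n : ℤ) :
    hilb B n = hilb A n + hilb C n := by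
  haveI : IsNoetherian (deg0 𝒜) (comp 𝒜 B.gr n) := isNoetherian_piece 𝒜 n
  let F := pieceMap (S := comp 𝒜 A.gr n) (S' := comp 𝒜 B.gr n) f fun x hx => hf n x hx
  let G := pieceMap (S := comp 𝒜 B.gr n) (S' := comp 𝒜 C.gr n) g fun x hx => hg n x hx
  have hG : Function.Surjective G := fun c => by
    obtain ⟨b, hb⟩ := hgs c.1
    refine ⟨⟨pr B.gr n b, pr_mem n b⟩, Subtype.ext ?_⟩
    show g (pr B.gr n b) = c.1
    rw [← pr_grHom hg, hb, pr_of_mem (show c.1 ∈ C.gr n from c.2)]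
  have hex : LinearMap.ker G = LinearMap.range F := exact_pieces (DirectSum.Decomposition.isInternal A.gr)
    (DirectSum.Decomposition.isInternal B.gr) f g hf hg hfg (fun _ => Iff.rfl) (fun _ => Iff.rfl) (fun _ => Iff.rfl)
  unfold hilb
  rw [lenQ_eq_ker_add_range G, hex, lenQ_range_of_injective F fun p q h => Subtype.ext (hfi (congrArg Subtype.val h)),
    LinearMap.range_eq_top.2 hG, lenQ_equiv Submodule.topEquiv]

include hpos ha in
theorem hilb_torsion {X : GMod.{u} 𝒜} [Module.Finite R X.carrier] (ht : LocCoh.IsPowerTorsion a.toIdeal X.carrier)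
    (E : StarInjRes 𝒜 X.gr) :
    (∀ n, euler a d E n = hilb X n) ∧ ∃ N : ℤ, ∀ n, N ≤ n → hilb X n = 0 := by
  have hmem : ∀ m : X.carrier, m ∈ gam a.toIdeal X.carrier := ht
  have heq : ∀ n, lenQ (𝒜 := 𝒜) (E.Hcomp a 0 n) = hilb X n := fun n => by
    let θ : comp 𝒜 X.gr n →ₗ[deg0 𝒜] E.Hcomp a 0 n :=
      { toFun := fun m => ⟨E.toH a 0 ⟨E.ε m.1, gam_map _ E.ε (hmem _), d_aug E m.1⟩,
          ⟨⟨E.ε m.1, gam_map _ E.ε (hmem _), d_aug E m.1⟩, E.ε_grHom n _ m.2, rfl⟩⟩
        map_add' := fun p q => Subtype.ext (by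
          show E.toH a 0 _ = E.toH a 0 _ + E.toH a 0 _
          rw [← map_add]; exact congrArg _ (Subtype.ext (map_add E.ε p.1 q.1)))
        map_smul' := fun r p => Subtype.ext (by
          show E.toH a 0 _ = (r : R) • E.toH a 0 _
          rw [← map_smul]; exact congrArg _ (Subtype.ext (map_smul E.ε (r : R) p.1))) }
    refine (lenQ_equiv (LinearEquiv.ofBijective θ ⟨(injective_iff_map_eq_zero θ).2 fun p hp => ?_, ?_⟩)).symm
    · have h1 : E.ε p.1 ∈ E.cobdy a 0 := Submodule.mem_comap.1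
        ((Submodule.Quotient.mk_eq_zero ((E.cobdy a 0).comap (E.cocyc a 0).subtype)).1 (congrArg Subtype.val hp))
      exact Subtype.ext (E.ε_injective (((Submodule.mem_bot _).1 h1).trans (map_zero _).symm))
    · rintro ⟨_, z, hz, rfl⟩
      obtain ⟨m, hm⟩ := E.exact_zero.le z.2.2
      exact ⟨⟨m, inverse_grHom E.ε_grHom E.ε_injective (hm ▸ hz)⟩, Subtype.ext (congrArg (E.toH a 0) (Subtype.ext hm))⟩
  refine ⟨fun n => ?_, ?_⟩
  · rw [euler, Finset.sum_range_succ', Finset.sum_eq_zero, pow_zero, one_mul, zero_add, heq]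
    intro i _
    haveI := subsingleton_of_torsion a (E := E) ht i
    rw [lenQ_subsingleton, mul_zero]
  · obtain ⟨r, hr⟩ := (goodPieces a hpos ha 0 X E).2
    refine ⟨r, fun n hn => ?_⟩
    rw [← heq, hr n hn, lenQ_subsingleton]

include hpos ha hd in
theorem hilb_formula (X : GMod.{u} 𝒜) [Module.Finite R X.carrier] (E : StarInjRes 𝒜 X.gr) (P : Polynomial ℚ)
    (hP : ∃ N : ℤ, ∀ n, N ≤ n → P.eval (n : ℚ) = hilb X n) (n : ℤ) :
    hilb X n - P.eval (n : ℚ) = euler a d E n := by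
  suffices H : ∀ K : Submodule R X.carrier, ∀ (Y : GMod.{u} 𝒜) (π : X.carrier →ₗ[R] Y.carrier),
      IsGrHom X.gr Y.gr π → Function.Surjective π → LinearMap.ker π = K →
      ∀ (F : StarInjRes 𝒜 Y.gr) (Q : Polynomial ℚ), (∃ N : ℤ, ∀ n, N ≤ n → Q.eval (n : ℚ) = hilb Y n) →
      ∀ n, hilb Y n - Q.eval (n : ℚ) = euler a d F n from
    H ⊥ X LinearMap.id (fun _ _ h => h) Function.surjective_id LinearMap.ker_id E P hP n
  intro K
  induction K using WellFoundedGT.induction with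
  | _ K ih =>
  intro Y π hπ hπs hπk F Q hQ n
  haveI : Module.Finite R Y.carrier := Module.Finite.of_surjective π hπs
  have hlt : ∀ S : Submodule R Y.carrier, S ≠ ⊥ → K < S.comap π := by
    intro S hS
    refine lt_of_le_of_ne (hπk ▸ LinearMap.ker_le_comap π) fun h => hS (eq_bot_iff.2 fun y hy => ?_)
    obtain ⟨x, rfl⟩ := hπs y
    exact (Submodule.mem_bot R).2 (LinearMap.mem_ker.1 (hπk.symm ▸ (h.symm ▸ Submodule.mem_comap.2 hy : x ∈ K)))
  have hquo : ∀ (S : Submodule R Y.carrier) (hS : S.IsHomogeneous Y.gr), S ≠ ⊥ →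
      ∀ (G : StarInjRes 𝒜 (quoMod 𝒜 S hS).gr) (Q' : Polynomial ℚ),
      (∃ N : ℤ, ∀ n, N ≤ n → Q'.eval (n : ℚ) = hilb (quoMod 𝒜 S hS) n) →
      ∀ n, hilb (quoMod 𝒜 S hS) n - Q'.eval (n : ℚ) = euler a d G n := fun S hS hS0 =>
    ih (S.comap π) (hlt S hS0) (quoMod 𝒜 S hS) (S.mkQ ∘ₗ π) (fun i x hx => ⟨π x, hπ i x hx, rfl⟩)
      ((Submodule.mkQ_surjective S).comp hπs) ((LinearMap.ker_comp π S.mkQ).trans (congrArg _ (Submodule.ker_mkQ S)))
  obtain ⟨N₀, hN₀⟩ := hQ
  by_cases ht : gam a.toIdeal Y.carrier = ⊥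
  · obtain ⟨x, e, he, hx, hreg⟩ := exists_regular a hpos ha Y.carrier ht
    have hf : IsGrHom (shGr Y.gr e) Y.gr (LinearMap.lsmul R Y.carrier x) := grHom_lsmul hx
    let S : Submodule R Y.carrier := LinearMap.range (LinearMap.lsmul R Y.carrier x)
    have hS : S.IsHomogeneous Y.gr := hom_range hf
    by_cases hS0 : S = ⊥
    · haveI : Subsingleton Y.carrier := subsingleton_of_forall_eq 0 fun y => hreg <| by
        show x • y = x • (0 : Y.carrier)
        rw [smul_zero, ← Submodule.mem_bot R, ← hS0]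
        exact ⟨y, rfl⟩
      obtain ⟨h1, -⟩ := hilb_torsion a hpos ha (d := d) (X := Y)
        (fun y => ⟨0, fun r _ => Subsingleton.elim _ _⟩) F
      have h0 : ∀ m, hilb Y m = 0 := fun m => lenQ_subsingleton _
      have hQ0 : Q = 0 := Polynomial.eq_zero_of_infinite_isRoot Q (Set.Infinite.mono
        (s := Set.range fun t : ℕ => ((N₀ + t : ℤ) : ℚ))
        (by rintro _ ⟨t, rfl⟩; exact (hN₀ (N₀ + t) (by omega)).trans (h0 _))
        (Set.infinite_range_of_injective fun s t hst => by simpa using hst))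
      rw [h1, hQ0, Polynomial.eval_zero, sub_zero]
    · haveI : Module.Finite R (quoMod 𝒜 S hS).carrier := inferInstanceAs (Module.Finite R (Y.carrier ⧸ S))
      haveI : Module.Finite R (shMod 𝒜 Y e).carrier := inferInstanceAs (Module.Finite R Y.carrier)
      obtain ⟨G⟩ := S13215.result R 𝒜 (quoMod 𝒜 S hS).carrier (quoMod 𝒜 S hS).gr
      have hL : ∀ m, hilb Y m = hilb Y (m - e) + hilb (quoMod 𝒜 S hS) m := fun m =>
        hilb_add (A := shMod 𝒜 Y e) (B := Y) (C := quoMod 𝒜 S hS) (LinearMap.lsmul R Y.carrier x) S.mkQ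
          hf hreg (fun i y hy => ⟨y, hy, rfl⟩) (Submodule.mkQ_surjective S) (Submodule.ker_mkQ S) m
      have hχ : ∀ m, euler a d F m = euler a d F (m - e) + euler a d G m := fun m => by
        refine euler_add a hpos ha hd (A := shMod 𝒜 Y e) (B := Y) (C := quoMod 𝒜 S hS)
          (LinearMap.lsmul R Y.carrier x) S.mkQ hf hreg (fun i y hy => ⟨y, hy, rfl⟩)
          (Submodule.mkQ_surjective S) (Submodule.ker_mkQ S) (shiftRes F e) F G m
      let Q' : Polynomial ℚ := Q - Q.comp (Polynomial.X - Polynomial.C (e : ℚ))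
      have hQ' : ∀ m : ℤ, Q'.eval (m : ℚ) = Q.eval (m : ℚ) - Q.eval ((m - e : ℤ) : ℚ) := fun m => by
        simp [Q', Polynomial.eval_comp]
      have hrec := hquo S hS hS0 G Q' ⟨N₀ + e, fun m hm => by
        rw [hQ', hN₀ m (by omega), hN₀ (m - e) (by omega), hL m]; ring⟩
      obtain ⟨r, hr⟩ := exists_uniform_bound a hpos ha Y F
      have hper : ∀ m, hilb Y m - Q.eval (m : ℚ) - euler a d F m =
          hilb Y (m - e) - Q.eval ((m - e : ℤ) : ℚ) - euler a d F (m - e) := fun m => by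
        have := hrec m
        rw [hQ'] at this
        rw [hL m, hχ m]
        linarith
      have hall : ∀ (t : ℕ) (m : ℤ), max N₀ r ≤ m + t * e →
          hilb Y m - Q.eval (m : ℚ) - euler a d F m = 0 := by
        intro t
        induction t with
        | zero =>
          intro m hm
          have h0 : euler a d F m = 0 := Finset.sum_eq_zero fun i _ => by
            rw [hr i m (by omega), lenQ_subsingleton, mul_zero]
          rw [h0, hN₀ m (by omega)]; ring
        | succ t iht =>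
          intro m hm
          have h1 := hper (m + e)
          rw [add_sub_cancel_right] at h1
          rw [← h1]
          refine iht (m + e) ?_
          push_cast at hm ⊢
          linarith
      have := hall (max N₀ r - n).toNat n (by
        have h1 := Int.self_le_toNat (max N₀ r - n)
        nlinarith)
      linarith
  · let S : Submodule R Y.carrier := gam a.toIdeal Y.carrier
    have hS : S.IsHomogeneous Y.gr := S13225.gam_homogeneous a
    haveI : Module.Finite R (quoMod 𝒜 S hS).carrier := inferInstanceAs (Module.Finite R (Y.carrier ⧸ S))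
    haveI : Module.Finite R (subMod 𝒜 S hS).carrier := Module.Finite.iff_fg.2 (IsNoetherian.noetherian S)
    obtain ⟨G⟩ := S13215.result R 𝒜 (quoMod 𝒜 S hS).carrier (quoMod 𝒜 S hS).gr
    obtain ⟨G'⟩ := S13215.result R 𝒜 (subMod 𝒜 S hS).carrier (subMod 𝒜 S hS).gr
    have hker : LinearMap.ker S.mkQ = LinearMap.range (subInc 𝒜 S hS) :=
      (Submodule.ker_mkQ S).trans (range_subInc (𝒜 := 𝒜) hS).symm
    obtain ⟨h1, N₁, hN₁⟩ := hilb_torsion a hpos ha (d := d) (X := subMod 𝒜 S hS) (fun y => by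
      obtain ⟨k, hk⟩ := y.2
      exact ⟨k, fun r hr => Subtype.ext (hk r hr)⟩) G'
    have hL : ∀ m, hilb Y m = hilb (subMod 𝒜 S hS) m + hilb (quoMod 𝒜 S hS) m := fun m =>
      hilb_add (A := subMod 𝒜 S hS) (B := Y) (C := quoMod 𝒜 S hS) (subInc 𝒜 S hS) S.mkQ (grHom_subInc hS) (subInc_injective hS) (fun i y hy => ⟨y, hy, rfl⟩)
        (Submodule.mkQ_surjective S) hker m
    have hχ := euler_add a hpos ha hd (A := subMod 𝒜 S hS) (B := Y) (C := quoMod 𝒜 S hS) (subInc 𝒜 S hS) S.mkQ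
      (grHom_subInc hS) (subInc_injective hS) (fun i y hy => ⟨y, hy, rfl⟩) (Submodule.mkQ_surjective S) hker
      G' F G n
    have hrec := hquo S hS ht G Q ⟨max N₀ N₁, fun m hm => by
      rw [hN₀ m (by omega), hL m, hN₁ m (by omega), zero_add]⟩ n
    rw [hχ, h1, hL n]
    linarith

end Groth.Agent.GrInj
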