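import Mathlib
import Groth.Agent.GrInj.GorCrit
import Groth.Agent.GrInj.Faithful
import Groth.Agent.GrInj.Hilbert
import Groth.Agent.DepthLib.Localization

/-!
# Duality between a graded Gorenstein ring over a field and its top local cohomology
-/

set_option autoImplicit false
universe u

namespace Groth.Agent.GrInj

open GrLC

variable {R : Type u} [CommRing R] {𝒜 : ℤ → AddSubgroup R} [GradedRing 𝒜] {m : HomogeneousIdeal 𝒜}

theorem sub_pr_zero_mem [IsNoetherianRing R] (hpos : ∀ n : ℤ, n < 0 → 𝒜 n = ⊥)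
    (hmsp : m.toIdeal = Ideal.span (⋃ n ∈ Set.Ioi (0 : ℤ), (𝒜 n : Set R))) (r : R) :
    r - pr 𝒜 0 r ∈ m.toIdeal := mem_of_pr (ℳ := 𝒜) (P := m.toIdeal) fun t => by
  rw [map_sub]
  rcases eq_or_ne t 0 with rfl | ht
  · rw [pr_of_mem (pr_mem (ℳ := 𝒜) 0 r), sub_self]; exact zero_mem _
  · rw [pr_of_ne (pr_mem 0 r) ht.symm, sub_zero]; exact mem_a m hpos hmsp ht (pr_mem t r)

/-- Over a field the irrelevant ideal is the *maximal ideal. -/
theorem isStarLocal_of_field [IsNoetherianRing R] (hpos : ∀ n : ℤ, n < 0 → 𝒜 n = ⊥) (h0 : IsField (deg0 𝒜))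
    (hmsp : m.toIdeal = Ideal.span (⋃ n ∈ Set.Ioi (0 : ℤ), (𝒜 n : Set R))) : IsStarLocal 𝒜 m := by
  have hne : m ≠ ⊤ := fun h => by
    have h1 := pr_zero_of_mem_pow hpos hmsp 1 1 (by rw [pow_one, h]; exact Submodule.mem_top) 0 (by norm_num)
    rw [pr_of_mem (SetLike.one_mem_graded 𝒜)] at h1
    obtain ⟨x, y, hxy⟩ := h0.exists_pair_ne
    exact hxy (Subtype.ext (by rw [← mul_one (x : R), ← mul_one (y : R), h1, mul_zero, mul_zero]))
  have hle : ∀ I : HomogeneousIdeal 𝒜, I ≠ ⊤ → I ≤ m := by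
    intro I hI x hx
    by_cases hz : pr 𝒜 0 x = 0
    · have := sub_pr_zero_mem hpos hmsp x
      rwa [hz, sub_zero] at this
    exfalso
    obtain ⟨t, ht⟩ := h0.mul_inv_cancel (a := ⟨pr 𝒜 0 x, pr_mem 0 x⟩) fun h => hz (congrArg Subtype.val h)
    refine hI (HomogeneousIdeal.ext (eq_top_iff.2 fun y _ => ?_))
    have h1 : pr 𝒜 0 x * (t : R) = 1 := congrArg Subtype.val ht
    rw [← mul_one y, ← h1]
    exact I.toIdeal.mul_mem_left _ (I.toIdeal.mul_mem_right _ (I.isHomogeneous 0 hx))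
  refine ⟨⟨hne, fun I hI => by_contra fun h => (lt_irrefl m) (lt_of_lt_of_le hI (hle I h))⟩, fun I hI => ?_⟩
  rcases eq_or_lt_of_le (hle I hI.1) with h | h
  exacts [h, absurd (hI.2 m h) hne]

/-- A module killed by the *maximal ideal has the same length over the degree zero field. -/
theorem length_killed [IsNoetherianRing R] (hpos : ∀ n : ℤ, n < 0 → 𝒜 n = ⊥)
    (hmsp : m.toIdeal = Ideal.span (⋃ n ∈ Set.Ioi (0 : ℤ), (𝒜 n : Set R))) (S : Type u) [AddCommGroup S] [Module R S]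
    (hS : ∀ r ∈ m.toIdeal, ∀ x : S, r • x = 0) : Module.length R S = Module.length (deg0 𝒜) S := by
  have key : ∀ (r : R) (x : S), r • x = (⟨pr 𝒜 0 r, pr_mem 0 r⟩ : deg0 𝒜) • x := fun r x => by
    show r • x = pr 𝒜 0 r • x
    rw [← sub_eq_zero, ← sub_smul]
    exact hS _ (sub_pr_zero_mem hpos hmsp r) x
  let e : Submodule R S ≃o Submodule (deg0 𝒜) S :=
    { toFun := fun Q => Q.restrictScalars (deg0 𝒜)
      invFun := fun Q => { Q.toAddSubmonoid with smul_mem' := fun c x hx => by rw [key]; exact Q.smul_mem _ hx }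
      left_inv := fun Q => Submodule.ext fun x => Iff.rfl
      right_inv := fun Q => Submodule.ext fun x => Iff.rfl
      map_rel_iff' := Iff.rfl }
  apply WithBot.coe_injective
  rw [Module.coe_length, Module.coe_length, Order.krullDim_eq_of_orderIso e]

variable [IsNoetherianRing R]

/-- The socle criterion from the vanishing below the dimension. -/
theorem isGorensteinRing_iff_socle_van (hpos : ∀ n : ℤ, n < 0 → 𝒜 n = ⊥)
    (hm : IsStarLocal 𝒜 m) {n : ℕ} (hn : ringKrullDim R = n) (E : StarInjRes 𝒜 𝒜)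
    (hvan : ∀ i < n, Subsingleton (E.H m i)) :
    LocCoh.IsGorensteinRing R ↔ Module.length R (Submodule.torsionBySet R (E.H m n) m.toIdeal) = 1 := by
  haveI := star_isMaximal hpos hm
  have hd : ringKrullDim (Localization.AtPrime m.toIdeal) = n := by
    rw [IsLocalization.AtPrime.ringKrullDim_eq_height m.toIdeal, ← ringKrullDim_eq_height_star hpos hm, hn]
  have hdep : (n : ℕ∞) ≤ LocCoh.idealDepth m.toIdeal R := by
    refine (Groth.Agent.LocCohLib.natCast_le_idealDepth_iff_vanishing m.toIdeal R n).2 fun i hi => ?_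
    rcases i with _ | i
    · obtain ⟨e⟩ := S13224.zero_case E m
      exact @Function.Injective.subsingleton _ _ _ e.symm.injective (hvan 0 hi)
    · obtain ⟨e⟩ := S13224.succ_case E m i
      exact @Function.Injective.subsingleton _ _ _ e.symm.injective (hvan _ hi)
  haveI : LocCoh.IsCohenMacaulayLocalRing (Localization.AtPrime m.toIdeal) := by
    rw [DepthLib.isCohenMacaulayLocalRing_iff, hd]
    have h := (DepthLib.natCast_le_idealDepth_iff_forall_localization (I := m.toIdeal) (M := R) (n := n)).1 hdep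
      m.toIdeal le_rfl
    let el : LocalizedModule m.toIdeal.primeCompl R ≃ₗ[Localization.AtPrime m.toIdeal] Localization.AtPrime m.toIdeal :=
      ((IsLocalizedModule.linearEquiv m.toIdeal.primeCompl (Algebra.linearMap R (Localization.AtPrime m.toIdeal))
        (LocalizedModule.mkLinearMap m.toIdeal.primeCompl R)).symm).extendScalarsOfIsLocalization
          m.toIdeal.primeCompl (Localization.AtPrime m.toIdeal)
    rw [DepthLib.depth_congr el] at h
    exact_mod_cast h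
  rw [← bassNum_eq_length_socle m E n hvan, bassNum_self_eq, ← LocalType.gorenstein_iff_length_ext hd]
  exact ⟨fun h => h.isGorensteinLocalRing_localization _, isGorensteinRing_of_star hm⟩

variable (hpos : ∀ n : ℤ, n < 0 → 𝒜 n = ⊥) (h0 : IsField (deg0 𝒜))
  (hmsp : m.toIdeal = Ideal.span (⋃ n ∈ Set.Ioi (0 : ℤ), (𝒜 n : Set R)))
  (E : StarInjRes 𝒜 𝒜) {n : ℕ} {a : ℤ} (ha : endDeg (E.Hgr m n) = ((a : WithTop ℤ) : WithBot (WithTop ℤ)))

include ha in
theorem eq_zero_above {g : ℤ} (hg : a < g) {c : E.H m n} (hc : c ∈ E.Hgr m n g) : c = 0 := by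
  by_contra hne
  have h : ((g : WithTop ℤ) : WithBot (WithTop ℤ)) ≤ endDeg (E.Hgr m n) :=
    le_iSup₂_of_le (f := fun (i : ℤ) (_ : E.Hgr m n i ≠ ⊥) => ((i : WithTop ℤ) : WithBot (WithTop ℤ))) g
      (fun hb => hne (AddSubgroup.mem_bot.1 (hb.le hc))) le_rfl
  rw [ha] at h
  have := WithTop.coe_le_coe.1 (WithBot.coe_le_coe.1 h)
  omega

include hmsp ha in
/-- The top piece is killed by the *maximal ideal. -/
theorem top_killed {c : E.H m n} (hc : c ∈ E.Hgr m n a) {s : R} (hs : s ∈ m.toIdeal) : s • c = 0 := by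
  rw [hmsp] at hs
  induction hs using Submodule.span_induction with
  | mem y hy =>
    simp only [Set.mem_iUnion] at hy
    obtain ⟨i, hi, hy⟩ := hy
    refine eq_zero_above E ha (g := i + a) (by have : (0 : ℤ) < i := hi; omega) ?_
    obtain ⟨z, hz, rfl⟩ := hc
    exact ⟨y • z, (E.X n).gsmul.smul_mem hy hz, map_smul _ y z⟩
  | zero => exact zero_smul R c
  | add p q _ _ hp hq => rw [add_smul, hp, hq, add_zero]
  | smul b p _ hp => rw [smul_eq_mul, mul_smul, hp, smul_zero]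

include hpos hmsp ha in
/-- Every nonzero class has a nonzero multiple in the socle. -/
theorem exists_socle_multiple {g : ℤ} {c : E.H m n} (hc : c ∈ E.Hgr m n g) (hc0 : c ≠ 0) :
    ∃ e : ℤ, ∃ r ∈ 𝒜 e, 0 ≤ e ∧ r • c ≠ 0 ∧ ∀ s ∈ m.toIdeal, s • r • c = 0 := by
  classical
  have hsm : ∀ (e : ℤ) (r : R), r ∈ 𝒜 e → r • c ∈ E.Hgr m n (e + g) := fun e r hr => by
    obtain ⟨z, hz, rfl⟩ := hc
    exact ⟨r • z, (E.X n).gsmul.smul_mem hr hz, map_smul _ r z⟩
  let P : ℕ → Prop := fun t => ∃ r ∈ 𝒜 (t : ℤ), r • c ≠ 0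
  have hb : ∀ t, P t → t ≤ (a - g).toNat := fun t ⟨r, hr, hrc⟩ => by
    by_contra h
    exact hrc (eq_zero_above E ha (g := t + g) (by omega) (hsm _ r hr))
  have hP0 : P 0 := ⟨1, SetLike.one_mem_graded 𝒜, by rwa [one_smul]⟩
  let T := Nat.findGreatest P (a - g).toNat
  have hT : P T := Nat.findGreatest_spec (hb 0 hP0) hP0
  obtain ⟨r, hr, hrc⟩ := hT
  refine ⟨T, r, hr, by positivity, hrc, fun s hs => ?_⟩
  rw [hmsp] at hs
  induction hs using Submodule.span_induction with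
  | mem y hy =>
    simp only [Set.mem_iUnion] at hy
    obtain ⟨i, hi, hy⟩ := hy
    by_contra hne
    have hi' : (0 : ℤ) < i := hi
    obtain ⟨t, ht⟩ : ∃ t : ℕ, i + T = (t : ℤ) := ⟨(i + T).toNat, by omega⟩
    have hPt : P t := ⟨y * r, ht ▸ SetLike.mul_mem_graded hy hr, by rwa [mul_smul]⟩
    have := Nat.le_findGreatest (hb t hPt) hPt
    omega
  | zero => exact zero_smul R _
  | add p q _ _ hp hq => rw [add_smul, hp, hq, add_zero]
  | smul b p _ hp => rw [smul_eq_mul, mul_smul, hp, smul_zero]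

include hpos h0 hmsp ha in
/-- In the Gorenstein case the socle is the top piece, and it is one-dimensional. -/
theorem socle_degree [LocCoh.IsGorensteinRing R] (hn : ringKrullDim R = n) :
    (∀ g, ∀ c ∈ E.Hgr m n g, c ≠ 0 → (∀ s ∈ m.toIdeal, s • c = 0) → g = a) ∧
      ∃ c₀ ∈ E.Hgr m n a, c₀ ≠ 0 ∧ ∀ c ∈ E.Hgr m n a, ∃ r : deg0 𝒜, c = (r : R) • c₀ := by
  classical
  have hm := isStarLocal_of_field hpos h0 hmsp
  haveI := isCohenMacaulayRing_of_gorenstein (R := R)
  have hsimple := Module.length_eq_one_iff.1 ((isGorensteinRing_iff_socle hpos hm hn E).1 inferInstance)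
  letI := (S13225.isInternal_Hgr E m n).chooseDecomposition
  haveI : SetLike.GradedSMul 𝒜 (E.Hgr m n) := ⟨fun {p q} r c hr hc => by
    obtain ⟨z, hz, rfl⟩ := hc
    exact ⟨r • z, (E.X n).gsmul.smul_mem hr hz, map_smul _ r z⟩⟩
  have hex : ∃ c₀ ∈ E.Hgr m n a, c₀ ≠ 0 := by
    by_contra h
    push Not at h
    have hle : endDeg (E.Hgr m n) ≤ (((a - 1 : ℤ) : WithTop ℤ) : WithBot (WithTop ℤ)) :=
      iSup₂_le fun g hg => WithBot.coe_le_coe.2 (WithTop.coe_le_coe.2 (by
        by_contra hlt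
        refine hg ((AddSubgroup.eq_bot_iff_forall _).2 fun c hc => ?_)
        rcases eq_or_lt_of_le (show a ≤ g by omega) with rfl | h'
        exacts [h c hc, eq_zero_above E ha h' hc]))
    rw [ha] at hle
    have := WithTop.coe_le_coe.1 (WithBot.coe_le_coe.1 hle)
    omega
  obtain ⟨c₀, hc₀, hc₀0⟩ := hex
  let S := Submodule.torsionBySet R (E.H m n) m.toIdeal
  have hmemS : ∀ c, (∀ s ∈ m.toIdeal, s • c = 0) → c ∈ S := fun c hc =>
    (Submodule.mem_torsionBySet_iff _ _).2 fun s => hc s s.2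
  have hgen : ∀ c, (∀ s ∈ m.toIdeal, s • c = 0) → ∃ r : R, r • c₀ = c := fun c hc => by
    obtain ⟨r, hr⟩ := IsSimpleModule.toSpanSingleton_surjective R
      (show (⟨c₀, hmemS _ fun s hs => top_killed hmsp E ha hc₀ hs⟩ : S) ≠ 0 from
        fun h => hc₀0 (congrArg Subtype.val h)) ⟨c, hmemS c hc⟩
    exact ⟨r, congrArg Subtype.val hr⟩
  have hproj : ∀ g, ∀ c ∈ E.Hgr m n g, (∀ s ∈ m.toIdeal, s • c = 0) → ∃ r ∈ 𝒜 0, c = r • c₀ ∧ (c ≠ 0 → g = a) := by
    intro g c hc hk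
    obtain ⟨r, hr⟩ := hgen c hk
    have h1 : c = pr 𝒜 0 r • c₀ := by
      rw [← hr, ← sub_eq_zero, ← sub_smul]
      exact top_killed hmsp E ha hc₀ (sub_pr_zero_mem hpos hmsp r)
    refine ⟨_, pr_mem 0 r, h1, fun hne => by_contra fun hga => hne ?_⟩
    have h2 : c ∈ E.Hgr m n a := by
      rw [h1]
      have := smul_mem_gr (𝒜 := 𝒜) (pr_mem (ℳ := 𝒜) 0 r) hc₀
      rwa [zero_add] at this
    rw [← pr_of_mem hc]
    exact pr_of_ne h2 (Ne.symm hga)
  refine ⟨fun g c hc hne hk => ?_, c₀, hc₀, hc₀0, fun c hc => ?_⟩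
  · obtain ⟨-, -, -, h⟩ := hproj g c hc hk
    exact h hne
  · obtain ⟨r, hr, h, -⟩ := hproj a c hc fun s hs => top_killed hmsp E ha hc hs
    exact ⟨⟨r, hr⟩, h⟩

include hpos h0 hmsp ha in
/-- Gorenstein duality: the multiplication pairing into the top piece is nondegenerate on the cohomology. -/
theorem exists_smul_ne_zero [LocCoh.IsGorensteinRing R] (hn : ringKrullDim R = n) {g : ℤ} {c : E.H m n}
    (hc : c ∈ E.Hgr m n g) (hc0 : c ≠ 0) : ∃ r ∈ 𝒜 (a - g), r • c ≠ 0 := by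
  obtain ⟨e, r, hr, -, hne, hk⟩ := exists_socle_multiple hpos hmsp E ha hc hc0
  have hmem : r • c ∈ E.Hgr m n (e + g) := by
    obtain ⟨z, hz, rfl⟩ := hc
    exact ⟨r • z, (E.X n).gsmul.smul_mem hr hz, map_smul _ r z⟩
  have := (socle_degree hpos h0 hmsp E ha hn).1 _ _ hmem hne hk
  exact ⟨r, (show e = a - g by omega) ▸ hr, hne⟩

include hpos h0 hmsp ha in
/-- Gorenstein duality: the multiplication pairing is nondegenerate on the ring. -/
theorem exists_class_ne_zero [LocCoh.IsGorensteinRing R] (hn : ringKrullDim R = n) {e : ℤ} {r : R}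
    (hr : r ∈ 𝒜 e) (hr0 : r ≠ 0) : ∃ c ∈ E.Hgr m n (a - e), r • c ≠ 0 := by
  classical
  by_contra h
  push Not at h
  haveI := isCohenMacaulayRing_of_gorenstein (R := R)
  letI := (S13225.isInternal_Hgr E m n).chooseDecomposition
  refine hr0 (eq_zero_of_smul_top_cm hpos (isStarLocal_of_field hpos h0 hmsp) hmsp hn E hr fun c => ?_)
  induction c using GrInj.induction (E.Hgr m n) with
  | h0 => exact smul_zero r
  | hh g x hx =>
    by_contra hne
    have hmem : r • x ∈ E.Hgr m n (e + g) := by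
      obtain ⟨z, hz, rfl⟩ := hx
      exact ⟨r • z, (E.X n).gsmul.smul_mem hr hz, map_smul _ r z⟩
    obtain ⟨r', hr', hne'⟩ := exists_smul_ne_zero hpos h0 hmsp E ha hn hmem hne
    refine hne' ?_
    rw [smul_comm]
    refine h _ ?_
    obtain ⟨z, hz, rfl⟩ := hx
    refine ⟨r' • z, ?_, map_smul _ r' z⟩
    have := (E.X n).gsmul.smul_mem hr' hz
    rwa [vadd_eq_add, show a - (e + g) + g = a - e by omega] at this
  | hadd p q hp hq => rw [smul_add, hp, hq, add_zero]

include hpos h0 hmsp ha in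
/-- Gorenstein duality on dimensions. -/
theorem finrank_comp_eq_finrank_Hcomp [LocCoh.IsGorensteinRing R] (hn : ringKrullDim R = n) (e : ℤ) :
    Module.finrank (deg0 𝒜) (E.Hcomp m n (a - e)) = Module.finrank (deg0 𝒜) (comp 𝒜 𝒜 e) ∧
      Module.Finite (deg0 𝒜) (E.Hcomp m n (a - e)) := by
  letI := h0.toField
  obtain ⟨-, c₀, hc₀, hc₀0, hspan⟩ := socle_degree hpos h0 hmsp E ha hn
  obtain ⟨ψ, hψ, -⟩ := Submodule.exists_dual_map_eq_bot_of_notMem
    (p := (⊥ : Submodule (deg0 𝒜) (E.H m n))) (x := c₀) (by simpa using hc₀0) inferInstance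
  have hψz : ∀ c ∈ E.Hgr m n a, ψ c = 0 → c = 0 := fun c hc h => by
    obtain ⟨r, rfl⟩ := hspan c hc
    have h1 : ψ (r • c₀) = 0 := h
    rw [map_smul, smul_eq_mul, mul_eq_zero] at h1
    rcases h1 with h1 | h1
    · rw [h1]; exact zero_smul R c₀
    · exact absurd h1 hψ
  let β : comp 𝒜 𝒜 e →ₗ[deg0 𝒜] (E.Hcomp m n (a - e) →ₗ[deg0 𝒜] deg0 𝒜) :=
    LinearMap.mk₂ (deg0 𝒜) (fun r c => ψ ((r : R) • (c : E.H m n)))
      (fun p q c => by show ψ (((p : R) + q) • (c : E.H m n)) = _; rw [add_smul, map_add])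
      (fun t p c => by show ψ (((t : R) * p) • (c : E.H m n)) = _; rw [mul_smul, ← map_smul]; rfl)
      (fun p c d => by show ψ ((p : R) • ((c : E.H m n) + d)) = _; rw [smul_add, map_add])
      (fun t p c => by show ψ ((p : R) • ((t : R) • (c : E.H m n))) = _; rw [smul_comm, ← map_smul]; rfl)
  have hmem : ∀ (r : comp 𝒜 𝒜 e) (c : E.Hcomp m n (a - e)), (r : R) • (c : E.H m n) ∈ E.Hgr m n a := fun r c => by
    obtain ⟨z, hz, hzc⟩ := c.2
    refine ⟨(r : R) • z, ?_, by rw [map_smul, hzc]⟩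
    have := (E.X n).gsmul.smul_mem r.2 hz
    rwa [vadd_eq_add, add_sub_cancel] at this
  have hβ1 : Function.Injective β := (injective_iff_map_eq_zero _).2 fun r hr => by
    by_contra hne
    obtain ⟨c, hc, hne'⟩ := exists_class_ne_zero hpos h0 hmsp E ha hn r.2 fun h => hne (Subtype.ext h)
    exact hne' (hψz _ (hmem r ⟨c, hc⟩) (LinearMap.congr_fun hr ⟨c, hc⟩))
  have hβ2 : Function.Injective β.flip := (injective_iff_map_eq_zero _).2 fun c hc => by
    by_contra hne
    obtain ⟨r, hr, hne'⟩ := exists_smul_ne_zero hpos h0 hmsp E ha hn c.2 fun h => hne (Subtype.ext h)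
    rw [sub_sub_cancel] at hr
    exact hne' (hψz _ (hmem ⟨r, hr⟩ c) (LinearMap.congr_fun hc ⟨r, hr⟩))
  haveI := isNoetherian_piece 𝒜 (M := R) (ℳ := 𝒜) e
  haveI : Module.Finite (deg0 𝒜) (comp 𝒜 𝒜 e) := Module.IsNoetherian.finite _ _
  haveI hfin : Module.Finite (deg0 𝒜) (E.Hcomp m n (a - e)) := Module.Finite.of_injective β.flip hβ2
  refine ⟨le_antisymm ?_ ?_, hfin⟩
  · exact (LinearMap.finrank_le_finrank_of_injective hβ2).trans Subspace.dual_finrank_eq.le
  · exact (LinearMap.finrank_le_finrank_of_injective hβ1).trans Subspace.dual_finrank_eq.le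

end Groth.Agent.GrInj
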