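import Mathlib
import Groth.Agent.GrInj.GorDual

/-!
# The perfect pairing between a canonical module and top local cohomology over a field
-/

set_option autoImplicit false
set_option linter.unusedSectionVars false
universe u

namespace Groth.Agent.GrInj

open GrLC

/-- A pairing over a field without degeneracy on either side, with a finite side, is perfect. -/
theorem bijective_pairing {K : Type u} [CommRing K] (hK : IsField K) {V W : Type u} [AddCommGroup V] [Module K V]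
    [AddCommGroup W] [Module K W] [Module.Finite K V] (b : V →ₗ[K] W →ₗ[K] K) (h₁ : Function.Injective b)
    (h₂ : Function.Injective b.flip) : Function.Bijective b := by
  letI := hK.toField
  haveI : Module.Finite K W := Module.Finite.of_injective b.flip h₂
  refine ⟨h₁, (LinearMap.injective_iff_surjective_of_finrank_eq_finrank ?_).1 h₁⟩
  refine le_antisymm ?_ ?_
  · exact LinearMap.finrank_le_finrank_of_injective h₁
  · rw [Subspace.dual_finrank_eq]
    refine (LinearMap.finrank_le_finrank_of_injective h₂).trans ?_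
    rw [Subspace.dual_finrank_eq]

variable {R : Type u} [CommRing R] [IsNoetherianRing R] {𝒜 : ℤ → AddSubgroup R} [GradedRing 𝒜]
  {m : HomogeneousIdeal 𝒜}
variable {C : Type u} [AddCommGroup C] [Module R C] {𝒞 : ℤ → AddSubgroup C} [DirectSum.Decomposition 𝒞]
  [SetLike.GradedSMul 𝒜 𝒞]
variable {E' : Type u} [AddCommGroup E'] [Module R E'] {𝓔 : ℤ → AddSubgroup E'} [DirectSum.Decomposition 𝓔]
  [SetLike.GradedSMul 𝒜 𝓔]

variable (𝒞 𝓔) in
/-- The component of degree `t` of a linear map, as an additive map. -/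
noncomputable def mapPart (f : C →ₗ[R] E') (t : ℤ) : C →+ E' :=
  (DirectSum.toAddMonoid fun g => (pr 𝓔 (g + t)).comp (f.toAddMonoidHom.comp (𝒞 g).subtype)).comp
    (DirectSum.decomposeAddEquiv 𝒞).toAddMonoidHom

theorem mapPart_apply (f : C →ₗ[R] E') (t : ℤ) {g : ℤ} {x : C} (hx : x ∈ 𝒞 g) :
    mapPart 𝒞 𝓔 f t x = pr 𝓔 (g + t) (f x) := by
  show DirectSum.toAddMonoid _ (DirectSum.decompose 𝒞 x) = _
  rw [DirectSum.decompose_of_mem 𝒞 hx, DirectSum.toAddMonoid_of]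
  rfl

variable (𝒜) in
/-- The component of degree `t` of a linear map. -/
theorem exists_homDeg_part (f : C →ₗ[R] E') (t : ℤ) :
    ∃ ft ∈ homDeg 𝒜 𝒞 𝓔 t, ∀ g, ∀ x ∈ 𝒞 g, ft x = pr 𝓔 (g + t) (f x) := by
  refine ⟨{ toFun := mapPart 𝒞 𝓔 f t, map_add' := map_add _, map_smul' := fun r x => ?_ },
    fun g x hx => ?_, fun g x hx => mapPart_apply f t hx⟩
  · rw [RingHom.id_apply]
    induction x using GrInj.induction 𝒞 with
    | h0 => rw [smul_zero, map_zero, smul_zero]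
    | hh g x hx =>
      induction r using GrInj.induction 𝒜 with
      | h0 => rw [zero_smul, map_zero, zero_smul]
      | hh d r hr =>
        rw [mapPart_apply f t (smul_mem_gr hr hx), mapPart_apply f t hx, map_smul, pr_smul' hr,
          show d + g + t - d = g + t by ring]
      | hadd a b ha hb => rw [add_smul, map_add, ha, hb, add_smul]
    | hadd a b ha hb => rw [smul_add, map_add, ha, hb, map_add, smul_add]
  · show mapPart 𝒞 𝓔 f t x ∈ 𝓔 (g + t)
    rw [mapPart_apply f t hx]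
    exact pr_mem _ _

/-- An isomorphism out of `Hom` sending degree `d` to degree `d` has a homogeneous inverse. -/
theorem symm_mem_homDeg [Module.Finite R C] {H : Type u} [AddCommGroup H] [Module R H]
    {ℋ : ℤ → AddSubgroup H} [DirectSum.Decomposition ℋ] (φ : (C →ₗ[R] E') ≃ₗ[R] H)
    (hφ : IsGrHom (fun d => (homDeg 𝒜 𝒞 𝓔 d).toAddSubgroup) ℋ φ.toLinearMap) {d : ℤ} {h : H}
    (hh : h ∈ ℋ d) : φ.symm h ∈ homDeg 𝒜 𝒞 𝓔 d := by
  classical
  choose ft hft hft' using fun t => exists_homDeg_part 𝒜 (𝒞 := 𝒞) (𝓔 := 𝓔) (φ.symm h) t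
  obtain ⟨N, deg, v, hv, hspan⟩ := exists_hom_gens (R := R) (ℳ := 𝒞)
  let S : Finset ℤ := Finset.univ.biUnion fun i => (supp 𝓔 (φ.symm h (v i))).image fun j => j - deg i
  have hsum : φ.symm h = ∑ t ∈ S, ft t := by
    refine LinearMap.ext_on_range hspan fun i => ?_
    rw [LinearMap.sum_apply]
    conv_lhs => rw [← sum_supp (ℳ := 𝓔) (φ.symm h (v i))]
    simp only [fun t => hft' t (deg i) (v i) (hv i)]
    rw [← Finset.sum_image (g := fun t => deg i + t) (f := fun j => pr 𝓔 j (φ.symm h (v i)))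
      (fun a _ b _ hab => add_left_cancel hab)]
    refine Finset.sum_subset (fun j hj => ?_) fun j _ hj => pr_eq_zero hj
    exact Finset.mem_image.2 ⟨j - deg i,
      Finset.mem_biUnion.2 ⟨i, Finset.mem_univ _, Finset.mem_image.2 ⟨j, hj, rfl⟩⟩, add_sub_cancel _ _⟩
  have hmem : ∀ t, φ (ft t) ∈ ℋ t := fun t => hφ t _ (hft t)
  have hzero : ∀ t ∈ S, t ≠ d → ft t = 0 := fun t ht htd => by
    refine φ.map_eq_zero_iff.1 ?_
    have h1 := congrArg (pr ℋ t) (congrArg φ hsum)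
    rw [φ.apply_symm_apply, pr_of_ne hh (Ne.symm htd), map_sum, map_sum,
      Finset.sum_eq_single t (fun s _ hs => pr_of_ne (hmem s) hs) (fun hns => absurd ht hns),
      pr_of_mem (hmem t)] at h1
    exact h1.symm
  rw [hsum]
  refine sum_mem fun t ht => ?_
  by_cases htd : t = d
  · subst htd; exact hft t
  · rw [hzero t ht htd]; exact zero_mem _

variable (hpos : ∀ n : ℤ, n < 0 → 𝒜 n = ⊥) (h0 : IsField (deg0 𝒜))
  (hmsp : m.toIdeal = Ideal.span (⋃ n ∈ Set.Ioi (0 : ℤ), (𝒜 n : Set R)))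
  {e : (R ⧸ m.toIdeal) →ₗ[R] E'}

include hpos h0 hmsp in
theorem eq_zero_of_mem_star {c : deg0 𝒜} (hc : (c : R) ∈ m.toIdeal) : c = 0 := by
  by_contra hc0
  obtain ⟨t, ht⟩ := h0.mul_inv_cancel hc0
  refine star_ne_top (isStarLocal_of_field hpos h0 hmsp) ((Ideal.eq_top_iff_one _).2 ?_)
  rw [show (1 : R) = (c : R) * (t : R) from (congrArg Subtype.val ht).symm]
  exact m.toIdeal.mul_mem_right _ hc

theorem e_one_mem (he : IsStarEss (quotGr 𝒜 m) 𝓔 e) : e (Ideal.Quotient.mk m.toIdeal 1) ∈ 𝓔 0 :=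
  he.grHom 0 _ ⟨1, SetLike.one_mem_graded 𝒜, rfl⟩

theorem smul_e_one (e : (R ⧸ m.toIdeal) →ₗ[R] E') (r : R) :
    r • e (Ideal.Quotient.mk m.toIdeal 1) = e (Ideal.Quotient.mk m.toIdeal r) := by
  rw [← map_smul]
  exact congrArg e ((Submodule.Quotient.mk_smul _ r (1 : R)).symm.trans (by rw [smul_eq_mul, mul_one]; rfl))

include hpos hmsp in
/-- Nonzero homogeneous elements reach the socle. -/
theorem reach_socle (he : IsStarEss (quotGr 𝒜 m) 𝓔 e) {g : ℤ} {y : E'} (hy : y ∈ 𝓔 g) (hy0 : y ≠ 0) :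
    ∃ t ∈ 𝒜 (-g), t • y ≠ 0 ∧ ∃ c : deg0 𝒜, t • y = (c : R) • e (Ideal.Quotient.mk m.toIdeal 1) := by
  obtain ⟨w, ⟨hw, z, hz⟩, hw0⟩ := Submodule.exists_mem_ne_zero_of_ne_bot
    (he.essential (Submodule.span R {y}) (hom_span_singleton 𝒜 hy)
      (by simpa [Submodule.span_singleton_eq_bot] using hy0))
  obtain ⟨r, rfl⟩ := Submodule.mem_span_singleton.1 hw
  obtain ⟨s, rfl⟩ := Ideal.Quotient.mk_surjective z
  have hs : r • y = pr 𝒜 0 s • e (Ideal.Quotient.mk m.toIdeal 1) := by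
    rw [← hz, smul_e_one]
    exact congrArg e (Ideal.Quotient.eq.2 (sub_pr_zero_mem hpos hmsp s))
  have hd : r • y ∈ 𝓔 0 := by
    have h := smul_mem_gr (ℳ := 𝓔) (pr_mem (ℳ := 𝒜) 0 s) (e_one_mem he)
    rw [add_zero, ← hs] at h
    exact h
  have heq : pr 𝒜 (-g) r • y = r • y := by
    conv_rhs => rw [← pr_of_mem hd]
    have h := pr_map (ℳ := 𝒜) (𝒩 := 𝓔) (f := (smulAddHom R E').flip y) (d := g)
      (fun a b hb => smul_mem_gr hb hy) (-g) r
    rw [neg_add_cancel] at h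
    exact h.symm
  exact ⟨pr 𝒜 (-g) r, pr_mem _ r, heq ▸ hw0, ⟨pr 𝒜 0 s, pr_mem 0 s⟩, heq.trans hs⟩

include hpos h0 hmsp in
theorem coeff_unique (he : IsStarEss (quotGr 𝒜 m) 𝓔 e) {c c' : deg0 𝒜}
    (h : (c : R) • e (Ideal.Quotient.mk m.toIdeal 1) = (c' : R) • e (Ideal.Quotient.mk m.toIdeal 1)) : c = c' := by
  rw [smul_e_one, smul_e_one] at h
  exact sub_eq_zero.1 (eq_zero_of_mem_star hpos h0 hmsp (Ideal.Quotient.eq.1 (he.injective h)))

include hpos h0 hmsp in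
theorem exists_coeff (he : IsStarEss (quotGr 𝒜 m) 𝓔 e) {y : E'} (hy : y ∈ 𝓔 0) :
    ∃ c : deg0 𝒜, y = (c : R) • e (Ideal.Quotient.mk m.toIdeal 1) := by
  by_cases hy0 : y = 0
  · exact ⟨0, by rw [hy0, ZeroMemClass.coe_zero, zero_smul]⟩
  obtain ⟨t, ht, hty, c, hc⟩ := reach_socle hpos hmsp he hy hy0
  rw [neg_zero] at ht
  obtain ⟨s, hs⟩ := h0.mul_inv_cancel (a := ⟨t, ht⟩) fun h => hty (by
    rw [show t = 0 from congrArg Subtype.val h, zero_smul])
  refine ⟨s * c, ?_⟩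
  rw [Subring.coe_mul, mul_smul, ← hc, smul_smul, mul_comm,
    show t * (s : R) = 1 from congrArg Subtype.val hs, one_smul]

include hpos h0 hmsp in
/-- A nonzero homogeneous element is detected by a homogeneous map. -/
theorem exists_functional (he : IsStarInjHull 𝒜 (quotGr 𝒜 m) 𝓔 e) {j : ℤ} {x : C} (hx : x ∈ 𝒞 j)
    (hx0 : x ≠ 0) : ∃ f ∈ homDeg 𝒜 𝒞 𝓔 (-j), f x = e (Ideal.Quotient.mk m.toIdeal 1) := by
  let Xc : GMod.{u} 𝒜 := GMod.of 𝒜 C 𝒞
  let B : GMod.{u} 𝒜 := shMod 𝒜 Xc (-j)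
  let τ : R →ₗ[R] B.carrier := LinearMap.toSpanSingleton R C x
  have hτ : IsGrHom 𝒜 B.gr τ := fun i r hr => by
    show r • x ∈ 𝒞 (i - -j)
    rw [sub_neg_eq_add]
    exact smul_mem_gr hr hx
  let K : Submodule R R := LinearMap.ker τ
  have hK : K.IsHomogeneous 𝒜 := hom_ker hτ
  have hKm : K ≤ m.toIdeal := by
    intro r hr
    have hc : pr 𝒜 0 r • x = 0 := LinearMap.mem_ker.1 (hK 0 hr)
    have h1 : pr 𝒜 0 r = 0 := by
      by_contra hne
      obtain ⟨s, hs⟩ := h0.mul_inv_cancel (a := ⟨pr 𝒜 0 r, pr_mem 0 r⟩)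
        fun h => hne (congrArg Subtype.val h)
      refine hx0 ?_
      rw [← one_smul R x, show (1 : R) = (s : R) * pr 𝒜 0 r from
        ((mul_comm _ _).trans (congrArg Subtype.val hs)).symm, mul_smul, hc, smul_zero]
    have := sub_pr_zero_mem hpos hmsp r
    rwa [h1, sub_zero] at this
  let A : GMod.{u} 𝒜 := quoMod 𝒜 K hK
  let ι : A.carrier →ₗ[R] B.carrier := K.liftQ τ le_rfl
  have hι : IsGrHom A.gr B.gr ι := by
    rintro i _ ⟨r, hr, rfl⟩
    exact hτ i r hr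
  have hιi : Function.Injective ι :=
    LinearMap.ker_eq_bot.1 (Submodule.ker_liftQ_eq_bot K τ le_rfl le_rfl)
  let g₀ : A.carrier →ₗ[R] E' :=
    K.liftQ (LinearMap.toSpanSingleton R E' (e (Ideal.Quotient.mk m.toIdeal 1))) fun r hr => by
      rw [LinearMap.mem_ker, LinearMap.toSpanSingleton_apply, smul_e_one,
        Ideal.Quotient.eq_zero_iff_mem.2 (hKm hr), map_zero]
  have hg₀ : IsGrHom A.gr 𝓔 g₀ := by
    rintro i _ ⟨r, hr, rfl⟩
    show r • e (Ideal.Quotient.mk m.toIdeal 1) ∈ 𝓔 i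
    have h := smul_mem_gr (ℳ := 𝓔) hr (e_one_mem he.toIsStarEss)
    rwa [add_zero] at h
  obtain ⟨f, hf, hfg⟩ := he.starInj A B ι hι hιi g₀ hg₀
  refine ⟨f, fun g y hy => ?_, ?_⟩
  · refine hf (g + -j) y ?_
    show y ∈ 𝒞 (g + -j - -j)
    rwa [add_sub_cancel_right]
  · have h := LinearMap.congr_fun hfg (K.mkQ 1)
    have h1 : ι (K.mkQ 1) = x := one_smul R x
    have h2 : g₀ (K.mkQ 1) = e (Ideal.Quotient.mk m.toIdeal 1) := one_smul R _
    rw [← h2, ← h, LinearMap.comp_apply, h1]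
    rfl

include hpos h0 hmsp in
/-- The perfect pairing of the pieces of a canonical module with those of top local cohomology. -/
theorem exists_rep [Module.Finite R C] (he : IsStarInjHull 𝒜 (quotGr 𝒜 m) 𝓔 e) {H : Type u} [AddCommGroup H]
    [Module R H] {ℋ : ℤ → AddSubgroup H} [DirectSum.Decomposition ℋ] [SetLike.GradedSMul 𝒜 ℋ]
    (φ : (C →ₗ[R] E') ≃ₗ[R] H) (hφ : IsGrHom (fun d => (homDeg 𝒜 𝒞 𝓔 d).toAddSubgroup) ℋ φ.toLinearMap)
    (j : ℤ) (u : comp 𝒜 ℋ (-j) →ₗ[deg0 𝒜] deg0 𝒜) :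
    ∃! x : comp 𝒜 𝒞 j, ∀ h : comp 𝒜 ℋ (-j),
      φ.symm (h : H) (x : C) = (u h : R) • e (Ideal.Quotient.mk m.toIdeal 1) := by
  haveI := isNoetherian_piece 𝒜 (ℳ := 𝒞) j
  have hval : ∀ (x : comp 𝒜 𝒞 j) (h : comp 𝒜 ℋ (-j)), φ.symm (h : H) (x : C) ∈ 𝓔 0 := fun x h => by
    have h1 := symm_mem_homDeg φ hφ h.2 j x.1 x.2
    rwa [add_neg_cancel] at h1
  choose c hc using fun x h => exists_coeff hpos h0 hmsp he.toIsStarEss (hval x h)
  have hu := fun (a a' : deg0 𝒜) => coeff_unique hpos h0 hmsp he.toIsStarEss (c := a) (c' := a')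
  let b : comp 𝒜 𝒞 j →ₗ[deg0 𝒜] comp 𝒜 ℋ (-j) →ₗ[deg0 𝒜] deg0 𝒜 := LinearMap.mk₂ _ c
    (fun x x' h => hu _ _ (by
      rw [← hc, Subring.coe_add, add_smul, ← hc, ← hc, Submodule.coe_add, map_add]))
    (fun a x h => hu _ _ (by
      rw [← hc, smul_eq_mul, Subring.coe_mul, mul_smul, ← hc, ← map_smul]
      rfl))
    (fun x h h' => hu _ _ (by
      rw [← hc, Subring.coe_add, add_smul, ← hc, ← hc, Submodule.coe_add, map_add, LinearMap.add_apply]))
    (fun a x h => hu _ _ (by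
      rw [← hc, smul_eq_mul, Subring.coe_mul, mul_smul, ← hc, ← LinearMap.smul_apply, ← map_smul]
      rfl))
  have hb₁ : Function.Injective b := (injective_iff_map_eq_zero b).2 fun x hx => by
    by_contra hx0
    obtain ⟨f, hf, hfx⟩ := exists_functional hpos h0 hmsp he x.2 fun h => hx0 (Subtype.ext h)
    have h1 := hc x ⟨φ f, hφ (-j) f hf⟩
    rw [φ.symm_apply_apply, hfx, show c x ⟨φ f, _⟩ = 0 from LinearMap.congr_fun hx ⟨φ f, hφ (-j) f hf⟩] at h1
    have h2 : (1 : deg0 𝒜) = 0 := hu 1 0 (by rw [OneMemClass.coe_one, one_smul]; exact h1)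
    exact hx0 (by rw [← one_smul (deg0 𝒜) x, h2, zero_smul])
  have hb₂ : Function.Injective b.flip := (injective_iff_map_eq_zero b.flip).2 fun h hh => by
    have hdeg := symm_mem_homDeg φ hφ h.2
    refine Subtype.ext (φ.symm.map_eq_zero_iff.1 (hom_ext (ℳ := 𝒞) fun g y hy => ?_))
    rw [LinearMap.zero_apply]
    by_contra hy0
    obtain ⟨t, ht, hty, -⟩ := reach_socle hpos hmsp he.toIsStarEss (hdeg g y hy) hy0
    have hmem : t • y ∈ 𝒞 j := by
      have h' := smul_mem_gr (ℳ := 𝒞) ht hy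
      rwa [show -(g + -j) + g = j by ring] at h'
    refine hty ?_
    rw [← map_smul]
    refine (hc ⟨t • y, hmem⟩ h).trans ?_
    rw [show c ⟨t • y, hmem⟩ h = 0 from LinearMap.congr_fun hh ⟨t • y, hmem⟩, ZeroMemClass.coe_zero, zero_smul]
  obtain ⟨hi, hs⟩ := bijective_pairing h0 b hb₁ hb₂
  obtain ⟨x, hx⟩ := hs u
  refine ⟨x, fun h => ?_, fun y hy => hi ?_⟩
  · rw [← hx]; exact hc x h
  · rw [hx]
    exact LinearMap.ext fun h => hu _ _ ((hc y h).symm.trans (hy h))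

end Groth.Agent.GrInj
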