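import Mathlib
import Groth.Agent.GrInj.GorCrit
import Groth.Agent.GrInj.Faithful
import Groth.Agent.GrInj.Prime

/-!
# The socle of top local cohomology through a canonical module
-/

set_option autoImplicit false
universe u

namespace Groth.Agent.GrInj

open GrLC

variable {R : Type u} [CommRing R] {𝒜 : ℤ → AddSubgroup R} [GradedRing 𝒜] {m : HomogeneousIdeal 𝒜}

/-- Maps into an essential extension of the residue field killed by the maximal ideal. -/
theorem length_socle_dual [IsNoetherianRing R] [m.toIdeal.IsMaximal] {E' : Type u} [AddCommGroup E'] [Module R E']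
    {𝓔 : ℤ → AddSubgroup E'} [DirectSum.Decomposition 𝓔] [SetLike.GradedSMul 𝒜 𝓔] (e : (R ⧸ m.toIdeal) →ₗ[R] E')
    (he : IsStarEss (quotGr 𝒜 m) 𝓔 e) (C : Type u) [AddCommGroup C] [Module R C] [Module.Finite R C] {H : Type u}
    [AddCommGroup H] [Module R H] (φ : (C →ₗ[R] E') ≃ₗ[R] H) :
    Module.length R (Submodule.torsionBySet R H m.toIdeal) =
      (Module.finrank (R ⧸ m.toIdeal) (TensorProduct R (R ⧸ m.toIdeal) C) : ℕ∞) := by
  classical
  let k := R ⧸ m.toIdeal
  letI : Field k := Ideal.Quotient.field m.toIdeal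
  let Cb := TensorProduct R k C
  let S := Submodule.torsionBySet R E' m.toIdeal
  have hrange : LinearMap.range e = S := by
    refine le_antisymm ?_ fun y hy => ?_
    · rintro _ ⟨z, rfl⟩
      exact (Submodule.mem_torsionBySet_iff _ _).2 fun a => by
        show (a : R) • e z = 0
        rw [← map_smul, smul_eq_zero_of_mem a.2, map_zero]
    · by_cases hy0 : y = 0
      · rw [hy0]; exact zero_mem _
      obtain ⟨w, ⟨hw, hwr⟩, hw0⟩ := Submodule.exists_mem_ne_zero_of_ne_bot
        ((isEssentialInj 𝒜 he).essential (Submodule.span R {y}) (by simpa [Submodule.span_singleton_eq_bot] using hy0))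
      obtain ⟨r, rfl⟩ := Submodule.mem_span_singleton.1 hw
      have hkill : ∀ a ∈ m.toIdeal, a • y = 0 := fun a ha => (Submodule.mem_torsionBySet_iff _ _).1 hy ⟨a, ha⟩
      have hr : r ∉ m.toIdeal := fun h => hw0 (hkill r h)
      obtain ⟨t, i, hi, hti⟩ := Ideal.IsMaximal.exists_inv inferInstance hr
      rw [← one_smul R y, ← hti, add_smul, mul_smul, hkill i hi, add_zero]
      exact Submodule.smul_mem _ t hwr
  let ι : k ≃ₗ[R] S := (LinearEquiv.ofInjective e he.injective).trans (LinearEquiv.ofEq _ _ hrange)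
  let q : C →ₗ[R] Cb := TensorProduct.mk R k C 1
  have hq : Function.Surjective q := fun z => by
    induction z using TensorProduct.induction_on with
    | zero => exact ⟨0, map_zero _⟩
    | tmul a c =>
      obtain ⟨a, rfl⟩ := Ideal.Quotient.mk_surjective a
      refine ⟨a • c, ?_⟩
      show (1 : k) ⊗ₜ[R] (a • c) = _
      rw [← TensorProduct.smul_tmul, Algebra.smul_def, mul_one]
      rfl
    | add x y hx hy =>
      obtain ⟨x, rfl⟩ := hx
      obtain ⟨y, rfl⟩ := hy
      exact ⟨x + y, map_add _ _ _⟩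
  have hqker : LinearMap.ker q = m.toIdeal • ⊤ := by
    rw [show q = (TensorProduct.quotTensorEquivQuotSMul C m.toIdeal).symm.toLinearMap ∘ₗ Submodule.mkQ _ from
      LinearMap.ext fun c => by
        refine ((TensorProduct.quotTensorEquivQuotSMul C m.toIdeal).symm_apply_eq.2 ?_).symm
        show Submodule.Quotient.mk c = TensorProduct.quotTensorEquivQuotSMul C m.toIdeal ((Ideal.Quotient.mk m.toIdeal 1) ⊗ₜ[R] c)
        rw [TensorProduct.quotTensorEquivQuotSMul_mk_tmul, one_smul]]
    rw [LinearEquiv.ker_comp, Submodule.ker_mkQ]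
  let θ : (Cb →ₗ[R] k) →ₗ[R] Submodule.torsionBySet R H m.toIdeal :=
    LinearMap.codRestrict _
      { toFun := fun f => φ (S.subtype ∘ₗ ι.toLinearMap ∘ₗ f ∘ₗ q)
        map_add' := fun f g => by
          rw [← map_add]; congr 1
          exact LinearMap.ext fun c => map_add (S.subtype ∘ₗ ι.toLinearMap) (f (q c)) (g (q c))
        map_smul' := fun r f => by
          rw [RingHom.id_apply, ← map_smul]; congr 1
          exact LinearMap.ext fun c => map_smul (S.subtype ∘ₗ ι.toLinearMap) r (f (q c)) }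
      fun f => (Submodule.mem_torsionBySet_iff _ _).2 fun a => by
        show (a : R) • φ _ = 0
        rw [← map_smul, show (a : R) • (S.subtype ∘ₗ ι.toLinearMap ∘ₗ f ∘ₗ q) = 0 from LinearMap.ext fun c =>
          (Submodule.mem_torsionBySet_iff _ _).1 (ι (f (q c))).2 a, map_zero]
  have hθ : Function.Bijective θ := by
    refine ⟨(injective_iff_map_eq_zero _).2 fun f hf => ?_, fun x => ?_⟩
    · have h1 := φ.map_eq_zero_iff.1 (congrArg Subtype.val hf)
      refine LinearMap.ext fun z => ?_
      obtain ⟨c, rfl⟩ := hq z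
      exact ι.map_eq_zero_iff.1 (Subtype.ext (LinearMap.congr_fun h1 c))
    · let lam := φ.symm (x : H)
      have hlam : ∀ c, lam c ∈ S := fun c => (Submodule.mem_torsionBySet_iff _ _).2 fun a => by
        show (a : R) • lam c = 0
        rw [← LinearMap.smul_apply, ← map_smul,
          show (a : R) • (x : H) = 0 from (Submodule.mem_torsionBySet_iff _ _).1 x.2 a, map_zero]
        rfl
      let g : C →ₗ[R] k := ι.symm.toLinearMap ∘ₗ lam.codRestrict S hlam
      have hker : LinearMap.ker q ≤ LinearMap.ker g := by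
        rw [hqker]
        refine Submodule.smul_le.2 fun a ha c _ => ?_
        rw [LinearMap.mem_ker, map_smul]
        exact smul_eq_zero_of_mem ha _
      refine ⟨(LinearMap.ker q).liftQ g hker ∘ₗ (q.quotKerEquivOfSurjective hq).symm.toLinearMap, Subtype.ext ?_⟩
      show φ _ = (x : H)
      rw [← φ.apply_symm_apply (x : H)]
      congr 1
      refine LinearMap.ext fun c => ?_
      have h2 : (q.quotKerEquivOfSurjective hq).symm (q c) = Submodule.Quotient.mk c :=
        (q.quotKerEquivOfSurjective hq).symm_apply_eq.2 rfl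
      show ((ι (((LinearMap.ker q).liftQ g hker) ((q.quotKerEquivOfSurjective hq).symm (q c)))) : E') = lam c
      rw [h2, Submodule.liftQ_apply]
      exact congrArg Subtype.val (ι.apply_symm_apply ⟨lam c, hlam c⟩)
  have hsurj : Function.Surjective (algebraMap R k) := Ideal.Quotient.mk_surjective
  rw [← (LinearEquiv.ofBijective θ hθ).length_eq, (LinearMap.extendScalarsOfSurjectiveEquiv hsurj).length_eq,
    Module.length_eq_of_surjective hsurj, Module.length_eq_finrank]
  exact congrArg (Nat.cast (R := ℕ∞)) Subspace.dual_finrank_eq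

variable {C : Type u} [AddCommGroup C] [Module R C] [Module.Finite R C] {𝒞 : ℤ → AddSubgroup C}
  [DirectSum.Decomposition 𝒞] [SetLike.GradedSMul 𝒜 𝒞]

/-- Graded Nakayama for one generator. -/
theorem exists_generator [m.toIdeal.IsMaximal] (hpos : ∀ n : ℤ, n < 0 → 𝒜 n = ⊥) (hr0 : ∀ r ∈ m.toIdeal, pr 𝒜 0 r = 0)
    (h : Module.finrank (R ⧸ m.toIdeal) (TensorProduct R (R ⧸ m.toIdeal) C) = 1) :
    ∃ (d : ℤ) (x : C), x ∈ 𝒞 d ∧ Submodule.span R {x} = ⊤ := by
  classical
  letI : Field (R ⧸ m.toIdeal) := Ideal.Quotient.field m.toIdeal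
  let Cb := TensorProduct R (R ⧸ m.toIdeal) C
  let q : C →ₗ[R] Cb := TensorProduct.mk R (R ⧸ m.toIdeal) C 1
  have hq0 : ∀ y : C, y ∈ m.toIdeal • (⊤ : Submodule R C) ↔ q y = 0 := fun y => by
    rw [← (TensorProduct.quotTensorEquivQuotSMul C m.toIdeal).map_eq_zero_iff (x := q y)]
    show _ ↔ TensorProduct.quotTensorEquivQuotSMul C m.toIdeal ((Ideal.Quotient.mk m.toIdeal 1) ⊗ₜ[R] y) = 0
    rw [TensorProduct.quotTensorEquivQuotSMul_mk_tmul, one_smul, Submodule.Quotient.mk_eq_zero]
  obtain ⟨d, x, hx, hx0⟩ : ∃ (d : ℤ) (x : C), x ∈ 𝒞 d ∧ q x ≠ 0 := by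
    by_contra hno
    push Not at hno
    have hq : ∀ y, q y = 0 := fun y => by
      induction y using GrInj.induction 𝒞 with
      | h0 => exact map_zero _
      | hh i x hx => exact hno i x hx
      | hadd a b ha hb => rw [map_add, ha, hb, add_zero]
    have : Subsingleton Cb := subsingleton_of_forall_eq 0 fun z => by
      induction z using TensorProduct.induction_on with
      | zero => rfl
      | tmul a c =>
        obtain ⟨a, rfl⟩ := Ideal.Quotient.mk_surjective a
        rw [show Ideal.Quotient.mk m.toIdeal a = a • (1 : R ⧸ m.toIdeal) by rw [Algebra.smul_def, mul_one]; rfl,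
          TensorProduct.smul_tmul]
        exact hq _
      | add a b ha hb => rw [ha, hb, add_zero]
    rw [Module.finrank_zero_of_subsingleton] at h
    exact one_ne_zero h.symm
  refine ⟨d, x, hx, ?_⟩
  let P : Submodule R C := Submodule.span R {x}
  have hle : (⊤ : Submodule R (C ⧸ P)) ≤ m.toIdeal • ⊤ := by
    intro z _
    obtain ⟨y, rfl⟩ := Submodule.mkQ_surjective P z
    obtain ⟨c, hc⟩ := exists_smul_eq_of_finrank_eq_one h hx0 (q y)
    obtain ⟨c, rfl⟩ := Ideal.Quotient.mk_surjective c
    have hmem : y - c • x ∈ m.toIdeal • (⊤ : Submodule R C) := (hq0 _).2 (by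
      rw [map_sub, map_smul, ← hc, ← algebraMap_smul (R ⧸ m.toIdeal) c (q x), Ideal.Quotient.algebraMap_eq, sub_self])
    have h2 := Submodule.mem_map_of_mem (f := P.mkQ) hmem
    rw [Submodule.map_smul'', Submodule.map_top, Submodule.range_mkQ, map_sub, map_smul,
      show P.mkQ x = 0 from (Submodule.Quotient.mk_eq_zero P).2 (Submodule.mem_span_singleton_self x), smul_zero,
      sub_zero] at h2
    exact h2
  obtain ⟨r, hr1, hr⟩ := Submodule.exists_sub_one_mem_and_smul_eq_zero_of_fg_of_le_smul m.toIdeal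
    (⊤ : Submodule R (C ⧸ P)) Module.Finite.fg_top hle
  have hr' : pr 𝒜 0 r = 1 := by
    have := hr0 _ hr1
    rwa [map_sub, pr_of_mem (SetLike.one_mem_graded 𝒜), sub_eq_zero] at this
  have key : ∀ t : ℕ, ∀ g : ℤ, ∀ y ∈ 𝒞 g, (t : ℤ) = 0 → y ∈ P := by
    intro t g y hy _
    have hmem : r • y ∈ P := (Submodule.Quotient.mk_eq_zero P).1 (hr (P.mkQ y) trivial)
    have h3 := hom_span_singleton 𝒜 hx g hmem
    have h4 : pr 𝒞 g (r • y) = y := by
      rw [← sum_supp (ℳ := 𝒜) r, Finset.sum_smul, map_sum, Finset.sum_eq_single 0]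
      · rw [hr', one_smul, pr_of_mem hy]
      · intro i _ hi
        exact pr_of_ne (smul_mem_gr (pr_mem (ℳ := 𝒜) i r) hy) (by omega)
      · intro hns
        rw [pr_eq_zero hns, zero_smul, map_zero]
    rw [← h4]; exact h3
  refine eq_top_iff.2 fun y _ => ?_
  induction y using GrInj.induction 𝒞 with
  | h0 => exact zero_mem _
  | hh i y hy => exact key 0 i y hy rfl
  | hadd a b ha hb => exact add_mem (ha trivial) (hb trivial)

end Groth.Agent.GrInj
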