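import Groth.Agent.GrInj.Basic

/-!
# Passing from gradings by any additive subgroups to gradings by `AddSubgroup`s
-/

set_option autoImplicit false
set_option linter.unusedSectionVars false
universe u

namespace Groth.Agent.GrInj.Conv

open GrLC

variable {ι : Type} [AddCommGroup ι] [DecidableEq ι]

section Fam
variable {M : Type u} [AddCommGroup M] {τ : Type u} [SetLike τ M] [AddSubgroupClass τ M] (ℳ : ι → τ)

/-- The pieces as additive subgroups. -/
def grp (i : ι) : AddSubgroup M := AddSubgroup.ofClass (ℳ i)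

variable [DirectSum.Decomposition ℳ]

theorem isInternal : DirectSum.IsInternal (grp ℳ) := by
  classical
  refine GrInj.isInternal_of _ (fun i => AddMonoidHom.mk' (fun x => (DirectSum.decompose ℳ x i : M))
    fun x y => by simp) (fun i x hx => DirectSum.decompose_of_mem_same ℳ (show x ∈ ℳ i from hx))
    (fun i j h x hx => DirectSum.decompose_of_mem_ne ℳ (show x ∈ ℳ i from hx) h) fun x => ?_
  rw [← DirectSum.sum_support_decompose ℳ x]
  exact sum_mem fun i _ => le_iSup (grp ℳ) i (DirectSum.decompose ℳ x i).2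

noncomputable instance dec : DirectSum.Decomposition (grp ℳ) := (isInternal ℳ).chooseDecomposition

theorem pr_eq (i : ι) (x : M) : GrInj.pr (grp ℳ) i x = (DirectSum.decompose ℳ x i : M) := by
  induction x using DirectSum.Decomposition.inductionOn ℳ with
  | zero => simp
  | @homogeneous j y =>
    rcases eq_or_ne j i with rfl | h
    · rw [GrInj.pr_of_mem (show (y : M) ∈ grp ℳ j from y.2), DirectSum.decompose_of_mem_same ℳ y.2]
    · rw [GrInj.pr_of_ne (show (y : M) ∈ grp ℳ j from y.2) h, DirectSum.decompose_of_mem_ne ℳ y.2 h]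
  | add a b ha hb => simp [map_add, ha, hb]

end Fam

variable {R : Type u} [CommRing R] {σ : Type u} [SetLike σ R] [AddSubgroupClass σ R]
  (𝒜 : ι → σ) [GradedRing 𝒜]

instance gradedMonoid : SetLike.GradedMonoid (grp 𝒜) where
  one_mem := show (1 : R) ∈ 𝒜 0 from SetLike.GradedOne.one_mem
  mul_mem i j gi gj hi hj := show gi * gj ∈ 𝒜 (i + j) from SetLike.GradedMul.mul_mem hi hj

noncomputable instance gradedRing : GradedRing (grp 𝒜) := { Conv.gradedMonoid 𝒜, Conv.dec 𝒜 with }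

/-- A homogeneous ideal for the new grading, with the same underlying ideal. -/
noncomputable def ideal (a : HomogeneousIdeal 𝒜) : HomogeneousIdeal (grp 𝒜) :=
  ⟨a.toIdeal, fun i x hx => by
    show GrInj.pr (grp 𝒜) i x ∈ a.toIdeal
    rw [pr_eq]; exact a.isHomogeneous i hx⟩

theorem ideal_toIdeal (a : HomogeneousIdeal 𝒜) : (ideal 𝒜 a).toIdeal = a.toIdeal := rfl

variable {M : Type u} [AddCommGroup M] [Module R M] {τ : Type u} [SetLike τ M] [AddSubgroupClass τ M] (ℳ : ι → τ)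

instance gsmul [SetLike.GradedSMul 𝒜 ℳ] : SetLike.GradedSMul (grp 𝒜) (grp ℳ) :=
  ⟨fun {i j} r x hr hx => show r • x ∈ ℳ (i +ᵥ j) from SetLike.GradedSMul.smul_mem (A := 𝒜) hr hx⟩

/-- A graded module for the new grading. -/
noncomputable def gmod (X : GMod.{u} 𝒜) : GMod.{u} (grp 𝒜) :=
  { carrier := X.carrier, gr := X.gr,
    gsmul := ⟨fun {i j} r x hr hx => show r • x ∈ X.gr (i +ᵥ j) from X.gsmul.smul_mem (show r ∈ 𝒜 i from hr) hx⟩ }

/-- A graded module for the old grading. -/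
noncomputable def gmod' (X : GMod.{u} (grp 𝒜)) : GMod.{u} 𝒜 :=
  { carrier := X.carrier, gr := X.gr,
    gsmul := ⟨fun {i j} r x hr hx => show r • x ∈ X.gr (i +ᵥ j) from X.gsmul.smul_mem (show r ∈ grp 𝒜 i from hr) hx⟩ }

theorem starInj_gmod {X : GMod.{u} 𝒜} (h : IsStarInj 𝒜 X.gr) : IsStarInj (grp 𝒜) (gmod 𝒜 X).gr :=
  fun A B f hf hfi g hg => h (gmod' 𝒜 A) (gmod' 𝒜 B) f hf hfi g hg

variable {ℳ} [DirectSum.Decomposition ℳ] [SetLike.GradedSMul 𝒜 ℳ]

variable {𝒜} in
/-- A resolution for the new grading. -/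
noncomputable def res (E : StarInjRes 𝒜 ℳ) : StarInjRes (grp 𝒜) (grp ℳ) where
  X n := gmod 𝒜 (E.X n)
  d := E.d
  ε := E.ε
  d_grHom := E.d_grHom
  ε_grHom := E.ε_grHom
  ε_injective := E.ε_injective
  exact_zero := E.exact_zero
  exact_succ := E.exact_succ
  starInj n := starInj_gmod 𝒜 (E.starInj n)

variable {𝒜} in
theorem res_Hgr (E : StarInjRes 𝒜 ℳ) (a : HomogeneousIdeal 𝒜) (i : ℕ) (n : ι) :
    ((res E).Hgr (ideal 𝒜 a) i n = ⊥) ↔ E.Hcomp a i n = ⊥ := by
  rw [Submodule.eq_bot_iff, AddSubgroup.eq_bot_iff_forall]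
  exact Iff.rfl

variable {𝒜} in
theorem res_Hcomp (E : StarInjRes 𝒜 ℳ) (a : HomogeneousIdeal 𝒜) (i : ℕ) (n : ι) :
    (res E).Hcomp (ideal 𝒜 a) i n = ⊥ ↔ E.Hcomp a i n = ⊥ := by
  rw [Submodule.eq_bot_iff, Submodule.eq_bot_iff]
  exact Iff.rfl

end Groth.Agent.GrInj.Conv
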