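import Groth.Agent.GrInj.Regularity
import Groth.Agent.GrInj.FreeReg
import Mathlib.RingTheory.MvPolynomial.Homogeneous

/-!
# A standard graded ring of regularity zero and positive depth is polynomial over its degree zero part
-/

set_option autoImplicit false
set_option linter.unusedSectionVars false
universe u v

namespace Groth.Agent.GrInj

open GrLC

variable {R : Type u} [CommRing R] [IsNoetherianRing R] {𝒜 : ℤ → AddSubgroup R} [GradedRing 𝒜]
  {a : HomogeneousIdeal 𝒜}

/-- The Koszul relation of two entries. -/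
def kosz {N : ℕ} (b : Fin N → R) (p q : Fin N) : Fin N → R := Pi.single q (b p) - Pi.single p (b q)

/-- The span of the Koszul relations. -/
def kSpan {N : ℕ} (b : Fin N → R) : Submodule R (Fin N → R) :=
  Submodule.span R (Set.range fun pq : Fin N × Fin N => kosz b pq.1 pq.2)

theorem cons_mem_kSpan {N : ℕ} (b : Fin (N + 1) → R) {v : Fin N → R}
    (hv : v ∈ kSpan fun i => b i.succ) : Fin.cons (0 : R) v ∈ kSpan b := by
  let L : (Fin N → R) →ₗ[R] (Fin (N + 1) → R) :=
    { toFun := fun w => Fin.cons (0 : R) w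
      map_add' := fun w w' => funext fun i => by cases i using Fin.cases <;> simp
      map_smul' := fun c w => funext fun i => by cases i using Fin.cases <;> simp }
  suffices h : kSpan (fun i => b i.succ) ≤ (kSpan b).comap L from h hv
  refine Submodule.span_le.2 ?_
  rintro _ ⟨⟨p, q⟩, rfl⟩
  refine Submodule.subset_span ⟨⟨p.succ, q.succ⟩, funext fun i => ?_⟩
  show kosz b p.succ q.succ i = (Fin.cons (0 : R) (kosz (fun i => b i.succ) p q) : Fin (N + 1) → R) i
  cases i using Fin.cases with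
  | zero => simp [kosz, Fin.succ_ne_zero]
  | succ i => simp [kosz, Pi.single_apply, Fin.succ_inj]

/-- The Koszul complex on linear forms, with its identification in degree one. -/
theorem exists_koszul (l : ℕ) (hl : 1 ≤ l) (r : ℤ)
    (hA : ∀ (k : ℕ) (n : ℤ), l ≤ k → (k : ℤ) + n = r + 1 → Van a k n (selfMod 𝒜)) :
    ∀ (N : ℕ) (b : Fin N → R), (∀ i, b i ∈ 𝒜 1) → ∃ C : Cx (selfMod 𝒜),
      VanAll a l r (aug (selfMod 𝒜) C.X) ∧ (∀ j, N ≤ j → Subsingleton (C.X j).carrier) ∧
      (∀ i, C.Htpy (b i)) ∧ ∃ e : (C.X 0).carrier ≃ₗ[R] (Fin N → R),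
        (∀ z, (C.d 0 z : R) = ∑ i, b i * e z i) ∧
        (∀ g v, (∀ i, v i ∈ 𝒜 (g - 1)) → e.symm v ∈ (C.X 0).gr g) ∧
        ∀ w, e (C.d 1 w) ∈ kSpan b := by
  intro N
  induction N with
  | zero =>
    intro b _
    let Z : GMod.{u} 𝒜 := subMod 𝒜 (⊥ : Submodule R (selfMod 𝒜).carrier) (hom_bot (ℳ := (selfMod 𝒜).gr))
    haveI hZ : Subsingleton Z.carrier := inferInstanceAs (Subsingleton (⊥ : Submodule R (selfMod 𝒜).carrier))
    refine ⟨⟨fun _ => Z, fun _ => 0, fun _ _ _ _ => zero_mem _, fun _ _ => rfl⟩, ?_, fun _ _ => hZ,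
      fun i => i.elim0, LinearEquiv.ofSubsingleton _ _, fun z => ?_, fun g v _ => ?_, fun w => ?_⟩
    · intro j k n hk hn
      cases j with
      | zero => exact hA k n hk (by simpa using hn)
      | succ j =>
        obtain ⟨k, rfl⟩ : ∃ k', k = k' + 1 := ⟨k - 1, by omega⟩
        exact van_torsion fun z => ⟨0, fun s _ => @Subsingleton.elim _ hZ _ _⟩
    · rw [Fin.sum_univ_zero]; rfl
    · rw [@Subsingleton.elim _ hZ ((LinearEquiv.ofSubsingleton (R := R) Z.carrier (Fin 0 → R)).symm v) 0]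
      exact zero_mem _
    · rw [Subsingleton.elim (LinearEquiv.ofSubsingleton (R := R) Z.carrier (Fin 0 → R) _) 0]
      exact zero_mem _
  | succ N ih =>
    intro b hb
    obtain ⟨C, hV, hsub, hh, e, he, heg, hed⟩ := ih (fun i => b i.succ) fun i => hb i.succ
    let e' : ((C.X 0).carrier × R) ≃ₗ[R] (Fin (N + 1) → R) :=
      LinearEquiv.prodComm R _ _ ≪≫ₗ (LinearEquiv.refl R R).prodCongr e ≪≫ₗ Fin.consLinearEquiv R fun _ => R
    have he' : ∀ z, e' z = Fin.cons z.2 (e z.1) := fun z => rfl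
    let d0 : (C.X 0).carrier →ₗ[R] R := C.d 0
    let d1 : (aug (selfMod 𝒜) C.X (1 + 1)).carrier →ₗ[R] (C.X 0).carrier := C.d 1
    refine ⟨cone C (b 0) (hb 0), ?_, ?_, ?_, e', ?_, ?_, ?_⟩
    · intro j k n hk hn
      cases j with
      | zero => exact hA k n hk (by simpa using hn)
      | succ j =>
        exact van_prod (hV (j + 1) k n hk hn) (van_shift (hV j k (n - 1) hk (by push_cast at hn; omega)))
    · intro j hj
      obtain ⟨j, rfl⟩ : ∃ j', j = j' + 1 := ⟨j - 1, by omega⟩
      haveI : Subsingleton (aug (selfMod 𝒜) C.X (j + 1 + 1)).carrier := hsub (j + 1) (by omega)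
      haveI : Subsingleton (aug (selfMod 𝒜) C.X (j + 1)).carrier := hsub j (by omega)
      exact inferInstanceAs (Subsingleton
        ((aug (selfMod 𝒜) C.X (j + 1 + 1)).carrier × (aug (selfMod 𝒜) C.X (j + 1)).carrier))
    · intro i
      cases i using Fin.cases with
      | zero => exact cone_htpy_self C (b 0) (hb 0)
      | succ i => exact cone_htpy C (b 0) (hb 0) (hh i)
    · suffices H : ∀ (p : (C.X 0).carrier) (q : R), d0 p + b 0 * q = ∑ i, b i * e' (p, q) i from
        fun z => H z.1 z.2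
      intro p q
      refine (congrArg (· + b 0 * q) (he p)).trans ?_
      rw [Fin.sum_univ_succ, he', add_comm]
      simp only [Fin.cons_zero, Fin.cons_succ]
    · intro g v hv
      have : e'.symm v = (e.symm (fun i => v i.succ), v 0) := by
        refine (LinearEquiv.symm_apply_eq e').2 ?_
        rw [he', e.apply_symm_apply]
        exact (Fin.cons_self_tail v).symm
      exact (congrArg (fun p => p ∈ ((cone C (b 0) (hb 0)).X 0).gr g) this).mpr ⟨heg g _ fun i => hv i.succ, hv 0⟩
    · suffices H : ∀ (p : (aug (selfMod 𝒜) C.X (1 + 1)).carrier) (q : (C.X 0).carrier),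
          (Fin.cons (-(d0 q) : R) (e (d1 p + b 0 • q)) : Fin (N + 1) → R) ∈ kSpan b from
        fun w => H w.1 w.2
      intro w₁ w₂
      have h2 : (Fin.cons (-(d0 w₂) : R) (e (d1 w₁ + b 0 • w₂)) : Fin (N + 1) → R) =
          Fin.cons (0 : R) (e (d1 w₁)) + ∑ i, e w₂ i • kosz b 0 i.succ := by
        funext i
        simp only [Pi.add_apply, Finset.sum_apply, Pi.smul_apply, kosz, Pi.sub_apply, smul_eq_mul]
        cases i using Fin.cases with
        | zero =>
          have h3 : d0 w₂ = ∑ i, b i.succ * e w₂ i := he w₂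
          simp [(Fin.succ_ne_zero _).symm, h3, Finset.sum_neg_distrib, mul_comm]
          try rfl
        | succ i =>
          have h4 : e (d1 w₁ + b 0 • w₂) i = e (d1 w₁) i + b 0 * e w₂ i :=
            congrFun ((map_add e _ _).trans (congrArg (e (d1 w₁) + ·) (map_smul e (b 0) w₂))) i
          simp [h4, Pi.single_apply, Fin.succ_inj, mul_comm]
      rw [h2]
      exact add_mem (cons_mem_kSpan b (hed w₁))
        (sum_mem fun i _ => Submodule.smul_mem _ _ (Submodule.subset_span ⟨(0, i.succ), rfl⟩))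

/-- Homogeneous cycles of degree at least two are Koszul boundaries. -/
theorem mem_kSpan {N : ℕ} (hdep : 0 < N → ∀ x : R, x ∈ gam a.toIdeal R → x = 0) (hreg : VanAbove a 0 (selfMod 𝒜))
    (b : Fin N → R) (hb : ∀ i, b i ∈ 𝒜 1) (hspan : Ideal.span (Set.range b) = a.toIdeal)
    {n : ℤ} (hn : 2 ≤ n) {v : Fin N → R} (hv : ∀ i, v i ∈ 𝒜 (n - 1)) (hcyc : ∑ i, b i * v i = 0) :
    v ∈ kSpan b := by
  obtain ⟨C, hV, hsub, hh, e, he, heg, hed⟩ := exists_koszul (a := a) 1 le_rfl (n - 2)
    (fun k m _ hm => hreg k m (by omega)) N b hb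
  have hkill : ∀ j, ∀ y ∈ a.toIdeal, ∀ z, C.d j z = 0 → y • z ∈ LinearMap.range (C.d (j + 1)) := by
    intro j y hy z hz
    rw [← hspan] at hy
    induction hy using Submodule.span_induction with
    | mem y hy =>
      obtain ⟨i, rfl⟩ := hy
      obtain ⟨h, -, hh'⟩ := hh i
      refine ⟨h (j + 1) z, ?_⟩
      rw [← hh' j z, hz, map_zero, add_zero]
    | zero => rw [zero_smul]; exact zero_mem _
    | add p q _ _ hp hq => rw [add_smul]; exact add_mem hp hq
    | smul c p _ hp => rw [smul_assoc]; exact Submodule.smul_mem _ c hp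
  let B : Submodule R (C.X 0).carrier := LinearMap.range (C.d 1)
  have hB : B.IsHomogeneous (C.X 0).gr := hom_range (C.d_grHom 1)
  let Z : Submodule R (C.X 0).carrier := LinearMap.ker (C.d 0)
  have hZ : Z.IsHomogeneous (C.X 0).gr := hom_ker (C.d_grHom 0)
  have hB1 : Van a 1 n (subMod 𝒜 B hB) :=
    van_range C le_rfl hV hsub hkill N 1 (Nat.le_add_left N 1) 1 n le_rfl (by push_cast; omega)
  obtain ⟨i, hi, hie⟩ := exists_lift (𝒜 := 𝒜) hZ (grHom_subInc (𝒜 := 𝒜) hB) (by
    rw [range_subInc]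
    rintro _ ⟨z, rfl⟩
    exact C.dd 0 z)
  have hie' : ∀ w, subInc 𝒜 Z hZ (i w) = subInc 𝒜 B hB w := fun w => LinearMap.congr_fun hie w
  have hii : Function.Injective i := fun p q h => subInc_injective hB (by rw [← hie', ← hie', h])
  let P : Submodule R (subMod 𝒜 Z hZ).carrier := LinearMap.range i
  have hP : P.IsHomogeneous (subMod 𝒜 Z hZ).gr := hom_range hi
  have hZ0 : Van a 0 n (subMod 𝒜 Z hZ) := van_zero_of fun z _ hz => by
    refine subInc_injective hZ (e.injective ?_)
    rw [map_zero, map_zero]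
    funext p
    exact hdep (Fin.pos p) _ (gam_map _ (LinearMap.proj p ∘ₗ e.toLinearMap ∘ₗ subInc 𝒜 Z hZ) hz)
  have hQ : Van a 0 n (quoMod 𝒜 P hP) :=
    van_right hi hii (grHom_quoMk hP) (Submodule.mkQ_surjective P) (Submodule.ker_mkQ P) hZ0 hB1
  have hz : e.symm v ∈ Z := LinearMap.mem_ker.2 ((he (e.symm v)).trans (by rw [e.apply_symm_apply]; exact hcyc))
  obtain ⟨z, hze⟩ := (range_subInc (𝒜 := 𝒜) hZ).ge hz
  have hzn : z ∈ (subMod 𝒜 Z hZ).gr n := inverse_grHom (grHom_subInc hZ) (subInc_injective hZ)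
    (show subInc 𝒜 Z hZ z ∈ (C.X 0).gr n by rw [hze]; exact heg n v hv)
  have htor : P.mkQ z ∈ gam a.toIdeal (quoMod 𝒜 P hP).carrier := ⟨1, fun s hs => by
    rw [pow_one] at hs
    obtain ⟨w, hw⟩ := (range_subInc (𝒜 := 𝒜) hB).ge (hkill 0 s hs _ (show C.d 0 (subInc 𝒜 Z hZ z) = 0 by
      rw [hze]; exact hz))
    exact (Submodule.Quotient.mk_smul P s z).symm.trans ((Submodule.Quotient.mk_eq_zero P).2
      ⟨w, subInc_injective hZ ((hie' w).trans (hw.trans (map_smul (subInc 𝒜 Z hZ) s z).symm))⟩)⟩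
  obtain ⟨w, hw⟩ := (Submodule.Quotient.mk_eq_zero P).1 (eq_zero_of_van hQ ⟨z, hzn, rfl⟩ htor)
  obtain ⟨u, hu⟩ := (range_subInc (𝒜 := 𝒜) hB).le ⟨w, rfl⟩
  have h3 : C.d 1 u = e.symm v := hu.trans ((hie' w).symm.trans ((congrArg (subInc 𝒜 Z hZ) hw).trans hze))
  have := hed u
  rwa [h3, e.apply_symm_apply] at this

section Eval
open MvPolynomial
variable {A : Type v} [CommRing A] (φ : A →+* R) (hφ : ∀ c, φ c ∈ 𝒜 0) {N : ℕ} (b : Fin N → R)
  (hb : ∀ i, b i ∈ 𝒜 1)

include hφ hb in
theorem eval_homogeneous {P : MvPolynomial (Fin N) A} {n : ℕ} (hP : P.IsHomogeneous n) :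
    eval₂Hom φ b P ∈ 𝒜 (n : ℤ) := by
  classical
  rw [P.as_sum, map_sum]
  refine sum_mem fun d hd => ?_
  rw [eval₂Hom_monomial]
  have hdeg : d.degree = n := by
    have h := hP (mem_support_iff.1 hd)
    rw [Finsupp.degree_eq_weight_one]
    exact h
  have h1 : (d.prod fun i e => b i ^ e) ∈ 𝒜 (n : ℤ) := by
    rw [← hdeg, Finsupp.degree_apply, Nat.cast_sum, Finsupp.prod]
    exact SetLike.prod_mem_graded 𝒜 (fun i => ((d i : ℕ) : ℤ)) (fun i => b i ^ d i) fun i _ => by
      simpa using SetLike.pow_mem_graded (A := 𝒜) (d i) (hb i)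
  have h2 := SetLike.mul_mem_graded (hφ (coeff d P)) h1
  rwa [zero_add] at h2

include hφ hb in
theorem pr_eval (P : MvPolynomial (Fin N) A) (n : ℕ) :
    pr 𝒜 (n : ℤ) (eval₂Hom φ b P) = eval₂Hom φ b (homogeneousComponent n P) := by
  classical
  conv_lhs => rw [← sum_homogeneousComponent P]
  rw [map_sum, map_sum]
  rw [Finset.sum_eq_single n]
  · exact pr_of_mem (eval_homogeneous φ hφ b hb (homogeneousComponent_isHomogeneous n P))
  · intro i _ hi
    exact pr_of_ne (eval_homogeneous φ hφ b hb (homogeneousComponent_isHomogeneous i P)) (by simpa using hi)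
  · intro hn
    rw [homogeneousComponent_eq_zero _ _ (by simpa using hn), map_zero, map_zero]

include hb in
theorem eval_surjective (hpos : ∀ n : ℤ, n < 0 → 𝒜 n = ⊥) (hspan : Ideal.span (Set.range b) = a.toIdeal)
    (hmem : ∀ n : ℤ, 0 < n → ∀ x ∈ 𝒜 n, x ∈ a.toIdeal) (hφs : ∀ x ∈ 𝒜 0, ∃ c, φ c = x) :
    Function.Surjective (eval₂Hom φ b) := by
  have key : ∀ n : ℕ, ∀ x ∈ 𝒜 (n : ℤ), ∃ P, eval₂Hom φ b P = x := by
    intro n
    induction n with
    | zero =>
      intro x hx
      obtain ⟨c, rfl⟩ := hφs x hx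
      exact ⟨C c, eval₂Hom_C φ b c⟩
    | succ n ih =>
      intro x hx
      have hm := hmem _ (by push_cast; omega) x hx
      rw [← hspan] at hm
      obtain ⟨c, hc⟩ := (Submodule.mem_span_range_iff_exists_fun R).1 hm
      choose Q hQ using fun i => ih (pr 𝒜 (n : ℤ) (c i)) (pr_mem _ _)
      refine ⟨∑ i, X i * Q i, ?_⟩
      rw [map_sum, ← pr_of_mem hx, ← hc, map_sum]
      refine Finset.sum_congr rfl fun i _ => ?_
      rw [map_mul, eval₂Hom_X', hQ, smul_eq_mul, mul_comm (c i), ← smul_eq_mul (b i) (c i),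
        pr_smul' (ℳ := 𝒜) (hb i), smul_eq_mul]
      push_cast
      rw [add_sub_cancel_right]
  intro x
  induction x using GrInj.induction 𝒜 with
  | h0 => exact ⟨0, map_zero _⟩
  | hh i x hx =>
    rcases lt_or_ge i 0 with h | h
    · exact ⟨0, by rw [map_zero, AddSubgroup.mem_bot.1 ((hpos i h).le hx)]⟩
    · exact key i.toNat x (by rwa [Int.toNat_of_nonneg h])
  | hadd x y hx hy =>
    obtain ⟨P, rfl⟩ := hx
    obtain ⟨Q, rfl⟩ := hy
    exact ⟨P + Q, map_add _ _ _⟩

include hφ hb in
theorem eval_injective (hdep : 0 < N → ∀ x : R, x ∈ gam a.toIdeal R → x = 0) (hreg : VanAbove a 0 (selfMod 𝒜))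
    (hspan : Ideal.span (Set.range b) = a.toIdeal) (hs : Function.Surjective (eval₂Hom φ b))
    (hφi : Function.Injective φ) (hli : ∀ c : Fin N → A, ∑ i, φ (c i) * b i = 0 → c = 0) :
    Function.Injective (eval₂Hom φ b) := by
  classical
  have hX : ∀ (Q : MvPolynomial (Fin N) A) (i : Fin N) (n : ℕ),
      homogeneousComponent (n + 1) (X i * Q) = X i * homogeneousComponent n Q := by
    intro Q i n
    refine MvPolynomial.ext _ _ fun d => ?_
    rw [coeff_homogeneousComponent, coeff_X_mul', coeff_X_mul', coeff_homogeneousComponent]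
    by_cases hd : i ∈ d.support
    · have : d.degree = (d - Finsupp.single i 1).degree + 1 := by
        have h1 : d - Finsupp.single i 1 + Finsupp.single i 1 = d :=
          tsub_add_cancel_of_le (Finsupp.single_le_iff.2 (Nat.one_le_iff_ne_zero.2 (Finsupp.mem_support_iff.1 hd)))
        conv_lhs => rw [← h1]
        rw [map_add, Finsupp.degree_single]
      simp [hd, this]
    · simp [hd]
  have hsyz : ∀ v ∈ kSpan b, ∃ Q : Fin N → MvPolynomial (Fin N) A,
      ∑ i, X i * Q i = 0 ∧ ∀ i, eval₂Hom φ b (Q i) = v i := by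
    intro v hv
    induction hv using Submodule.span_induction with
    | mem v hv =>
      obtain ⟨⟨p, q⟩, rfl⟩ := hv
      refine ⟨Pi.single q (X p) - Pi.single p (X q), ?_, fun i => ?_⟩
      · simp [Pi.single_apply, mul_sub, Finset.sum_sub_distrib, mul_comm]
      · simp only [Pi.sub_apply, kosz, map_sub, Pi.single_apply]
        split_ifs <;> simp
    | zero => exact ⟨0, by simp, by simp⟩
    | add v w _ _ hv hw =>
      obtain ⟨Q, hQ, hQe⟩ := hv
      obtain ⟨Q', hQ', hQe'⟩ := hw
      exact ⟨Q + Q', by simp [mul_add, Finset.sum_add_distrib, hQ, hQ'], by simp [map_add, hQe, hQe']⟩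
    | smul c v _ hv =>
      obtain ⟨Q, hQ, hQe⟩ := hv
      obtain ⟨P, rfl⟩ := hs c
      refine ⟨fun i => P * Q i, ?_, fun i => by simp [map_mul, hQe]⟩
      simp_rw [mul_left_comm (X _) P]
      rw [← Finset.mul_sum, hQ, mul_zero]
  have key : ∀ (n : ℕ) (P : MvPolynomial (Fin N) A), P.IsHomogeneous n → eval₂Hom φ b P = 0 → P = 0 := by
    intro n
    induction n with
    | zero =>
      intro P hP h0
      have hPC : P = C (coeff 0 P) := by
        conv_lhs => rw [← homogeneousComponent_eq_self hP, homogeneousComponent_zero]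
      rw [hPC] at h0 ⊢
      rw [eval₂Hom_C] at h0
      rw [(map_eq_zero_iff φ hφi).1 h0, map_zero]
    | succ n ih =>
      intro P hP h0
      have hmem : P ∈ Ideal.span (Set.range (X : Fin N → MvPolynomial (Fin N) A)) := by
        rw [← Set.image_univ, mem_ideal_span_X_image]
        intro m hm
        by_contra h
        push Not at h
        have hm0 : m = 0 := Finsupp.ext fun i => h i (Set.mem_univ i)
        have hdeg := hP (mem_support_iff.1 hm)
        rw [hm0, map_zero] at hdeg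
        omega
      obtain ⟨Q₀, hQ₀⟩ := (Submodule.mem_span_range_iff_exists_fun _).1 hmem
      have hQ : P = ∑ i, X i * homogeneousComponent n (Q₀ i) := by
        conv_lhs => rw [← homogeneousComponent_eq_self hP, ← hQ₀, map_sum]
        exact Finset.sum_congr rfl fun i _ => by rw [smul_eq_mul, mul_comm, hX]
      have hcyc : ∑ i, b i * eval₂Hom φ b (homogeneousComponent n (Q₀ i)) = 0 := by
        rw [← h0, hQ, map_sum]
        exact Finset.sum_congr rfl fun i _ => by rw [map_mul, eval₂Hom_X']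
      rcases Nat.eq_zero_or_pos n with rfl | hn
      · have hc : (fun i => coeff 0 (Q₀ i)) = 0 := hli _ (by
          rw [← hcyc]
          exact Finset.sum_congr rfl fun i _ => by rw [homogeneousComponent_zero, eval₂Hom_C, mul_comm])
        rw [hQ]
        exact Finset.sum_eq_zero fun i _ => by
          rw [homogeneousComponent_zero, show coeff 0 (Q₀ i) = 0 from congr_fun hc i, map_zero, mul_zero]
      obtain ⟨Q', hQ'0, hQ'e⟩ := hsyz _ (mem_kSpan hdep hreg b hb hspan (n := (n : ℤ) + 1) (by omega)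
        (v := fun i => eval₂Hom φ b (homogeneousComponent n (Q₀ i))) (by
          rw [add_sub_cancel_right]
          exact fun i => eval_homogeneous φ hφ b hb (homogeneousComponent_isHomogeneous n (Q₀ i))) hcyc)
      have hz : ∀ i, homogeneousComponent n (Q₀ i) - homogeneousComponent n (Q' i) = 0 := fun i => by
        refine ih _ ((homogeneousComponent_isHomogeneous n _).sub (homogeneousComponent_isHomogeneous n _)) ?_
        rw [map_sub, ← pr_eval φ hφ b hb (Q' i) n, hQ'e,
          pr_of_mem (eval_homogeneous φ hφ b hb (homogeneousComponent_isHomogeneous n (Q₀ i))), sub_self]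
      have h1 := congrArg (homogeneousComponent (n + 1)) hQ'0
      rw [map_sum, map_zero] at h1
      simp only [hX] at h1
      rw [hQ, ← h1]
      exact Finset.sum_congr rfl fun i _ => by rw [sub_eq_zero.1 (hz i)]
  refine (injective_iff_map_eq_zero _).2 fun P hP => ?_
  rw [← sum_homogeneousComponent P]
  refine Finset.sum_eq_zero fun n _ => key n _ (homogeneousComponent_isHomogeneous n P) ?_
  rw [← pr_eval φ hφ b hb, hP, map_zero]

end Eval

end Groth.Agent.GrInj
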