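import Groth.Agent.GrInj.Func

/-!
# The long exact sequence of graded local cohomology, by the horseshoe lemma
-/

set_option autoImplicit false
set_option linter.unusedSectionVars false
universe u

namespace Groth.Agent.GrInj

open GrLC

variable {ι : Type} [AddCommGroup ι] [DecidableEq ι] {R : Type u} [CommRing R]
  {𝒜 : ι → AddSubgroup R} [GradedRing 𝒜]

/-- The pieces of a product. -/
def prodGr {X Y : Type u} [AddCommGroup X] [AddCommGroup Y] (𝒳 : ι → AddSubgroup X)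
    (𝒴 : ι → AddSubgroup Y) (i : ι) : AddSubgroup (X × Y) := (𝒳 i).prod (𝒴 i)

theorem isInternal_prod {X Y : Type u} [AddCommGroup X] [Module R X] [AddCommGroup Y] [Module R Y]
    (𝒳 : ι → AddSubgroup X) [DirectSum.Decomposition 𝒳] (𝒴 : ι → AddSubgroup Y) [DirectSum.Decomposition 𝒴] :
    DirectSum.IsInternal (prodGr 𝒳 𝒴) := by
  refine isInternal_of _ (fun i => (pr 𝒳 i).prodMap (pr 𝒴 i))
    (fun i x hx => Prod.ext (pr_of_mem hx.1) (pr_of_mem hx.2))
    (fun i j h x hx => Prod.ext (pr_of_ne hx.1 h) (pr_of_ne hx.2 h)) fun x => ?_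
  rw [show x = AddMonoidHom.inl X Y x.1 + AddMonoidHom.inr X Y x.2 by ext <;> simp,
    ← sum_supp (ℳ := 𝒳) x.1, ← sum_supp (ℳ := 𝒴) x.2, map_sum, map_sum]
  refine add_mem (sum_mem fun i _ => ?_) (sum_mem fun i _ => ?_)
  · exact le_iSup (prodGr 𝒳 𝒴) i ⟨pr_mem i x.1, zero_mem _⟩
  · exact le_iSup (prodGr 𝒳 𝒴) i ⟨zero_mem _, pr_mem i x.2⟩

/-- The product of two graded modules. -/
noncomputable def prodMod (A B : GMod.{u} 𝒜) : GMod.{u} 𝒜 :=
  { carrier := A.carrier × B.carrier, gr := prodGr A.gr B.gr,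
    dec := (isInternal_prod (R := R) A.gr B.gr).chooseDecomposition,
    gsmul := gsmul_mk fun a b r hr x hx => ⟨A.gsmul.smul_mem hr hx.1, B.gsmul.smul_mem hr hx.2⟩ }

/-- The first inclusion. -/
noncomputable def inlP (A B : GMod.{u} 𝒜) : A.carrier →ₗ[R] (prodMod A B).carrier := LinearMap.inl R _ _

/-- The second projection. -/
noncomputable def sndP (A B : GMod.{u} 𝒜) : (prodMod A B).carrier →ₗ[R] B.carrier := LinearMap.snd R _ _

theorem starInj_prod {A B : GMod.{u} 𝒜} (hA : IsStarInj 𝒜 A.gr) (hB : IsStarInj 𝒜 B.gr) :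
    IsStarInj 𝒜 (prodMod A B).gr := by
  intro C D f hf hfi g hg
  obtain ⟨h₁, hh₁, hf₁⟩ := hA C D f hf hfi (LinearMap.fst R A.carrier B.carrier ∘ₗ g) fun i x hx => (hg i x hx).1
  obtain ⟨h₂, hh₂, hf₂⟩ := hB C D f hf hfi (LinearMap.snd R A.carrier B.carrier ∘ₗ g) fun i x hx => (hg i x hx).2
  exact ⟨h₁.prod h₂, fun i x hx => ⟨hh₁ i x hx, hh₂ i x hx⟩,
    LinearMap.ext fun x => Prod.ext (LinearMap.congr_fun hf₁ x) (LinearMap.congr_fun hf₂ x)⟩

variable {M : Type u} [AddCommGroup M] [Module R M] {ℳ : ι → AddSubgroup M} [DirectSum.Decomposition ℳ]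
  [SetLike.GradedSMul 𝒜 ℳ]
variable {N : Type u} [AddCommGroup N] [Module R N] {𝒩 : ι → AddSubgroup N} [DirectSum.Decomposition 𝒩]
  [SetLike.GradedSMul 𝒜 𝒩]
variable {L : Type u} [AddCommGroup L] [Module R L] {𝓛 : ι → AddSubgroup L} [DirectSum.Decomposition 𝓛]
  [SetLike.GradedSMul 𝒜 𝓛]

/-- Twisting data of the horseshoe. -/
structure Twist (E' : StarInjRes 𝒜 ℳ) (E'' : StarInjRes 𝒜 𝓛) (f : M →ₗ[R] N) (g : N →ₗ[R] L) where
  e : N →ₗ[R] (E'.X 0).carrier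
  τ : ∀ n, (E''.X n).carrier →ₗ[R] (E'.X (n + 1)).carrier
  e_grHom : IsGrHom 𝒩 (E'.X 0).gr e
  τ_grHom : ∀ n, IsGrHom (E''.X n).gr (E'.X (n + 1)).gr (τ n)
  e_f : ∀ m, e (f m) = E'.ε m
  τ_zero : ∀ x, τ 0 (E''.ε (g x)) = -(E'.d 0 (e x))
  τ_succ : ∀ n y, τ (n + 1) (E''.d n y) = -(E'.d (n + 1) (τ n y))

variable {f : M →ₗ[R] N} {g : N →ₗ[R] L}

theorem nonempty_twist (E' : StarInjRes 𝒜 ℳ) (E'' : StarInjRes 𝒜 𝓛) (hf : IsGrHom ℳ 𝒩 f)
    (hg : IsGrHom 𝒩 𝓛 g) (hfi : Function.Injective f) (hgs : Function.Surjective g)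
    (hfg : LinearMap.ker g = LinearMap.range f) : Nonempty (Twist (𝒩 := 𝒩) E' E'' f g) := by
  obtain ⟨e, he, hef'⟩ := exists_factor (B := GMod.of 𝒜 M ℳ) (C := GMod.of 𝒜 N 𝒩) (E'.starInj 0) f hf
    E'.ε E'.ε_grHom (fun x hx => by
      rw [show x = (0 : M) from hfi ((LinearMap.mem_ker.1 hx).trans (map_zero f).symm)]
      exact zero_mem _)
  have hef : ∀ m, e (f m) = E'.ε m := fun m => LinearMap.congr_fun hef' m
  let P : ∀ n, ((E''.X n).carrier →ₗ[R] (E'.X (n + 1)).carrier) → Prop := fun n τ =>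
    IsGrHom (E''.X n).gr (E'.X (n + 1)).gr τ ∧ LinearMap.ker (E''.d n) ≤ LinearMap.ker (E'.d (n + 1) ∘ₗ τ)
  have base : ∃ τ, P 0 τ ∧ ∀ x : N, τ (E''.ε (g x)) = -(E'.d 0 (e x)) := by
    obtain ⟨τ, hτ, hτf⟩ := exists_factor (B := GMod.of 𝒜 N 𝒩) (E'.starInj 1) (E''.ε ∘ₗ g)
      (fun i x hx => E''.ε_grHom i _ (hg i x hx)) (-(E'.d 0 ∘ₗ e))
      (fun i x hx => neg_mem (E'.d_grHom 0 i _ (he i x hx))) (fun x hx => by
        obtain ⟨m, rfl⟩ := hfg.le (show g x = 0 from E''.ε_injective (hx.trans (map_zero E''.ε).symm))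
        show -(E'.d 0 (e (f m))) = 0
        rw [hef, d_aug, neg_zero])
    refine ⟨τ, ⟨hτ, ?_⟩, fun x => LinearMap.congr_fun hτf x⟩
    rw [E''.exact_zero]
    rintro _ ⟨l, rfl⟩
    obtain ⟨x, rfl⟩ := hgs l
    show E'.d 1 (τ (E''.ε (g x))) = 0
    rw [show τ (E''.ε (g x)) = -(E'.d 0 (e x)) from LinearMap.congr_fun hτf x, map_neg, d_comp, neg_zero]
  have step : ∀ n (τ : {τ // P n τ}), ∃ τ' : {τ' // P (n + 1) τ'},
      ∀ y, τ'.1 (E''.d n y) = -(E'.d (n + 1) (τ.1 y)) := by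
    rintro n ⟨τ, hτ, hker⟩
    obtain ⟨τ', hτ', hτf⟩ := exists_factor (E'.starInj (n + 2)) (E''.d n) (E''.d_grHom n)
      (-(E'.d (n + 1) ∘ₗ τ)) (fun i x hx => neg_mem (E'.d_grHom (n + 1) i _ (hτ i x hx)))
      (fun x hx => by
        show -(E'.d (n + 1) (τ x)) = 0
        rw [show E'.d (n + 1) (τ x) = 0 from hker hx, neg_zero])
    refine ⟨⟨τ', hτ', ?_⟩, fun y => LinearMap.congr_fun hτf y⟩
    rw [E''.exact_succ]
    rintro _ ⟨y, rfl⟩
    show E'.d (n + 2) (τ' (E''.d n y)) = 0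
    rw [show τ' (E''.d n y) = -(E'.d (n + 1) (τ y)) from LinearMap.congr_fun hτf y, map_neg, d_comp, neg_zero]
  choose τ₀ hτ₀ he₀ using base
  choose next hnext using step
  let seq : ∀ n, {τ // P n τ} := fun n => Nat.rec ⟨τ₀, hτ₀⟩ (fun k τ => next k τ) n
  exact ⟨⟨e, fun n => (seq n).1, he, fun n => (seq n).2.1, hef, he₀, fun n => hnext n (seq n)⟩⟩

variable {E' : StarInjRes 𝒜 ℳ} {E'' : StarInjRes 𝒜 𝓛} (T : Twist (𝒩 := 𝒩) E' E'' f g)

/-- The differential of the horseshoe. -/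
noncomputable def hsD (n : ℕ) :
    (prodMod (E'.X n) (E''.X n)).carrier →ₗ[R] (prodMod (E'.X (n + 1)) (E''.X (n + 1))).carrier :=
  (E'.d n ∘ₗ LinearMap.fst R (E'.X n).carrier (E''.X n).carrier +
    T.τ n ∘ₗ LinearMap.snd R (E'.X n).carrier (E''.X n).carrier).prod
    (E''.d n ∘ₗ LinearMap.snd R (E'.X n).carrier (E''.X n).carrier)

theorem hsD_apply (n : ℕ) (a : (E'.X n).carrier) (b : (E''.X n).carrier) :
    hsD T n (a, b) = ((E'.d n a + T.τ n b, E''.d n b) : (E'.X (n + 1)).carrier × (E''.X (n + 1)).carrier) := rfl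

variable (hg : IsGrHom 𝒩 𝓛 g) (hgs : Function.Surjective g) (hfg : LinearMap.ker g = LinearMap.range f)

/-- The horseshoe resolution. -/
noncomputable def hsRes : StarInjRes 𝒜 𝒩 where
  X n := prodMod (E'.X n) (E''.X n)
  d := hsD T
  ε := T.e.prod (E''.ε ∘ₗ g)
  d_grHom n i x hx := ⟨add_mem (E'.d_grHom n i _ hx.1) (T.τ_grHom n i _ hx.2), E''.d_grHom n i _ hx.2⟩
  ε_grHom i x hx := ⟨T.e_grHom i x hx, E''.ε_grHom i _ (hg i x hx)⟩
  ε_injective x y hxy := by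
    obtain ⟨h1, h2⟩ : T.e x = T.e y ∧ E''.ε (g x) = E''.ε (g y) := ⟨congrArg Prod.fst hxy, congrArg Prod.snd hxy⟩
    obtain ⟨m, hm⟩ := hfg.le (show g (x - y) = 0 by rw [map_sub, E''.ε_injective h2, sub_self])
    have h3 : E'.ε m = 0 := by rw [← T.e_f, hm, map_sub, h1, sub_self]
    rw [E'.ε_injective (h3.trans (map_zero E'.ε).symm), map_zero] at hm
    exact sub_eq_zero.1 hm.symm
  exact_zero := by
    refine le_antisymm ?_ ?_
    · rintro ⟨a, b⟩ hab
      obtain ⟨h1, h2⟩ : E'.d 0 a + T.τ 0 b = 0 ∧ E''.d 0 b = 0 := ⟨congrArg Prod.fst hab, congrArg Prod.snd hab⟩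
      obtain ⟨l, rfl⟩ := E''.exact_zero.le h2
      obtain ⟨x, rfl⟩ := hgs l
      rw [T.τ_zero, ← sub_eq_add_neg, ← map_sub] at h1
      obtain ⟨m, hm⟩ := E'.exact_zero.le h1
      refine ⟨x + f m, ?_⟩
      show ((T.e (x + f m), E''.ε (g (x + f m))) : (E'.X 0).carrier × (E''.X 0).carrier) = (a, E''.ε (g x))
      rw [map_add, map_add, T.e_f, hm, add_sub_cancel, show g (f m) = 0 from hfg.ge ⟨m, rfl⟩, add_zero]
    · rintro _ ⟨x, rfl⟩
      show ((E'.d 0 (T.e x) + T.τ 0 (E''.ε (g x)), E''.d 0 (E''.ε (g x))) : _ × _) = (0, 0)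
      rw [T.τ_zero, d_aug, add_neg_cancel]
  exact_succ n := by
    refine le_antisymm ?_ ?_
    · rintro ⟨a, b⟩ hab
      obtain ⟨h1, h2⟩ : E'.d (n + 1) a + T.τ (n + 1) b = 0 ∧ E''.d (n + 1) b = 0 :=
        ⟨congrArg Prod.fst hab, congrArg Prod.snd hab⟩
      obtain ⟨c, rfl⟩ := (E''.exact_succ n).le h2
      rw [T.τ_succ, ← sub_eq_add_neg, ← map_sub] at h1
      obtain ⟨a', ha'⟩ := (E'.exact_succ n).le h1
      refine ⟨(a', c), ?_⟩
      show ((E'.d n a' + T.τ n c, E''.d n c) : _ × _) = (a, E''.d n c)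
      rw [ha', sub_add_cancel]
    · rintro _ ⟨⟨a, b⟩, rfl⟩
      show ((E'.d (n + 1) (E'.d n a + T.τ n b) + T.τ (n + 1) (E''.d n b), E''.d (n + 1) (E''.d n b)) : _ × _) = (0, 0)
      rw [map_add, d_comp, d_comp, zero_add, T.τ_succ, add_neg_cancel]
  starInj n := starInj_prod (E'.starInj n) (E''.starInj n)

theorem isLift_inl : IsLift E' (hsRes T hg hgs hfg) f fun n => inlP (E'.X n) (E''.X n) where
  grHom n i x hx := ⟨hx, zero_mem _⟩
  aug m := by
    show ((E'.ε m, 0) : _ × _) = (T.e (f m), E''.ε (g (f m)))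
    rw [T.e_f, show g (f m) = 0 from hfg.ge ⟨m, rfl⟩, map_zero]
  comm n x := by
    show ((E'.d n x, 0) : _ × _) = (E'.d n x + T.τ n 0, E''.d n 0)
    rw [map_zero, map_zero, add_zero]

theorem isLift_snd : IsLift (hsRes T hg hgs hfg) E'' g fun n => sndP (E'.X n) (E''.X n) where
  grHom n i x hx := hx.2
  aug m := rfl
  comm n x := rfl

variable (a : HomogeneousIdeal 𝒜)

theorem gam_pair {A B : GMod.{u} 𝒜} {I : Ideal R} {x : A.carrier} {y : B.carrier}
    (hx : x ∈ gam I A.carrier) (hy : y ∈ gam I B.carrier) :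
    ((x, y) : A.carrier × B.carrier) ∈ gam I (prodMod A B).carrier := by
  have h := add_mem (gam_map I (LinearMap.inl R A.carrier B.carrier) hx)
    (gam_map I (LinearMap.inr R A.carrier B.carrier) hy)
  rw [LinearMap.inl_apply, LinearMap.inr_apply, Prod.mk_add_mk, add_zero, zero_add] at h
  exact h

theorem gam_fst {A B : GMod.{u} 𝒜} {I : Ideal R} {x : A.carrier × B.carrier}
    (hx : x ∈ gam I (prodMod A B).carrier) : x.1 ∈ gam I A.carrier ∧ x.2 ∈ gam I B.carrier :=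
  ⟨gam_map I (LinearMap.fst R A.carrier B.carrier) hx, gam_map I (LinearMap.snd R A.carrier B.carrier) hx⟩

/-- The connecting map on cocycles. -/
noncomputable def tauC (i : ℕ) : E''.cocyc a i →ₗ[R] E'.cocyc a (i + 1) :=
  (T.τ i).restrict fun x hx => ⟨gam_map _ _ hx.1, by
    show E'.d (i + 1) (T.τ i x) = 0
    have h := T.τ_succ i x
    rw [show E''.d i x = 0 from hx.2, map_zero] at h
    exact neg_eq_zero.1 h.symm⟩

/-- The connecting map. -/
noncomputable def hsDelta (i : ℕ) : E''.H a i →ₗ[R] E'.H a (i + 1) :=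
  Submodule.mapQ _ _ (tauC T a i) fun x hx => by
    cases i with
    | zero =>
      show T.τ 0 x.1 ∈ E'.cobdy a 1
      rw [show x.1 = 0 from (Submodule.mem_bot R).1 hx, map_zero]
      exact zero_mem _
    | succ n =>
      obtain ⟨y, hy, hyx⟩ := hx
      refine ⟨-(T.τ n y), neg_mem (gam_map _ _ hy), ?_⟩
      show E'.d (n + 1) (-(T.τ n y)) = T.τ (n + 1) x.1
      rw [map_neg, ← T.τ_succ]
      exact congrArg (T.τ (n + 1)) hyx

theorem hs_exact (i : ℕ) :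
    Function.Injective (Hmap a _ (isLift_inl T hg hgs hfg) 0) ∧
    LinearMap.ker (Hmap a _ (isLift_inl T hg hgs hfg) (i + 1)) = LinearMap.range (hsDelta T a i) ∧
    LinearMap.ker (Hmap a _ (isLift_snd T hg hgs hfg) i) = LinearMap.range (Hmap a _ (isLift_inl T hg hgs hfg) i) ∧
    LinearMap.ker (hsDelta T a i) = LinearMap.range (Hmap a _ (isLift_snd T hg hgs hfg) i) := by
  refine ⟨(injective_iff_map_eq_zero _).2 fun c hc => ?_, le_antisymm ?_ ?_, le_antisymm ?_ ?_, le_antisymm ?_ ?_⟩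
  · obtain ⟨z, rfl⟩ := Submodule.mkQ_surjective _ c
    have hb : inlP (E'.X 0) (E''.X 0) z.1 ∈ (hsRes T hg hgs hfg).cobdy a 0 :=
      (Submodule.Quotient.mk_eq_zero (((hsRes T hg hgs hfg).cobdy a 0).comap
        ((hsRes T hg hgs hfg).cocyc a 0).subtype) (x := cocycMap a _ (isLift_inl T hg hgs hfg) 0 z)).1 hc
    have h : ((z.1, 0) : (E'.X 0).carrier × (E''.X 0).carrier) = (0, 0) := (Submodule.mem_bot R).1 hb
    exact (Submodule.Quotient.mk_eq_zero _).2 ((Submodule.mem_bot R).2 (congrArg Prod.fst h))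
  · intro c hc
    obtain ⟨z, rfl⟩ := Submodule.mkQ_surjective _ c
    obtain ⟨⟨x, y⟩, hxy, he⟩ := (Submodule.Quotient.mk_eq_zero _).1 hc
    have he1 : E'.d i x + T.τ i y = z.1 := congrArg Prod.fst he
    have he2 : E''.d i y = 0 := congrArg Prod.snd he
    refine ⟨E''.toH a i ⟨y, (gam_fst hxy).2, he2⟩, (Submodule.Quotient.eq _).2 ⟨-x, neg_mem (gam_fst hxy).1, ?_⟩⟩
    show E'.d i (-x) = T.τ i y - z.1
    rw [← he1, map_neg]; abel
  · rintro _ ⟨c, rfl⟩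
    obtain ⟨w, rfl⟩ := Submodule.mkQ_surjective _ c
    refine LinearMap.mem_ker.2 ((Submodule.Quotient.mk_eq_zero _).2
      ⟨(0, w.1), gam_pair (zero_mem _) w.2.1, ?_⟩)
    show ((E'.d i 0 + T.τ i w.1, E''.d i w.1) : _ × _) = (T.τ i w.1, 0)
    rw [map_zero, zero_add, show E''.d i w.1 = 0 from w.2.2]
  · intro c hc
    obtain ⟨⟨⟨x, y⟩, hg', hd⟩, rfl⟩ := Submodule.mkQ_surjective _ c
    have hd1 : E'.d i x + T.τ i y = 0 := congrArg Prod.fst (show hsD T i (x, y) = 0 from hd)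
    have hd2 : E''.d i y = 0 := congrArg Prod.snd (show hsD T i (x, y) = 0 from hd)
    have hy := (Submodule.Quotient.mk_eq_zero _).1 hc
    cases i with
    | zero =>
      have hy0 : y = 0 := (Submodule.mem_bot R).1 hy
      subst hy0
      rw [map_zero, add_zero] at hd1
      exact ⟨E'.toH a 0 ⟨x, (gam_fst hg').1, hd1⟩, rfl⟩
    | succ n =>
      obtain ⟨w, hw, hwy⟩ := hy
      have hwy' : E''.d n w = y := hwy
      subst hwy'
      have hcoc : E'.d (n + 1) (x - T.τ n w) = 0 := by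
        rw [T.τ_succ] at hd1
        rw [map_sub, ← hd1]; abel
      refine ⟨E'.toH a (n + 1) ⟨x - T.τ n w, sub_mem (gam_fst hg').1 (gam_map _ _ hw), hcoc⟩,
        (Submodule.Quotient.eq _).2 ⟨(0, -w), gam_pair (zero_mem _) (neg_mem hw), ?_⟩⟩
      show ((E'.d n 0 + T.τ n (-w), E''.d n (-w)) : _ × _) = (x - T.τ n w - x, 0 - E''.d n w)
      rw [map_zero, zero_add, map_neg, map_neg, zero_sub, sub_sub_cancel_left]
  · rintro _ ⟨c, rfl⟩
    obtain ⟨w, rfl⟩ := Submodule.mkQ_surjective _ c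
    exact LinearMap.mem_ker.2 ((Submodule.Quotient.mk_eq_zero _).2 (zero_mem (E''.cobdy a i)))
  · intro c hc
    obtain ⟨z, rfl⟩ := Submodule.mkQ_surjective _ c
    obtain ⟨x, hx, hxz⟩ := (Submodule.Quotient.mk_eq_zero _).1 hc
    have hxz' : E'.d i x = T.τ i z.1 := hxz
    refine ⟨(hsRes T hg hgs hfg).toH a i ⟨(-x, z.1), gam_pair (neg_mem hx) z.2.1, ?_⟩, rfl⟩
    show ((E'.d i (-x) + T.τ i z.1, E''.d i z.1) : _ × _) = (0, 0)
    rw [map_neg, hxz', neg_add_cancel, show E''.d i z.1 = 0 from z.2.2]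
  · rintro _ ⟨c, rfl⟩
    obtain ⟨⟨⟨x, y⟩, hg', hd⟩, rfl⟩ := Submodule.mkQ_surjective _ c
    have hd1 : E'.d i x + T.τ i y = 0 := congrArg Prod.fst (show hsD T i (x, y) = 0 from hd)
    refine LinearMap.mem_ker.2 ((Submodule.Quotient.mk_eq_zero _).2 ⟨-x, neg_mem (gam_fst hg').1, ?_⟩)
    show E'.d i (-x) = T.τ i y
    rw [map_neg, neg_eq_iff_add_eq_zero]
    exact hd1

include hg hgs hfg in
/-- The long exact sequence of graded local cohomology. -/
theorem exists_les (E : StarInjRes 𝒜 𝒩) (E' : StarInjRes 𝒜 ℳ) (E'' : StarInjRes 𝒜 𝓛) (hf : IsGrHom ℳ 𝒩 f)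
    (hfi : Function.Injective f) : ∃ δ : ∀ i, E''.H a i →ₗ[R] E'.H a (i + 1),
      (∀ i, IsGrHom (E''.Hgr a i) (E'.Hgr a (i + 1)) (δ i)) ∧
      Function.Injective (ind E' E a f hf 0) ∧
      (∀ i, LinearMap.ker (ind E' E a f hf (i + 1)) = LinearMap.range (δ i)) ∧
      (∀ i, LinearMap.ker (ind E E'' a g hg i) = LinearMap.range (ind E' E a f hf i)) ∧
      ∀ i, LinearMap.ker (δ i) = LinearMap.range (ind E E'' a g hg i) := by
  obtain ⟨T⟩ := nonempty_twist E' E'' hf hg hfi hgs hfg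
  let H := hsRes T hg hgs hfg
  have hid : IsGrHom 𝒩 𝒩 (LinearMap.id : N →ₗ[R] N) := fun _ _ h => h
  have e1 : ∀ i, ind E' E a f hf i = ind H E a LinearMap.id hid i ∘ₗ Hmap a _ (isLift_inl T hg hgs hfg) i :=
    fun i => by rw [← ind_eq (E := E') (F := H) a hf (isLift_inl T hg hgs hfg) i, ← ind_comp a hf hid hf]; rfl
  have e2 : ∀ i, ind E E'' a g hg i = Hmap a _ (isLift_snd T hg hgs hfg) i ∘ₗ ind E H a LinearMap.id hid i :=
    fun i => by rw [← ind_eq (E := H) (F := E'') a hg (isLift_snd T hg hgs hfg) i, ← ind_comp a hid hg hg]; rfl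
  refine ⟨hsDelta T a, fun i => ?_, ?_, fun i => ?_, fun i => ?_, fun i => ?_⟩
  · rintro j _ ⟨z, hz, rfl⟩
    exact ⟨tauC T a i z, T.τ_grHom i j _ hz, rfl⟩
  all_goals
    obtain ⟨h0, h1, h2, h3⟩ := hs_exact T hg hgs hfg a (by first | exact i | exact 0)
  · obtain ⟨e, -, -, he⟩ := exists_indEquiv H a E 0
    rw [e1, ← he, LinearMap.coe_comp]
    exact e.injective.comp h0
  · obtain ⟨e, -, -, he⟩ := exists_indEquiv H a E (i + 1)
    rw [e1, ← he, LinearEquiv.ker_comp, h1]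
  · obtain ⟨e, -, -, he⟩ := exists_indEquiv H a E i
    have hinv : ind E H a LinearMap.id hid i = e.symm.toLinearMap := by
      refine LinearMap.ext fun c => e.injective ?_
      show e.toLinearMap (ind E H a LinearMap.id hid i c) = e (e.symm c)
      rw [he, e.apply_symm_apply, ← LinearMap.comp_apply, ← ind_comp a hid hid hid]
      exact LinearMap.congr_fun (ind_id a hid i) c
    rw [e1, e2, hinv, ← he, LinearMap.ker_comp, h2, LinearMap.range_comp]
    exact (Submodule.map_equiv_eq_comap_symm e _).symm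
  · obtain ⟨e, -, -, he⟩ := exists_indEquiv E a H i
    rw [e2, ← he, LinearMap.range_comp_of_range_eq_top _ e.range, h3]

end Groth.Agent.GrInj
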