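import Groth.Agent.GrInj.Serre

/-!
# Propagation of vanishing: Castelnuovo regularity by iterated cones of linear forms
-/

set_option autoImplicit false
set_option linter.unusedSectionVars false
universe u

namespace Groth.Agent.GrInj

open GrLC

variable {R : Type u} [CommRing R] [IsNoetherianRing R] {𝒜 : ℤ → AddSubgroup R} [GradedRing 𝒜]

/-- The piece of degree `n` of the cohomology in degree `k` vanishes, for every resolution. -/
def Van (a : HomogeneousIdeal 𝒜) (k : ℕ) (n : ℤ) (X : GMod.{u} 𝒜) : Prop :=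
  ∀ E : StarInjRes 𝒜 X.gr, E.Hcomp a k n = ⊥

variable {a : HomogeneousIdeal 𝒜}

theorem van_of_res {k : ℕ} {n : ℤ} {X : GMod.{u} 𝒜} (E : StarInjRes 𝒜 X.gr) (h : E.Hcomp a k n = ⊥) :
    Van a k n X := by
  intro F
  obtain ⟨e, -, he, -⟩ := exists_indEquiv E a F k
  refine eq_bot_iff.2 fun c hc => (Submodule.mem_bot _).2 ?_
  have h' : e.symm c = 0 := by
    have := he n c hc
    exact (Submodule.mem_bot _).1 (h.le this)
  exact e.symm.map_eq_zero_iff.1 h'

theorem van_shift {k : ℕ} {n : ℤ} {X : GMod.{u} 𝒜} (h : Van a k (n - 1) X) : Van a k n (shMod 𝒜 X 1) := by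
  obtain ⟨E⟩ := S13215.result R 𝒜 X.carrier X.gr
  refine van_of_res (shiftRes E 1) (eq_bot_iff.2 fun c hc => ?_)
  have hc' : (c : E.H a k) ∈ E.Hgr a k (n - 1) := (mem_shiftRes_Hgr a).1 hc
  exact (h E).le hc'

theorem van_torsion {k : ℕ} {n : ℤ} {X : GMod.{u} 𝒜} (h : LocCoh.IsPowerTorsion a.toIdeal X.carrier) :
    Van a (k + 1) n X := fun E =>
  haveI := subsingleton_of_torsion a (E := E) h k
  eq_bot_iff.2 fun c _ => (Submodule.mem_bot _).2 (Subsingleton.elim c 0)

theorem eq_zero_of_van {n : ℤ} {X : GMod.{u} 𝒜} (h : Van a 0 n X) {m : X.carrier} (hm : m ∈ X.gr n)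
    (hg : m ∈ gam a.toIdeal X.carrier) : m = 0 := by
  obtain ⟨E⟩ := S13215.result R 𝒜 X.carrier X.gr
  have h0 : E.toH a 0 ⟨E.ε m, gam_map _ E.ε hg, d_aug E m⟩ = 0 :=
    (Submodule.mem_bot _).1 ((h E).le ⟨⟨E.ε m, gam_map _ E.ε hg, d_aug E m⟩, E.ε_grHom n m hm, rfl⟩)
  have h1 : E.ε m ∈ E.cobdy a 0 := Submodule.mem_comap.1 ((Submodule.Quotient.mk_eq_zero ((E.cobdy a 0).comap (E.cocyc a 0).subtype)).1 h0)
  exact E.ε_injective (((Submodule.mem_bot _).1 h1).trans (map_zero _).symm)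

section SES
variable {A B C : GMod.{u} 𝒜} {f : A.carrier →ₗ[R] B.carrier} {g : B.carrier →ₗ[R] C.carrier}
  (hf : IsGrHom A.gr B.gr f) (hfi : Function.Injective f) (hg : IsGrHom B.gr C.gr g)
  (hgs : Function.Surjective g) (hfg : LinearMap.ker g = LinearMap.range f) {k : ℕ} {n : ℤ}

include hf hfi hg hgs hfg in
theorem van_mid (hA : Van a k n A) (hC : Van a k n C) : Van a k n B := by
  obtain ⟨E'⟩ := S13215.result R 𝒜 A.carrier A.gr
  obtain ⟨E''⟩ := S13215.result R 𝒜 C.carrier C.gr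
  intro E
  obtain ⟨δ, hδ, -, -, h2, -⟩ := exists_les (a := a) hg hgs hfg E E' E'' hf hfi
  letI := (S13225.isInternal_Hgr E a k).chooseDecomposition
  letI := (S13225.isInternal_Hgr E' a k).chooseDecomposition
  refine eq_bot_iff.2 fun c hc => (Submodule.mem_bot _).2 ?_
  have h0 : ind E E'' a g hg k c = 0 := (Submodule.mem_bot _).1 ((hC E'').le (ind_grHom a hg k n c hc))
  obtain ⟨b, hb⟩ := (h2 k).le h0
  have hp := pr_grHom (ind_grHom (E := E') (F := E) a hf k) n b
  rw [hb, pr_of_mem (show c ∈ E.Hgr a k n from hc)] at hp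
  rw [hp, (Submodule.mem_bot _).1 ((hA E').le (pr_mem (ℳ := E'.Hgr a k) n b)), map_zero]

include hf hfi hg hgs hfg in
theorem van_right (hB : Van a k n B) (hA : Van a (k + 1) n A) : Van a k n C := by
  obtain ⟨E'⟩ := S13215.result R 𝒜 A.carrier A.gr
  obtain ⟨E⟩ := S13215.result R 𝒜 B.carrier B.gr
  intro E''
  obtain ⟨δ, hδ, -, -, -, h3⟩ := exists_les (a := a) hg hgs hfg E E' E'' hf hfi
  letI := (S13225.isInternal_Hgr E'' a k).chooseDecomposition
  letI := (S13225.isInternal_Hgr E a k).chooseDecomposition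
  refine eq_bot_iff.2 fun c hc => (Submodule.mem_bot _).2 ?_
  have h0 : δ k c = 0 := (Submodule.mem_bot _).1 ((hA E').le (hδ k n c hc))
  obtain ⟨b, hb⟩ := (h3 k).le h0
  have hp := pr_grHom (ind_grHom (E := E) (F := E'') a hg k) n b
  rw [hb, pr_of_mem (show c ∈ E''.Hgr a k n from hc)] at hp
  rw [hp, (Submodule.mem_bot _).1 ((hB E).le (pr_mem (ℳ := E.Hgr a k) n b)), map_zero]

include hf hfi hg hgs hfg in
theorem van_left (hC : Van a k n C) (hB : Van a (k + 1) n B) : Van a (k + 1) n A := by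
  obtain ⟨E''⟩ := S13215.result R 𝒜 C.carrier C.gr
  obtain ⟨E⟩ := S13215.result R 𝒜 B.carrier B.gr
  intro E'
  obtain ⟨δ, hδ, -, h1, -, -⟩ := exists_les (a := a) hg hgs hfg E E' E'' hf hfi
  letI := (S13225.isInternal_Hgr E'' a k).chooseDecomposition
  letI := (S13225.isInternal_Hgr E' a (k + 1)).chooseDecomposition
  refine eq_bot_iff.2 fun c hc => (Submodule.mem_bot _).2 ?_
  have h0 : ind E' E a f hf (k + 1) c = 0 := (Submodule.mem_bot _).1 ((hB E).le (ind_grHom a hf (k + 1) n c hc))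
  obtain ⟨b, hb⟩ := (h1 k).le h0
  have hp := pr_grHom (hδ k) n b
  rw [hb, pr_of_mem (show c ∈ E'.Hgr a (k + 1) n from hc)] at hp
  rw [hp, (Submodule.mem_bot _).1 ((hC E'').le (pr_mem (ℳ := E''.Hgr a k) n b)), map_zero]

end SES

theorem van_prod {k : ℕ} {n : ℤ} {A B : GMod.{u} 𝒜} (hA : Van a k n A) (hB : Van a k n B) :
    Van a k n (prodMod A B) :=
  van_mid (f := inlP A B) (g := sndP A B) (fun _ _ hx => ⟨hx, zero_mem _⟩) (LinearMap.inl_injective)
    (fun _ _ hx => hx.2) (LinearMap.snd_surjective) (LinearMap.ker_snd R A.carrier B.carrier) hA hB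

/-! ### Cones -/

/-- A sequence of modules with a given first term. -/
def aug (A : GMod.{u} 𝒜) (X : ℕ → GMod.{u} 𝒜) : ℕ → GMod.{u} 𝒜
  | 0 => A
  | j + 1 => X j

/-- An augmented complex of graded modules. -/
structure Cx (A : GMod.{u} 𝒜) where
  X : ℕ → GMod.{u} 𝒜
  d : ∀ j, (aug A X (j + 1)).carrier →ₗ[R] (aug A X j).carrier
  d_grHom : ∀ j, IsGrHom (aug A X (j + 1)).gr (aug A X j).gr (d j)
  dd : ∀ j x, d j (d (j + 1) x) = 0

/-- `y` is null-homotopic on the complex. -/
def Cx.Htpy {A : GMod.{u} 𝒜} (C : Cx A) (y : R) : Prop :=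
  ∃ h : ∀ j, (aug A C.X j).carrier →ₗ[R] (aug A C.X (j + 1)).carrier,
    (∀ z, C.d 0 (h 0 z) = y • z) ∧ ∀ j z, C.d (j + 1) (h (j + 1) z) + h j (C.d j z) = y • z

section Cone
variable {A : GMod.{u} 𝒜} (C : Cx A) (x : R)

/-- The terms of the cone of multiplication by `x`. -/
noncomputable def coneX (j : ℕ) : GMod.{u} 𝒜 :=
  prodMod (aug A C.X (j + 1)) (shMod 𝒜 (aug A C.X j) 1)

/-- The differentials of the cone. -/
noncomputable def coneD : ∀ j, (aug A (coneX C) (j + 1)).carrier →ₗ[R] (aug A (coneX C) j).carrier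
  | 0 => (C.d 0).coprod (LinearMap.lsmul R A.carrier x)
  | j + 1 => LinearMap.prod
      ((C.d (j + 1)).coprod (LinearMap.lsmul R (aug A C.X (j + 1)).carrier x))
      (-(C.d j ∘ₗ LinearMap.snd R (aug A C.X (j + 1 + 1)).carrier (aug A C.X (j + 1)).carrier))

/-- The shifted component, in the unshifted type. -/
def sec {X Y : GMod.{u} 𝒜} (z : (prodMod X (shMod 𝒜 Y 1)).carrier) : Y.carrier := z.2

theorem coneD_grHom (hx : x ∈ 𝒜 1) : ∀ j, IsGrHom (aug A (coneX C) (j + 1)).gr (aug A (coneX C) j).gr (coneD C x j)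
  | 0 => fun g z hz => by
    have h : x • sec z ∈ A.gr (1 + (g - 1)) := A.gsmul.smul_mem hx hz.2
    rw [add_sub_cancel] at h
    exact add_mem (C.d_grHom 0 g z.1 hz.1) h
  | j + 1 => fun g z hz => by
    refine ⟨?_, AddSubgroup.neg_mem ((aug A C.X j).gr (g - 1)) (C.d_grHom j (g - 1) (sec z) hz.2)⟩
    have h : x • sec z ∈ (aug A C.X (j + 1)).gr (1 + (g - 1)) := (aug A C.X (j + 1)).gsmul.smul_mem hx hz.2
    rw [add_sub_cancel] at h
    exact add_mem (C.d_grHom (j + 1) g z.1 hz.1) h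

theorem coneD_dd : ∀ j z, coneD C x j (coneD C x (j + 1) z) = 0
  | 0, z => by
    show C.d 0 (C.d 1 z.1 + x • sec z) + x • (-(C.d 0 (sec z))) = 0
    rw [map_add, map_smul, C.dd, zero_add, smul_neg, add_neg_cancel]
  | j + 1, z => by
    refine Prod.ext ?_ ?_
    · show C.d (j + 1) (C.d (j + 1 + 1) z.1 + x • sec z) + x • (-(C.d (j + 1) (sec z))) = 0
      rw [map_add, map_smul, C.dd, zero_add, smul_neg, add_neg_cancel]
    · show -(C.d j (-(C.d (j + 1) (sec z)))) = 0
      rw [map_neg, C.dd, neg_zero, neg_zero]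

/-- The cone of multiplication by a linear form. -/
noncomputable def cone (hx : x ∈ 𝒜 1) : Cx A where
  X := coneX C
  d := coneD C x
  d_grHom := coneD_grHom C x hx
  dd := coneD_dd C x

theorem cone_htpy_self (hx : x ∈ 𝒜 1) : (cone C x hx).Htpy x := by
  let h : ∀ j, (aug A (coneX C) j).carrier →ₗ[R] (aug A (coneX C) (j + 1)).carrier := fun j =>
    match j with
    | 0 => LinearMap.inr R (aug A C.X 1).carrier A.carrier
    | j + 1 => LinearMap.inr R (aug A C.X (j + 1 + 1)).carrier (aug A C.X (j + 1)).carrier ∘ₗ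
        LinearMap.fst R (aug A C.X (j + 1)).carrier (aug A C.X j).carrier
  refine ⟨h, fun z => ?_, fun j z => ?_⟩
  · have h1 : ∀ w : (aug A C.X 0).carrier, C.d 0 0 + x • w = x • w := fun w => by rw [map_zero, zero_add]
    exact h1 z
  · cases j with
    | zero =>
      refine Prod.ext ?_ ?_
      · show (C.d 1 0 + x • z.1) + 0 = x • z.1
        rw [map_zero, zero_add, add_zero]
      · show -(C.d 0 z.1) + (C.d 0 z.1 + x • sec z) = x • sec z
        rw [neg_add_cancel_left]
    | succ j =>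
      refine Prod.ext ?_ ?_
      · show (C.d (j + 1 + 1) 0 + x • z.1) + 0 = x • z.1
        rw [map_zero, zero_add, add_zero]
      · show -(C.d (j + 1) z.1) + (C.d (j + 1) z.1 + x • sec z) = x • sec z
        rw [neg_add_cancel_left]

theorem cone_htpy (hx : x ∈ 𝒜 1) {y : R} (hy : C.Htpy y) : (cone C x hx).Htpy y := by
  obtain ⟨h, h0, hs⟩ := hy
  let h' : ∀ j, (aug A (coneX C) j).carrier →ₗ[R] (aug A (coneX C) (j + 1)).carrier := fun j =>
    match j with
    | 0 => LinearMap.inl R (aug A C.X 1).carrier A.carrier ∘ₗ h 0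
    | j + 1 => LinearMap.prodMap (h (j + 1)) (-(h j))
  refine ⟨h', fun z => ?_, fun j z => ?_⟩
  · have h1 : ∀ w : (aug A C.X 0).carrier, C.d 0 (h 0 w) + x • (0 : (aug A C.X 0).carrier) = y • w := fun w => by
      rw [smul_zero, add_zero, h0]
    exact h1 z
  · cases j with
    | zero =>
      refine Prod.ext ?_ ?_
      · show (C.d 1 (h 1 z.1) + x • (-(h 0 (sec z)))) + h 0 (C.d 0 z.1 + x • sec z) = y • z.1
        rw [map_add, map_smul, smul_neg, ← hs 0 z.1]
        abel
      · show -(C.d 0 (-(h 0 (sec z)))) + 0 = y • sec z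
        rw [map_neg, neg_neg, add_zero, h0]
    | succ j =>
      refine Prod.ext ?_ ?_
      · show (C.d (j + 1 + 1) (h (j + 1 + 1) z.1) + x • (-(h (j + 1) (sec z))))
          + h (j + 1) (C.d (j + 1) z.1 + x • sec z) = y • z.1
        rw [map_add, map_smul, smul_neg, ← hs (j + 1) z.1]
        abel
      · show -(C.d (j + 1) (-(h (j + 1) (sec z)))) + -(h j (-(C.d j (sec z)))) = y • sec z
        rw [map_neg, map_neg, neg_neg, neg_neg, hs]

end Cone

variable (a) in
/-- The vanishing carried by the `j`-th term. -/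
def VanAll (l : ℕ) (r : ℤ) (X : ℕ → GMod.{u} 𝒜) : Prop :=
  ∀ (j k : ℕ) (n : ℤ), l ≤ k → (k : ℤ) + n = r + 1 + j → Van a k n (X j)

theorem exists_cx {A : GMod.{u} 𝒜} (l : ℕ) (hl : 1 ≤ l) (r : ℤ)
    (hA : ∀ (k : ℕ) (n : ℤ), l ≤ k → (k : ℤ) + n = r + 1 → Van a k n A) :
    ∀ L : List R, (∀ y ∈ L, y ∈ 𝒜 1) → ∃ C : Cx A, VanAll a l r (aug A C.X) ∧
      (∀ j, L.length ≤ j → Subsingleton (C.X j).carrier) ∧
      (∀ y ∈ L, C.Htpy y) ∧ LinearMap.range (C.d 0) ≤ Ideal.span {y | y ∈ L} • (⊤ : Submodule R A.carrier) := by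
  intro L
  induction L with
  | nil =>
    intro _
    let Z : GMod.{u} 𝒜 := subMod 𝒜 (⊥ : Submodule R A.carrier) (hom_bot (ℳ := A.gr))
    haveI hZ : Subsingleton Z.carrier := inferInstanceAs (Subsingleton (⊥ : Submodule R A.carrier))
    refine ⟨⟨fun _ => Z, fun _ => 0, fun _ _ _ _ => zero_mem _, fun _ _ => rfl⟩, ?_, fun _ _ => hZ,
      fun _ h => absurd h (List.not_mem_nil), ?_⟩
    · intro j k n hk hn
      cases j with
      | zero => exact hA k n hk (by simpa using hn)
      | succ j =>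
        obtain ⟨k, rfl⟩ : ∃ k', k = k' + 1 := ⟨k - 1, by omega⟩
        exact van_torsion fun z => ⟨0, fun s _ => @Subsingleton.elim _ hZ _ _⟩
    · rintro _ ⟨z, rfl⟩
      exact zero_mem _
  | cons x L ih =>
    intro hL
    obtain ⟨C, hV, hsub, hh, hr⟩ := ih fun y hy => hL y (List.mem_cons_of_mem x hy)
    have hx := hL x List.mem_cons_self
    refine ⟨cone C x hx, ?_, ?_, ?_, ?_⟩
    · intro j k n hk hn
      cases j with
      | zero => exact hA k n hk (by simpa using hn)
      | succ j =>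
        exact van_prod (hV (j + 1) k n hk hn) (van_shift (hV j k (n - 1) hk (by push_cast at hn; omega)))
    · intro j hj
      simp only [List.length_cons] at hj
      obtain ⟨j, rfl⟩ : ∃ j', j = j' + 1 := ⟨j - 1, by omega⟩
      haveI : Subsingleton (aug A C.X (j + 1 + 1)).carrier := hsub (j + 1) (by omega)
      haveI : Subsingleton (aug A C.X (j + 1)).carrier := hsub j (by omega)
      exact inferInstanceAs (Subsingleton ((aug A C.X (j + 1 + 1)).carrier × (aug A C.X (j + 1)).carrier))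
    · intro y hy
      rcases List.mem_cons.1 hy with rfl | hy
      · exact cone_htpy_self C y hx
      · exact cone_htpy C x hx (hh y hy)
    · rintro _ ⟨z, rfl⟩
      have h1 : ∀ p q : A.carrier, p ∈ Ideal.span {y | y ∈ L} • (⊤ : Submodule R A.carrier) →
          p + x • q ∈ Ideal.span {y | y ∈ x :: L} • (⊤ : Submodule R A.carrier) := fun p q hp =>
        add_mem (Submodule.smul_mono_left (Ideal.span_mono fun y hy => List.mem_cons_of_mem x hy) hp)
          (Submodule.smul_mem_smul (Ideal.subset_span List.mem_cons_self) Submodule.mem_top)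
      exact h1 (C.d 0 z.1) (sec z) (hr ⟨z.1, rfl⟩)

section Core
variable {A : GMod.{u} 𝒜} (C : Cx A) {l : ℕ} (hl : 1 ≤ l) {r : ℤ} (hV : VanAll a l r (aug A C.X))
  {N : ℕ} (hsub : ∀ j, N ≤ j → Subsingleton (C.X j).carrier)
  (hkill : ∀ j, ∀ y ∈ a.toIdeal, ∀ z, C.d j z = 0 → y • z ∈ LinearMap.range (C.d (j + 1)))

include hl hV hsub hkill in
theorem van_range : ∀ (e j : ℕ), N ≤ j + e → ∀ (k : ℕ) (n : ℤ), l ≤ k → (k : ℤ) + n = r + 2 + j →
    Van a k n (subMod 𝒜 (LinearMap.range (C.d j)) (hom_range (C.d_grHom j))) := by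
  intro e
  induction e with
  | zero =>
    intro j hj k n hk _
    obtain ⟨k, rfl⟩ : ∃ k', k = k' + 1 := ⟨k - 1, by omega⟩
    refine van_torsion fun w => ⟨0, fun s _ => ?_⟩
    haveI : Subsingleton (aug A C.X (j + 1)).carrier := hsub j (by omega)
    have h : ∀ w' : (LinearMap.range (C.d j) : Submodule R (aug A C.X j).carrier), s • w' = 0 := by
      rintro ⟨_, z, rfl⟩
      exact Subtype.ext (by
        show s • C.d j z = 0
        rw [Subsingleton.elim z 0, map_zero, smul_zero])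
    exact h w
  | succ e ih =>
    intro j hj k n hk hn
    let Bj : Submodule R (aug A C.X j).carrier := LinearMap.range (C.d j)
    have hBj : Bj.IsHomogeneous (aug A C.X j).gr := hom_range (C.d_grHom j)
    let Z : Submodule R (aug A C.X (j + 1)).carrier := LinearMap.ker (C.d j)
    have hZ : Z.IsHomogeneous (aug A C.X (j + 1)).gr := hom_ker (C.d_grHom j)
    let B' : Submodule R (aug A C.X (j + 1)).carrier := LinearMap.range (C.d (j + 1))
    have hB' : B'.IsHomogeneous (aug A C.X (j + 1)).gr := hom_range (C.d_grHom (j + 1))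
    obtain ⟨g, hg, hge⟩ := exists_lift (𝒜 := 𝒜) hBj (C.d_grHom j) le_rfl
    have hge' : ∀ z, subInc 𝒜 Bj hBj (g z) = C.d j z := fun z => LinearMap.congr_fun hge z
    have hgs : Function.Surjective g := fun w => by
      obtain ⟨z, hz⟩ := (range_subInc (𝒜 := 𝒜) hBj).le ⟨w, rfl⟩
      exact ⟨z, subInc_injective hBj ((hge' z).trans hz)⟩
    have hgk : LinearMap.ker g = LinearMap.range (subInc 𝒜 Z hZ) := by
      rw [range_subInc]
      ext z
      show g z = 0 ↔ C.d j z = 0
      rw [← hge' z, map_eq_zero_iff _ (subInc_injective hBj)]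
    refine van_right (grHom_subInc hZ) (subInc_injective hZ) hg hgs hgk
      (hV (j + 1) k n hk (by push_cast; omega)) ?_
    -- the cycles
    obtain ⟨i, hi, hie⟩ := exists_lift (𝒜 := 𝒜) hZ (grHom_subInc (𝒜 := 𝒜) hB') (by
      rw [range_subInc]
      rintro _ ⟨z, rfl⟩
      exact C.dd j z)
    have hie' : ∀ w, subInc 𝒜 Z hZ (i w) = subInc 𝒜 B' hB' w := fun w => LinearMap.congr_fun hie w
    have hii : Function.Injective i := fun p q h => subInc_injective hB' (by rw [← hie', ← hie', h])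
    let P : Submodule R (subMod 𝒜 Z hZ).carrier := LinearMap.range i
    have hP : P.IsHomogeneous (subMod 𝒜 Z hZ).gr := hom_range hi
    refine van_mid hi hii (grHom_quoMk hP) (Submodule.mkQ_surjective P) (Submodule.ker_mkQ P)
      (ih (j + 1) (by omega) (k + 1) n (by omega) (by push_cast; omega)) (van_torsion fun w => ⟨1, fun s hs => ?_⟩)
    obtain ⟨z, rfl⟩ := Submodule.mkQ_surjective P w
    rw [pow_one] at hs
    have hz : subInc 𝒜 Z hZ z ∈ Z := (range_subInc (𝒜 := 𝒜) hZ).le ⟨z, rfl⟩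
    obtain ⟨b, hb⟩ := (range_subInc (𝒜 := 𝒜) hB').ge (hkill j s hs _ hz)
    have hP' : s • z ∈ P := ⟨b, subInc_injective hZ (by rw [hie', hb, map_smul])⟩
    exact ((Submodule.Quotient.mk_smul P s z).symm.trans ((Submodule.Quotient.mk_eq_zero P).2 hP'))

end Core

/-- The submodule `aM` satisfies the shifted vanishing. -/
theorem van_smul_top {s : Finset R} (hs : ∀ y ∈ s, y ∈ 𝒜 1) (hspan : Ideal.span (s : Set R) = a.toIdeal)
    {A : GMod.{u} 𝒜} {l : ℕ} (hl : 1 ≤ l) {r : ℤ}
    (hA : ∀ (k : ℕ) (n : ℤ), l ≤ k → (k : ℤ) + n = r + 1 → Van a k n A)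
    (hP : (a.toIdeal • (⊤ : Submodule R A.carrier)).IsHomogeneous A.gr) (k : ℕ) (n : ℤ) (hk : l ≤ k)
    (hn : (k : ℤ) + n = r + 2) : Van a k n (subMod 𝒜 (a.toIdeal • ⊤) hP) := by
  obtain ⟨C, hV, hsub, hh, hr⟩ := exists_cx l hl r hA s.toList fun y hy => hs y (Finset.mem_toList.1 hy)
  have hL : Ideal.span {y | y ∈ s.toList} = a.toIdeal := by
    rw [← hspan]; exact congrArg Ideal.span (Set.ext fun y => Finset.mem_toList)
  rw [hL] at hr
  have hkill : ∀ j, ∀ y ∈ a.toIdeal, ∀ z, C.d j z = 0 → y • z ∈ LinearMap.range (C.d (j + 1)) := by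
    intro j y hy z hz
    rw [← hL] at hy
    induction hy using Submodule.span_induction with
    | mem y hy =>
      obtain ⟨h, -, hh'⟩ := hh y hy
      refine ⟨h (j + 1) z, ?_⟩
      rw [← hh' j z, hz, map_zero, add_zero]
    | zero => rw [zero_smul]; exact zero_mem _
    | add p q _ _ hp hq => rw [add_smul]; exact add_mem hp hq
    | smul c p _ hp => rw [smul_assoc]; exact Submodule.smul_mem _ c hp
  have heq : LinearMap.range (C.d 0) = a.toIdeal • (⊤ : Submodule R (aug A C.X 0).carrier) := by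
    refine le_antisymm hr (Submodule.smul_le.2 fun y hy z _ => ?_)
    rw [← hL] at hy
    induction hy using Submodule.span_induction with
    | mem y hy =>
      obtain ⟨h, h0, -⟩ := hh y hy
      exact ⟨h 0 z, h0 z⟩
    | zero => rw [zero_smul]; exact zero_mem _
    | add p q _ _ hp hq => rw [add_smul]; exact add_mem hp hq
    | smul c p _ hp => rw [smul_assoc]; exact Submodule.smul_mem _ c hp
  have key := van_range C hl hV hsub hkill s.toList.length 0 (by omega) k n hk (by simpa using hn)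
  have main : ∀ (P : Submodule R A.carrier) (hP' : P.IsHomogeneous A.gr) (Q : Submodule R A.carrier)
      (hQ : Q.IsHomogeneous A.gr), Q = P → Van a k n (subMod 𝒜 Q hQ) → Van a k n (subMod 𝒜 P hP') := by
    rintro P hP' Q hQ rfl h
    exact h
  exact main _ hP _ (hom_range (C.d_grHom 0)) heq key

theorem hom_smul_top (X : GMod.{u} 𝒜) : (a.toIdeal • (⊤ : Submodule R X.carrier)).IsHomogeneous X.gr :=
  fun i x hx => by
    show pr X.gr i x ∈ _
    refine Submodule.smul_induction_on (p := fun y => pr X.gr i y ∈ a.toIdeal • (⊤ : Submodule R X.carrier)) hx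
      (fun r hr y _ => ?_) (fun y z hy hz => ?_)
    · rw [← sum_supp (ℳ := 𝒜) r, Finset.sum_smul, map_sum]
      refine sum_mem fun d _ => ?_
      rw [pr_smul' (pr_mem d r)]
      exact Submodule.smul_mem_smul (a.isHomogeneous d hr) Submodule.mem_top
    · rw [map_add]; exact add_mem hy hz

theorem exists_gens (hhom : a.toIdeal = Ideal.span ((𝒜 1 : AddSubgroup R) : Set R)) :
    ∃ s : Finset R, (∀ y ∈ s, y ∈ 𝒜 1) ∧ Ideal.span (s : Set R) = a.toIdeal := by
  obtain ⟨s, hs, hs'⟩ := Submodule.fg_span_iff_fg_span_finset_subset ((𝒜 1 : AddSubgroup R) : Set R) |>.1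
    (hhom ▸ IsNoetherian.noetherian a.toIdeal)
  exact ⟨s, fun y hy => hs hy, by rw [hhom]; exact hs'.symm⟩

theorem isPowerTorsion_quo (X : GMod.{u} 𝒜) :
    LocCoh.IsPowerTorsion a.toIdeal (quoMod 𝒜 (a.toIdeal • ⊤) (hom_smul_top (a := a) X)).carrier := by
  intro w
  refine ⟨1, fun s hs => ?_⟩
  obtain ⟨z, rfl⟩ := Submodule.mkQ_surjective (a.toIdeal • (⊤ : Submodule R X.carrier)) w
  rw [pow_one] at hs
  exact (Submodule.Quotient.mk_smul _ s z).symm.trans
    ((Submodule.Quotient.mk_eq_zero _).2 (Submodule.smul_mem_smul hs Submodule.mem_top))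

/-- Castelnuovo's propagation of vanishing. -/
theorem van_of_van (hhom : a.toIdeal = Ideal.span ((𝒜 1 : AddSubgroup R) : Set R)) {A : GMod.{u} 𝒜}
    {l : ℕ} (hl : 1 ≤ l) {r : ℤ} (hA : ∀ (k : ℕ) (n : ℤ), l ≤ k → (k : ℤ) + n = r + 1 → Van a k n A) :
    ∀ (t : ℕ) (k : ℕ) (n : ℤ), l ≤ k → (k : ℤ) + n = r + 1 + t → Van a k n A := by
  obtain ⟨s, hs, hspan⟩ := exists_gens hhom
  intro t
  induction t with
  | zero => exact fun k n hk hn => hA k n hk (by simpa using hn)
  | succ t ih =>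
    intro k n hk hn
    obtain ⟨k, rfl⟩ : ∃ k', k = k' + 1 := ⟨k - 1, by omega⟩
    exact van_mid (grHom_subInc (hom_smul_top A)) (subInc_injective (hom_smul_top A))
      (grHom_quoMk (hom_smul_top A)) (Submodule.mkQ_surjective _)
      ((Submodule.ker_mkQ _).trans (range_subInc (𝒜 := 𝒜) (hom_smul_top A)).symm)
      (van_smul_top hs hspan hl (r := r + t) (fun j m hj hm => ih j m hj (by omega)) (hom_smul_top A)
        (k + 1) n hk (by push_cast at hn ⊢; omega))
      (van_torsion (isPowerTorsion_quo A))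

/-- Generation: a piece beyond the regularity lies in `aM`. -/
theorem mem_smul_top_of_van (hhom : a.toIdeal = Ideal.span ((𝒜 1 : AddSubgroup R) : Set R)) {A : GMod.{u} 𝒜}
    {n : ℤ} (h0 : Van a 0 n A) (hA : ∀ (k : ℕ) (m : ℤ), 1 ≤ k → (k : ℤ) + m = n → Van a k m A)
    {x : A.carrier} (hx : x ∈ A.gr n) : x ∈ a.toIdeal • (⊤ : Submodule R A.carrier) := by
  obtain ⟨s, hs, hspan⟩ := exists_gens hhom
  have hB := van_smul_top hs hspan le_rfl (r := n - 1) (A := A) (fun k m hk hm => hA k m hk (by omega))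
    (hom_smul_top A) 1 n le_rfl (by omega)
  have hQ : Van a 0 n (quoMod 𝒜 (a.toIdeal • ⊤) (hom_smul_top (a := a) A)) :=
    van_right (grHom_subInc (hom_smul_top A)) (subInc_injective (hom_smul_top A))
      (grHom_quoMk (hom_smul_top A)) (Submodule.mkQ_surjective _)
      ((Submodule.ker_mkQ _).trans (range_subInc (𝒜 := 𝒜) (hom_smul_top A)).symm) h0 hB
  have h := eq_zero_of_van hQ (grHom_quoMk (𝒜 := 𝒜) (hom_smul_top (a := a) A) n x hx)
    (isPowerTorsion_quo A _)
  exact (Submodule.Quotient.mk_eq_zero _).1 h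

/-- A finitely generated module has degrees bounded below. -/
theorem exists_lower_bound (hpos : ∀ n : ℤ, n < 0 → 𝒜 n = ⊥) (X : GMod.{u} 𝒜) [Module.Finite R X.carrier] :
    ∃ D : ℤ, ∀ n, n < D → ∀ x ∈ X.gr n, x = 0 := by
  classical
  obtain ⟨N, deg, v, hv, hspan⟩ := exists_hom_gens (R := R) (ℳ := X.gr)
  obtain ⟨B, hB⟩ := Finite.exists_le fun j => -deg j
  refine ⟨-B, fun n hn x hx => ?_⟩
  obtain ⟨c, hc⟩ := (Submodule.mem_span_range_iff_exists_fun R).1
    (show x ∈ Submodule.span R (Set.range v) by rw [hspan]; trivial)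
  rw [← pr_of_mem hx, ← hc, map_sum]
  refine Finset.sum_eq_zero fun j _ => ?_
  have h' := pr_map (ℳ := 𝒜) (𝒩 := X.gr) (f := (smulAddHom R X.carrier).flip (v j)) (d := deg j)
    (fun g b hb => smul_mem_gr hb (hv j)) (n - deg j) (c j)
  rw [sub_add_cancel] at h'
  rw [show pr X.gr n (c j • v j) = pr 𝒜 (n - deg j) (c j) • v j from h']
  have h0 : pr 𝒜 (n - deg j) (c j) = 0 :=
    AddSubgroup.mem_bot.1 ((hpos _ (by have := hB j; omega)).le (pr_mem _ _))
  rw [h0, zero_smul]

/-- A module whose high pieces lie in `aM` is generated by the low ones. -/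
theorem mem_span_low (hpos : ∀ n : ℤ, n < 0 → 𝒜 n = ⊥) (hhom : a.toIdeal = Ideal.span ((𝒜 1 : AddSubgroup R) : Set R))
    (X : GMod.{u} 𝒜) [Module.Finite R X.carrier] (p : ℤ → Prop)
    (hp : ∀ n, ¬ p n → ∀ x ∈ X.gr n, x ∈ a.toIdeal • (⊤ : Submodule R X.carrier)) (x : X.carrier) :
    x ∈ Submodule.span R (⋃ (n : ℤ) (_ : p n), (X.gr n : Set X.carrier)) := by
  obtain ⟨D, hD⟩ := exists_lower_bound hpos X
  have key : ∀ t : ℕ, ∀ n, n < D + t → ∀ y ∈ X.gr n, y ∈ Submodule.span R (⋃ (n : ℤ) (_ : p n), (X.gr n : Set X.carrier)) := by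
    intro t
    induction t with
    | zero => intro n hn y hy; rw [hD n (by simpa using hn) y hy]; exact zero_mem _
    | succ t ih =>
      intro n hn y hy
      by_cases hpn : p n
      · exact Submodule.subset_span (Set.mem_biUnion hpn hy)
      rw [← pr_of_mem hy]
      have hy' := hp n hpn y hy
      rw [hhom] at hy'
      clear hy
      induction hy' using Submodule.smul_induction_on' with
      | add p q _ _ h1 h2 => rw [map_add]; exact add_mem h1 h2
      | smul r hr z _ =>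
        induction hr using Submodule.span_induction generalizing z with
        | mem r hr =>
          rw [pr_smul' (show r ∈ 𝒜 1 from hr)]
          exact Submodule.smul_mem _ r (ih (n - 1) (by push_cast at hn; omega) _ (pr_mem _ z))
        | zero => rw [zero_smul, map_zero]; exact zero_mem _
        | add p q _ _ h1 h2 => rw [add_smul, map_add]; exact add_mem (h1 z Submodule.mem_top) (h2 z Submodule.mem_top)
        | smul c p _ h1 => rw [smul_eq_mul, mul_comm, mul_smul]; exact h1 (c • z) Submodule.mem_top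
  induction x using induction X.gr with
  | h0 => exact zero_mem _
  | hh i m hm => exact key (i - D + 1).toNat i (by omega) m hm
  | hadd p q h1 h2 => exact add_mem h1 h2

end Groth.Agent.GrInj
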