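import Groth.Agent.GrInj.SegreKDim
import Groth.Agent.GrInj.TopDim

/-!
# The Künneth formulas for gradings by submodules
-/

set_option autoImplicit false
set_option linter.unusedSectionVars false
universe u

open TensorProduct

namespace Groth.Agent.GrInj.SegK

open GrLC

variable {k : Type u} [Field k] {R : Type u} [CommRing R] [Algebra k R] {𝒜 : ℤ → Submodule k R}
  [GradedAlgebra 𝒜]
  {M : Type u} [AddCommGroup M] [Module R M] {τ : Type u} [SetLike τ M] [AddSubgroupClass τ M]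
  {ℳ : ℤ → τ} [DirectSum.Decomposition ℳ] [SetLike.GradedSMul 𝒜 ℳ]

theorem finrank_Hcomp_res (E : StarInjRes 𝒜 ℳ) (a : HomogeneousIdeal 𝒜) (i : ℕ) (n : ℤ) :
    Module.finrank (deg0 (Conv.grp 𝒜)) ((Conv.res E).Hcomp (Conv.ideal 𝒜 a) i n) =
      Module.finrank (deg0 𝒜) (E.Hcomp a i n) := rfl

theorem finrank_comp_grp (n : ℤ) :
    Module.finrank (deg0 (Conv.grp 𝒜)) (comp (Conv.grp 𝒜) (Conv.grp ℳ) n) =
      Module.finrank (deg0 𝒜) (comp 𝒜 ℳ n) := rfl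

theorem finrank_comp_self [Nontrivial R] (h0 : 𝒜 0 = Submodule.span k {(1 : R)}) (n : ℤ) :
    Module.finrank (deg0 𝒜) (comp 𝒜 𝒜 n) = Module.finrank k (𝒜 n) := by
  obtain ⟨σ, hσ⟩ := exists_deg0Equiv (𝒜 := 𝒜) h0
  let c : 𝒜 n →+ comp (Conv.grp 𝒜) (Conv.grp 𝒜) n :=
    AddMonoidHom.mk' (fun x => ⟨x.1, x.2⟩) fun _ _ => rfl
  exact (finrank_eq_of_surj σ (LinearMap.id : 𝒜 n →ₗ[k] 𝒜 n) c
    (fun r x => Subtype.ext (by show r • x.1 = (σ r : R) * x.1; rw [hσ, ← Algebra.smul_def]))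
    Function.surjective_id (fun y => ⟨⟨y.1, y.2⟩, rfl⟩)
    fun x => ⟨fun h => by
        rw [LinearMap.id_apply] at h; subst h; exact map_zero c,
      fun h => Subtype.ext (congrArg (fun y : comp (Conv.grp 𝒜) (Conv.grp 𝒜) n => (y : R)) h)⟩).1

theorem exists_data [Nontrivial R] [Algebra.FiniteType k R] (h0 : 𝒜 0 = Submodule.span k {(1 : R)})
    (m : HomogeneousIdeal 𝒜) (hm : m.toIdeal = Ideal.span (⋃ n ∈ Set.Ioi (0 : ℤ), (𝒜 n : Set R)))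
    (E : StarInjRes 𝒜 ℳ) :
    ∃ (G : Gens (Conv.grp 𝒜) (Conv.ideal 𝒜 m).toIdeal) (_ : ∀ n, Good G ((Conv.res E).X n))
      (σ : k ≃+* deg0 (Conv.grp 𝒜)), ∀ c, (σ c : R) = algebraMap k R c := by
  haveI : IsNoetherianRing R := Algebra.FiniteType.isNoetherianRing k R
  obtain ⟨σ, hσ⟩ := exists_deg0Equiv (𝒜 := 𝒜) h0
  obtain ⟨G, hG⟩ := exists_gens (𝒜 := Conv.grp 𝒜) (Conv.ideal 𝒜 m).toIdeal hm
  exact ⟨G, fun n => (nonempty_good G hG _ ((Conv.res E).starInj n)).some, σ, hσ⟩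

theorem irrelevant_mem {m : HomogeneousIdeal 𝒜}
    (hm : m.toIdeal = Ideal.span (⋃ n ∈ Set.Ioi (0 : ℤ), (𝒜 n : Set R))) (n : ℤ) (hn : 0 < n) (p : R)
    (hp : p ∈ 𝒜 n) : p ∈ (Conv.ideal 𝒜 m).toIdeal := by
  show p ∈ m.toIdeal
  rw [hm]
  exact Ideal.subset_span (Set.mem_biUnion (Set.mem_Ioi.2 hn) hp)

variable {S : Type u} [CommRing S] [Algebra k S] {ℬ : ℤ → Submodule k S} [GradedAlgebra ℬ]
  {N : Type u} [AddCommGroup N] [Module S N] {τ' : Type u} [SetLike τ' N] [AddSubgroupClass τ' N]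
  {𝒩 : ℤ → τ'} [DirectSum.Decomposition 𝒩] [SetLike.GradedSMul ℬ 𝒩]
  {T : Type u} [CommRing T] [Algebra k T] {𝒯 : ℤ → Submodule k T} [GradedAlgebra 𝒯]
  {ψ : T →ₐ[k] R ⊗[k] S}
  [Module k M] [IsScalarTower k R M] [Module k N] [IsScalarTower k S N]
  {P : Type u} [AddCommGroup P] [Module T P] [Module k P] [IsScalarTower k T P]
  {τ'' : Type u} [SetLike τ'' P] [AddSubgroupClass τ'' P] {𝒬 : ℤ → τ''}
  [DirectSum.Decomposition 𝒬] [SetLike.GradedSMul 𝒯 𝒬] {φ : P →ₗ[k] M ⊗[k] N}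

theorem isSegreMod_grp (hP : GrSeg.IsSegreMod ψ ℳ 𝒩 𝒬 φ) :
    GrSeg.IsSegreMod ψ (Conv.grp ℳ) (Conv.grp 𝒩) (Conv.grp 𝒬) φ :=
  ⟨hP.injective, hP.image_piece, hP.map_smul⟩

theorem isSegreMod_self (hT : GrSeg.IsSegreRing 𝒜 ℬ 𝒯 ψ) :
    GrSeg.IsSegreMod ψ 𝒜 ℬ 𝒯 ψ.toLinearMap :=
  ⟨hT.1, fun n => (Submodule.map_coe ψ.toLinearMap (𝒯 n)).symm.trans (congrArg SetLike.coe (hT.2 n)),
    fun t p => by rw [act_eq_mul, smul_eq_mul]; exact map_mul ψ t p⟩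

/-- The dimension formula for modules of depth at least two. -/
theorem kunneth_depth_two [Nontrivial R] [Nontrivial S] [Algebra.FiniteType k R] [Algebra.FiniteType k S]
    (hposR : ∀ n : ℤ, n < 0 → 𝒜 n = ⊥) (h0R : 𝒜 0 = Submodule.span k {(1 : R)})
    (hposS : ∀ n : ℤ, n < 0 → ℬ n = ⊥) (h0S : ℬ 0 = Submodule.span k {(1 : S)})
    (hT : GrSeg.IsSegreRing 𝒜 ℬ 𝒯 ψ)
    (mR : HomogeneousIdeal 𝒜) (hmR : mR.toIdeal = Ideal.span (⋃ n ∈ Set.Ioi (0 : ℤ), (𝒜 n : Set R)))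
    (mS : HomogeneousIdeal ℬ) (hmS : mS.toIdeal = Ideal.span (⋃ n ∈ Set.Ioi (0 : ℤ), (ℬ n : Set S)))
    (mT : HomogeneousIdeal 𝒯) (hmT : mT.toIdeal = Ideal.span (⋃ n ∈ Set.Ioi (0 : ℤ), (𝒯 n : Set T)))
    [Module.Finite R M] [Module.Finite S N]
    (EM : StarInjRes 𝒜 ℳ) (EN : StarInjRes ℬ 𝒩) (hP : GrSeg.IsSegreMod ψ ℳ 𝒩 𝒬 φ)
    (EP : StarInjRes 𝒯 𝒬) (d : ℤ) (hM : ∀ q, q ≤ 1 → EM.Hcomp mR q d = ⊥)
    (hN : ∀ q, q ≤ 1 → EN.Hcomp mS q d = ⊥) (q : ℕ) :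
    Module.finrank (deg0 𝒯) (EP.Hcomp mT q d) =
      Module.finrank (deg0 𝒜) (comp 𝒜 ℳ d) * Module.finrank (deg0 ℬ) (EN.Hcomp mS q d) +
        Module.finrank (deg0 𝒜) (EM.Hcomp mR q d) * Module.finrank (deg0 ℬ) (comp ℬ 𝒩 d) +
        (Finset.range (q + 2)).sum (fun i => Module.finrank (deg0 𝒜) (EM.Hcomp mR i d) *
          Module.finrank (deg0 ℬ) (EN.Hcomp mS (q + 1 - i) d)) := by
  haveI : IsNoetherianRing R := Algebra.FiniteType.isNoetherianRing k R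
  haveI : IsNoetherianRing S := Algebra.FiniteType.isNoetherianRing k S
  haveI : IsNoetherianRing T := SegreDim.isNoetherian ψ hT.1 hT.2
  haveI := nontrivial_segre ψ
  obtain ⟨σT, hσT⟩ := exists_deg0Equiv (deg0_segre hT h0R h0S)
  obtain ⟨GR, DM, σR, hσR⟩ := exists_data h0R mR hmR EM
  obtain ⟨GS, DN, σS, hσS⟩ := exists_data h0S mS hmS EN
  exact finrank_formula (Conv.res EM) DM σR hσR (Conv.res EN) DN σS hσS hT hmT (irrelevant_mem hmR)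
    (irrelevant_mem hmS) (isSegreMod_grp hP) (Conv.res EP) σT hσT d
    (fun q hq => (Conv.res_Hcomp EM mR q d).2 (hM q hq)) (fun q hq => (Conv.res_Hcomp EN mS q d).2 (hN q hq))
    (fun i => (finite_pieces (a := Conv.ideal 𝒜 mR) (Conv.res EM) d hposR hmR i).1)
    (fun i => (finite_pieces (a := Conv.ideal ℬ mS) (Conv.res EN) d hposS hmS i).1)
    (finite_pieces (a := Conv.ideal 𝒜 mR) (Conv.res EM) d hposR hmR 0).2 (finite_pieces (a := Conv.ideal ℬ mS) (Conv.res EN) d hposS hmS 0).2 q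

/-- The pieces of the top local cohomology. -/
theorem kunneth_top [Nontrivial R] [Nontrivial S] [Algebra.FiniteType k R] [Algebra.FiniteType k S]
    (hposR : ∀ n : ℤ, n < 0 → 𝒜 n = ⊥) (h0R : 𝒜 0 = Submodule.span k {(1 : R)})
    (hposS : ∀ n : ℤ, n < 0 → ℬ n = ⊥) (h0S : ℬ 0 = Submodule.span k {(1 : S)})
    (hT : GrSeg.IsSegreRing 𝒜 ℬ 𝒯 ψ)
    (mR : HomogeneousIdeal 𝒜) (hmR : mR.toIdeal = Ideal.span (⋃ n ∈ Set.Ioi (0 : ℤ), (𝒜 n : Set R)))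
    (mS : HomogeneousIdeal ℬ) (hmS : mS.toIdeal = Ideal.span (⋃ n ∈ Set.Ioi (0 : ℤ), (ℬ n : Set S)))
    (mT : HomogeneousIdeal 𝒯) (hmT : mT.toIdeal = Ideal.span (⋃ n ∈ Set.Ioi (0 : ℤ), (𝒯 n : Set T)))
    [Module.Finite R M] [Module.Finite S N]
    (EM : StarInjRes 𝒜 ℳ) (EN : StarInjRes ℬ 𝒩) (hP : GrSeg.IsSegreMod ψ ℳ 𝒩 𝒬 φ)
    (EP : StarInjRes 𝒯 𝒬) (d : ℤ) {r s : ℕ} (hr : ringKrullDim R = r) (hs : ringKrullDim S = s)
    (h2r : 2 ≤ r) (h2s : 2 ≤ s) :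
    Module.finrank (deg0 𝒯) (EP.Hcomp mT (r + s - 1) d) =
      Module.finrank (deg0 𝒜) (EM.Hcomp mR r d) * Module.finrank (deg0 ℬ) (EN.Hcomp mS s d) := by
  haveI : IsNoetherianRing R := Algebra.FiniteType.isNoetherianRing k R
  haveI : IsNoetherianRing S := Algebra.FiniteType.isNoetherianRing k S
  haveI : IsNoetherianRing T := SegreDim.isNoetherian ψ hT.1 hT.2
  haveI := nontrivial_segre ψ
  obtain ⟨σT, hσT⟩ := exists_deg0Equiv (deg0_segre hT h0R h0S)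
  obtain ⟨GR, DM, σR, hσR⟩ := exists_data h0R mR hmR EM
  obtain ⟨GS, DN, σS, hσS⟩ := exists_data h0S mS hmS EN
  have hA : ∀ i, r < i → (Conv.res EM).Hcomp (Conv.ideal 𝒜 mR) i d = ⊥ := fun i hi => by
    haveI : Subsingleton ((Conv.res EM).H (Conv.ideal 𝒜 mR) i) := subsingleton_H_above hr (Conv.res EM) _ hi
    exact (Submodule.eq_bot_iff _).2 fun x _ => Subsingleton.elim x 0
  have hB : ∀ i, s < i → (Conv.res EN).Hcomp (Conv.ideal ℬ mS) i d = ⊥ := fun i hi => by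
    haveI : Subsingleton ((Conv.res EN).H (Conv.ideal ℬ mS) i) := subsingleton_H_above hs (Conv.res EN) _ hi
    exact (Submodule.eq_bot_iff _).2 fun x _ => Subsingleton.elim x 0
  exact finrank_top (Conv.res EM) DM σR hσR (Conv.res EN) DN σS hσS hT hmT (irrelevant_mem hmR)
    (irrelevant_mem hmS) (isSegreMod_grp hP) (Conv.res EP) σT hσT d h2r h2s hA hB
    (finite_pieces (a := Conv.ideal 𝒜 mR) (Conv.res EM) d hposR hmR r).1 (finite_pieces (a := Conv.ideal ℬ mS) (Conv.res EN) d hposS hmS s).1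

end Groth.Agent.GrInj.SegK
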