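import Groth.Agent.GrInj.CMCrit
import Groth.Agent.GrInj.GorDual
import Groth.Agent.GrInj.SegreKApply
import Groth.Agent.S13215

/-!
# The Cohen-Macaulay property of Segre products
-/

set_option autoImplicit false
set_option linter.unusedSectionVars false
universe u

open TensorProduct

namespace Groth.Agent.GrInj.SegK

open GrLC

section Pieces

variable {R : Type u} [CommRing R] {𝒜 : ℤ → AddSubgroup R} [GradedRing 𝒜] {M : Type u} [AddCommGroup M]
  [Module R M] {ℳ : ℤ → AddSubgroup M} [DirectSum.Decomposition ℳ] [SetLike.GradedSMul 𝒜 ℳ]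

theorem pr_mem_gam (a : HomogeneousIdeal 𝒜) {X : GMod.{u} 𝒜} {z : X.carrier} (hz : z ∈ gam a.toIdeal X.carrier)
    (i : ℤ) : pr X.gr i z ∈ gam a.toIdeal X.carrier := by
  classical
  obtain ⟨n, hn⟩ := hz
  have hI : (a.toIdeal ^ n).IsHomogeneous 𝒜 := by
    clear hn
    induction n with
    | zero => rw [pow_zero, Ideal.one_eq_top]; exact Ideal.IsHomogeneous.top 𝒜
    | succ t ih => rw [pow_succ]; exact Ideal.IsHomogeneous.mul ih a.isHomogeneous
  refine ⟨n, fun r hr => ?_⟩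
  haveI := X.gsmul
  rw [← sum_supp (ℳ := 𝒜) r, Finset.sum_smul]
  refine Finset.sum_eq_zero fun j _ => ?_
  rw [← pr_smul (ℳ := X.gr) (pr_mem j r) i z]
  exact (congrArg _ (hn _ (hI j hr))).trans (map_zero _)

/-- The cohomology vanishes when all its homogeneous pieces do. -/
theorem subsingleton_H_of_pieces (E : StarInjRes 𝒜 ℳ) (a : HomogeneousIdeal 𝒜) (i : ℕ)
    (h : ∀ g : ℤ, E.Hcomp a i g = ⊥) : Subsingleton (E.H a i) := by
  classical
  refine subsingleton_of_forall_eq 0 fun x => ?_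
  obtain ⟨z, rfl⟩ := Submodule.mkQ_surjective _ x
  have hmem : ∀ g, pr (E.X i).gr g (z : (E.X i).carrier) ∈ E.cocyc a i := fun g =>
    ⟨pr_mem_gam a z.2.1 g, by
      show E.d i _ = 0
      rw [← pr_grHom (E.d_grHom i), show E.d i (z : (E.X i).carrier) = 0 from z.2.2, map_zero]⟩
  have hz : z = ∑ g ∈ supp (E.X i).gr (z : (E.X i).carrier), (⟨_, hmem g⟩ : E.cocyc a i) :=
    Subtype.ext (by rw [AddSubmonoidClass.coe_finsetSum, sum_supp])
  rw [hz, map_sum]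
  refine Finset.sum_eq_zero fun g _ => ?_
  exact (Submodule.eq_bot_iff _).1 (h g) _ ⟨⟨_, hmem g⟩, pr_mem g (z : (E.X i).carrier), rfl⟩

theorem pieces_of_subsingleton_H (E : StarInjRes 𝒜 ℳ) (a : HomogeneousIdeal 𝒜) (i : ℕ) (g : ℤ)
    (h : Subsingleton (E.H a i)) : E.Hcomp a i g = ⊥ :=
  (Submodule.eq_bot_iff _).2 fun x _ => Subsingleton.elim x 0

end Pieces

variable {k : Type u} [Field k] {R : Type u} [CommRing R] [Algebra k R] {𝒜 : ℤ → Submodule k R}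
  [GradedAlgebra 𝒜]
  {M : Type u} [AddCommGroup M] [Module R M] {τ : Type u} [SetLike τ M] [AddSubgroupClass τ M]
  {ℳ : ℤ → τ} [DirectSum.Decomposition ℳ] [SetLike.GradedSMul 𝒜 ℳ]

/-- A resolution for the original grading from one for the grading by additive subgroups. -/
noncomputable def unres (E : StarInjRes (Conv.grp 𝒜) (Conv.grp ℳ)) : StarInjRes 𝒜 ℳ where
  X n := Conv.gmod' 𝒜 (E.X n)
  d := E.d
  ε := E.ε
  d_grHom := E.d_grHom
  ε_grHom := E.ε_grHom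
  ε_injective := E.ε_injective
  exact_zero := E.exact_zero
  exact_succ := E.exact_succ
  starInj n := fun A B f hf hfi g hg => E.starInj n (Conv.gmod 𝒜 A) (Conv.gmod 𝒜 B) f hf hfi g hg

theorem nonempty_res [IsNoetherianRing R] : Nonempty (StarInjRes 𝒜 ℳ) := by
  exact (S13215.result R (Conv.grp 𝒜) M (Conv.grp ℳ)).map unres

theorem hpos_grp (hpos : ∀ n : ℤ, n < 0 → 𝒜 n = ⊥) (n : ℤ) (hn : n < 0) : Conv.grp 𝒜 n = ⊥ := by
  rw [AddSubgroup.eq_bot_iff_forall]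
  intro x hx
  have hx' : x ∈ 𝒜 n := hx
  rwa [hpos n hn, Submodule.mem_bot] at hx'

theorem isField_deg0 [Nontrivial R] (h0 : 𝒜 0 = Submodule.span k {(1 : R)}) :
    IsField (deg0 (Conv.grp 𝒜)) := by
  obtain ⟨σ, -⟩ := exists_deg0Equiv (𝒜 := 𝒜) h0
  exact σ.toMulEquiv.symm.isField (Field.toIsField k)

theorem starLocal [Nontrivial R] [IsNoetherianRing R] (hpos : ∀ n : ℤ, n < 0 → 𝒜 n = ⊥)
    (h0 : 𝒜 0 = Submodule.span k {(1 : R)}) {m : HomogeneousIdeal 𝒜}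
    (hm : m.toIdeal = Ideal.span (⋃ n ∈ Set.Ioi (0 : ℤ), (𝒜 n : Set R))) :
    IsStarLocal (Conv.grp 𝒜) (Conv.ideal 𝒜 m) := by
  exact isStarLocal_of_field (hpos_grp hpos) (isField_deg0 h0) hm

theorem hcomp_eq_bot_below [Nontrivial R] [IsNoetherianRing R] [LocCoh.IsCohenMacaulayRing R]
    (hpos : ∀ n : ℤ, n < 0 → 𝒜 n = ⊥) (h0 : 𝒜 0 = Submodule.span k {(1 : R)}) {m : HomogeneousIdeal 𝒜}
    (hm : m.toIdeal = Ideal.span (⋃ n ∈ Set.Ioi (0 : ℤ), (𝒜 n : Set R))) (I : StarInjRes 𝒜 𝒜) {r : ℕ}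
    (hr : ringKrullDim R = r) (i : ℕ) (hi : i < r) (d : ℤ) : I.Hcomp m i d = ⊥ := by
  exact (Conv.res_Hcomp I m i d).1 (pieces_of_subsingleton_H _ _ i d
    (subsingleton_H_cm (hpos_grp hpos) (starLocal hpos h0 hm) hr (Conv.res I) i hi))

theorem hcomp_eq_bot_above [IsNoetherianRing R] {m : HomogeneousIdeal 𝒜}
    (I : StarInjRes 𝒜 ℳ) {r : ℕ} (hr : ringKrullDim R = r) (i : ℕ) (hi : r < i) (d : ℤ) : I.Hcomp m i d = ⊥ := by
  exact (Conv.res_Hcomp I m i d).1 (pieces_of_subsingleton_H _ _ i d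
    (subsingleton_H_above hr (Conv.res I) _ hi))

theorem finrank_hcomp_eq_zero_iff [Nontrivial R] [IsNoetherianRing R] [Module.Finite R M]
    (hpos : ∀ n : ℤ, n < 0 → 𝒜 n = ⊥) (h0 : 𝒜 0 = Submodule.span k {(1 : R)}) {m : HomogeneousIdeal 𝒜}
    (hm : m.toIdeal = Ideal.span (⋃ n ∈ Set.Ioi (0 : ℤ), (𝒜 n : Set R))) (E : StarInjRes 𝒜 ℳ) (i : ℕ) (d : ℤ) :
    Module.finrank (deg0 𝒜) (E.Hcomp m i d) = 0 ↔ E.Hcomp m i d = ⊥ := by
  letI : Field (deg0 (Conv.grp 𝒜)) := (isField_deg0 h0).toField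
  haveI := (finite_pieces (a := Conv.ideal 𝒜 m) (Conv.res E) d hpos hm i).1
  rw [← finrank_Hcomp_res E m i d, Submodule.finrank_eq_zero, Conv.res_Hcomp]

theorem finrank_comp_eq_zero_iff [Nontrivial R] [IsNoetherianRing R] [Module.Finite R M]
    (hpos : ∀ n : ℤ, n < 0 → 𝒜 n = ⊥) (h0 : 𝒜 0 = Submodule.span k {(1 : R)}) {m : HomogeneousIdeal 𝒜}
    (hm : m.toIdeal = Ideal.span (⋃ n ∈ Set.Ioi (0 : ℤ), (𝒜 n : Set R))) (d : ℤ) :
    Module.finrank (deg0 𝒜) (comp 𝒜 ℳ d) = 0 ↔ ∀ x ∈ ℳ d, x = 0 := by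
  obtain ⟨E⟩ := nonempty_res (𝒜 := 𝒜) (ℳ := ℳ)
  letI : Field (deg0 (Conv.grp 𝒜)) := (isField_deg0 h0).toField
  haveI := (finite_pieces (a := Conv.ideal 𝒜 m) (Conv.res E) d hpos hm 0).2
  rw [← finrank_comp_grp (𝒜 := 𝒜) (ℳ := ℳ) d, Submodule.finrank_eq_zero, Submodule.eq_bot_iff]
  exact Iff.rfl

theorem piece_ne_bot_of_std [IsNoetherianRing R] [Nontrivial R] (hpos : ∀ n : ℤ, n < 0 → 𝒜 n = ⊥)
    (h0 : 𝒜 0 = Submodule.span k {(1 : R)}) {m : HomogeneousIdeal 𝒜}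
    (hm : m.toIdeal = Ideal.span (⋃ n ∈ Set.Ioi (0 : ℤ), (𝒜 n : Set R)))
    (hstd : Ideal.span (⋃ n ∈ Set.Ioi (0 : ℤ), (𝒜 n : Set R)) = Ideal.span ((𝒜 1 : Submodule k R) : Set R))
    {r : ℕ} (hr : ringKrullDim R = r) (h1 : 1 ≤ r) {n : ℤ} (hn : 0 ≤ n) : 𝒜 n ≠ ⊥ := by
  intro hb
  obtain ⟨t, rfl⟩ : ∃ t : ℕ, n = t := ⟨n.toNat, by omega⟩
  have hle : ∀ t : ℕ, m.toIdeal ^ t ≤ Ideal.span ((𝒜 (t : ℤ) : Submodule k R) : Set R) := fun t => by
    induction t with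
    | zero =>
      rw [pow_zero, Ideal.one_eq_top, (Ideal.eq_top_iff_one _).2 (Ideal.subset_span (show (1 : R) ∈ 𝒜 ((0 : ℕ) : ℤ) from SetLike.one_mem_graded 𝒜))]
    | succ t ih =>
      rw [pow_succ]
      refine (Ideal.mul_mono ih (hm.trans hstd).le).trans ?_
      rw [Ideal.span_mul_span', Ideal.span_le]
      rintro _ ⟨a, ha, b, hb, rfl⟩
      refine Ideal.subset_span ?_
      show a * b ∈ 𝒜 ((t + 1 : ℕ) : ℤ)
      rw [Nat.cast_succ]
      exact SetLike.mul_mem_graded ha hb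
  have hnil : m.toIdeal ^ t = ⊥ := le_bot_iff.1 ((hle t).trans (by rw [hb]; simp))
  haveI := star_isMaximal (hpos_grp hpos) (starLocal hpos h0 hm)
  have h := ringKrullDim_eq_height_star (hpos_grp hpos) (starLocal hpos h0 hm)
  have h0' : (Conv.ideal 𝒜 m).toIdeal.height ≤ ((0 : ℕ) : ℕ∞) := by
    rw [Ideal.height_le_iff]
    intro q hq hqm
    exact absurd (hq.le_of_pow_le (n := t) (by rw [Conv.ideal_toIdeal, hnil]; exact bot_le)) (not_le_of_gt hqm)
  rw [hr] at h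
  have h' : ((r : ℕ∞) : WithBot ℕ∞) ≤ ((0 : ℕ) : ℕ∞) := by
    exact_mod_cast (le_of_eq h).trans (WithBot.coe_le_coe.2 h0')
  norm_cast at h'
  omega

theorem endDeg_neg_iff {N : Type u} [AddCommGroup N] (𝒩 : ℤ → AddSubgroup N) :
    endDeg 𝒩 < 0 ↔ ∀ n : ℤ, 0 ≤ n → 𝒩 n = ⊥ := by
  constructor
  · intro h n hn
    by_contra hne
    have h1 : ((n : WithTop ℤ) : WithBot (WithTop ℤ)) ≤ endDeg 𝒩 :=
      le_iSup₂_of_le (f := fun (i : ℤ) (_ : 𝒩 i ≠ ⊥) => ((i : WithTop ℤ) : WithBot (WithTop ℤ))) n hne le_rfl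
    exact absurd (h1.trans_lt h) (not_lt_of_ge (WithBot.coe_le_coe.2 (WithTop.coe_le_coe.2 hn)))
  · intro h
    have h1 : endDeg 𝒩 ≤ (((-1 : ℤ) : WithTop ℤ) : WithBot (WithTop ℤ)) := iSup₂_le fun n hne =>
      WithBot.coe_le_coe.2 (WithTop.coe_le_coe.2 (by by_contra hc; exact hne (h n (by omega))))
    exact h1.trans_lt (WithBot.coe_lt_coe.2 (WithTop.coe_lt_coe.2 (by norm_num)))

theorem isCohenMacaulayRing_of_modules [IsNoetherianRing R]
    (h : ∀ (q : Ideal R) [q.IsPrime], Subsingleton (LocalizedModule q.primeCompl R) ∨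
      LocCoh.IsCohenMacaulayModule (Localization.AtPrime q) (LocalizedModule q.primeCompl R)) :
    LocCoh.IsCohenMacaulayRing R where
  isCohenMacaulayLocalRing_localization p _ := by
    let e : LocalizedModule p.primeCompl R ≃ₗ[Localization.AtPrime p] Localization.AtPrime p :=
      LinearEquiv.extendScalarsOfIsLocalization p.primeCompl (Localization.AtPrime p)
        (IsLocalizedModule.linearEquiv p.primeCompl (LocalizedModule.mkLinearMap p.primeCompl R)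
          (Algebra.linearMap R (Localization.AtPrime p)))
    rcases h p with hp | hp
    · exact absurd e.symm.toEquiv.subsingleton (not_subsingleton _)
    · exact { supportDim_eq_depth := (DepthLib.isCohenMacaulayModule_congr e).mp hp }


/-- The Cohen-Macaulay criterion for the Segre product of two Cohen-Macaulay rings. -/
theorem cm_segre_iff {k : Type u} [Field k] {R : Type u} [CommRing R] [Algebra k R] {𝒜 : ℤ → Submodule k R}
    [GradedAlgebra 𝒜] [Algebra.FiniteType k R] {S : Type u} [CommRing S] [Algebra k S] {ℬ : ℤ → Submodule k S}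
    [GradedAlgebra ℬ] [Algebra.FiniteType k S] {T : Type u} [CommRing T] [Algebra k T] {𝒯 : ℤ → Submodule k T}
    [GradedAlgebra 𝒯] {ψ : T →ₐ[k] R ⊗[k] S} (hT : GrSeg.IsSegreRing 𝒜 ℬ 𝒯 ψ)
    (hposR : ∀ n : ℤ, n < 0 → 𝒜 n = ⊥) (h0R : 𝒜 0 = Submodule.span k {(1 : R)})
    (hposS : ∀ n : ℤ, n < 0 → ℬ n = ⊥) (h0S : ℬ 0 = Submodule.span k {(1 : S)})
    [LocCoh.IsCohenMacaulayRing R] [LocCoh.IsCohenMacaulayRing S]
    (mR : HomogeneousIdeal 𝒜) (hmR : mR.toIdeal = Ideal.span (⋃ n ∈ Set.Ioi (0 : ℤ), (𝒜 n : Set R)))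
    (I : StarInjRes 𝒜 𝒜)
    (mS : HomogeneousIdeal ℬ) (hmS : mS.toIdeal = Ideal.span (⋃ n ∈ Set.Ioi (0 : ℤ), (ℬ n : Set S)))
    (J : StarInjRes ℬ ℬ) {r s : ℕ} (hr : ringKrullDim R = r) (hs : ringKrullDim S = s) (h2r : 2 ≤ r) (h2s : 2 ≤ s) :
    LocCoh.IsCohenMacaulayRing T ↔
      (∀ n : ℤ, 𝒜 n = ⊥ ∨ J.Hcomp mS s n = ⊥) ∧ (∀ n : ℤ, I.Hcomp mR r n = ⊥ ∨ ℬ n = ⊥) := by
  classical
  haveI : Nontrivial R := by
    by_contra h
    rw [not_nontrivial_iff_subsingleton] at h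
    rw [ringKrullDim_eq_bot_of_subsingleton] at hr; simp at hr
  haveI : Nontrivial S := by
    by_contra h
    rw [not_nontrivial_iff_subsingleton] at h
    rw [ringKrullDim_eq_bot_of_subsingleton] at hs; simp at hs
  haveI : IsNoetherianRing R := Algebra.FiniteType.isNoetherianRing k R
  haveI : IsNoetherianRing S := Algebra.FiniteType.isNoetherianRing k S
  haveI : IsNoetherianRing T := SegreDim.isNoetherian ψ hT.1 hT.2
  haveI := nontrivial_segre ψ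
  obtain ⟨r', hr'⟩ : ∃ a, r = a + 1 := ⟨r - 1, by omega⟩
  obtain ⟨s', hs'⟩ : ∃ a, s = a + 1 := ⟨s - 1, by omega⟩
  have hdim : ringKrullDim T = ((r + s - 1 : ℕ) : WithBot ℕ∞) := by
    rw [SegreDim.dim_segre ψ hT.1 hT.2 (r := r') (s := s') ⟨hposR, h0R⟩ ⟨hposS, h0S⟩ (hr' ▸ hr) (hs' ▸ hs)]
    congr 2
    omega
  let mT : HomogeneousIdeal 𝒯 := ⟨Ideal.span (⋃ n ∈ Set.Ioi (0 : ℤ), (𝒯 n : Set T)),
    Ideal.homogeneous_span 𝒯 _ (by
      intro x hx
      simp only [Set.mem_iUnion] at hx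
      obtain ⟨i, -, hx⟩ := hx
      exact ⟨i, hx⟩)⟩
  have hmT : mT.toIdeal = Ideal.span (⋃ n ∈ Set.Ioi (0 : ℤ), (𝒯 n : Set T)) := rfl
  have h0T := deg0_segre hT h0R h0S
  have hposT : ∀ n : ℤ, n < 0 → 𝒯 n = ⊥ := fun n hn => by
    rw [Submodule.eq_bot_iff]
    intro t ht
    have h : ψ t ∈ GrSeg.segrePiece k 𝒜 ℬ n := (hT.2 n).le ⟨t, ht, rfl⟩
    have h0 : GrSeg.segrePiece k 𝒜 ℬ n = ⊥ := by
      unfold GrSeg.segrePiece
      rw [Submodule.span_eq_bot]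
      rintro _ ⟨a, ha, b, -, rfl⟩
      rw [hposR n hn, Submodule.mem_bot] at ha
      rw [ha, TensorProduct.zero_tmul]
    rw [h0, Submodule.mem_bot] at h
    exact hT.1 (h.trans (map_zero ψ).symm)
  obtain ⟨E⟩ := nonempty_res (𝒜 := 𝒯) (ℳ := 𝒯)
  have hRv := hcomp_eq_bot_below hposR h0R hmR I hr
  have hSv := hcomp_eq_bot_below hposS h0S hmS J hs
  have hR0 : ∀ i d, (i < r ∨ r < i) → Module.finrank (deg0 𝒜) (I.Hcomp mR i d) = 0 := fun i d h =>
    (finrank_hcomp_eq_zero_iff hposR h0R hmR I i d).2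
      (h.elim (fun h => hRv i h d) fun h => hcomp_eq_bot_above I hr i h d)
  have hS0 : ∀ i d, (i < s ∨ s < i) → Module.finrank (deg0 ℬ) (J.Hcomp mS i d) = 0 := fun i d h =>
    (finrank_hcomp_eq_zero_iff hposS h0S hmS J i d).2
      (h.elim (fun h => hSv i h d) fun h => hcomp_eq_bot_above J hs i h d)
  have key : ∀ q, q < r + s - 1 → ∀ d : ℤ, Module.finrank (deg0 𝒯) (E.Hcomp mT q d) =
      Module.finrank (deg0 𝒜) (comp 𝒜 𝒜 d) * Module.finrank (deg0 ℬ) (J.Hcomp mS q d) +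
        Module.finrank (deg0 𝒜) (I.Hcomp mR q d) * Module.finrank (deg0 ℬ) (comp ℬ ℬ d) := fun q hq d => by
    rw [kunneth_depth_two hposR h0R hposS h0S hT mR hmR mS hmS mT hmT I J (isSegreMod_self hT) E d
      (fun i hi => hRv i (by omega) d) (fun i hi => hSv i (by omega) d) q]
    refine add_eq_left.2 (Finset.sum_eq_zero fun i hi => ?_)
    have := Finset.mem_range.1 hi
    rcases lt_or_ge i r with h | h
    · rw [hR0 i d (Or.inl h), zero_mul]
    · rw [hS0 (q + 1 - i) d (Or.inl (by omega)), mul_zero]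
  have eR : ∀ d, Module.finrank (deg0 𝒜) (comp 𝒜 𝒜 d) = 0 ↔ 𝒜 d = ⊥ := fun d =>
    (finrank_comp_eq_zero_iff hposR h0R hmR d).trans (Submodule.eq_bot_iff _).symm
  have eS : ∀ d, Module.finrank (deg0 ℬ) (comp ℬ ℬ d) = 0 ↔ ℬ d = ⊥ := fun d =>
    (finrank_comp_eq_zero_iff hposS h0S hmS d).trans (Submodule.eq_bot_iff _).symm
  constructor
  · intro hcm
    have hz : ∀ q, q < r + s - 1 → ∀ d, Module.finrank (deg0 𝒯) (E.Hcomp mT q d) = 0 := fun q hq d =>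
      (finrank_hcomp_eq_zero_iff hposT h0T hmT E q d).2 (hcomp_eq_bot_below hposT h0T hmT E hdim q hq d)
    refine ⟨fun d => ?_, fun d => ?_⟩
    · have h := (key s (by omega) d).symm.trans (hz s (by omega) d)
      rcases Nat.mul_eq_zero.1 (Nat.add_eq_zero_iff.1 h).1 with h | h
      · exact Or.inl ((eR d).1 h)
      · exact Or.inr ((finrank_hcomp_eq_zero_iff hposS h0S hmS J s d).1 h)
    · have h := (key r (by omega) d).symm.trans (hz r (by omega) d)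
      rcases Nat.mul_eq_zero.1 (Nat.add_eq_zero_iff.1 h).2 with h | h
      · exact Or.inl ((finrank_hcomp_eq_zero_iff hposR h0R hmR I r d).1 h)
      · exact Or.inr ((eS d).1 h)
  · rintro ⟨h1, h2⟩
    have hz : ∀ q, q < r + s - 1 → Subsingleton ((Conv.res E).H (Conv.ideal 𝒯 mT) q) := fun q hq => by
      refine subsingleton_H_of_pieces _ _ q fun d => (Conv.res_Hcomp E mT q d).2
        ((finrank_hcomp_eq_zero_iff hposT h0T hmT E q d).1 ?_)
      rw [key q hq d, Nat.add_eq_zero_iff, Nat.mul_eq_zero, Nat.mul_eq_zero]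
      refine ⟨?_, ?_⟩
      · rcases Nat.lt_trichotomy q s with h | h | h
        · exact Or.inr (hS0 q d (Or.inl h))
        · subst h
          exact (h1 d).imp (eR d).2 (finrank_hcomp_eq_zero_iff hposS h0S hmS J q d).2
        · exact Or.inr (hS0 q d (Or.inr h))
      · rcases Nat.lt_trichotomy q r with h | h | h
        · exact Or.inl (hR0 q d (Or.inl h))
        · subst h
          exact (h2 d).imp (finrank_hcomp_eq_zero_iff hposR h0R hmR I q d).2 (eS d).2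
        · exact Or.inl (hR0 q d (Or.inr h))
    have hm := starLocal hposT h0T hmT
    haveI := star_isMaximal (hpos_grp hposT) hm
    exact isCohenMacaulayRing_of_modules fun q hq =>
      CMCrit.cm_of_vanishing (hpos_grp hposT) hm (Conv.grp 𝒯) (Conv.res E)
        (le_of_eq ((Module.supportDim_self_eq_ringKrullDim (R := T)).trans hdim)) hz q

end Groth.Agent.GrInj.SegK
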