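import Groth.Agent.GrInj.SegreKCM
import Groth.Agent.S19754
import Groth.Agent.SegreDim.SegreCor

/-!
# The Cohen-Macaulay property of Segre products of modules
-/

set_option autoImplicit false
set_option linter.unusedSectionVars false
universe u

open TensorProduct

namespace Groth.Agent.GrInj.SegK

open GrLC

variable {k : Type u} [Field k] {R : Type u} [CommRing R] [Algebra k R] {𝒜 : ℤ → Submodule k R}
  [GradedAlgebra 𝒜]
  {M : Type u} [AddCommGroup M] [Module R M] {ℳ : ℤ → AddSubgroup M} [DirectSum.Decomposition ℳ]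
  [SetLike.GradedSMul 𝒜 ℳ]

theorem hcompMod_eq_bot_below [Nontrivial R] [IsNoetherianRing R] [Module.Finite R M]
    (hpos : ∀ n : ℤ, n < 0 → 𝒜 n = ⊥) (h0 : 𝒜 0 = Submodule.span k {(1 : R)}) {m : HomogeneousIdeal 𝒜}
    (hm : m.toIdeal = Ideal.span (⋃ n ∈ Set.Ioi (0 : ℤ), (𝒜 n : Set R))) (E : StarInjRes 𝒜 ℳ) {r : ℕ}
    (hr : Module.supportDim R M = r)
    (hcm : ∀ (q : Ideal R) [q.IsPrime], Subsingleton (LocalizedModule q.primeCompl M) ∨
      LocCoh.IsCohenMacaulayModule (Localization.AtPrime q) (LocalizedModule q.primeCompl M))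
    (i : ℕ) (hi : i < r) (d : ℤ) : E.Hcomp m i d = ⊥ := by
  haveI : Nontrivial M := by
    by_contra h
    rw [not_nontrivial_iff_subsingleton] at h
    rw [Module.supportDim_eq_bot_of_subsingleton] at hr
    simp at hr
  have hs := starLocal hpos h0 hm
  haveI := star_isMaximal (hpos_grp hpos) hs
  exact (Conv.res_Hcomp E m i d).1 (pieces_of_subsingleton_H _ _ i d
    (CMCrit.vanishing_of_cm (hpos_grp hpos) hs (Conv.grp ℳ) (Conv.res E) hr (hcm _) i hi))

theorem hcompMod_eq_bot_above [IsNoetherianRing R] [Module.Finite R M] {m : HomogeneousIdeal 𝒜}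
    (E : StarInjRes 𝒜 ℳ) {r : ℕ} (hr : Module.supportDim R M = r) (i : ℕ) (hi : r < i) (d : ℤ) :
    E.Hcomp m i d = ⊥ := by
  refine (Conv.res_Hcomp E m i d).1 (pieces_of_subsingleton_H _ _ i d
    (CMCrit.subsingleton_H_of_subsingleton (Conv.grp ℳ) (Conv.res E) i
      (LocCohLib.subsingleton_of_dimLt _ i _ (LocCohLib.DimLt.of_supportDim ?_))))
  show Module.supportDim R M < _
  rw [hr]
  exact_mod_cast hi

/-- The Cohen-Macaulay criterion for the Segre product of two Cohen-Macaulay modules. -/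
theorem cm_segreMod_iff {k : Type u} [Field k] {R : Type u} [CommRing R] [Algebra k R] {𝒜 : ℤ → Submodule k R}
    [GradedAlgebra 𝒜] [Algebra.FiniteType k R] {S : Type u} [CommRing S] [Algebra k S] {ℬ : ℤ → Submodule k S}
    [GradedAlgebra ℬ] [Algebra.FiniteType k S] {T : Type u} [CommRing T] [Algebra k T] {𝒯 : ℤ → Submodule k T}
    [GradedAlgebra 𝒯] {ψ : T →ₐ[k] R ⊗[k] S} (hT : GrSeg.IsSegreRing 𝒜 ℬ 𝒯 ψ)
    (hposR : ∀ n : ℤ, n < 0 → 𝒜 n = ⊥) (h0R : 𝒜 0 = Submodule.span k {(1 : R)})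
    (hposS : ∀ n : ℤ, n < 0 → ℬ n = ⊥) (h0S : ℬ 0 = Submodule.span k {(1 : S)})
    (mR : HomogeneousIdeal 𝒜) (hmR : mR.toIdeal = Ideal.span (⋃ n ∈ Set.Ioi (0 : ℤ), (𝒜 n : Set R)))
    (mS : HomogeneousIdeal ℬ) (hmS : mS.toIdeal = Ideal.span (⋃ n ∈ Set.Ioi (0 : ℤ), (ℬ n : Set S)))
    {M : Type u} [AddCommGroup M] [Module R M] [Module k M] [IsScalarTower k R M] {ℳ : ℤ → AddSubgroup M}
    [DirectSum.Decomposition ℳ] [SetLike.GradedSMul 𝒜 ℳ] [Module.Finite R M] (I : StarInjRes 𝒜 ℳ)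
    {N : Type u} [AddCommGroup N] [Module S N] [Module k N] [IsScalarTower k S N] {𝒩 : ℤ → AddSubgroup N}
    [DirectSum.Decomposition 𝒩] [SetLike.GradedSMul ℬ 𝒩] [Module.Finite S N] (J : StarInjRes ℬ 𝒩)
    {P : Type u} [AddCommGroup P] [Module T P] [Module k P] [IsScalarTower k T P] {𝒬 : ℤ → AddSubgroup P}
    [DirectSum.Decomposition 𝒬] [SetLike.GradedSMul 𝒯 𝒬] [Module.Finite T P] [Nontrivial P]
    {φ : P →ₗ[k] M ⊗[k] N} (hP : GrSeg.IsSegreMod ψ ℳ 𝒩 𝒬 φ) {r s : ℕ}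
    (hr : Module.supportDim R M = r) (hs : Module.supportDim S N = s)
    (hdim : Module.supportDim T P = ((r + s - 1 : ℕ) : WithBot ℕ∞)) (h2r : 2 ≤ r) (h2s : 2 ≤ s)
    (hMcm : ∀ (q : Ideal R) [q.IsPrime], Subsingleton (LocalizedModule q.primeCompl M) ∨
      LocCoh.IsCohenMacaulayModule (Localization.AtPrime q) (LocalizedModule q.primeCompl M))
    (hNcm : ∀ (q : Ideal S) [q.IsPrime], Subsingleton (LocalizedModule q.primeCompl N) ∨
      LocCoh.IsCohenMacaulayModule (Localization.AtPrime q) (LocalizedModule q.primeCompl N)) :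
    (∀ (q : Ideal T) [q.IsPrime], Subsingleton (LocalizedModule q.primeCompl P) ∨
      LocCoh.IsCohenMacaulayModule (Localization.AtPrime q) (LocalizedModule q.primeCompl P)) ↔
      (∀ n : ℤ, ℳ n = ⊥ ∨ J.Hcomp mS s n = ⊥) ∧ (∀ n : ℤ, I.Hcomp mR r n = ⊥ ∨ 𝒩 n = ⊥) := by
  classical
  haveI : IsNoetherianRing R := Algebra.FiniteType.isNoetherianRing k R
  haveI : IsNoetherianRing S := Algebra.FiniteType.isNoetherianRing k S
  haveI : IsNoetherianRing T := SegreDim.isNoetherian ψ hT.1 hT.2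
  haveI : Nontrivial R := by
    by_contra h
    rw [not_nontrivial_iff_subsingleton] at h
    haveI := Module.subsingleton R M
    rw [Module.supportDim_eq_bot_of_subsingleton] at hr
    simp at hr
  haveI : Nontrivial S := by
    by_contra h
    rw [not_nontrivial_iff_subsingleton] at h
    haveI := Module.subsingleton S N
    rw [Module.supportDim_eq_bot_of_subsingleton] at hs
    simp at hs
  haveI := nontrivial_segre ψ
  let mT : HomogeneousIdeal 𝒯 := ⟨Ideal.span (⋃ n ∈ Set.Ioi (0 : ℤ), (𝒯 n : Set T)),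
    Ideal.homogeneous_span 𝒯 _ (by
      intro x hx
      simp only [Set.mem_iUnion] at hx
      obtain ⟨i, -, hx⟩ := hx
      exact ⟨i, hx⟩)⟩
  have hmT : mT.toIdeal = Ideal.span (⋃ n ∈ Set.Ioi (0 : ℤ), (𝒯 n : Set T)) := rfl
  have h0T := deg0_segre hT h0R h0S
  have hposT : ∀ n : ℤ, n < 0 → 𝒯 n = ⊥ := fun n hn => by
    rw [Submodule.eq_bot_iff]
    intro t ht
    have h : ψ t ∈ GrSeg.segrePiece k 𝒜 ℬ n := (hT.2 n).le ⟨t, ht, rfl⟩
    have h0 : GrSeg.segrePiece k 𝒜 ℬ n = ⊥ := by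
      unfold GrSeg.segrePiece
      rw [Submodule.span_eq_bot]
      rintro _ ⟨a, ha, b, -, rfl⟩
      rw [hposR n hn, Submodule.mem_bot] at ha
      rw [ha, TensorProduct.zero_tmul]
    rw [h0, Submodule.mem_bot] at h
    exact hT.1 (h.trans (map_zero ψ).symm)
  obtain ⟨E⟩ := nonempty_res (𝒜 := 𝒯) (ℳ := 𝒬)
  have hRv := hcompMod_eq_bot_below hposR h0R hmR I hr hMcm
  have hSv := hcompMod_eq_bot_below hposS h0S hmS J hs hNcm
  have hR0 : ∀ i d, (i < r ∨ r < i) → Module.finrank (deg0 𝒜) (I.Hcomp mR i d) = 0 := fun i d h =>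
    (finrank_hcomp_eq_zero_iff hposR h0R hmR I i d).2
      (h.elim (fun h => hRv i h d) fun h => hcompMod_eq_bot_above I hr i h d)
  have hS0 : ∀ i d, (i < s ∨ s < i) → Module.finrank (deg0 ℬ) (J.Hcomp mS i d) = 0 := fun i d h =>
    (finrank_hcomp_eq_zero_iff hposS h0S hmS J i d).2
      (h.elim (fun h => hSv i h d) fun h => hcompMod_eq_bot_above J hs i h d)
  have key : ∀ q, q < r + s - 1 → ∀ d : ℤ, Module.finrank (deg0 𝒯) (E.Hcomp mT q d) =
      Module.finrank (deg0 𝒜) (comp 𝒜 ℳ d) * Module.finrank (deg0 ℬ) (J.Hcomp mS q d) +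
        Module.finrank (deg0 𝒜) (I.Hcomp mR q d) * Module.finrank (deg0 ℬ) (comp ℬ 𝒩 d) := fun q hq d => by
    rw [kunneth_depth_two hposR h0R hposS h0S hT mR hmR mS hmS mT hmT I J hP E d
      (fun i hi => hRv i (by omega) d) (fun i hi => hSv i (by omega) d) q]
    refine add_eq_left.2 (Finset.sum_eq_zero fun i hi => ?_)
    have := Finset.mem_range.1 hi
    rcases lt_or_ge i r with h | h
    · rw [hR0 i d (Or.inl h), zero_mul]
    · rw [hS0 (q + 1 - i) d (Or.inl (by omega)), mul_zero]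
  have eR : ∀ d, Module.finrank (deg0 𝒜) (comp 𝒜 ℳ d) = 0 ↔ ℳ d = ⊥ := fun d =>
    (finrank_comp_eq_zero_iff hposR h0R hmR d).trans (AddSubgroup.eq_bot_iff_forall _).symm
  have eS : ∀ d, Module.finrank (deg0 ℬ) (comp ℬ 𝒩 d) = 0 ↔ 𝒩 d = ⊥ := fun d =>
    (finrank_comp_eq_zero_iff hposS h0S hmS d).trans (AddSubgroup.eq_bot_iff_forall _).symm
  constructor
  · intro hcm
    have hz : ∀ q, q < r + s - 1 → ∀ d, Module.finrank (deg0 𝒯) (E.Hcomp mT q d) = 0 := fun q hq d =>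
      (finrank_hcomp_eq_zero_iff hposT h0T hmT E q d).2 (hcompMod_eq_bot_below hposT h0T hmT E hdim hcm q hq d)
    refine ⟨fun d => ?_, fun d => ?_⟩
    · have h := (key s (by omega) d).symm.trans (hz s (by omega) d)
      rcases Nat.mul_eq_zero.1 (Nat.add_eq_zero_iff.1 h).1 with h | h
      · exact Or.inl ((eR d).1 h)
      · exact Or.inr ((finrank_hcomp_eq_zero_iff hposS h0S hmS J s d).1 h)
    · have h := (key r (by omega) d).symm.trans (hz r (by omega) d)
      rcases Nat.mul_eq_zero.1 (Nat.add_eq_zero_iff.1 h).2 with h | h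
      · exact Or.inl ((finrank_hcomp_eq_zero_iff hposR h0R hmR I r d).1 h)
      · exact Or.inr ((eS d).1 h)
  · rintro ⟨h1, h2⟩
    have hz : ∀ q, q < r + s - 1 → Subsingleton ((Conv.res E).H (Conv.ideal 𝒯 mT) q) := fun q hq => by
      refine subsingleton_H_of_pieces _ _ q fun d => (Conv.res_Hcomp E mT q d).2
        ((finrank_hcomp_eq_zero_iff hposT h0T hmT E q d).1 ?_)
      rw [key q hq d, Nat.add_eq_zero_iff, Nat.mul_eq_zero, Nat.mul_eq_zero]
      refine ⟨?_, ?_⟩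
      · rcases Nat.lt_trichotomy q s with h | h | h
        · exact Or.inr (hS0 q d (Or.inl h))
        · subst h
          exact (h1 d).imp (eR d).2 (finrank_hcomp_eq_zero_iff hposS h0S hmS J q d).2
        · exact Or.inr (hS0 q d (Or.inr h))
      · rcases Nat.lt_trichotomy q r with h | h | h
        · exact Or.inl (hR0 q d (Or.inl h))
        · subst h
          exact (h2 d).imp (finrank_hcomp_eq_zero_iff hposR h0R hmR I q d).2 (eS d).2
        · exact Or.inl (hR0 q d (Or.inr h))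
    have hm := starLocal hposT h0T hmT
    haveI := star_isMaximal (hpos_grp hposT) hm
    intro q hq
    exact CMCrit.cm_of_vanishing (hpos_grp hposT) hm (Conv.grp 𝒬) (Conv.res E) hdim.le hz q


section Derived

variable {k : Type u} [Field k] {R : Type u} [CommRing R] [Algebra k R] {𝒜 : ℤ → Submodule k R}
  [GradedAlgebra 𝒜] {S : Type u} [CommRing S] [Algebra k S] {ℬ : ℤ → Submodule k S} [GradedAlgebra ℬ]
  {T : Type u} [CommRing T] [Algebra k T] {𝒯 : ℤ → Submodule k T} [GradedAlgebra 𝒯]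
  {ψ : T →ₐ[k] R ⊗[k] S}
  {M : Type u} [AddCommGroup M] [Module R M] [Module k M] [IsScalarTower k R M] {ℳ : ℤ → AddSubgroup M}
  [DirectSum.Decomposition ℳ] [SetLike.GradedSMul 𝒜 ℳ]
  {N : Type u} [AddCommGroup N] [Module S N] [Module k N] [IsScalarTower k S N] {𝒩 : ℤ → AddSubgroup N}
  [DirectSum.Decomposition 𝒩] [SetLike.GradedSMul ℬ 𝒩]
  {P : Type u} [AddCommGroup P] [Module T P] [Module k P] [IsScalarTower k T P] {𝒬 : ℤ → AddSubgroup P}
  [DirectSum.Decomposition 𝒬] {φ : P →ₗ[k] M ⊗[k] N}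

/-- The grading of a Segre product of modules is compatible with the action. -/
theorem gradedSMul_segre (hT : GrSeg.IsSegreRing 𝒜 ℬ 𝒯 ψ) (hP : GrSeg.IsSegreMod ψ ℳ 𝒩 𝒬 φ) :
    SetLike.GradedSMul 𝒯 𝒬 := by
  haveI : SetLike.GradedSMul (Conv.grp 𝒜) ℳ :=
    ⟨fun {_ _} _ _ hr hx => SetLike.GradedSMul.smul_mem (A := 𝒜) hr hx⟩
  haveI : SetLike.GradedSMul (Conv.grp ℬ) 𝒩 :=
    ⟨fun {_ _} _ _ hr hx => SetLike.GradedSMul.smul_mem (A := ℬ) hr hx⟩
  refine ⟨fun {i j} t p ht hp => ?_⟩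
  have h : φ (t • p) ∈ (GrSeg.segrePiece k ℳ 𝒩 (i + j) : Set (M ⊗[k] N)) := by
    rw [hP.map_smul]
    exact act_piece (psi_mem hT ht) (show φ p ∈ (GrSeg.segrePiece k ℳ 𝒩 j : Set (M ⊗[k] N)) from
      hP.image_piece j ▸ ⟨p, hp, rfl⟩)
  rw [← hP.image_piece] at h
  obtain ⟨p', hp', he⟩ := h
  rw [← hP.injective he]
  exact hp'

/-- A Segre product of finite modules is finite. -/
theorem finite_segre [Algebra.FiniteType k R] [Algebra.FiniteType k S]
    (hposR : ∀ n : ℤ, n < 0 → 𝒜 n = ⊥) (h0R : 𝒜 0 = Submodule.span k {(1 : R)})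
    (hposS : ∀ n : ℤ, n < 0 → ℬ n = ⊥) (h0S : ℬ 0 = Submodule.span k {(1 : S)})
    [Module.Finite R M] [Module.Finite S N] (hT : GrSeg.IsSegreRing 𝒜 ℬ 𝒯 ψ)
    (hP : GrSeg.IsSegreMod ψ ℳ 𝒩 𝒬 φ) {r s : ℕ} (hdM : Module.supportDim R M = r)
    (hdN : Module.supportDim S N = s) : Module.Finite T P := by
  obtain ⟨D, f, g, X, Y, hD, hf, hg, hX, hY, hXs, hYs⟩ :=
    SegreDim.exists_common_params (ℳ := ℳ) (𝒩 := 𝒩) (M := M) (N := N) ⟨hposR, h0R⟩ ⟨hposS, h0S⟩ r s
      (fun l hl _ => SegreDim.length_le_of_supportDim hdM l hl)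
      (fun l hl _ => SegreDim.length_le_of_supportDim hdN l hl)
  obtain ⟨z, -, hfin⟩ := SegreDim.exists_finite_adjoin ψ φ hT hP hD hf hg hX hY hXs hYs
  exact Module.Finite.of_restrictScalars_finite (Algebra.adjoin k (Set.range z)) T P

end Derived

end Groth.Agent.GrInj.SegK
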