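import Groth.Agent.GrInj.SegreKApply
import Groth.Agent.GrInj.CanPairing

/-!
# Dimensions of the pieces of a canonical module
-/

set_option autoImplicit false
set_option linter.unusedSectionVars false
universe u

open TensorProduct

namespace Groth.Agent.GrInj.SegK

open GrLC

section Generic

variable {R : Type u} [CommRing R] [IsNoetherianRing R] {𝒜 : ℤ → AddSubgroup R} [GradedRing 𝒜]
  {m : HomogeneousIdeal 𝒜} (hpos : ∀ n : ℤ, n < 0 → 𝒜 n = ⊥) (h0 : IsField (deg0 𝒜))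
  (hmsp : m.toIdeal = Ideal.span (⋃ n ∈ Set.Ioi (0 : ℤ), (𝒜 n : Set R)))
  {C : Type u} [AddCommGroup C] [Module R C] [Module.Finite R C] {𝒞 : ℤ → AddSubgroup C}
  [DirectSum.Decomposition 𝒞] [SetLike.GradedSMul 𝒜 𝒞]
  {E' : Type u} [AddCommGroup E'] [Module R E'] {𝓔 : ℤ → AddSubgroup E'} [DirectSum.Decomposition 𝓔]
  [SetLike.GradedSMul 𝒜 𝓔] {e : (R ⧸ m.toIdeal) →ₗ[R] E'}
  {H : Type u} [AddCommGroup H] [Module R H] {ℋ : ℤ → AddSubgroup H}

include hpos h0 hmsp in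
/-- The pieces of a module representing the graded dual have the dual dimensions. -/
theorem finrank_dual_pieces [DirectSum.Decomposition ℋ] [SetLike.GradedSMul 𝒜 ℋ]
    (he : IsStarInjHull 𝒜 (quotGr 𝒜 m) 𝓔 e) (φ : (C →ₗ[R] E') ≃ₗ[R] H)
    (hφ : IsGrHom (fun d => (homDeg 𝒜 𝒞 𝓔 d).toAddSubgroup) ℋ φ.toLinearMap) (j : ℤ) :
    Module.finrank (deg0 𝒜) (comp 𝒜 𝒞 j) = Module.finrank (deg0 𝒜) (comp 𝒜 ℋ (-j)) := by
  have key := exists_rep hpos h0 hmsp he φ hφ j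
  choose x hx huniq using key
  have hu := fun (a a' : deg0 𝒜) => coeff_unique hpos h0 hmsp he.toIsStarEss (c := a) (c' := a')
  let Ψ : (comp 𝒜 ℋ (-j) →ₗ[deg0 𝒜] deg0 𝒜) →ₗ[deg0 𝒜] comp 𝒜 𝒞 j :=
    { toFun := x
      map_add' := fun u v => ((huniq (u + v)) (x u + x v) fun h => by
        rw [Submodule.coe_add, map_add, hx, hx, LinearMap.add_apply, Subring.coe_add, add_smul]).symm
      map_smul' := fun c u => ((huniq (c • u)) (c • x u) fun h => by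
        rw [Submodule.coe_smul_of_tower]
        show φ.symm h.1 ((c : R) • (x u).1) = _
        rw [map_smul, hx, LinearMap.smul_apply, smul_eq_mul, Subring.coe_mul, mul_smul]).symm }
  have hΨ : Function.Bijective Ψ := by
    refine ⟨fun u v huv => LinearMap.ext fun h => hu _ _ ?_, fun y => ?_⟩
    · rw [← hx u h, ← hx v h, show x u = x v from huv]
    · have hval : ∀ h : comp 𝒜 ℋ (-j), φ.symm (h : H) (y : C) ∈ 𝓔 0 := fun h => by
        have h1 := symm_mem_homDeg φ hφ h.2 j y.1 y.2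
        rwa [add_neg_cancel] at h1
      choose c hc using fun h => exists_coeff hpos h0 hmsp he.toIsStarEss (hval h)
      let u : comp 𝒜 ℋ (-j) →ₗ[deg0 𝒜] deg0 𝒜 :=
        { toFun := c
          map_add' := fun h h' => hu _ _ (by
            rw [← hc, Subring.coe_add, add_smul, ← hc, ← hc, Submodule.coe_add, map_add, LinearMap.add_apply])
          map_smul' := fun t h => hu _ _ (by
            rw [← hc, RingHom.id_apply, smul_eq_mul, Subring.coe_mul, mul_smul, ← hc, ← LinearMap.smul_apply,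
              ← map_smul]
            rfl) }
      exact ⟨u, ((huniq u) y fun h => hc h).symm⟩
  letI := h0.toField
  rw [← (LinearEquiv.ofBijective Ψ hΨ).finrank_eq]
  exact Subspace.dual_finrank_eq

include hpos h0 hmsp in
/-- The pieces of a canonical module. -/
theorem finrank_canonical_pieces (he : IsStarInjHull 𝒜 (quotGr 𝒜 m) 𝓔 e) {ℳ : ℤ → AddSubgroup R}
    [DirectSum.Decomposition ℳ] [SetLike.GradedSMul 𝒜 ℳ] (E : StarInjRes 𝒜 ℳ) (r : ℕ)
    (φ : (C →ₗ[R] E') ≃ₗ[R] E.H m r)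
    (hφ : IsGrHom (fun d => (homDeg 𝒜 𝒞 𝓔 d).toAddSubgroup) (E.Hgr m r) φ.toLinearMap) (j : ℤ) :
    Module.finrank (deg0 𝒜) (comp 𝒜 𝒞 j) = Module.finrank (deg0 𝒜) (E.Hcomp m r (-j)) := by
  letI := (S13225.isInternal_Hgr E m r).chooseDecomposition
  haveI hgs : SetLike.GradedSMul 𝒜 (E.Hgr m r) := ⟨fun {p q} x c hx hc => by
    obtain ⟨z, hz, rfl⟩ := hc
    exact ⟨x • z, (E.X r).gsmul.smul_mem hx hz, map_smul _ x z⟩⟩
  exact finrank_dual_pieces hpos h0 hmsp he φ hφ j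

end Generic

variable {k : Type u} [Field k] {R : Type u} [CommRing R] [Algebra k R] {𝒜 : ℤ → Submodule k R}
  [GradedAlgebra 𝒜]

theorem finrank_starCanonical [Nontrivial R] [IsNoetherianRing R]
    (hpos : ∀ n : ℤ, n < 0 → 𝒜 n = ⊥) (h0 : 𝒜 0 = Submodule.span k {(1 : R)})
    (m : HomogeneousIdeal 𝒜) (hm : m.toIdeal = Ideal.span (⋃ n ∈ Set.Ioi (0 : ℤ), (𝒜 n : Set R)))
    (I : StarInjRes 𝒜 𝒜) (r : ℕ) {E' : Type u} [AddCommGroup E'] [Module R E'] {𝓔 : ℤ → AddSubgroup E'}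
    [DirectSum.Decomposition 𝓔] [SetLike.GradedSMul 𝒜 𝓔] {e : (R ⧸ m.toIdeal) →ₗ[R] E'}
    (he : IsStarInjHull 𝒜 (quotGr 𝒜 m) 𝓔 e) {C : Type u} [AddCommGroup C] [Module R C]
    {𝒞 : ℤ → AddSubgroup C} [DirectSum.Decomposition 𝒞] [SetLike.GradedSMul 𝒜 𝒞]
    (hC : IsStarCanonical 𝒜 𝒞 𝓔 m r I) (j : ℤ) :
    Module.finrank (deg0 𝒜) (comp 𝒜 𝒞 j) = Module.finrank (deg0 𝒜) (I.Hcomp m r (-j)) := by
  obtain ⟨hfin, φ, hφ⟩ := hC
  haveI : Module.Finite R C := hfin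
  obtain ⟨σ, -⟩ := exists_deg0Equiv (𝒜 := 𝒜) h0
  have hF : IsField (deg0 (Conv.grp 𝒜)) := σ.symm.toMulEquiv.isField (Field.toIsField k)
  haveI hg𝒞 : SetLike.GradedSMul (Conv.grp 𝒜) 𝒞 := Conv.gsmul 𝒜 𝒞
  haveI hg𝓔 : SetLike.GradedSMul (Conv.grp 𝒜) 𝓔 := Conv.gsmul 𝒜 𝓔
  have he' : IsStarInjHull (Conv.grp 𝒜) (quotGr (Conv.grp 𝒜) (Conv.ideal 𝒜 m)) 𝓔 e :=
    { injective := he.injective
      grHom := he.grHom
      essential := he.essential
      starInj := fun A B f hf hfi g hg => he.starInj (Conv.gmod' 𝒜 A) (Conv.gmod' 𝒜 B) f hf hfi g hg }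
  have hpos' : ∀ n : ℤ, n < 0 → Conv.grp 𝒜 n = ⊥ := fun n hn => by
    rw [AddSubgroup.eq_bot_iff_forall]
    intro x hx
    have hx' : x ∈ 𝒜 n := hx
    rwa [hpos n hn, Submodule.mem_bot] at hx'
  exact finrank_canonical_pieces (m := Conv.ideal 𝒜 m) (e := e) hpos' hF hm he' (Conv.res I) r φ hφ j

end Groth.Agent.GrInj.SegK
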