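import Groth.Agent.GrInj.SegreKGor
import Groth.Agent.S18656

/-!
# When a Segre product is Gorenstein
-/

set_option autoImplicit false
set_option linter.unusedSectionVars false
universe u

open TensorProduct

namespace Groth.Agent.GrInj.SegK

section Pair

open GrLC

variable {k : Type u} [Field k] {R : Type u} [CommRing R] [Algebra k R] {𝒜 : ℤ → Submodule k R}
  [GradedAlgebra 𝒜]
variable {S : Type u} [CommRing S] [Algebra k S] {ℬ : ℤ → Submodule k S} [GradedAlgebra ℬ]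
  {T : Type u} [CommRing T] [Algebra k T] {𝒯 : ℤ → Submodule k T} [GradedAlgebra 𝒯]
  {ψ : T →ₐ[k] R ⊗[k] S} (hT : GrSeg.IsSegreRing 𝒜 ℬ 𝒯 ψ)
  {IR : Ideal R} {GR : Gens (Conv.grp 𝒜) IR} {M : Type u} [AddCommGroup M] [Module R M]
  [Module k M] [IsScalarTower k R M]
  {ℳ : ℤ → AddSubgroup M} [DirectSum.Decomposition ℳ]
  {IS : Ideal S} {GS : Gens (Conv.grp ℬ) IS} {N : Type u} [AddCommGroup N] [Module S N]
  [Module k N] [IsScalarTower k S N]
  {𝒩 : ℤ → AddSubgroup N} [DirectSum.Decomposition 𝒩]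
  (A : TotRes GR ℳ) (B : TotRes GS 𝒩)
  {P : Type u} [AddCommGroup P] [Module T P] [Module k P] [IsScalarTower k T P]
  {𝒬 : ℤ → AddSubgroup P} [DirectSum.Decomposition 𝒬] {φ : P →ₗ[k] M ⊗[k] N}
  (hP : GrSeg.IsSegreMod ψ ℳ 𝒩 𝒬 φ)
  [IsNoetherianRing T] [SetLike.GradedSMul (Conv.grp 𝒯) 𝒬] {mT : HomogeneousIdeal 𝒯}
  (hmT : mT.toIdeal = Ideal.span (⋃ n ∈ Set.Ioi (0 : ℤ), (𝒯 n : Set T)))
  (hIR : ∀ n : ℤ, 0 < n → ∀ p ∈ 𝒜 n, p ∈ IR) (hIS : ∀ n : ℤ, 0 < n → ∀ p ∈ ℬ n, p ∈ IS)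
  (E : StarInjRes (Conv.grp 𝒯) 𝒬)

include hT hP hmT hIR hIS in
/-- Classes of a Segre product, compatible with the action. -/
theorem exists_cls₃ (q : ℕ) : ∃ c : ∀ d, cyc (full₂ A B d) (quot₂ A B d) q →+ E.H (Conv.ideal 𝒯 mT) q,
    (∀ d z, c d z = 0 ↔ IsBdy (full₂ A B d) (quot₂ A B d) q z) ∧
    (∀ d z, c d z ∈ E.Hgr (Conv.ideal 𝒯 mT) q d) ∧
    (∀ d, ∀ b ∈ E.Hgr (Conv.ideal 𝒯 mT) q d, ∃ z, c d z = b) ∧
    ∀ d d' (t : T) (z : cyc (full₂ A B d) (quot₂ A B d) q) (z' : cyc (full₂ A B d') (quot₂ A B d') q),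
      (z' : A.X.carrier ⊗[k] B.X.carrier) =
      GrSeg.act k R S A.X.carrier B.X.carrier (ψ t) (z : A.X.carrier ⊗[k] B.X.carrier) →
      c d' z' = t • c d z := by
  set Y := segRes hT A B hP hmT hIR hIS
  obtain ⟨κ, hκ0, hκg, hκs⟩ := exists_cohMap Y E q
  let inc := fun n => segTermInc hT A B n
  have hto : ∀ d n, ∀ y : (segTerm hT A B n).carrier, y ∈ (segTerm hT A B n).gr d →
      y ∈ gam mT.toIdeal (segTerm hT A B n).carrier →
      sval A.X B.X hT (inc n y) ∈ cone (full₂ A B d) (quot₂ A B d) n := fun d n y hy hg => by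
    have h1 := full₂_τ_of_mem A B ((mem_seg_gr A.X B.X hT).1 ((mem_segTerm_gr hT A B).1 hy))
    refine mem_cone.2 ⟨h1, ?_, ?_⟩
    · rw [quot₂_τ, ← full₂_τ A B d, h1]
      exact (mem_gam_seg_iff hT hmT A.D B.D hIR hIS _).1 (gam_map _ (inc n) hg)
    · rw [← sval_totSegW, segTerm_fix]
  have hfrom : ∀ d n v, v ∈ cone (full₂ A B d) (quot₂ A B d) n → ∃ y : (segTerm hT A B n).carrier,
      y ∈ (segTerm hT A B n).gr d ∧ y ∈ gam mT.toIdeal (segTerm hT A B n).carrier ∧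
        sval A.X B.X hT (inc n y) = v := fun d n v hv => by
    obtain ⟨h1, h2, h3⟩ := mem_cone.1 hv
    have hmem := mem_piece_of_τ A B h1
    obtain ⟨z, rfl⟩ := exists_sval A.X B.X hT (piece_le_segSub _ _ d hmem)
    obtain ⟨y, rfl⟩ := exists_segTerm hT A B (q := n)
      (sval_injective A.X B.X hT ((sval_totSegW hT A B n z).trans h3))
    refine ⟨y, (mem_segTerm_gr hT A B).2 ((mem_seg_gr A.X B.X hT).2 hmem), ?_, rfl⟩
    rw [quot₂_τ, ← full₂_τ A B d, h1] at h2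
    obtain ⟨j, hj⟩ := (mem_gam_seg_iff hT hmT A.D B.D hIR hIS _).2 h2
    exact ⟨j, fun r hr => segTermInc_injective hT A B n (by rw [map_smul, hj r hr, map_zero])⟩
  have hD : ∀ d n, ∀ y : (segTerm hT A B n).carrier, y ∈ (segTerm hT A B n).gr d →
      sval A.X B.X hT (inc (n + 1) (segTermD hT A B n y)) =
        (full₂ A B d).δ (sval A.X B.X hT (inc n y)) := fun d n y hy =>
    sval_totSegD hT A B ((mem_segTerm_gr hT A B).1 hy)
  have hf : ∀ d, ∀ z : cyc (full₂ A B d) (quot₂ A B d) q,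
      ∃ y : ↥(gam (Conv.ideal 𝒯 mT).toIdeal (Y.X q).carrier ⊓ LinearMap.ker (Y.d q)),
      y.1 ∈ (segTerm hT A B q).gr d ∧
      sval A.X B.X hT (inc q y.1) = (z : A.X.carrier ⊗[k] B.X.carrier) := fun d z => by
    obtain ⟨hc, hd⟩ := mem_cyc.1 z.2
    obtain ⟨y, h1, h2, h3⟩ := hfrom d q z.1 hc
    refine ⟨⟨y, h2, ?_⟩, h1, h3⟩
    exact segTermInc_injective hT A B (q + 1) (sval_injective A.X B.X hT
      ((((hD d q y h1).trans ((congrArg _ h3).trans hd)).trans (map_zero (sval A.X B.X hT)).symm).trans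
        (congrArg _ (map_zero (inc (q + 1))).symm)))
  choose f hfg hfv using hf
  have huniq : ∀ y y' : ↥(gam (Conv.ideal 𝒯 mT).toIdeal (Y.X q).carrier ⊓ LinearMap.ker (Y.d q)),
      sval A.X B.X hT (inc q y.1) = sval A.X B.X hT (inc q y'.1) → y = y' := fun y y' h =>
    Subtype.ext (segTermInc_injective hT A B q (sval_injective A.X B.X hT h))
  let c : ∀ d, cyc (full₂ A B d) (quot₂ A B d) q →+ E.H (Conv.ideal 𝒯 mT) q := fun d =>
    AddMonoidHom.mk' (fun z => κ (f d z)) fun z z' => by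
      rw [← map_add]
      exact congrArg κ (huniq _ _ (by
        rw [hfv]
        refine Eq.trans ?_ ((congrArg _ (map_add (inc q) _ _)).trans (map_add (sval A.X B.X hT) _ _)).symm
        rw [hfv, hfv]; rfl))
  refine ⟨c, fun d z => ?_, fun d z => hκg d _ (hfg d z), fun d b hb => ?_, fun d d' t z z' h => ?_⟩
  · show κ (f d z) = 0 ↔ _
    rw [hκ0]
    have hz := hfv d z
    have hzg := hfg d z
    generalize f d z = y at hz hzg
    obtain ⟨z, hzc⟩ := z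
    show (y.1 ∈ Y.cob q) ↔ IsBdy _ _ q z
    change sval A.X B.X hT (inc q y.1) = z at hz
    subst hz
    cases q with
    | zero =>
      show y.1 ∈ (⊥ : Submodule T _) ↔ sval A.X B.X hT (inc 0 y.1) = 0
      rw [Submodule.mem_bot]
      exact ⟨fun h => (congrArg (fun t => sval A.X B.X hT (inc 0 t)) h).trans
          ((congrArg _ (map_zero (inc 0))).trans (map_zero _)),
        fun h => segTermInc_injective hT A B 0 ((sval_injective A.X B.X hT (h.trans (map_zero _).symm)).trans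
          (map_zero _).symm)⟩
    | succ q =>
      constructor
      · intro hy
        obtain ⟨w, hw, hwy⟩ : ∃ w : (segTerm hT A B q).carrier,
            w ∈ gam mT.toIdeal (segTerm hT A B q).carrier ∧ segTermD hT A B q w = y.1 := hy
        have hw' : pr (segTerm hT A B q).gr d w ∈ gam mT.toIdeal (segTerm hT A B q).carrier :=
          S13225.gam_homogeneous (Conv.ideal 𝒯 mT) d hw
        refine ⟨_, hto d q _ (pr_mem d w) hw', ?_⟩
        rw [← hD d q _ (pr_mem d w), ← pr_grHom (segTermD_grHom hT A B q)]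
        exact congrArg (fun t => sval A.X B.X hT (inc (q + 1) t))
          ((congrArg (pr (segTerm hT A B (q + 1)).gr d) hwy).trans (pr_of_mem hzg))
      · rintro ⟨u, hu, hdu⟩
        obtain ⟨w, h1, h2, rfl⟩ := hfrom d q u hu
        refine ⟨w, h2, segTermInc_injective hT A B (q + 1) (sval_injective A.X B.X hT ?_)⟩
        exact (hD d q w h1).trans hdu
  · obtain ⟨y, hyg, rfl⟩ := hκs d b hb
    have hv : sval A.X B.X hT (inc q y.1) ∈ cyc (full₂ A B d) (quot₂ A B d) q :=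
      mem_cyc.2 ⟨hto d q y.1 hyg y.2.1, by
        rw [← hD d q y.1 hyg, show segTermD hT A B q y.1 = 0 from y.2.2]; simp⟩
    exact ⟨⟨_, hv⟩, congrArg κ (huniq _ _ (hfv d _))⟩
  · show κ (f d' z') = t • κ (f d z)
    rw [← map_smul]
    refine congrArg κ (huniq _ _ ?_)
    rw [hfv, h, ← hfv d z]
    exact (congrArg (sval A.X B.X hT) (map_smul (inc q) t (f d z).1)).symm

end Pair

section Detect

open GrLC

variable {k : Type u} [Field k] {R : Type u} [CommRing R] [Algebra k R] {𝒜 : ℤ → Submodule k R} [GradedAlgebra 𝒜]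
  {S : Type u} [CommRing S] [Algebra k S] {ℬ : ℤ → Submodule k S} [GradedAlgebra ℬ]
  {T : Type u} [CommRing T] [Algebra k T] {𝒯 : ℤ → Submodule k T} [GradedAlgebra 𝒯]
  {ψ : T →ₐ[k] R ⊗[k] S}
  {M : Type u} [AddCommGroup M] [Module R M] [Module k M] [IsScalarTower k R M]
  {ℳ : ℤ → AddSubgroup M} [DirectSum.Decomposition ℳ] [SetLike.GradedSMul (Conv.grp 𝒜) ℳ]
  {aR : HomogeneousIdeal (Conv.grp 𝒜)} {GR : Gens (Conv.grp 𝒜) aR.toIdeal}
  (EM : StarInjRes (Conv.grp 𝒜) ℳ) (DM : ∀ n, Good GR (EM.X n))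
  (σR : k ≃+* deg0 (Conv.grp 𝒜)) (hσR : ∀ c, (σR c : R) = algebraMap k R c)
  {N : Type u} [AddCommGroup N] [Module S N] [Module k N] [IsScalarTower k S N]
  {𝒩 : ℤ → AddSubgroup N} [DirectSum.Decomposition 𝒩] [SetLike.GradedSMul (Conv.grp ℬ) 𝒩]
  {aS : HomogeneousIdeal (Conv.grp ℬ)} {GS : Gens (Conv.grp ℬ) aS.toIdeal}
  (EN : StarInjRes (Conv.grp ℬ) 𝒩) (DN : ∀ n, Good GS (EN.X n))
  (σS : k ≃+* deg0 (Conv.grp ℬ)) (hσS : ∀ c, (σS c : S) = algebraMap k S c)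
  (hT : GrSeg.IsSegreRing 𝒜 ℬ 𝒯 ψ) [IsNoetherianRing T] {mT : HomogeneousIdeal 𝒯}
  (hmT : mT.toIdeal = Ideal.span (⋃ n ∈ Set.Ioi (0 : ℤ), (𝒯 n : Set T)))
  (hIR : ∀ n : ℤ, 0 < n → ∀ p ∈ 𝒜 n, p ∈ aR.toIdeal) (hIS : ∀ n : ℤ, 0 < n → ∀ p ∈ ℬ n, p ∈ aS.toIdeal)
  {P : Type u} [AddCommGroup P] [Module T P] [Module k P] [IsScalarTower k T P]
  {𝒬 : ℤ → AddSubgroup P} [DirectSum.Decomposition 𝒬] [SetLike.GradedSMul (Conv.grp 𝒯) 𝒬]
  {φ : P →ₗ[k] M ⊗[k] N} (hP : GrSeg.IsSegreMod ψ ℳ 𝒩 𝒬 φ) (EP : StarInjRes (Conv.grp 𝒯) 𝒬)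


theorem gor_th {i : ℕ} {d e : ℤ} (c : EM.H aR (i + 2)) (hc : c ∈ EM.Hgr aR (i + 2) d) (hc0 : c ≠ 0) :
    ∃ x : (totRes EM DM).X.carrier,
      ((totRes EM DM).quot d).π ((totRes EM DM).Wk.w (i + 1) x) = x ∧ x ≠ 0 ∧
      (totRes EM DM).Wk.w (i + 1) x = x ∧
      ((∀ f ∈ 𝒜 (e - d), f • c = 0) → ∀ f ∈ 𝒜 (e - d),
        ((totRes EM DM).quot e).π (mulMap (k := k) f (totRes EM DM) x) = 0) := by
  classical
  obtain ⟨cl, hker, -, hsurj, hnat⟩ := exists_cls EM DM (i + 2)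
  obtain ⟨⟨z, hz⟩, rfl⟩ := hsurj d c hc
  refine ⟨th ((totRes EM DM).full d) ((totRes EM DM).quot d) i z, ?_, fun h => hc0 ((hker d _).2 ?_), ?_,
    fun hk f hf => ?_⟩
  · show _ = ((totRes EM DM).quot d).π ((totRes EM DM).Wk.w (i + 1) (((totRes EM DM).full d).h z))
    change ((totRes EM DM).quot d).π ((totRes EM DM).Wk.w (i + 1)
      (((totRes EM DM).quot d).π ((totRes EM DM).Wk.w (i + 1) (((totRes EM DM).full d).h z)))) = _
    rw [← ((totRes EM DM).quot d).πw, (totRes EM DM).Wk.w_self, ((totRes EM DM).quot d).ππ]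
  · exact (((totRes EM DM).link d).th_eq_zero_iff ((totRes EM DM).full_π_succ d (i + 1))
      ((totRes EM DM).full_π_succ d i) hz).1 h
  · show (totRes EM DM).Wk.w (i + 1)
      (((totRes EM DM).quot d).π ((totRes EM DM).Wk.w (i + 1) (((totRes EM DM).full d).h z))) = _
    rw [← ((totRes EM DM).quot d).πw, (totRes EM DM).Wk.w_self]
    rfl
  · have hF := natMap_mul (totRes EM DM) hf
    have hz' := hF.cyc_map ((totRes EM DM).link d) ((totRes EM DM).link e) hz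
    rw [← hF.th_map ((totRes EM DM).link d) ((totRes EM DM).link e) ((totRes EM DM).full_π_succ d (i + 1))
      ((totRes EM DM).full_π_succ e i) hz]
    refine (((totRes EM DM).link e).th_eq_zero_iff ((totRes EM DM).full_π_succ e (i + 1))
      ((totRes EM DM).full_π_succ e i) hz').2 ((hker e ⟨_, hz'⟩).1 ?_)
    rw [hnat d e f ⟨z, hz⟩ ⟨_, hz'⟩ rfl, hk f hf]

include σR hσR σS hσS DM DN hT hmT hIR hIS hP in
/-- The tensor product of two classes is a nonzero class of the Segre product. -/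
theorem tensor_class {i j : ℕ} {d e : ℤ} {c : EM.H aR (i + 2)} (hc : c ∈ EM.Hgr aR (i + 2) d) (hc0 : c ≠ 0)
    {c' : EN.H aS (j + 2)} (hc' : c' ∈ EN.Hgr aS (j + 2) d) (hc'0 : c' ≠ 0)
    (hkill : (∀ f ∈ 𝒜 (e - d), f • c = 0) ∨ (∀ g ∈ ℬ (e - d), g • c' = 0)) :
    ∃ b ∈ EP.Hgr (Conv.ideal 𝒯 mT) (i + j + 1 + 2) d, b ≠ 0 ∧ ∀ t ∈ 𝒯 (e - d), t • b = 0 := by
  classical
  obtain ⟨cl, hker, hgr, -, hnat⟩ :=
    exists_cls₃ hT (totRes EM DM) (totRes EN DN) hP hmT hIR hIS EP (i + j + 1 + 2)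
  obtain ⟨x, hx, hx0, hxw, hxk⟩ := gor_th EM DM (e := e) c hc hc0
  obtain ⟨y, hy, hy0, hyw, hyk⟩ := gor_th EN DN (e := e) c' hc' hc'0
  rw [hxw] at hx
  rw [hyw] at hy
  have L : ∀ d : ℤ, Link (full₂ (totRes EM DM) (totRes EN DN) d) (quot₂ (totRes EM DM) (totRes EN DN) d) :=
    fun d => ((totRes EM DM).link d).tensor ((totRes EN DN).link d)
  have hπ := fun d q => full₂_π_succ (totRes EM DM) (totRes EN DN) d q
  set v := x ⊗ₜ[k] y with hv
  have hvw : (quot₂ (totRes EM DM) (totRes EN DN) d).π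
      ((Spl.tWts (totRes EM DM).Wk (totRes EN DN).Wk).w (i + j + 1 + 1) v) = v := by
    show map ((totRes EM DM).quot d).π ((totRes EN DN).quot d).π
      ((totRes EM DM).Wk.tw (totRes EN DN).Wk (i + j + 1 + 1) (x ⊗ₜ[k] y)) = _
    rw [Wts.tw_tmul _ _ hxw hyw, if_pos (by omega), map_tmul, hx, hy]
  obtain ⟨hz, hth⟩ := (L d).th_δ (hπ d _) hvw
  have hv0 : v ≠ 0 := fun h => by
    obtain ⟨φx, hφx, -⟩ := Submodule.exists_dual_map_eq_bot_of_notMem
      (p := (⊥ : Submodule k (totRes EM DM).X.carrier)) (x := x) (by simpa using hx0) inferInstance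
    obtain ⟨φy, hφy, -⟩ := Submodule.exists_dual_map_eq_bot_of_notMem
      (p := (⊥ : Submodule k (totRes EN DN).X.carrier)) (x := y) (by simpa using hy0) inferInstance
    have h1 := congrArg (LinearMap.mul' k k ∘ₗ map φx φy) h
    rw [hv, LinearMap.comp_apply, map_tmul, LinearMap.mul'_apply, map_zero, mul_eq_zero] at h1
    exact h1.elim hφx hφy
  refine ⟨cl d ⟨_, hz⟩, hgr d _, fun h => hv0 ?_, fun t ht => ?_⟩
  · rw [← hth]
    exact ((L d).th_eq_zero_iff (hπ d _) (hπ d _) hz).2 ((hker d _).1 h)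
  · have hψ : ψ t ∈ GrSeg.segrePiece k 𝒜 ℬ (e - d) := (hT.2 _).le ⟨t, ht, rfl⟩
    have key : ∀ w ∈ GrSeg.segrePiece k 𝒜 ℬ (e - d), ∀ t, ψ t = w → t • cl d ⟨_, hz⟩ = 0 := by
      intro w hw
      unfold GrSeg.segrePiece at hw
      induction hw using Submodule.span_induction with
      | mem w hw =>
        obtain ⟨f, hf, g, hg, rfl⟩ := hw
        intro t hψt
        have hact : ∀ u : (totRes EM DM).X.carrier ⊗[k] (totRes EN DN).X.carrier,
            GrSeg.act k R S _ _ (ψ t) u =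
              map (mulMap (k := k) f (totRes EM DM)) (mulMap (k := k) g (totRes EN DN)) u := fun u => by
          induction u using TensorProduct.induction_on with
          | zero => simp
          | add p q hp hq => rw [map_add, map_add, hp, hq]
          | tmul x y => rw [hψt, GrSeg.act_tmul, map_tmul, mulMap_apply, mulMap_apply]
        have hF := (natMap_mul (totRes EM DM) hf).tensor (natMap_mul (totRes EN DN) hg)
        have hz' := hF.cyc_map (L d) (L e) hz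
        rw [← hnat d e t ⟨_, hz⟩ ⟨_, hz'⟩ (hact _).symm, hker]
        refine ((L e).th_eq_zero_iff (hπ e _) (hπ e _) hz').1 ?_
        rw [hF.th_map (L d) (L e) (hπ d _) (hπ e _) hz, hth]
        show map ((totRes EM DM).quot e).π ((totRes EN DN).quot e).π (map _ _ (x ⊗ₜ[k] y)) = 0
        rw [map_tmul, map_tmul]
        rcases hkill with h | h
        · rw [hxk h f hf, zero_tmul]
        · rw [hyk h g hg, tmul_zero]
      | zero =>
        intro t h
        rw [hT.1 (h.trans (map_zero ψ).symm), zero_smul]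
      | add p q hp' hq' hp hq =>
        intro t h
        obtain ⟨tp, -, htp⟩ := (hT.2 (e - d)).ge hp'
        obtain ⟨tq, -, htq⟩ := (hT.2 (e - d)).ge hq'
        rw [hT.1 (h.trans (((map_add ψ tp tq).trans (congrArg₂ (· + ·) htp htq)).symm)), add_smul,
          hp tp htp, hq tq htq, add_zero]
      | smul a p hp' hp =>
        intro t h
        obtain ⟨tp, -, htp⟩ := (hT.2 (e - d)).ge hp'
        rw [hT.1 (h.trans ((map_smul ψ a tp).trans (congrArg (a • ·) htp)).symm), Algebra.smul_def, mul_smul,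
          hp tp htp, smul_zero]
    exact key _ hψ t rfl

end Detect

/-- A graded algebra with detected one-dimensional top piece is Gorenstein. -/
theorem gor_of_detect {k : Type u} [Field k] {R : Type u} [CommRing R] [Algebra k R] {𝒜 : ℤ → Submodule k R}
    [GradedAlgebra 𝒜] [Nontrivial R] [IsNoetherianRing R] [LocCoh.IsCohenMacaulayRing R]
    (hpos : ∀ n : ℤ, n < 0 → 𝒜 n = ⊥) (h0 : 𝒜 0 = Submodule.span k {(1 : R)}) {m : HomogeneousIdeal 𝒜}
    (hm : m.toIdeal = Ideal.span (⋃ n ∈ Set.Ioi (0 : ℤ), (𝒜 n : Set R))) (I : GrLC.StarInjRes 𝒜 𝒜) {r : ℕ}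
    (hr : ringKrullDim R = r) {a : ℤ}
    (ha : GrLC.endDeg (I.Hgr m r) = ((a : WithTop ℤ) : WithBot (WithTop ℤ)))
    (hone : Module.finrank (GrLC.deg0 𝒜) (I.Hcomp m r a) = 1)
    (hdet : ∀ d, d < a → ∀ c ∈ (Conv.res I).Hgr (Conv.ideal 𝒜 m) r d, (∀ f ∈ 𝒜 (a - d), f • c = 0) → c = 0) :
    LocCoh.IsGorensteinRing R := by
  classical
  let a' := Conv.ideal 𝒜 m
  let E := Conv.res I
  have hp := hpos_grp hpos
  have haE : GrLC.endDeg (E.Hgr a' r) = ((a : WithTop ℤ) : WithBot (WithTop ℤ)) := (endDeg_res I m r).trans ha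
  rw [isGorensteinRing_iff_socle hp (starLocal hpos h0 hm) hr E]
  set H := Submodule.torsionBySet R (E.H a' r) a'.toIdeal with hH
  rw [length_killed hp hm H fun t ht x => Subtype.ext ((Submodule.mem_torsionBySet_iff _ _).1 x.2 ⟨t, ht⟩)]
  letI := (S13225.isInternal_Hgr E a' r).chooseDecomposition
  haveI : SetLike.GradedSMul (Conv.grp 𝒜) (E.Hgr a' r) := ⟨fun {p q} t c ht hc => by
    obtain ⟨z, hz, rfl⟩ := hc
    exact ⟨t • z, (E.X _).gsmul.smul_mem ht hz, map_smul _ t z⟩⟩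
  have heq : H.restrictScalars (GrLC.deg0 (Conv.grp 𝒜)) = E.Hcomp a' r a := by
    refine le_antisymm (fun c hc => ?_) (fun c hc => ?_)
    · have hck : ∀ t ∈ a'.toIdeal, t • c = 0 := fun t ht => (Submodule.mem_torsionBySet_iff _ _).1 hc ⟨t, ht⟩
      have hz : ∀ d, d ≠ a → GrInj.pr (E.Hgr a' r) d c = 0 := fun d hd => by
        rcases lt_or_gt_of_ne hd with h | h
        · refine hdet d h _ (pr_mem d c) fun t ht => ?_
          rw [← pr_smul (𝒜 := Conv.grp 𝒜) (show t ∈ Conv.grp 𝒜 (a - d) from ht) d c,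
            hck t (irrelevant_mem hm _ (by omega) t ht), map_zero]
        · exact eq_zero_above E haE h (pr_mem d c)
      rw [← sum_supp (ℳ := E.Hgr a' r) c]
      refine sum_mem fun d _ => ?_
      rcases eq_or_ne d a with rfl | hd
      · exact pr_mem (ℳ := E.Hgr a' r) d c
      · rw [hz d hd]; exact zero_mem _
    · exact (Submodule.mem_torsionBySet_iff _ _).2 fun t => top_killed hm E haE hc t.2
  let e : H ≃ₗ[GrLC.deg0 (Conv.grp 𝒜)] E.Hcomp a' r a :=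
    { toFun := fun x => ⟨x.1, heq.le x.2⟩
      invFun := fun x => ⟨x.1, heq.ge x.2⟩
      left_inv := fun _ => rfl
      right_inv := fun _ => rfl
      map_add' := fun _ _ => rfl
      map_smul' := fun _ _ => rfl }
  rw [e.length_eq]
  letI := (isField_deg0 (k := k) (𝒜 := 𝒜) h0).toField
  haveI := (finite_pieces (a := a') E a hpos hm r).1
  rw [Module.length_eq_finrank, finrank_Hcomp_res I m r a, hone]
  rfl

/-- For a standard graded ring of dimension at least two a one-dimensional top cohomology piece sits in the top degree. -/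
theorem endDeg_of_one {k : Type u} [Field k] {R : Type u} [CommRing R] [Algebra k R] {𝒜 : ℤ → Submodule k R}
    [GradedAlgebra 𝒜] [Nontrivial R] [IsNoetherianRing R]
    (hpos : ∀ n : ℤ, n < 0 → 𝒜 n = ⊥) (h0 : 𝒜 0 = Submodule.span k {(1 : R)}) {m : HomogeneousIdeal 𝒜}
    (hm : m.toIdeal = Ideal.span (⋃ n ∈ Set.Ioi (0 : ℤ), (𝒜 n : Set R)))
    (hstd : Ideal.span (⋃ n ∈ Set.Ioi (0 : ℤ), (𝒜 n : Set R)) = Ideal.span ((𝒜 1 : Submodule k R) : Set R))
    (I : GrLC.StarInjRes 𝒜 𝒜) {i : ℕ} (hr : ringKrullDim R = (i + 2 : ℕ)) {g : ℤ}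
    (hone : Module.finrank (GrLC.deg0 𝒜) (I.Hcomp m (i + 2) g) = 1) :
    GrLC.endDeg (I.Hgr m (i + 2)) = ((g : WithTop ℤ) : WithBot (WithTop ℤ)) ∧
      ∀ d, d ≤ g → ∃ c ∈ (Conv.res I).Hgr (Conv.ideal 𝒜 m) (i + 2) d, c ≠ 0 := by
  classical
  let a' := Conv.ideal 𝒜 m
  let E := Conv.res I
  have hp := hpos_grp hpos
  have hf := isField_deg0 (k := k) (𝒜 := 𝒜) h0
  letI := hf.toField
  rw [← finrank_Hcomp_res I m (i + 2) g] at hone
  obtain ⟨⟨c0, hc0⟩, hc00, hspan⟩ := finrank_eq_one_iff'.1 hone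
  have hne : ¬ Subsingleton (E.H a' (i + 2)) := fun hs => hc00 (Subtype.ext (@Subsingleton.elim _ hs _ _))
  obtain ⟨a, ha⟩ := exists_endDeg hp (m := a') hm E hne
  have hga : g ≤ a := by
    by_contra h
    exact hc00 (Subtype.ext (eq_zero_above E ha (not_le.1 h) hc0))
  have hnz : ∀ d, d ≤ a → ∃ c ∈ E.Hgr a' (i + 2) d, c ≠ 0 := fun d hd => by
    obtain ⟨c, hc, hne⟩ := Submodule.exists_mem_ne_zero_of_ne_bot
      (S18656.result R (Conv.grp 𝒜) hp hf a' (starLocal hpos h0 hm) hm hstd (i + 2) hr (by omega) E a ha d hd)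
    exact ⟨c, hc, hne⟩
  have hag : a = g := by
    by_contra h
    obtain ⟨c, hc, hcne⟩ := hnz (g + 1) (by omega)
    refine hcne (eq_zero_of_one_dim (i := i + 1) hp hf (m := a') (hm.trans hstd) hm hr (by omega) E (c0 := c0)
      (fun b hb => ?_) hc)
    obtain ⟨t, ht⟩ := hspan ⟨b, hb⟩
    exact ⟨t, (congrArg Subtype.val ht).symm⟩
  subst hag
  exact ⟨(endDeg_res I m (i + 2)).symm.trans ha, hnz⟩

/-- Both factors of a Gorenstein Segre product are Gorenstein, with the same negative `a`-invariant. -/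
theorem factors_of_gorenstein {k : Type u} [Field k] {R : Type u} [CommRing R] [Algebra k R]
    {𝒜 : ℤ → Submodule k R} [GradedAlgebra 𝒜] [Algebra.FiniteType k R] {S : Type u} [CommRing S] [Algebra k S]
    {ℬ : ℤ → Submodule k S} [GradedAlgebra ℬ] [Algebra.FiniteType k S] {T : Type u} [CommRing T] [Algebra k T]
    {𝒯 : ℤ → Submodule k T} [GradedAlgebra 𝒯] {ψ : T →ₐ[k] R ⊗[k] S} (hT : GrSeg.IsSegreRing 𝒜 ℬ 𝒯 ψ)
    (hposR : ∀ n : ℤ, n < 0 → 𝒜 n = ⊥) (h0R : 𝒜 0 = Submodule.span k {(1 : R)})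
    (hposS : ∀ n : ℤ, n < 0 → ℬ n = ⊥) (h0S : ℬ 0 = Submodule.span k {(1 : S)})
    [LocCoh.IsCohenMacaulayRing R] [LocCoh.IsCohenMacaulayRing S]
    (mR : HomogeneousIdeal 𝒜) (hmR : mR.toIdeal = Ideal.span (⋃ n ∈ Set.Ioi (0 : ℤ), (𝒜 n : Set R)))
    (hstdR : Ideal.span (⋃ n ∈ Set.Ioi (0 : ℤ), (𝒜 n : Set R)) = Ideal.span ((𝒜 1 : Submodule k R) : Set R))
    (I : GrLC.StarInjRes 𝒜 𝒜)
    (mS : HomogeneousIdeal ℬ) (hmS : mS.toIdeal = Ideal.span (⋃ n ∈ Set.Ioi (0 : ℤ), (ℬ n : Set S)))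
    (hstdS : Ideal.span (⋃ n ∈ Set.Ioi (0 : ℤ), (ℬ n : Set S)) = Ideal.span ((ℬ 1 : Submodule k S) : Set S))
    (J : GrLC.StarInjRes ℬ ℬ) {r s : ℕ} (hr : ringKrullDim R = r) (hs : ringKrullDim S = s) (h2r : 2 ≤ r)
    (h2s : 2 ≤ s) [LocCoh.IsGorensteinRing T] :
    LocCoh.IsGorensteinRing R ∧ LocCoh.IsGorensteinRing S ∧
      GrLC.endDeg (I.Hgr mR r) = GrLC.endDeg (J.Hgr mS s) ∧ GrLC.endDeg (I.Hgr mR r) < 0 := by
  classical
  haveI : Nontrivial R := by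
    by_contra h
    rw [not_nontrivial_iff_subsingleton] at h
    rw [ringKrullDim_eq_bot_of_subsingleton] at hr; simp at hr
  haveI : Nontrivial S := by
    by_contra h
    rw [not_nontrivial_iff_subsingleton] at h
    rw [ringKrullDim_eq_bot_of_subsingleton] at hs; simp at hs
  haveI : IsNoetherianRing R := Algebra.FiniteType.isNoetherianRing k R
  haveI : IsNoetherianRing S := Algebra.FiniteType.isNoetherianRing k S
  haveI : IsNoetherianRing T := SegreDim.isNoetherian ψ hT.1 hT.2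
  haveI := nontrivial_segre ψ
  haveI := isCohenMacaulayRing_of_gorenstein (R := T)
  obtain ⟨i, rfl⟩ : ∃ i, r = i + 2 := ⟨r - 2, by omega⟩
  obtain ⟨j, rfl⟩ : ∃ j, s = j + 2 := ⟨s - 2, by omega⟩
  have hdim : ringKrullDim T = ((i + j + 1 + 2 : ℕ) : WithBot ℕ∞) := by
    rw [SegreDim.dim_segre ψ hT.1 hT.2 (r := i + 1) (s := j + 1) ⟨hposR, h0R⟩ ⟨hposS, h0S⟩ hr hs]
    rw [show i + 1 + (j + 1) + 1 = i + j + 1 + 2 by omega]
  let mT : HomogeneousIdeal 𝒯 := ⟨Ideal.span (⋃ n ∈ Set.Ioi (0 : ℤ), (𝒯 n : Set T)),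
    Ideal.homogeneous_span 𝒯 _ (by
      intro x hx
      simp only [Set.mem_iUnion] at hx
      obtain ⟨i, -, hx⟩ := hx
      exact ⟨i, hx⟩)⟩
  have hmT : mT.toIdeal = Ideal.span (⋃ n ∈ Set.Ioi (0 : ℤ), (𝒯 n : Set T)) := rfl
  have h0T := deg0_segre hT h0R h0S
  have hposT : ∀ n : ℤ, n < 0 → 𝒯 n = ⊥ := fun n hn => by
    rw [Submodule.eq_bot_iff]
    intro t ht
    have h : ψ t ∈ GrSeg.segrePiece k 𝒜 ℬ n := (hT.2 n).le ⟨t, ht, rfl⟩
    have h0 : GrSeg.segrePiece k 𝒜 ℬ n = ⊥ := by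
      unfold GrSeg.segrePiece
      rw [Submodule.span_eq_bot]
      rintro _ ⟨a, ha, b, -, rfl⟩
      rw [hposR n hn, Submodule.mem_bot] at ha
      rw [ha, TensorProduct.zero_tmul]
    rw [h0, Submodule.mem_bot] at h
    exact hT.1 (h.trans (map_zero ψ).symm)
  obtain ⟨E⟩ := nonempty_res (𝒜 := 𝒯) (ℳ := 𝒯)
  obtain ⟨GR, DM, σR, hσR⟩ := exists_data h0R mR hmR I
  obtain ⟨GS, DN, σS, hσS⟩ := exists_data h0S mS hmS J
  obtain ⟨a, -, hdetT, hT1⟩ := gor_data hposT h0T hmT E hdim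
  have hprod := kunneth_top hposR h0R hposS h0S hT mR hmR mS hmS mT hmT I J (isSegreMod_self hT) E a hr hs
    (by omega) (by omega)
  rw [show i + 2 + (j + 2) - 1 = i + j + 1 + 2 by omega, hT1] at hprod
  obtain ⟨hR1, hS1⟩ := mul_eq_one.1 hprod.symm
  obtain ⟨haR, hnR⟩ := endDeg_of_one hposR h0R hmR hstdR I hr hR1
  obtain ⟨haS, hnS⟩ := endDeg_of_one hposS h0S hmS hstdS J hs hS1
  have hneg : a < 0 := by
    by_contra h
    obtain ⟨c, hc, hcne⟩ := hnS a le_rfl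
    rcases ((cm_segre_iff hT hposR h0R hposS h0S mR hmR I mS hmS J hr hs (by omega) (by omega)).1
      inferInstance).1 a with h' | h'
    · exact piece_ne_bot_of_std hposR h0R hmR hstdR hr (by omega) (not_lt.1 h) h'
    · exact hcne ((Submodule.eq_bot_iff _).1 ((Conv.res_Hcomp J mS _ a).2 h') c hc)
  have key : ∀ d, d < a → ∀ c ∈ (Conv.res I).Hgr (Conv.ideal 𝒜 mR) (i + 2) d,
      ∀ c' ∈ (Conv.res J).Hgr (Conv.ideal ℬ mS) (j + 2) d,
      ((∀ f ∈ 𝒜 (a - d), f • c = 0) ∨ (∀ g ∈ ℬ (a - d), g • c' = 0)) → c = 0 ∨ c' = 0 := by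
    intro d hd c hc c' hc' hk
    by_contra hne
    rw [not_or] at hne
    obtain ⟨b, hb, hb0, hbk⟩ := tensor_class (Conv.res I) DM σR hσR (Conv.res J) DN σS hσS hT hmT
      (irrelevant_mem hmR) (irrelevant_mem hmS) (isSegreMod_grp (isSegreMod_self hT)) (Conv.res E) hc hne.1 hc'
      hne.2 hk
    exact hb0 (hdetT d b hb hbk)
  refine ⟨gor_of_detect hposR h0R hmR I hr haR hR1 fun d hd c hc hk => ?_,
    gor_of_detect hposS h0S hmS J hs haS hS1 fun d hd c hc hk => ?_, haR.trans haS.symm, ?_⟩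
  · obtain ⟨c', hc', hne⟩ := hnS d hd.le
    exact (key d hd c hc c' hc' (Or.inl hk)).resolve_right hne
  · obtain ⟨c', hc', hne⟩ := hnR d hd.le
    exact (key d hd c' hc' c hc (Or.inr hk)).resolve_left hne
  · rw [haR]
    exact WithBot.coe_lt_coe.2 (WithTop.coe_lt_coe.2 hneg)

end Groth.Agent.GrInj.SegK
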