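import Groth.Agent.GrInj.SegreKDim

/-!
# Naturality of the Künneth classes
-/

set_option autoImplicit false
set_option linter.unusedSectionVars false
universe u

open TensorProduct Finset

namespace Groth.Agent.GrInj.SegK

section Lin

variable {k : Type u} [Field k] {X : Type u} [AddCommGroup X] [Module k X] {W : Wts k X}

/-- The class of a cocycle in the quotient complex. -/
noncomputable def th (S S' : Spl W) (n : ℕ) : X →ₗ[k] X := S'.π ∘ₗ W.w (n + 1) ∘ₗ S.h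

theorem Link.th_δ {S S' : Spl W} (L : Link S S') {n : ℕ} (h1 : ∀ x, S.π (W.w (n + 1) x) = 0) {y : X}
    (hy : S'.π (W.w (n + 1) y) = y) : S.δ y ∈ cyc S S' (n + 2) ∧ th S S' n (S.δ y) = y := by
  have hw : W.w (n + 1) y = y := by rw [← hy, ← S'.πw, W.w_self]
  have hτ : S.τ y = y := by rw [← hy, ← S'.τπ, L.le]
  refine ⟨⟨mem_cone.2 ⟨S.τδ y, by rw [L.comp, ← hy, S'.δπ], by rw [← S.δw, hw]⟩, S.δδ y⟩, ?_⟩
  show S'.π (W.w (n + 1) (S.h (S.δ y))) = y
  have e : S.h (S.δ y) = y - S.δ (S.h y) := by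
    have := S.homotopy y
    rw [hτ, show S.π y = 0 by rw [← hw, h1], sub_zero] at this
    rw [eq_sub_iff_add_eq, add_comm]; exact this
  rw [← S.hw, ← S.δw, hw, e, map_sub, L.π_δ, sub_zero]
  conv_lhs => rw [← hy, S'.ππ, hy]

theorem Link.th_eq_zero_iff {S S' : Spl W} (L : Link S S') {n : ℕ}
    (h2 : ∀ x, S.π (W.w (n + 2) x) = 0) (h1 : ∀ x, S.π (W.w (n + 1) x) = 0) {z : X}
    (hz : z ∈ cyc S S' (n + 2)) : th S S' n z = 0 ↔ IsBdy S S' (n + 2) z := by
  obtain ⟨hc, hd⟩ := mem_cyc.1 hz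
  obtain ⟨hτ, hτ', hw⟩ := mem_cone.1 hc
  have hzero : S.π z = 0 := by rw [← hw, h2]
  constructor
  · intro h
    change S'.π (W.w (n + 1) (S.h z)) = 0 at h
    set u := S.h z with hu
    have huw : W.w (n + 1) u = u := by rw [hu, ← S.hw, hw]
    rw [huw] at h
    have hdu : S.δ u = z := L.eq_δ_h hz hzero
    set y := S'.τ u with hy
    have hdy : S'.δ y = 0 := by rw [hy, ← L.δ_tau, hdu, hτ']
    set v := S'.h y with hv
    have e : S'.δ v = y := by
      have := S'.homotopy y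
      rw [hdy, map_zero, add_zero, show S'.π y = 0 by rw [hy, S'.πτ, h], sub_zero, hy, S'.ττ] at this
      exact this
    have hyw : W.w (n + 1) y = y := by rw [hy, ← S'.τw, huw]
    have hvw : W.w n v = v := by rw [hv, ← S'.hw, hyw]
    refine ⟨u - S.δ v, mem_cone.2 ⟨?_, ?_, ?_⟩, ?_⟩
    · rw [map_sub, S.τδ, hu, S.τh]
    · rw [map_sub, L.comp, e, hy, sub_self]
    · rw [map_sub, huw, ← S.δw, hvw]
    · rw [map_sub, S.δδ, sub_zero, hdu]
  · rintro ⟨u, hu, hdu⟩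
    obtain ⟨huτ, huτ', huw⟩ := mem_cone.1 hu
    show S'.π (W.w (n + 1) (S.h z)) = 0
    have e : S.h z = u - S.δ (S.h u) := by
      have := S.homotopy u
      rw [huτ, show S.π u = 0 by rw [← huw, h1], sub_zero, hdu] at this
      rw [eq_sub_iff_add_eq, add_comm]; exact this
    rw [← S.hw, hw, e, map_sub, L.π_δ, sub_zero, ← S'.πτ, huτ', map_zero]

/-- A map of linked pairs. -/
structure NatMap (S S' U U' : Spl W) (F : X →ₗ[k] X) : Prop where
  wF : ∀ i x, W.w i (F x) = F (W.w i x)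
  τ : ∀ x, U.τ (F (S.τ x)) = F (S.τ x)
  τ' : ∀ x, U'.τ (F (S.τ x)) = F (S'.τ x)
  δ : ∀ x, U.δ (F (S.τ x)) = F (S.δ x)

namespace NatMap

variable {S S' U U' : Spl W} {F : X →ₗ[k] X} (hF : NatMap S S' U U' F) (L : Link S S') (L' : Link U U')
include hF L L'

theorem cyc_map {n : ℕ} {z : X} (hz : z ∈ cyc S S' n) : F z ∈ cyc U U' n := by
  obtain ⟨hc, hd⟩ := mem_cyc.1 hz
  obtain ⟨hτ, hτ', hw⟩ := mem_cone.1 hc
  refine mem_cyc.2 ⟨mem_cone.2 ⟨?_, ?_, ?_⟩, ?_⟩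
  · rw [← hτ, hF.τ]
  · rw [← hτ, hF.τ', hτ', map_zero]
  · rw [hF.wF, hw]
  · rw [← hτ, hF.δ, hd, map_zero]

/-- The class map commutes with maps of linked pairs. -/
theorem th_map {n : ℕ} (h2 : ∀ x, S.π (W.w (n + 2) x) = 0) (h1' : ∀ x, U.π (W.w (n + 1) x) = 0) {z : X}
    (hz : z ∈ cyc S S' (n + 2)) : th U U' n (F z) = U'.π (F (th S S' n z)) := by
  obtain ⟨hc, hd⟩ := mem_cyc.1 hz
  obtain ⟨hτ, hτ', hw⟩ := mem_cone.1 hc
  show U'.π (W.w (n + 1) (U.h (F z))) = U'.π (F (S'.π (W.w (n + 1) (S.h z))))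
  set u := S.h z with hu
  have huw : W.w (n + 1) u = u := by rw [hu, ← S.hw, hw]
  have hdu : S.δ u = z := L.eq_δ_h hz (by rw [← hw, h2])
  have huτ : S.τ u = u := S.τh z
  have hFuw : W.w (n + 1) (F u) = F u := by rw [hF.wF, huw]
  have hFuτ : U.τ (F u) = F u := by rw [← huτ, hF.τ]
  have hFud : U.δ (F u) = F z := by rw [← huτ, hF.δ, hdu]
  have e : U.h (F z) = F u - U.δ (U.h (F u)) := by
    have := U.homotopy (F u)
    rw [hFuτ, show U.π (F u) = 0 by rw [← hFuw, h1'], sub_zero, hFud] at this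
    rw [eq_sub_iff_add_eq, add_comm]; exact this
  rw [← U.hw, show W.w (n + 1 + 1) (F z) = F z by rw [hF.wF, hw], e, map_sub, L'.π_δ, sub_zero, huw,
    ← U'.πτ, show U'.τ (F u) = F (S'.τ u) by conv_lhs => rw [← huτ, hF.τ']]
  have h' : S'.τ u = S'.π u + S'.δ (S'.h u) := by
    have := S'.homotopy u
    rw [show S'.δ u = 0 by rw [← L.comp, hdu, hτ'], map_zero, add_zero] at this
    rw [this]; abel
  rw [h', map_add, map_add, add_eq_left]
  rw [← L.comp, ← hF.τ', ← S.δτ, S.τδ, S.δτ, ← hF.δ, L'.comp, U'.πδ]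

end NatMap

/-- Tensor products of maps of linked pairs. -/
theorem NatMap.tensor {Y : Type u} [AddCommGroup Y] [Module k Y] {W' : Wts k Y} {S S' U U' : Spl W}
    {T T' V V' : Spl W'} {F : X →ₗ[k] X} {G : Y →ₗ[k] Y} (hF : NatMap S S' U U' F) (hG : NatMap T T' V V' G) :
    NatMap (S.tensor T) (S'.tensor T') (U.tensor V) (U'.tensor V') (map F G) where
  wF i z := by
    refine LinearMap.congr_fun (W.ext_tmul W' (f := W.tw W' i ∘ₗ map F G) (g := map F G ∘ₗ W.tw W' i)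
      fun a b x y hx hy => ?_) z
    simp only [LinearMap.comp_apply, map_tmul, W.tw_tmul W' hx hy,
      W.tw_tmul W' (show W.w a (F x) = F x by rw [hF.wF, hx]) (show W'.w b (G y) = G y by rw [hG.wF, hy])]
    split_ifs <;> simp
  τ z := by
    refine LinearMap.congr_fun (TensorProduct.ext' (g := map U.τ V.τ ∘ₗ map F G ∘ₗ map S.τ T.τ)
      (h := map F G ∘ₗ map S.τ T.τ) fun x y => ?_) z
    simp [hF.τ, hG.τ]
  τ' z := by
    refine LinearMap.congr_fun (TensorProduct.ext' (g := map U'.τ V'.τ ∘ₗ map F G ∘ₗ map S.τ T.τ)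
      (h := map F G ∘ₗ map S'.τ T'.τ) fun x y => ?_) z
    simp [hF.τ', hG.τ']
  δ z := by
    refine LinearMap.congr_fun (TensorProduct.ext' (g := (map U.δ V.τ + map (W.sgn ∘ₗ U.τ) V.δ) ∘ₗ map F G ∘ₗ
      map S.τ T.τ) (h := map F G ∘ₗ (map S.δ T.τ + map (W.sgn ∘ₗ S.τ) T.δ)) fun x y => ?_) z
    simp [hF.δ, hG.δ, hF.τ, hG.τ, W.sgn_comm (fun i x => (hF.wF i x).symm)]

/-- Jointly injective families stay jointly injective after tensoring. -/
theorem jointly_injective_map {Y X' Y' : Type u} [AddCommGroup Y] [Module k Y] [AddCommGroup X'] [Module k X']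
    [AddCommGroup Y'] [Module k Y'] {ι κ : Type u} (F : ι → X →ₗ[k] X') (G : κ → Y →ₗ[k] Y') {X₁ Y₁ : Type u}
    [AddCommGroup X₁] [Module k X₁] [AddCommGroup Y₁] [Module k Y₁] (P : X →ₗ[k] X₁) (Q : Y →ₗ[k] Y₁)
    (hP : ∀ x, (∀ i, F i x = 0) → P x = 0) (hQ : ∀ y, (∀ j, G j y = 0) → Q y = 0) (v : X ⊗[k] Y)
    (hv : ∀ i j, map (F i) (G j) v = 0) : map P Q v = 0 := by
  classical
  have key : ∀ {A B B' A₁ : Type u} [AddCommGroup A] [Module k A] [AddCommGroup B] [Module k B]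
      [AddCommGroup B'] [Module k B'] [AddCommGroup A₁] [Module k A₁] {ξ : Type u}
      (H : ξ → A →ₗ[k] B) (R₁ : A →ₗ[k] A₁), (∀ x, (∀ i, H i x = 0) → R₁ x = 0) →
      ∀ u : A ⊗[k] B', (∀ i, map (H i) LinearMap.id u = 0) → map R₁ LinearMap.id u = 0 := by
    intro A B B' A₁ _ _ _ _ _ _ _ _ ξ H R₁ hR u hu
    let b := Module.Basis.ofVectorSpace k B'
    have hnat : ∀ {Z : Type u} [AddCommGroup Z] [Module k Z] (l : A →ₗ[k] Z) (w : A ⊗[k] B') (t),
        TensorProduct.equivFinsuppOfBasisRight b (map l LinearMap.id w) t =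
          l (TensorProduct.equivFinsuppOfBasisRight b w t) := by
      intro Z _ _ l w t
      induction w using TensorProduct.induction_on with
      | zero => simp
      | tmul x y => simp
      | add p q hp hq => simp [hp, hq]
    refine (TensorProduct.equivFinsuppOfBasisRight b).injective (Finsupp.ext fun t => ?_)
    rw [hnat, map_zero, Finsupp.coe_zero, Pi.zero_apply]
    exact hR _ fun i => by rw [← hnat, hu i, map_zero, Finsupp.coe_zero, Pi.zero_apply]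
  have step1 : ∀ j, map P (G j) v = 0 := fun j => by
    rw [show map P (G j) v = map P LinearMap.id (map LinearMap.id (G j) v) by
      rw [← LinearMap.comp_apply, ← TensorProduct.map_comp]; rfl]
    refine key F P hP _ fun i => ?_
    rw [← LinearMap.comp_apply, ← TensorProduct.map_comp]
    exact hv i j
  have step2 : map Q LinearMap.id (TensorProduct.comm k X₁ Y (map P LinearMap.id v)) = 0 := by
    refine key G Q hQ _ fun j => ?_
    rw [TensorProduct.map_comm, ← LinearMap.comp_apply (map LinearMap.id (G j)), ← TensorProduct.map_comp]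
    show TensorProduct.comm k X₁ Y' (map P (G j) v) = 0
    rw [step1, map_zero]
  rw [TensorProduct.map_comm, ← LinearMap.comp_apply (map LinearMap.id Q), ← TensorProduct.map_comp] at step2
  exact (TensorProduct.comm k X₁ Y₁).map_eq_zero_iff.1 step2

end Lin


section Classes

open GrLC

variable {k : Type u} [Field k] {R : Type u} [CommRing R] [Algebra k R] {𝒜 : ℤ → Submodule k R}
  [GradedAlgebra 𝒜]

section Single

variable {M : Type u} [AddCommGroup M] [Module R M] {ℳ : ℤ → AddSubgroup M} [DirectSum.Decomposition ℳ]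
  [SetLike.GradedSMul (Conv.grp 𝒜) ℳ] {a : HomogeneousIdeal (Conv.grp 𝒜)}
  {G : Gens (Conv.grp 𝒜) a.toIdeal} (E : StarInjRes (Conv.grp 𝒜) ℳ) (DE : ∀ n, Good G (E.X n))

/-- Multiplication by a homogeneous element. -/
noncomputable def mulMap (f : R) {I : Ideal R} {G : Gens (Conv.grp 𝒜) I} {M : Type u} [AddCommGroup M] [Module R M]
    {ℳ : ℤ → AddSubgroup M} (TR : TotRes G ℳ) : TR.X.carrier →ₗ[k] TR.X.carrier :=
  (LinearMap.lsmul R TR.X.carrier f).restrictScalars k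

theorem mulMap_apply (f : R) {I : Ideal R} {G : Gens (Conv.grp 𝒜) I} {M : Type u} [AddCommGroup M] [Module R M]
    {ℳ : ℤ → AddSubgroup M} (TR : TotRes G ℳ) (x : TR.X.carrier) : mulMap (k := k) f TR x = f • x := rfl

theorem natMap_mul {I : Ideal R} {G : Gens (Conv.grp 𝒜) I} {M : Type u} [AddCommGroup M] [Module R M]
    {ℳ : ℤ → AddSubgroup M} (TR : TotRes G ℳ) {d d' : ℤ} {f : R} (hf : f ∈ 𝒜 (d' - d)) :
    NatMap (TR.full d) (TR.quot d) (TR.full d') (TR.quot d') (mulMap (k := k) f TR) := by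
  have hmem : ∀ x, f • pr TR.X.gr d x ∈ TR.X.gr d' := fun x => by
    have h := TR.X.gsmul.smul_mem (show f ∈ Conv.grp 𝒜 (d' - d) from hf) (pr_mem (ℳ := TR.X.gr) d x)
    rwa [vadd_eq_add, sub_add_cancel] at h
  refine ⟨fun i x => map_smul (TR.W.w i) f x, fun x => ?_, fun x => ?_, fun x => ?_⟩
  · rw [mulMap_apply, TR.full_τ, TR.full_τ, pr_of_mem (hmem x)]
  · rw [mulMap_apply, mulMap_apply, TR.full_τ, TR.quot_τ, TR.quot_τ, pr_of_mem (hmem x), map_smul]
  · rw [mulMap_apply, mulMap_apply, TR.full_τ, TR.full_δ, TR.full_δ, pr_of_mem (hmem x), map_smul]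

/-- Classes in local cohomology, compatible with the action. -/
theorem exists_cls (n : ℕ) : ∃ c : ∀ d, cyc ((totRes E DE).full d) ((totRes E DE).quot d) n →+ E.H a n,
    (∀ d (z : cyc ((totRes E DE).full d) ((totRes E DE).quot d) n), c d z = 0 ↔ IsBdy ((totRes E DE).full d) ((totRes E DE).quot d) n z) ∧
    (∀ d (z : cyc ((totRes E DE).full d) ((totRes E DE).quot d) n), c d z ∈ E.Hgr a n d) ∧
    (∀ d, ∀ b ∈ E.Hgr a n d, ∃ z, c d z = b) ∧
    ∀ d d' (f : R) (z : cyc ((totRes E DE).full d) ((totRes E DE).quot d) n) (z' : cyc ((totRes E DE).full d') ((totRes E DE).quot d') n),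
      (z' : (totRes E DE).X.carrier) = f • (z : (totRes E DE).X.carrier) →
      c d' z' = f • c d z := by
  set TR := totRes E DE
  let π : TR.X.carrier →ₗ[R] (E.X n).carrier := sumPr E.X n
  let j : ∀ i, (E.X i).carrier →ₗ[R] TR.X.carrier := fun i => sumIn E.X i
  have hmem : ∀ d, ∀ z ∈ cyc (TR.full d) (TR.quot d) n,
      z ∈ TR.X.gr d ∧ π z ∈ (E.X n).gr d ∧ π z ∈ E.cocyc a n ∧ j n (π z) = z := by
    intro d z hz
    obtain ⟨hc, hd⟩ := mem_cyc.1 hz
    obtain ⟨h1, h2, h3⟩ := TR.mem_cone.1 hc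
    rw [TR.full_δ, pr_of_mem h1] at hd
    refine ⟨h1, grHom_sumPr E.X n d _ h1, ⟨gam_map _ π h2, ?_⟩, h3⟩
    show E.d n (π z) = 0
    have h := congrArg (sumPr E.X (n + 1)) ((congrArg TR.d h3).trans hd)
    refine Eq.trans ?_ (h.trans (map_zero (sumPr E.X (n + 1))))
    show _ = sumPr E.X (n + 1) (totD E (sumIn E.X n (π z)))
    rw [totD_in, sumPr_in]
  let c : ∀ d, cyc (TR.full d) (TR.quot d) n →+ E.H a n := fun d => AddMonoidHom.mk'
    (fun z => E.toH a n ⟨π z.1, (hmem d z.1 z.2).2.2.1⟩)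
    (fun z z' => by
      rw [← map_add]
      exact congrArg (E.toH a n) (Subtype.ext (map_add π z.1 z'.1)))
  refine ⟨c, fun d z => ?_, fun d z => ⟨_, (hmem d z.1 z.2).2.1, rfl⟩, fun d b hb => ?_, fun d d' f z z' h => ?_⟩
  · obtain ⟨z, hz⟩ := z
    obtain ⟨h1, h2, h3, h4⟩ := hmem d z hz
    have hiff : c d ⟨z, hz⟩ = 0 ↔ π z ∈ E.cobdy a n := Submodule.Quotient.mk_eq_zero _
    rw [hiff]
    cases n with
    | zero =>
      show π z ∈ (⊥ : Submodule R _) ↔ z = 0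
      rw [Submodule.mem_bot]
      exact ⟨fun h => by rw [← h4, h, map_zero], fun h => by rw [h, map_zero]⟩
    | succ n =>
      constructor
      · rintro ⟨y, hy, hyz⟩
        have hyd : pr (E.X n).gr d y ∈ (E.X n).gr d := pr_mem d y
        refine ⟨j n (pr (E.X n).gr d y), TR.mem_cone.2 ⟨grHom_sumIn E.X n d _ hyd,
          gam_map _ (j n) (S13225.gam_homogeneous a d hy), congrArg (j n) (sumPr_in E.X n _)⟩, ?_⟩
        rw [TR.full_δ, pr_of_mem (show j n (pr (E.X n).gr d y) ∈ TR.X.gr d from grHom_sumIn E.X n d _ hyd)]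
        show totD E (sumIn E.X n _) = z
        rw [totD_in, ← pr_grHom (E.d_grHom n), hyz, pr_of_mem h2]
        exact h4
      · rintro ⟨u, hu, hdu⟩
        obtain ⟨hu1, hu2, hu3⟩ := TR.mem_cone.1 hu
        rw [TR.full_δ, pr_of_mem hu1] at hdu
        replace hdu : TR.d u = z := hdu
        refine ⟨sumPr E.X n u, gam_map _ (sumPr E.X n) hu2, ?_⟩
        show E.d n (sumPr E.X n u) = π z
        rw [← hdu, ← hu3]
        show E.d n (sumPr E.X n (sumIn E.X n (sumPr E.X n u))) =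
          sumPr E.X (n + 1) (totD E (sumIn E.X n (sumPr E.X n u)))
        rw [totD_in, sumPr_in, sumPr_in]
  · obtain ⟨x, hx, rfl⟩ := hb
    have hxd : j n x.1 ∈ TR.X.gr d := grHom_sumIn E.X n d _ hx
    have hz : j n x.1 ∈ cyc (TR.full d) (TR.quot d) n := by
      refine mem_cyc.2 ⟨TR.mem_cone.2 ⟨hxd, gam_map _ (j n) x.2.1, congrArg (j n) (sumPr_in E.X n x.1)⟩, ?_⟩
      rw [TR.full_δ, pr_of_mem hxd]
      show totD E (sumIn E.X n x.1) = 0
      rw [totD_in, show E.d n x.1 = 0 from x.2.2, map_zero]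
    exact ⟨⟨_, hz⟩, congrArg (E.toH a n) (Subtype.ext (sumPr_in E.X n x.1))⟩
  · show E.toH a n _ = f • E.toH a n _
    rw [← map_smul]
    refine congrArg (E.toH a n) (Subtype.ext ?_)
    show π z'.1 = f • π z.1
    rw [h, map_smul]

/-- Non-degeneracy passes to the quotient complexes. -/
theorem quot_detect {i : ℕ} {d e : ℤ}
    (hdet : ∀ c ∈ E.Hgr a (i + 2) d, (∀ f ∈ 𝒜 (e - d), f • c = 0) → c = 0) (x : (totRes E DE).X.carrier)
    (h : ∀ f ∈ 𝒜 (e - d), ((totRes E DE).quot e).π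
      (mulMap (k := k) f (totRes E DE) (((totRes E DE).quot d).π ((totRes E DE).Wk.w (i + 1) x))) = 0) :
    ((totRes E DE).quot d).π ((totRes E DE).Wk.w (i + 1) x) = 0 := by
  obtain ⟨c, hker, hmem, -, hnat⟩ := exists_cls E DE (i + 2)
  set y := ((totRes E DE).quot d).π ((totRes E DE).Wk.w (i + 1) x) with hy
  have hyy : ((totRes E DE).quot d).π ((totRes E DE).Wk.w (i + 1) y) = y := by
    rw [hy, ← ((totRes E DE).quot d).πw, (totRes E DE).Wk.w_self, ((totRes E DE).quot d).ππ]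
  obtain ⟨hz, hth⟩ := ((totRes E DE).link d).th_δ ((totRes E DE).full_π_succ d i) hyy
  have hc0 : c d ⟨_, hz⟩ = 0 := hdet _ (hmem d _) fun f hf => by
    have hF := natMap_mul (totRes E DE) hf
    rw [← hnat d e f ⟨_, hz⟩ ⟨_, hF.cyc_map ((totRes E DE).link d) ((totRes E DE).link e) hz⟩ rfl, hker]
    refine (((totRes E DE).link e).th_eq_zero_iff ((totRes E DE).full_π_succ e (i + 1)) ((totRes E DE).full_π_succ e i)
      (hF.cyc_map ((totRes E DE).link d) ((totRes E DE).link e) hz)).1 ?_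
    rw [hF.th_map ((totRes E DE).link d) ((totRes E DE).link e) ((totRes E DE).full_π_succ d (i + 1)) ((totRes E DE).full_π_succ e i) hz, hth]
    exact h f hf
  rw [← hth]
  exact (((totRes E DE).link d).th_eq_zero_iff ((totRes E DE).full_π_succ d (i + 1)) ((totRes E DE).full_π_succ d i) hz).2 ((hker d _).1 hc0)

end Single

/-- An acyclic resolution computes local cohomology compatibly with the action. -/
theorem exists_cohMap {T : Type u} [CommRing T] [IsNoetherianRing T] {𝒯 : ℤ → AddSubgroup T} [GradedRing 𝒯]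
    {P : Type u} [AddCommGroup P] [Module T P] {𝒬 : ℤ → AddSubgroup P} [DirectSum.Decomposition 𝒬]
    [SetLike.GradedSMul 𝒯 𝒬] {a : HomogeneousIdeal 𝒯} (Y : AcRes (𝒜 := 𝒯) 𝒬 a) (E : StarInjRes 𝒯 𝒬) (p : ℕ) :
    ∃ κ : ↥(gam a.toIdeal (Y.X p).carrier ⊓ LinearMap.ker (Y.d p)) →ₗ[T] E.H a p,
      (∀ z, κ z = 0 ↔ (z : (Y.X p).carrier) ∈ Y.cob p) ∧
      (∀ j (z : ↥(gam a.toIdeal (Y.X p).carrier ⊓ LinearMap.ker (Y.d p))), z.1 ∈ (Y.X p).gr j → κ z ∈ E.Hgr a p j) ∧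
      ∀ j, ∀ b ∈ E.Hgr a p j, ∃ z : ↥(gam a.toIdeal (Y.X p).carrier ⊓ LinearMap.ker (Y.d p)),
        z.1 ∈ (Y.X p).gr j ∧ κ z = b := by
  obtain ⟨ψ, hψ, hε, hc⟩ := exists_lift_res Y.X Y.d Y.d_grHom Y.ε Y.ε_grHom Y.ε_injective Y.exact_zero
    Y.exact_succ E
  have hc' : ∀ n x, ψ (n + 1) (Y.d n x) = E.d n (ψ n x) := fun n x => LinearMap.congr_fun (hc n) x
  have hε' : ∀ m, ψ 0 (Y.ε m) = E.ε m := fun m => LinearMap.congr_fun hε m
  let ι₀ : ↥(gam a.toIdeal (Y.X p).carrier ⊓ LinearMap.ker (Y.d p)) →ₗ[T] E.cocyc a p :=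
    { toFun := fun z => ⟨ψ p z.1, gam_map _ (ψ p) z.2.1, by
        show E.d p (ψ p z.1) = 0
        rw [← hc', show Y.d p z.1 = 0 from z.2.2, map_zero]⟩
      map_add' := fun _ _ => Subtype.ext (map_add _ _ _)
      map_smul' := fun r z => Subtype.ext (map_smul (ψ p) r z.1) }
  refine ⟨E.toH a p ∘ₗ ι₀, fun z => ?_, fun j z hz => ⟨ι₀ z, hψ p j _ hz, rfl⟩, fun j b hb => ?_⟩
  · rw [LinearMap.comp_apply, Submodule.mkQ_apply, Submodule.Quotient.mk_eq_zero]
    refine ⟨fun hz => AcRes.mem_cob_of Y E ψ hc' hε' p z.1 z.2.1 z.2.2 hz, fun hz => ?_⟩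
    show ψ p z.1 ∈ E.cobdy a p
    cases p with
    | zero =>
      have h0 : (z.1 : (Y.X 0).carrier) = 0 := (Submodule.mem_bot T).1 hz
      rw [h0, map_zero]; exact zero_mem _
    | succ p =>
      obtain ⟨w, hw, hwz⟩ := hz
      exact ⟨ψ p w, gam_map _ (ψ p) hw, (hc' p w).symm.trans (congrArg _ hwz)⟩
  · obtain ⟨x, hxj, rfl⟩ := hb
    obtain ⟨y, hy, hdy, w, hw, hxy⟩ := AcRes.exists_lift_cycle Y E ψ hc' hε' p x.1 x.2.1 x.2.2
    have h1 : pr (Y.X p).gr j y ∈ gam a.toIdeal (Y.X p).carrier := S13225.gam_homogeneous a j hy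
    have h2 : Y.d p (pr (Y.X p).gr j y) = 0 := by
      rw [← pr_grHom (Y.d_grHom p), hdy, map_zero]
    refine ⟨⟨pr (Y.X p).gr j y, h1, h2⟩, pr_mem j y, (Submodule.Quotient.eq _).2 ?_⟩
    show ψ p (pr (Y.X p).gr j y) - x.1 ∈ E.cobdy a p
    have h3 := congrArg (pr (E.X p).gr j) hxy
    rw [pr_of_mem hxj, map_add, pr_grHom (hψ p)] at h3
    rw [h3, sub_add_cancel_left]
    refine neg_mem ?_
    cases p with
    | zero => rw [(Submodule.mem_bot T).1 hw, map_zero]; exact zero_mem _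
    | succ p =>
      obtain ⟨w', hw', rfl⟩ := hw
      exact ⟨pr (E.X p).gr j w', S13225.gam_homogeneous a j hw', (pr_grHom (E.d_grHom p) j w').symm⟩

section Pair

variable {S : Type u} [CommRing S] [Algebra k S] {ℬ : ℤ → Submodule k S} [GradedAlgebra ℬ]
  {T : Type u} [CommRing T] [Algebra k T] {𝒯 : ℤ → Submodule k T} [GradedAlgebra 𝒯]
  {ψ : T →ₐ[k] R ⊗[k] S} (hT : GrSeg.IsSegreRing 𝒜 ℬ 𝒯 ψ)
  {IR : Ideal R} {GR : Gens (Conv.grp 𝒜) IR} {M : Type u} [AddCommGroup M] [Module R M]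
  [Module k M] [IsScalarTower k R M]
  {ℳ : ℤ → AddSubgroup M} [DirectSum.Decomposition ℳ]
  {IS : Ideal S} {GS : Gens (Conv.grp ℬ) IS} {N : Type u} [AddCommGroup N] [Module S N]
  [Module k N] [IsScalarTower k S N]
  {𝒩 : ℤ → AddSubgroup N} [DirectSum.Decomposition 𝒩]
  (A : TotRes GR ℳ) (B : TotRes GS 𝒩)
  {P : Type u} [AddCommGroup P] [Module T P] [Module k P] [IsScalarTower k T P]
  {𝒬 : ℤ → AddSubgroup P} [DirectSum.Decomposition 𝒬] {φ : P →ₗ[k] M ⊗[k] N}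
  (hP : GrSeg.IsSegreMod ψ ℳ 𝒩 𝒬 φ)
  [IsNoetherianRing T] [SetLike.GradedSMul (Conv.grp 𝒯) 𝒬] {mT : HomogeneousIdeal 𝒯}
  (hmT : mT.toIdeal = Ideal.span (⋃ n ∈ Set.Ioi (0 : ℤ), (𝒯 n : Set T)))
  (hIR : ∀ n : ℤ, 0 < n → ∀ p ∈ 𝒜 n, p ∈ IR) (hIS : ∀ n : ℤ, 0 < n → ∀ p ∈ ℬ n, p ∈ IS)
  (E : StarInjRes (Conv.grp 𝒯) 𝒬)

include hT hP hmT hIR hIS in
/-- Classes of a Segre product, compatible with the action. -/
theorem exists_cls₂ (q : ℕ) : ∃ c : ∀ d, cyc (full₂ A B d) (quot₂ A B d) q →+ E.H (Conv.ideal 𝒯 mT) q,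
    (∀ d z, c d z = 0 ↔ IsBdy (full₂ A B d) (quot₂ A B d) q z) ∧
    (∀ d, ∀ b ∈ E.Hgr (Conv.ideal 𝒯 mT) q d, ∃ z, c d z = b) ∧
    ∀ d d' (t : T) (z : cyc (full₂ A B d) (quot₂ A B d) q) (z' : cyc (full₂ A B d') (quot₂ A B d') q),
      (z' : A.X.carrier ⊗[k] B.X.carrier) =
      GrSeg.act k R S A.X.carrier B.X.carrier (ψ t) (z : A.X.carrier ⊗[k] B.X.carrier) →
      c d' z' = t • c d z := by
  set Y := segRes hT A B hP hmT hIR hIS
  obtain ⟨κ, hκ0, -, hκs⟩ := exists_cohMap Y E q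
  let inc := fun n => segTermInc hT A B n
  have hto : ∀ d n, ∀ y : (segTerm hT A B n).carrier, y ∈ (segTerm hT A B n).gr d →
      y ∈ gam mT.toIdeal (segTerm hT A B n).carrier →
      sval A.X B.X hT (inc n y) ∈ cone (full₂ A B d) (quot₂ A B d) n := fun d n y hy hg => by
    have h1 := full₂_τ_of_mem A B ((mem_seg_gr A.X B.X hT).1 ((mem_segTerm_gr hT A B).1 hy))
    refine mem_cone.2 ⟨h1, ?_, ?_⟩
    · rw [quot₂_τ, ← full₂_τ A B d, h1]
      exact (mem_gam_seg_iff hT hmT A.D B.D hIR hIS _).1 (gam_map _ (inc n) hg)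
    · rw [← sval_totSegW, segTerm_fix]
  have hfrom : ∀ d n v, v ∈ cone (full₂ A B d) (quot₂ A B d) n → ∃ y : (segTerm hT A B n).carrier,
      y ∈ (segTerm hT A B n).gr d ∧ y ∈ gam mT.toIdeal (segTerm hT A B n).carrier ∧
        sval A.X B.X hT (inc n y) = v := fun d n v hv => by
    obtain ⟨h1, h2, h3⟩ := mem_cone.1 hv
    have hmem := mem_piece_of_τ A B h1
    obtain ⟨z, rfl⟩ := exists_sval A.X B.X hT (piece_le_segSub _ _ d hmem)
    obtain ⟨y, rfl⟩ := exists_segTerm hT A B (q := n)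
      (sval_injective A.X B.X hT ((sval_totSegW hT A B n z).trans h3))
    refine ⟨y, (mem_segTerm_gr hT A B).2 ((mem_seg_gr A.X B.X hT).2 hmem), ?_, rfl⟩
    rw [quot₂_τ, ← full₂_τ A B d, h1] at h2
    obtain ⟨j, hj⟩ := (mem_gam_seg_iff hT hmT A.D B.D hIR hIS _).2 h2
    exact ⟨j, fun r hr => segTermInc_injective hT A B n (by rw [map_smul, hj r hr, map_zero])⟩
  have hD : ∀ d n, ∀ y : (segTerm hT A B n).carrier, y ∈ (segTerm hT A B n).gr d →
      sval A.X B.X hT (inc (n + 1) (segTermD hT A B n y)) =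
        (full₂ A B d).δ (sval A.X B.X hT (inc n y)) := fun d n y hy =>
    sval_totSegD hT A B ((mem_segTerm_gr hT A B).1 hy)
  have hf : ∀ d, ∀ z : cyc (full₂ A B d) (quot₂ A B d) q,
      ∃ y : ↥(gam (Conv.ideal 𝒯 mT).toIdeal (Y.X q).carrier ⊓ LinearMap.ker (Y.d q)),
      y.1 ∈ (segTerm hT A B q).gr d ∧
      sval A.X B.X hT (inc q y.1) = (z : A.X.carrier ⊗[k] B.X.carrier) := fun d z => by
    obtain ⟨hc, hd⟩ := mem_cyc.1 z.2
    obtain ⟨y, h1, h2, h3⟩ := hfrom d q z.1 hc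
    refine ⟨⟨y, h2, ?_⟩, h1, h3⟩
    exact segTermInc_injective hT A B (q + 1) (sval_injective A.X B.X hT
      ((((hD d q y h1).trans ((congrArg _ h3).trans hd)).trans (map_zero (sval A.X B.X hT)).symm).trans
        (congrArg _ (map_zero (inc (q + 1))).symm)))
  choose f hfg hfv using hf
  have huniq : ∀ y y' : ↥(gam (Conv.ideal 𝒯 mT).toIdeal (Y.X q).carrier ⊓ LinearMap.ker (Y.d q)),
      sval A.X B.X hT (inc q y.1) = sval A.X B.X hT (inc q y'.1) → y = y' := fun y y' h =>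
    Subtype.ext (segTermInc_injective hT A B q (sval_injective A.X B.X hT h))
  let c : ∀ d, cyc (full₂ A B d) (quot₂ A B d) q →+ E.H (Conv.ideal 𝒯 mT) q := fun d =>
    AddMonoidHom.mk' (fun z => κ (f d z)) fun z z' => by
      rw [← map_add]
      exact congrArg κ (huniq _ _ (by
        rw [hfv]
        refine Eq.trans ?_ ((congrArg _ (map_add (inc q) _ _)).trans (map_add (sval A.X B.X hT) _ _)).symm
        rw [hfv, hfv]; rfl))
  refine ⟨c, fun d z => ?_, fun d b hb => ?_, fun d d' t z z' h => ?_⟩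
  · show κ (f d z) = 0 ↔ _
    rw [hκ0]
    have hz := hfv d z
    have hzg := hfg d z
    generalize f d z = y at hz hzg
    obtain ⟨z, hzc⟩ := z
    show (y.1 ∈ Y.cob q) ↔ IsBdy _ _ q z
    change sval A.X B.X hT (inc q y.1) = z at hz
    subst hz
    cases q with
    | zero =>
      show y.1 ∈ (⊥ : Submodule T _) ↔ sval A.X B.X hT (inc 0 y.1) = 0
      rw [Submodule.mem_bot]
      exact ⟨fun h => (congrArg (fun t => sval A.X B.X hT (inc 0 t)) h).trans
          ((congrArg _ (map_zero (inc 0))).trans (map_zero _)),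
        fun h => segTermInc_injective hT A B 0 ((sval_injective A.X B.X hT (h.trans (map_zero _).symm)).trans
          (map_zero _).symm)⟩
    | succ q =>
      constructor
      · intro hy
        obtain ⟨w, hw, hwy⟩ : ∃ w : (segTerm hT A B q).carrier,
            w ∈ gam mT.toIdeal (segTerm hT A B q).carrier ∧ segTermD hT A B q w = y.1 := hy
        have hw' : pr (segTerm hT A B q).gr d w ∈ gam mT.toIdeal (segTerm hT A B q).carrier :=
          S13225.gam_homogeneous (Conv.ideal 𝒯 mT) d hw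
        refine ⟨_, hto d q _ (pr_mem d w) hw', ?_⟩
        rw [← hD d q _ (pr_mem d w), ← pr_grHom (segTermD_grHom hT A B q)]
        exact congrArg (fun t => sval A.X B.X hT (inc (q + 1) t))
          ((congrArg (pr (segTerm hT A B (q + 1)).gr d) hwy).trans (pr_of_mem hzg))
      · rintro ⟨u, hu, hdu⟩
        obtain ⟨w, h1, h2, rfl⟩ := hfrom d q u hu
        refine ⟨w, h2, segTermInc_injective hT A B (q + 1) (sval_injective A.X B.X hT ?_)⟩
        exact (hD d q w h1).trans hdu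
  · obtain ⟨y, hyg, rfl⟩ := hκs d b hb
    have hv : sval A.X B.X hT (inc q y.1) ∈ cyc (full₂ A B d) (quot₂ A B d) q :=
      mem_cyc.2 ⟨hto d q y.1 hyg y.2.1, by
        rw [← hD d q y.1 hyg, show segTermD hT A B q y.1 = 0 from y.2.2]; simp⟩
    exact ⟨⟨_, hv⟩, congrArg κ (huniq _ _ (hfv d _))⟩
  · show κ (f d' z') = t • κ (f d z)
    rw [← map_smul]
    refine congrArg κ (huniq _ _ ?_)
    rw [hfv, h, ← hfv d z]
    exact (congrArg (sval A.X B.X hT) (map_smul (inc q) t (f d z).1)).symm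

end Pair

end Classes


section Detect

open GrLC

variable {k : Type u} [Field k] {R : Type u} [CommRing R] [Algebra k R] {𝒜 : ℤ → Submodule k R} [GradedAlgebra 𝒜]
  {S : Type u} [CommRing S] [Algebra k S] {ℬ : ℤ → Submodule k S} [GradedAlgebra ℬ]
  {T : Type u} [CommRing T] [Algebra k T] {𝒯 : ℤ → Submodule k T} [GradedAlgebra 𝒯]
  {ψ : T →ₐ[k] R ⊗[k] S}
  {M : Type u} [AddCommGroup M] [Module R M] [Module k M] [IsScalarTower k R M]
  {ℳ : ℤ → AddSubgroup M} [DirectSum.Decomposition ℳ] [SetLike.GradedSMul (Conv.grp 𝒜) ℳ]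
  {aR : HomogeneousIdeal (Conv.grp 𝒜)} {GR : Gens (Conv.grp 𝒜) aR.toIdeal}
  (EM : StarInjRes (Conv.grp 𝒜) ℳ) (DM : ∀ n, Good GR (EM.X n))
  (σR : k ≃+* deg0 (Conv.grp 𝒜)) (hσR : ∀ c, (σR c : R) = algebraMap k R c)
  {N : Type u} [AddCommGroup N] [Module S N] [Module k N] [IsScalarTower k S N]
  {𝒩 : ℤ → AddSubgroup N} [DirectSum.Decomposition 𝒩] [SetLike.GradedSMul (Conv.grp ℬ) 𝒩]
  {aS : HomogeneousIdeal (Conv.grp ℬ)} {GS : Gens (Conv.grp ℬ) aS.toIdeal}
  (EN : StarInjRes (Conv.grp ℬ) 𝒩) (DN : ∀ n, Good GS (EN.X n))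
  (σS : k ≃+* deg0 (Conv.grp ℬ)) (hσS : ∀ c, (σS c : S) = algebraMap k S c)
  (hT : GrSeg.IsSegreRing 𝒜 ℬ 𝒯 ψ) [IsNoetherianRing T] {mT : HomogeneousIdeal 𝒯}
  (hmT : mT.toIdeal = Ideal.span (⋃ n ∈ Set.Ioi (0 : ℤ), (𝒯 n : Set T)))
  (hIR : ∀ n : ℤ, 0 < n → ∀ p ∈ 𝒜 n, p ∈ aR.toIdeal) (hIS : ∀ n : ℤ, 0 < n → ∀ p ∈ ℬ n, p ∈ aS.toIdeal)
  {P : Type u} [AddCommGroup P] [Module T P] [Module k P] [IsScalarTower k T P]
  {𝒬 : ℤ → AddSubgroup P} [DirectSum.Decomposition 𝒬] [SetLike.GradedSMul (Conv.grp 𝒯) 𝒬]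
  {φ : P →ₗ[k] M ⊗[k] N} (hP : GrSeg.IsSegreMod ψ ℳ 𝒩 𝒬 φ) (EP : StarInjRes (Conv.grp 𝒯) 𝒬)

include σR hσR σS hσS DM DN hT hmT hIR hIS hP in
/-- Multiplication into degree `e` detects the classes in the top cohomology of a Segre product. -/
theorem top_detect {i j : ℕ} {d e : ℤ} (hM : ∀ q, i + 2 < q → EM.Hcomp aR q d = ⊥)
    (hN : ∀ q, j + 2 < q → EN.Hcomp aS q d = ⊥)
    (hdM : ∀ c ∈ EM.Hgr aR (i + 2) d, (∀ f ∈ 𝒜 (e - d), f • c = 0) → c = 0)
    (hdN : ∀ c ∈ EN.Hgr aS (j + 2) d, (∀ g ∈ ℬ (e - d), g • c = 0) → c = 0)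
    (b : EP.H (Conv.ideal 𝒯 mT) (i + j + 1 + 2)) (hb : b ∈ EP.Hgr (Conv.ideal 𝒯 mT) (i + j + 1 + 2) d)
    (hkill : ∀ t ∈ 𝒯 (e - d), t • b = 0) : b = 0 := by
  classical
  obtain ⟨c, hker, hsurj, hnat⟩ :=
    exists_cls₂ hT (totRes EM DM) (totRes EN DN) hP hmT hIR hIS EP (i + j + 1 + 2)
  obtain ⟨⟨z, hz⟩, rfl⟩ := hsurj d b hb
  have L : ∀ d : ℤ, Link (full₂ (totRes EM DM) (totRes EN DN) d) (quot₂ (totRes EM DM) (totRes EN DN) d) :=
    fun d => ((totRes EM DM).link d).tensor ((totRes EN DN).link d)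
  have hπ := fun d q => full₂_π_succ (totRes EM DM) (totRes EN DN) d q
  let PA := ((totRes EM DM).quot d).π ∘ₗ (totRes EM DM).Wk.w (i + 1)
  let PB := ((totRes EN DN).quot d).π ∘ₗ (totRes EN DN).Wk.w (j + 1)
  set u := (full₂ (totRes EM DM) (totRes EN DN) d).h z with hu
  have hth : th (full₂ (totRes EM DM) (totRes EN DN) d) (quot₂ (totRes EM DM) (totRes EN DN) d) (i + j + 1) z =
      map PA PB u := by
    show map ((totRes EM DM).quot d).π ((totRes EN DN).quot d).π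
      ((totRes EM DM).Wk.tw (totRes EN DN).Wk (i + j + 1 + 1) u) = _
    rw [Wts.tw, LinearMap.sum_apply, map_sum, Finset.sum_eq_single (i + 1)]
    · rw [← LinearMap.comp_apply, ← TensorProduct.map_comp, show i + j + 1 + 1 - (i + 1) = j + 1 by omega]
    · intro l _ hl
      rw [← LinearMap.comp_apply, ← TensorProduct.map_comp]
      rcases lt_or_gt_of_ne hl with h | h
      · obtain ⟨m, hm⟩ : ∃ m, i + j + 1 + 1 - l = m + 1 := ⟨i + j + 1 - l, by omega⟩
        rw [hm, quot_eq_zero EN DN σS hσS d m (hN _ (by omega)), TensorProduct.map_zero_right]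
        rfl
      · obtain ⟨m, rfl⟩ : ∃ m, l = m + 1 := ⟨l - 1, by omega⟩
        rw [quot_eq_zero EM DM σR hσR d m (hM _ (by omega)), TensorProduct.map_zero_left]
        rfl
    · exact fun h => absurd (Finset.mem_range.2 (by omega)) h
  refine (hker d _).2 (((L d).th_eq_zero_iff (hπ d _) (hπ d _) hz).1 ?_)
  rw [hth]
  refine jointly_injective_map
    (fun f : 𝒜 (e - d) => ((totRes EM DM).quot e).π ∘ₗ mulMap (k := k) (f : R) (totRes EM DM) ∘ₗ PA)
    (fun g : ℬ (e - d) => ((totRes EN DN).quot e).π ∘ₗ mulMap (k := k) (g : S) (totRes EN DN) ∘ₗ PB) PA PB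
    (fun x hx => quot_detect EM DM hdM x fun f hf => hx ⟨f, hf⟩)
    (fun y hy => quot_detect EN DN hdN y fun g hg => hy ⟨g, hg⟩) u fun f g => ?_
  obtain ⟨t, ht, hψt⟩ : ∃ t ∈ 𝒯 (e - d), ψ t = (f : R) ⊗ₜ[k] (g : S) :=
    (hT.2 (e - d)).ge (Submodule.subset_span ⟨f, f.2, g, g.2, rfl⟩)
  have hact : ∀ v : (totRes EM DM).X.carrier ⊗[k] (totRes EN DN).X.carrier,
      GrSeg.act k R S _ _ (ψ t) v =
        map (mulMap (k := k) (f : R) (totRes EM DM)) (mulMap (k := k) (g : S) (totRes EN DN)) v := fun v => by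
    induction v using TensorProduct.induction_on with
    | zero => simp
    | add p q hp hq => rw [map_add, map_add, hp, hq]
    | tmul x y => rw [hψt, GrSeg.act_tmul, map_tmul, mulMap_apply, mulMap_apply]
  have hF := (natMap_mul (totRes EM DM) f.2).tensor (natMap_mul (totRes EN DN) g.2)
  have hz' := hF.cyc_map (L d) (L e) hz
  have h0 := ((L e).th_eq_zero_iff (hπ e _) (hπ e _) hz').2 ((hker e ⟨_, hz'⟩).1 (by
    rw [hnat d e t ⟨z, hz⟩ ⟨_, hz'⟩ (hact z).symm, hkill t ht]))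
  rw [hF.th_map (L d) (L e) (hπ d _) (hπ e _) hz, hth] at h0
  change map ((totRes EM DM).quot e).π ((totRes EN DN).quot e).π (map _ _ (map PA PB u)) = 0 at h0
  rw [← LinearMap.comp_apply (map _ _) (map PA PB), ← TensorProduct.map_comp, ← LinearMap.comp_apply,
    ← TensorProduct.map_comp] at h0
  exact h0

end Detect

end Groth.Agent.GrInj.SegK
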