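import Groth.Agent.GrInj.SegreKCanon
import Groth.Agent.GrInj.SegreKNat
import Groth.Agent.GrInj.SegreKConv
import Groth.Agent.GrInj.SegreKCMMod

/-!
# The canonical module of a Segre product
-/

set_option autoImplicit false
set_option linter.unusedSectionVars false
universe u

open TensorProduct

namespace Groth.Agent.GrInj.SegK

open GrLC

section Factor

variable {k : Type u} [Field k] {R : Type u} [CommRing R] [Algebra k R] {𝒜 : ℤ → Submodule k R} [GradedAlgebra 𝒜]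
  [IsNoetherianRing R]

theorem factor_pairing {ℳ : ℤ → AddSubgroup R} [DirectSum.Decomposition ℳ] [SetLike.GradedSMul (Conv.grp 𝒜) ℳ]
    {m : HomogeneousIdeal (Conv.grp 𝒜)} {G : Gens (Conv.grp 𝒜) m.toIdeal}
    (hpos : ∀ n : ℤ, n < 0 → Conv.grp 𝒜 n = ⊥) (h0 : IsField (deg0 (Conv.grp 𝒜)))
    (hmsp : m.toIdeal = Ideal.span (⋃ n ∈ Set.Ioi (0 : ℤ), (Conv.grp 𝒜 n : Set R)))
    (σ : k ≃+* deg0 (Conv.grp 𝒜)) (hσ : ∀ c, (σ c : R) = algebraMap k R c)
    (EM : StarInjRes (Conv.grp 𝒜) ℳ) (DM : ∀ n, Good G (EM.X n)) (i : ℕ)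
    {E' : Type u} [AddCommGroup E'] [Module R E'] {𝓔 : ℤ → AddSubgroup E'} [DirectSum.Decomposition 𝓔]
    [SetLike.GradedSMul (Conv.grp 𝒜) 𝓔] {e : (R ⧸ m.toIdeal) →ₗ[R] E'}
    (he : IsStarInjHull (Conv.grp 𝒜) (quotGr (Conv.grp 𝒜) m) 𝓔 e)
    {C : Type u} [AddCommGroup C] [Module R C] [Module k C] [IsScalarTower k R C] [Module.Finite R C]
    {𝒞 : ℤ → AddSubgroup C} [DirectSum.Decomposition 𝒞] [SetLike.GradedSMul (Conv.grp 𝒜) 𝒞]
    (φ : (C →ₗ[R] E') ≃ₗ[R] EM.H m (i + 2))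
    (hφ : IsGrHom (fun d => (homDeg (Conv.grp 𝒜) 𝒞 𝓔 d).toAddSubgroup) (EM.Hgr m (i + 2)) φ.toLinearMap) :
    ∃ b : ℤ → (totRes EM DM).X.carrier →ₗ[k] C →ₗ[k] k,
      (∀ d x, b d (((totRes EM DM).quot d).π ((totRes EM DM).Wk.w (i + 1) x)) = b d x) ∧
      (∀ d d', ∀ f ∈ 𝒜 (d' - d), ∀ x c, b d' (((totRes EM DM).quot d').π
        (mulMap (k := k) f (totRes EM DM) (((totRes EM DM).quot d).π ((totRes EM DM).Wk.w (i + 1) x)))) c =
          b d x (f • c)) ∧
      (∀ d x, (∀ c ∈ 𝒞 (-d), b d x c = 0) → ((totRes EM DM).quot d).π ((totRes EM DM).Wk.w (i + 1) x) = 0) ∧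
      ∀ d c, (∀ x, b d x c = 0) → GrInj.pr 𝒞 (-d) c = 0 := by
  classical
  letI := (S13225.isInternal_Hgr EM m (i + 2)).chooseDecomposition
  letI : Module k E' := Module.compHom E' (algebraMap k R)
  haveI : IsScalarTower k R E' := IsScalarTower.of_algebraMap_smul fun _ _ => rfl
  set A := totRes EM DM
  have hst := he.toIsStarEss
  let e1 := e (Ideal.Quotient.mk m.toIdeal 1)
  have he1 : e1 ≠ 0 := fun h => by
    have h1 : (1 : deg0 (Conv.grp 𝒜)) = 0 := coeff_unique hpos h0 hmsp hst (by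
      rw [ZeroMemClass.coe_zero, zero_smul, OneMemClass.coe_one, one_smul]; exact h)
    obtain ⟨a, b, hab⟩ := h0.exists_pair_ne
    exact hab (by rw [← mul_one a, ← mul_one b, h1, mul_zero, mul_zero])
  obtain ⟨ev₀, hev, -⟩ := Submodule.exists_dual_map_eq_bot_of_notMem (p := (⊥ : Submodule k E')) (x := e1)
    (by simpa using he1) inferInstance
  let p0 : E' →ₗ[k] E' :=
    { toFun := GrInj.pr 𝓔 0
      map_add' := map_add _
      map_smul' := fun c y => by
        show GrInj.pr 𝓔 0 (algebraMap k R c • y) = algebraMap k R c • GrInj.pr 𝓔 0 y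
        rw [pr_smul' (algebraMap_mem (𝒜 := 𝒜) c), sub_zero] }
  let ev : E' →ₗ[k] k := ev₀ ∘ₗ p0
  obtain ⟨cl, hker, hmem, hsurj, hnat⟩ := exists_cls EM DM (i + 2)
  have L := A.link
  let P : ℤ → A.X.carrier →ₗ[k] A.X.carrier := fun d => (A.quot d).π ∘ₗ A.Wk.w (i + 1)
  have hPP : ∀ d x, P d (P d x) = P d x := fun d x => by
    show (A.quot d).π (A.Wk.w (i + 1) ((A.quot d).π (A.Wk.w (i + 1) x))) = _
    rw [← (A.quot d).πw, A.Wk.w_self, (A.quot d).ππ]
    rfl
  have hδ := fun d x => (L d).th_δ (A.full_π_succ d i) (hPP d x)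
  have hth : ∀ d (z z' : cyc (A.full d) (A.quot d) (i + 2)),
      th (A.full d) (A.quot d) i z.1 = th (A.full d) (A.quot d) i z'.1 → cl d z = cl d z' := fun d z z' h => by
    rw [← sub_eq_zero, ← map_sub, hker]
    refine ((L d).th_eq_zero_iff (A.full_π_succ d (i + 1)) (A.full_π_succ d i) (z - z').2).1 ?_
    show th (A.full d) (A.quot d) i (z.1 - z'.1) = 0
    rw [map_sub, h, sub_self]
  have hclk : ∀ d (a : k) z, cl d (a • z) = algebraMap k R a • cl d z := fun d a z =>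
    hnat d d (algebraMap k R a) z (a • z) rfl
  let κ : ∀ d, A.X.carrier →ₗ[k] cyc (A.full d) (A.quot d) (i + 2) := fun d =>
    ((A.full d).δ ∘ₗ P d).codRestrict _ fun x => (hδ d x).1
  have hκth : ∀ d x, th (A.full d) (A.quot d) i (κ d x).1 = P d x := fun d x => (hδ d x).2
  let b : ℤ → A.X.carrier →ₗ[k] C →ₗ[k] k := fun d =>
    { toFun := fun x => ev ∘ₗ ((φ.symm (cl d (κ d x))).restrictScalars k)
      map_add' := fun x y => by rw [map_add, map_add, map_add]; ext c; simp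
      map_smul' := fun a x => by
        rw [map_smul, hclk, map_smul]
        ext c
        exact map_smul ev a (φ.symm (cl d (κ d x)) c) }
  have hbx : ∀ d x c, b d x c = ev (φ.symm (cl d (κ d x)) c) := fun _ _ _ => rfl
  refine ⟨b, fun d x => LinearMap.ext fun c => ?_, fun d d' f hf x c => ?_, fun d x hx => ?_, fun d c hc => ?_⟩
  · rw [hbx, hbx, hth d (κ d _) (κ d x) (by rw [hκth, hκth]; exact hPP d x)]
  · have hF := natMap_mul A hf
    have hz' := hF.cyc_map (L d) (L d') (κ d x).2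
    rw [hbx, hbx, hth d' _ ⟨_, hz'⟩ ?_, hnat d d' f (κ d x) ⟨_, hz'⟩ rfl, map_smul, LinearMap.smul_apply,
      ← map_smul]
    rw [hκth, hF.th_map (L d) (L d') (A.full_π_succ d (i + 1)) (A.full_π_succ d' i) (κ d x).2, hκth]
    show (A.quot d').π (A.Wk.w (i + 1) ((A.quot d').π (mulMap (k := k) f A (P d x)))) =
      (A.quot d').π (mulMap (k := k) f A (P d x))
    rw [← (A.quot d').πw, hF.wF]
    show (A.quot d').π ((A.quot d').π (mulMap (k := k) f A (A.Wk.w (i + 1) ((A.quot d).π (A.Wk.w (i + 1) x))))) =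
      (A.quot d').π (mulMap (k := k) f A (P d x))
    rw [(A.quot d').ππ, ← (A.quot d).πw, A.Wk.w_self]
    rfl
  · by_contra hne
    set h := cl d (κ d x) with hh
    have hh0 : h ≠ 0 := fun h0' => hne (by
      show P d x = 0
      rw [← hκth]
      exact ((L d).th_eq_zero_iff (A.full_π_succ d (i + 1)) (A.full_π_succ d i) (κ d x).2).2 ((hker d _).1 h0'))
    have hdeg := symm_mem_homDeg φ hφ (hmem d (κ d x))
    refine hh0 (φ.symm.map_eq_zero_iff.1 (hom_ext (ℳ := 𝒞) fun g y hy => ?_))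
    rw [LinearMap.zero_apply]
    by_contra hy0
    obtain ⟨t, ht, hty, a, ha⟩ := reach_socle hpos hmsp hst (hdeg g y hy) hy0
    have hmem' : t • y ∈ 𝒞 (-d) := by
      have h' := smul_mem_gr (ℳ := 𝒞) ht hy
      rwa [show -(g + d) + g = -d by ring] at h'
    have h1 := hx _ hmem'
    rw [hbx, map_smul, ha] at h1
    obtain ⟨a, rfl⟩ := σ.surjective a
    rw [hσ] at h1 ha
    change ev₀ (GrInj.pr 𝓔 0 (algebraMap k R a • e1)) = 0 at h1
    rw [pr_smul' (algebraMap_mem (𝒜 := 𝒜) a), sub_zero, pr_of_mem (e_one_mem hst)] at h1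
    change ev₀ (a • e1) = 0 at h1
    rw [map_smul, smul_eq_mul, mul_eq_zero] at h1
    rcases h1 with h1 | h1
    · rw [h1, map_zero, zero_smul] at ha
      exact hty ha
    · exact hev h1
  · by_contra hne
    obtain ⟨f, hf, hfc⟩ := exists_functional hpos h0 hmsp he (pr_mem (ℳ := 𝒞) (-d) c) hne
    rw [neg_neg] at hf
    obtain ⟨z, hz⟩ := hsurj d (φ f) (hφ d f hf)
    have h1 := hc (th (A.full d) (A.quot d) i z.1)
    rw [hbx, hth d _ z ?_, hz, φ.symm_apply_apply] at h1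
    · change ev₀ (GrInj.pr 𝓔 0 (f c)) = 0 at h1
      have h2 := pr_map (ℳ := 𝒞) (𝒩 := 𝓔) (f := f.toAddMonoidHom) (d := d) hf (-d) c
      rw [neg_add_cancel] at h2
      change GrInj.pr 𝓔 0 (f c) = f (GrInj.pr 𝒞 (-d) c) at h2
      rw [h2, hfc] at h1
      exact hev h1
    · rw [hκth]
      show (A.quot d).π (A.Wk.w (i + 1) ((A.quot d).π (A.Wk.w (i + 1) ((A.full d).h z.1)))) = _
      rw [← (A.quot d).πw, A.Wk.w_self, (A.quot d).ππ]
      rfl

end Factor

section Assemble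

variable {T : Type u} [CommRing T] [IsNoetherianRing T] {𝒯 : ℤ → AddSubgroup T} [GradedRing 𝒯]
  {m : HomogeneousIdeal 𝒯} (hpos : ∀ n : ℤ, n < 0 → 𝒯 n = ⊥) (h0 : IsField (deg0 𝒯))
  (hmsp : m.toIdeal = Ideal.span (⋃ n ∈ Set.Ioi (0 : ℤ), (𝒯 n : Set T)))
  {E' : Type u} [AddCommGroup E'] [Module T E'] {𝓔 : ℤ → AddSubgroup E'} [DirectSum.Decomposition 𝓔]
  [SetLike.GradedSMul 𝒯 𝓔] {e : (T ⧸ m.toIdeal) →ₗ[T] E'}
  (he : IsStarInjHull 𝒯 (quotGr 𝒯 m) 𝓔 e)
  {P : Type u} [AddCommGroup P] [Module T P] [Module.Finite T P] {𝒬 : ℤ → AddSubgroup P}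
  [DirectSum.Decomposition 𝒬] [SetLike.GradedSMul 𝒯 𝒬]
  {H : Type u} [AddCommGroup H] [Module T H] {ℋ : ℤ → AddSubgroup H} [DirectSum.Decomposition ℋ]
  [SetLike.GradedSMul 𝒯 ℋ]

include hpos h0 hmsp he in
/-- A perfect balanced pairing of the pieces represents the graded dual. -/
theorem exists_canonical_iso (hfinH : ∀ d, Module.Finite (deg0 𝒯) (comp 𝒯 ℋ d)) (β : ℤ → H → P → deg0 𝒯)
    (haddl : ∀ d, ∀ h ∈ ℋ d, ∀ h' ∈ ℋ d, ∀ p ∈ 𝒬 (-d), β d (h + h') p = β d h p + β d h' p)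
    (haddr : ∀ d, ∀ h ∈ ℋ d, ∀ p ∈ 𝒬 (-d), ∀ p' ∈ 𝒬 (-d), β d h (p + p') = β d h p + β d h p')
    (hsmul : ∀ d, ∀ h ∈ ℋ d, ∀ p ∈ 𝒬 (-d), ∀ c : deg0 𝒯, β d h ((c : T) • p) = c * β d h p)
    (hbal : ∀ d d', ∀ t ∈ 𝒯 (d' - d), ∀ h ∈ ℋ d, ∀ p ∈ 𝒬 (-d'), β d' (t • h) p = β d h (t • p))
    (hl : ∀ d, ∀ h ∈ ℋ d, (∀ p ∈ 𝒬 (-d), β d h p = 0) → h = 0)
    (hr : ∀ d, ∀ p ∈ 𝒬 (-d), (∀ h ∈ ℋ d, β d h p = 0) → p = 0) :
    ∃ φ : (P →ₗ[T] E') ≃ₗ[T] H, IsGrHom (fun d => (homDeg 𝒯 𝒬 𝓔 d).toAddSubgroup) ℋ φ.toLinearMap := by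
  classical
  have hst := he.toIsStarEss
  set e1 := e (Ideal.Quotient.mk m.toIdeal 1)
  have hu := fun (a a' : deg0 𝒯) => coeff_unique hpos h0 hmsp hst (c := a) (c' := a')
  haveI hfP : ∀ j, Module.Finite (deg0 𝒯) (comp 𝒯 𝒬 j) := fun j => by
    haveI := isNoetherian_piece 𝒯 (ℳ := 𝒬) j
    exact inferInstance
  have hval : ∀ (d : ℤ) (f : homDeg 𝒯 𝒬 𝓔 d) (p : comp 𝒯 𝒬 (-d)), (f : P →ₗ[T] E') (p : P) ∈ 𝓔 0 := fun d f p => by
    have h := f.2 (-d) p.1 p.2
    rwa [neg_add_cancel] at h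
  choose c hc using fun d f p => exists_coeff hpos h0 hmsp hst (hval d f p)
  let b : ∀ d, homDeg 𝒯 𝒬 𝓔 d →ₗ[deg0 𝒯] comp 𝒯 𝒬 (-d) →ₗ[deg0 𝒯] deg0 𝒯 := fun d => LinearMap.mk₂ _ (c d)
    (fun f f' p => hu _ _ (by
      rw [← hc, Subring.coe_add, add_smul, ← hc, ← hc, Submodule.coe_add, LinearMap.add_apply]))
    (fun a f p => hu _ _ (by
      rw [← hc, smul_eq_mul, Subring.coe_mul, mul_smul, ← hc]
      rfl))
    (fun f p p' => hu _ _ (by
      rw [← hc, Subring.coe_add, add_smul, ← hc, ← hc, Submodule.coe_add, map_add]))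
    (fun a f p => hu _ _ (by
      rw [← hc, smul_eq_mul, Subring.coe_mul, mul_smul, ← hc, ← map_smul]
      rfl))
  have hbl : ∀ d, Function.Injective (b d) := fun d => (injective_iff_map_eq_zero _).2 fun f hf => by
    refine Subtype.ext (hom_ext (ℳ := 𝒬) fun g y hy => ?_)
    show (f : P →ₗ[T] E') y = 0
    by_contra hy0
    obtain ⟨t, ht, hty, -⟩ := reach_socle hpos hmsp hst (f.2 g y hy) hy0
    have hmem : t • y ∈ 𝒬 (-d) := by
      have h' := smul_mem_gr (ℳ := 𝒬) ht hy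
      rwa [show -(g + d) + g = -d by ring] at h'
    refine hty ?_
    rw [← map_smul]
    refine (hc d f ⟨t • y, hmem⟩).trans ?_
    rw [show c d f ⟨t • y, hmem⟩ = 0 from LinearMap.congr_fun hf ⟨t • y, hmem⟩, ZeroMemClass.coe_zero, zero_smul]
  have hbr : ∀ d, Function.Injective (b d).flip := fun d => (injective_iff_map_eq_zero _).2 fun p hp => by
    by_contra hp0
    obtain ⟨f, hf, hfp⟩ := exists_functional hpos h0 hmsp he p.2 fun h => hp0 (Subtype.ext h)
    rw [neg_neg] at hf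
    have h1 := hc d ⟨f, hf⟩ p
    rw [show c d ⟨f, hf⟩ p = 0 from LinearMap.congr_fun hp ⟨f, hf⟩, ZeroMemClass.coe_zero, zero_smul] at h1
    have h2 : (1 : deg0 𝒯) = 0 := hu 1 0 (by
      rw [OneMemClass.coe_one, one_smul, ZeroMemClass.coe_zero, zero_smul]; exact hfp.symm.trans h1)
    exact hp0 (by rw [← one_smul (deg0 𝒯) p, h2, zero_smul])
  letI := h0.toField
  haveI : ∀ d, Module.Finite (deg0 𝒯) (homDeg 𝒯 𝒬 𝓔 d) := fun d => Module.Finite.of_injective (b d) (hbl d)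
  have hbb : ∀ d, Function.Bijective (b d) := fun d => bijective_pairing h0 (b d) (hbl d) (hbr d)
  -- the pairing with `H`
  let u : ∀ d, comp 𝒯 ℋ d →ₗ[deg0 𝒯] comp 𝒯 𝒬 (-d) →ₗ[deg0 𝒯] deg0 𝒯 := fun d =>
    LinearMap.mk₂ _ (fun h p => β d h.1 p.1)
      (fun h h' p => haddl d _ h.2 _ h'.2 _ p.2)
      (fun a h p => by
        show β d ((a : T) • h.1) p.1 = a * β d h.1 p.1
        rw [hbal d d _ (by rw [sub_self]; exact a.2) _ h.2 _ p.2, hsmul d _ h.2 _ p.2])
      (fun h p p' => haddr d _ h.2 _ p.2 _ p'.2)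
      (fun a h p => hsmul d _ h.2 _ p.2 a)
  have hul : ∀ d, Function.Injective (u d) := fun d => (injective_iff_map_eq_zero _).2 fun h hh =>
    Subtype.ext (hl d h.1 h.2 fun p hp => LinearMap.congr_fun hh ⟨p, hp⟩)
  have hur : ∀ d, Function.Injective (u d).flip := fun d => (injective_iff_map_eq_zero _).2 fun p hp =>
    Subtype.ext (hr d p.1 p.2 fun h hh => LinearMap.congr_fun hp ⟨h, hh⟩)
  haveI := hfinH
  have hub : ∀ d, Function.Bijective (u d) := fun d => bijective_pairing h0 (u d) (hul d) (hur d)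
  choose g hg using fun d (h : comp 𝒯 ℋ d) => (hbb d).2 (u d h)
  have hgadd : ∀ d h h', g d (h + h') = g d h + g d h' := fun d h h' => (hbb d).1 (by
    rw [map_add, hg, hg, hg, map_add])
  have hgv : ∀ d (h : comp 𝒯 ℋ d) (p : comp 𝒯 𝒬 (-d)),
      (g d h : P →ₗ[T] E') (p : P) = (β d h.1 p.1 : T) • e1 := fun d h p => by
    rw [hc d (g d h) p]
    congr 2
    exact LinearMap.congr_fun (hg d h) p
  have huniq : ∀ d (f f' : homDeg 𝒯 𝒬 𝓔 d),
      (∀ p : comp 𝒯 𝒬 (-d), (f : P →ₗ[T] E') p.1 = (f' : P →ₗ[T] E') p.1) → f = f' := fun d f f' h =>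
    (hbb d).1 (LinearMap.ext fun p => hu _ _ ((hc d f p).symm.trans ((h p).trans (hc d f' p))))
  let Ψ₀ : H →+ (P →ₗ[T] E') :=
    (DirectSum.toAddMonoid fun d => AddMonoidHom.mk' (fun h : ℋ d => ((g d ⟨h.1, h.2⟩ : homDeg 𝒯 𝒬 𝓔 d) : P →ₗ[T] E'))
      (fun h h' => (congrArg Subtype.val (hgadd d ⟨h.1, h.2⟩ ⟨h'.1, h'.2⟩)))).comp
      (DirectSum.decomposeAddEquiv ℋ).toAddMonoidHom
  have hΨ₀ : ∀ d (h : comp 𝒯 ℋ d), Ψ₀ h.1 = (g d h : P →ₗ[T] E') := fun d h => by
    show DirectSum.toAddMonoid _ (DirectSum.decompose ℋ h.1) = _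
    rw [DirectSum.decompose_of_mem ℋ h.2, DirectSum.toAddMonoid_of]
    rfl
  let Ψ : H →ₗ[T] (P →ₗ[T] E') :=
    { toFun := Ψ₀
      map_add' := map_add _
      map_smul' := fun t h => by
        rw [RingHom.id_apply]
        induction h using GrInj.induction ℋ with
        | h0 => rw [smul_zero, map_zero, smul_zero]
        | hadd a b ha hb => rw [smul_add, map_add, ha, hb, map_add, smul_add]
        | hh d h hh =>
          induction t using GrInj.induction 𝒯 with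
          | h0 => rw [zero_smul, map_zero, zero_smul]
          | hadd a b ha hb => rw [add_smul, map_add, ha, hb, add_smul]
          | hh s t ht =>
            have hth' : t • h ∈ ℋ (s + d) := smul_mem_gr ht hh
            rw [show Ψ₀ (t • h) = _ from hΨ₀ (s + d) ⟨t • h, hth'⟩, show Ψ₀ h = _ from hΨ₀ d ⟨h, hh⟩]
            have hmem : t • (g d ⟨h, hh⟩ : P →ₗ[T] E') ∈ homDeg 𝒯 𝒬 𝓔 (s + d) := fun q y hy => by
              show t • (g d ⟨h, hh⟩ : P →ₗ[T] E') y ∈ _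
              have := smul_mem_gr (ℳ := 𝓔) ht ((g d ⟨h, hh⟩).2 q y hy)
              rwa [show s + (q + d) = q + (s + d) by ring] at this
            refine congrArg Subtype.val (huniq (s + d) _ ⟨_, hmem⟩ fun p => ?_)
            have htp : t • p.1 ∈ 𝒬 (-d) := by
              have := smul_mem_gr (ℳ := 𝒬) ht p.2
              rwa [show s + -(s + d) = -d by ring] at this
            rw [hgv]
            show _ = t • (g d ⟨h, hh⟩ : P →ₗ[T] E') p.1
            rw [← (g d ⟨h, hh⟩ : P →ₗ[T] E').map_smul t p.1, show (g d ⟨h, hh⟩ : P →ₗ[T] E') (t • p.1) = _ from hgv d ⟨h, hh⟩ ⟨_, htp⟩,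
              hbal d (s + d) t (by rwa [add_sub_cancel_right]) h hh p.1 p.2] }
  have hpart : ∀ h t gg, ∀ x ∈ 𝒬 gg, GrInj.pr 𝓔 (gg + t) (Ψ h x) = Ψ (GrInj.pr ℋ t h) x := fun h t gg x hx => by
    induction h using GrInj.induction ℋ with
    | h0 => simp
    | hadd a b ha hb => simp only [map_add, LinearMap.add_apply, ha, hb]
    | hh d h hh =>
      have hd : Ψ h x ∈ 𝓔 (gg + d) := (show Ψ h = _ from hΨ₀ d ⟨h, hh⟩) ▸ (g d ⟨h, hh⟩).2 gg x hx
      rcases eq_or_ne d t with rfl | hne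
      · rw [pr_of_mem hd, pr_of_mem hh]
      · rw [pr_of_ne hd (by omega), pr_of_ne hh hne, map_zero, LinearMap.zero_apply]
  have hinj : Function.Injective Ψ := (injective_iff_map_eq_zero Ψ).2 fun h hh => by
    rw [← sum_supp (ℳ := ℋ) h]
    refine Finset.sum_eq_zero fun t _ => hl t _ (pr_mem t h) fun p hp => ?_
    have h1 := hpart h t (-t) p hp
    rw [hh, LinearMap.zero_apply, map_zero, show Ψ (GrInj.pr ℋ t h) = _ from hΨ₀ t ⟨_, pr_mem t h⟩,
      show (g t ⟨_, pr_mem t h⟩ : P →ₗ[T] E') p = _ from hgv t ⟨_, pr_mem t h⟩ ⟨p, hp⟩] at h1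
    exact hu _ 0 (by rw [ZeroMemClass.coe_zero, zero_smul]; exact h1.symm)
  have hsurjd : ∀ d, ∀ f ∈ homDeg 𝒯 𝒬 𝓔 d, ∃ h ∈ ℋ d, Ψ h = f := fun d f hf => by
    haveI := hfinH d
    obtain ⟨h, hh⟩ := (hub d).2 (b d ⟨f, hf⟩)
    refine ⟨h.1, h.2, (hΨ₀ d h).trans (congrArg Subtype.val ((hbb d).1 ((hg d h).trans hh)))⟩
  have hsurj : Function.Surjective Ψ := fun f => by
    choose ft hft hft' using fun t => exists_homDeg_part 𝒯 (𝒞 := 𝒬) (𝓔 := 𝓔) f t
    choose ht _ hht using fun t => hsurjd t _ (hft t)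
    obtain ⟨N, deg, v, hv, hspan⟩ := exists_hom_gens (R := T) (ℳ := 𝒬)
    let S : Finset ℤ := Finset.univ.biUnion fun i => (supp 𝓔 (f (v i))).image fun j => j - deg i
    refine ⟨∑ t ∈ S, ht t, LinearMap.ext_on_range hspan fun i => ?_⟩
    rw [map_sum, LinearMap.sum_apply]
    simp only [hht, fun t => hft' t (deg i) (v i) (hv i)]
    conv_rhs => rw [← sum_supp (ℳ := 𝓔) (f (v i))]
    rw [← Finset.sum_image (g := fun t => deg i + t) (f := fun j => pr 𝓔 j (f (v i)))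
      (fun a _ b _ hab => add_left_cancel hab)]
    refine (Finset.sum_subset (fun j hj => ?_) fun j _ hj => pr_eq_zero hj).symm
    exact Finset.mem_image.2 ⟨j - deg i,
      Finset.mem_biUnion.2 ⟨i, Finset.mem_univ _, Finset.mem_image.2 ⟨j, hj, rfl⟩⟩, add_sub_cancel _ _⟩
  refine ⟨(LinearEquiv.ofBijective Ψ ⟨hinj, hsurj⟩).symm, fun d f hf => ?_⟩
  obtain ⟨h, hh, rfl⟩ := hsurjd d f hf
  show (LinearEquiv.ofBijective Ψ ⟨hinj, hsurj⟩).symm (Ψ h) ∈ ℋ d
  rw [show (LinearEquiv.ofBijective Ψ ⟨hinj, hsurj⟩).symm (Ψ h) = h from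
    (LinearEquiv.ofBijective Ψ ⟨hinj, hsurj⟩).symm_apply_apply h]
  exact hh

end Assemble

/-- A hull for the grading by additive subgroups. -/
theorem hull_grp {k : Type u} [Field k] {R : Type u} [CommRing R] [Algebra k R] {𝒜 : ℤ → Submodule k R}
    [GradedAlgebra 𝒜] {m : HomogeneousIdeal 𝒜} {E' : Type u} [AddCommGroup E'] [Module R E']
    {𝓔 : ℤ → AddSubgroup E'} [DirectSum.Decomposition 𝓔] [SetLike.GradedSMul 𝒜 𝓔]
    [SetLike.GradedSMul (Conv.grp 𝒜) 𝓔] {e : (R ⧸ m.toIdeal) →ₗ[R] E'}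
    (he : IsStarInjHull 𝒜 (quotGr 𝒜 m) 𝓔 e) :
    IsStarInjHull (Conv.grp 𝒜) (quotGr (Conv.grp 𝒜) (Conv.ideal 𝒜 m)) 𝓔 e :=
  { injective := he.injective
    grHom := he.grHom
    essential := he.essential
    starInj := fun A B f hf hfi g hg => he.starInj (Conv.gmod' 𝒜 A) (Conv.gmod' 𝒜 B) f hf hfi g hg }

theorem exists_supportDim {A : Type u} [CommRing A] {M : Type u} [AddCommGroup M] [Module A M] [Nontrivial M]
    {n : ℕ} (hn : ringKrullDim A = n) : ∃ d : ℕ, Module.supportDim A M = d := by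
  have h1 := Module.supportDim_le_ringKrullDim A M
  have h2 : Module.supportDim A M ≠ ⊥ := Module.supportDim_ne_bot_of_nontrivial A M
  obtain ⟨a, ha⟩ := WithBot.ne_bot_iff_exists.1 h2
  rw [hn, ← ha] at h1
  have h1' : a ≤ (n : ℕ∞) := WithBot.coe_le_coe.1 h1
  obtain ⟨d, rfl⟩ := ENat.ne_top_iff_exists.1 (ne_top_of_le_ne_top (ENat.natCast_ne_top n) h1')
  exact ⟨d, ha.symm⟩

/-- The Segre product of canonical modules is a canonical module. -/
theorem starCanonical_segre {k : Type u} [Field k] {R : Type u} [CommRing R] [Algebra k R] {𝒜 : ℤ → Submodule k R}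
    [GradedAlgebra 𝒜] [Algebra.FiniteType k R] {S : Type u} [CommRing S] [Algebra k S] {ℬ : ℤ → Submodule k S}
    [GradedAlgebra ℬ] [Algebra.FiniteType k S] {T : Type u} [CommRing T] [Algebra k T] {𝒯 : ℤ → Submodule k T}
    [GradedAlgebra 𝒯] {ψ : T →ₐ[k] R ⊗[k] S} (hT : GrSeg.IsSegreRing 𝒜 ℬ 𝒯 ψ)
    (hposR : ∀ n : ℤ, n < 0 → 𝒜 n = ⊥) (h0R : 𝒜 0 = Submodule.span k {(1 : R)})
    (hposS : ∀ n : ℤ, n < 0 → ℬ n = ⊥) (h0S : ℬ 0 = Submodule.span k {(1 : S)})
    (mR : HomogeneousIdeal 𝒜) (hmR : mR.toIdeal = Ideal.span (⋃ n ∈ Set.Ioi (0 : ℤ), (𝒜 n : Set R)))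
    (I : StarInjRes 𝒜 𝒜)
    (mS : HomogeneousIdeal ℬ) (hmS : mS.toIdeal = Ideal.span (⋃ n ∈ Set.Ioi (0 : ℤ), (ℬ n : Set S)))
    (J : StarInjRes ℬ ℬ)
    (mT : HomogeneousIdeal 𝒯) (hmT : mT.toIdeal = Ideal.span (⋃ n ∈ Set.Ioi (0 : ℤ), (𝒯 n : Set T)))
    (IT : StarInjRes 𝒯 𝒯) {i j : ℕ} (hr : ringKrullDim R = (i + 2 : ℕ)) (hs : ringKrullDim S = (j + 2 : ℕ))
    {ER : Type u} [AddCommGroup ER] [Module R ER] {𝓔R : ℤ → AddSubgroup ER} [DirectSum.Decomposition 𝓔R]
    [SetLike.GradedSMul 𝒜 𝓔R] {eR : (R ⧸ mR.toIdeal) →ₗ[R] ER} (heR : IsStarInjHull 𝒜 (quotGr 𝒜 mR) 𝓔R eR)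
    {CR : Type u} [AddCommGroup CR] [Module R CR] [Module k CR] [IsScalarTower k R CR] {𝒞R : ℤ → AddSubgroup CR}
    [DirectSum.Decomposition 𝒞R] [SetLike.GradedSMul 𝒜 𝒞R] (hCR : IsStarCanonical 𝒜 𝒞R 𝓔R mR (i + 2) I)
    {ES : Type u} [AddCommGroup ES] [Module S ES] {𝓔S : ℤ → AddSubgroup ES} [DirectSum.Decomposition 𝓔S]
    [SetLike.GradedSMul ℬ 𝓔S] {eS : (S ⧸ mS.toIdeal) →ₗ[S] ES} (heS : IsStarInjHull ℬ (quotGr ℬ mS) 𝓔S eS)
    {CS : Type u} [AddCommGroup CS] [Module S CS] [Module k CS] [IsScalarTower k S CS] {𝒞S : ℤ → AddSubgroup CS}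
    [DirectSum.Decomposition 𝒞S] [SetLike.GradedSMul ℬ 𝒞S] (hCS : IsStarCanonical ℬ 𝒞S 𝓔S mS (j + 2) J)
    {ET : Type u} [AddCommGroup ET] [Module T ET] {𝓔T : ℤ → AddSubgroup ET} [DirectSum.Decomposition 𝓔T]
    [SetLike.GradedSMul 𝒯 𝓔T] {eT : (T ⧸ mT.toIdeal) →ₗ[T] ET} (heT : IsStarInjHull 𝒯 (quotGr 𝒯 mT) 𝓔T eT)
    {P : Type u} [AddCommGroup P] [Module T P] [Module k P] [IsScalarTower k T P] {𝒬 : ℤ → AddSubgroup P}
    [DirectSum.Decomposition 𝒬] [SetLike.GradedSMul 𝒯 𝒬] {φ : P →ₗ[k] CR ⊗[k] CS}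
    (hP : GrSeg.IsSegreMod ψ 𝒞R 𝒞S 𝒬 φ) : IsStarCanonical 𝒯 𝒬 𝓔T mT (i + j + 1 + 2) IT := by
  classical
  haveI : Nontrivial R := by
    by_contra h
    rw [not_nontrivial_iff_subsingleton] at h
    rw [ringKrullDim_eq_bot_of_subsingleton] at hr; exact WithBot.bot_ne_coe (a := ((i + 2 : ℕ) : ℕ∞)) hr
  haveI : Nontrivial S := by
    by_contra h
    rw [not_nontrivial_iff_subsingleton] at h
    rw [ringKrullDim_eq_bot_of_subsingleton] at hs; exact WithBot.bot_ne_coe (a := ((j + 2 : ℕ) : ℕ∞)) hs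
  haveI : IsNoetherianRing R := Algebra.FiniteType.isNoetherianRing k R
  haveI : IsNoetherianRing S := Algebra.FiniteType.isNoetherianRing k S
  haveI : IsNoetherianRing T := SegreDim.isNoetherian ψ hT.1 hT.2
  haveI := nontrivial_segre ψ
  obtain ⟨hfR, φR, hφR⟩ := hCR
  obtain ⟨hfS, φS, hφS⟩ := hCS
  haveI : Module.Finite R CR := hfR
  haveI : Module.Finite S CS := hfS
  haveI : Module.Finite T P := by
    rcases subsingleton_or_nontrivial CR with h | h
    · have hz : ∀ w : CR ⊗[k] CS, w = 0 := fun w => by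
        induction w using TensorProduct.induction_on with
        | zero => rfl
        | add a b ha hb => rw [ha, hb, add_zero]
        | tmul c c' => first | rw [Subsingleton.elim c 0, zero_tmul] | rw [Subsingleton.elim c' 0, tmul_zero]
      haveI : Subsingleton P := ⟨fun p q => hP.injective ((hz _).trans (hz _).symm)⟩
      infer_instance
    rcases subsingleton_or_nontrivial CS with h' | h'
    · have hz : ∀ w : CR ⊗[k] CS, w = 0 := fun w => by
        induction w using TensorProduct.induction_on with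
        | zero => rfl
        | add a b ha hb => rw [ha, hb, add_zero]
        | tmul c c' => first | rw [Subsingleton.elim c 0, zero_tmul] | rw [Subsingleton.elim c' 0, tmul_zero]
      haveI : Subsingleton P := ⟨fun p q => hP.injective ((hz _).trans (hz _).symm)⟩
      infer_instance
    obtain ⟨r', hr'⟩ := exists_supportDim (M := CR) hr
    obtain ⟨s', hs'⟩ := exists_supportDim (M := CS) hs
    exact finite_segre hposR h0R hposS h0S hT hP hr' hs'
  refine ⟨inferInstance, ?_⟩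
  haveI : SetLike.GradedSMul (Conv.grp 𝒜) 𝒞R := Conv.gsmul 𝒜 𝒞R
  haveI : SetLike.GradedSMul (Conv.grp 𝒜) 𝓔R := Conv.gsmul 𝒜 𝓔R
  haveI : SetLike.GradedSMul (Conv.grp ℬ) 𝒞S := Conv.gsmul ℬ 𝒞S
  haveI : SetLike.GradedSMul (Conv.grp ℬ) 𝓔S := Conv.gsmul ℬ 𝓔S
  haveI : SetLike.GradedSMul (Conv.grp 𝒯) 𝒬 := Conv.gsmul 𝒯 𝒬
  haveI : SetLike.GradedSMul (Conv.grp 𝒯) 𝓔T := Conv.gsmul 𝒯 𝓔T
  have h0T := deg0_segre hT h0R h0S
  have hposT : ∀ n : ℤ, n < 0 → 𝒯 n = ⊥ := fun n hn => by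
    rw [Submodule.eq_bot_iff]
    intro t ht
    have h : ψ t ∈ GrSeg.segrePiece k 𝒜 ℬ n := (hT.2 n).le ⟨t, ht, rfl⟩
    have h0 : GrSeg.segrePiece k 𝒜 ℬ n = ⊥ := by
      unfold GrSeg.segrePiece
      rw [Submodule.span_eq_bot]
      rintro _ ⟨a, ha, b, -, rfl⟩
      rw [hposR n hn, Submodule.mem_bot] at ha
      rw [ha, TensorProduct.zero_tmul]
    rw [h0, Submodule.mem_bot] at h
    exact hT.1 (h.trans (map_zero ψ).symm)
  obtain ⟨GR, DM, σR, hσR⟩ := exists_data h0R mR hmR I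
  obtain ⟨GS, DN, σS, hσS⟩ := exists_data h0S mS hmS J
  obtain ⟨σT, hσT⟩ := exists_deg0Equiv h0T
  let A := totRes (Conv.res I) DM
  let B := totRes (Conv.res J) DN
  obtain ⟨bA, hA1, hA2, hA3, hA4⟩ := factor_pairing (hpos_grp hposR) (isField_deg0 h0R) hmR σR hσR (Conv.res I) DM i
    (hull_grp heR) φR hφR
  obtain ⟨bB, hB1, hB2, hB3, hB4⟩ := factor_pairing (hpos_grp hposS) (isField_deg0 h0S) hmS σS hσS (Conv.res J) DN j
    (hull_grp heS) φS hφS
  let EP := Conv.res IT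
  let b' := Conv.ideal 𝒯 mT
  obtain ⟨cl, hker, hgr, hsurj, hnat⟩ := exists_cls₃ hT A B (isSegreMod_grp (isSegreMod_self hT)) hmT
    (irrelevant_mem hmR) (irrelevant_mem hmS) EP (i + j + 1 + 2)
  have L : ∀ d : ℤ, Link (full₂ A B d) (quot₂ A B d) := fun d => (A.link d).tensor (B.link d)
  have hπ := fun d q => full₂_π_succ A B d q
  let th₂ := fun d => th (full₂ A B d) (quot₂ A B d) (i + j + 1)
  let PA := fun d => (A.quot d).π ∘ₗ A.Wk.w (i + 1)
  let PB := fun d => (B.quot d).π ∘ₗ B.Wk.w (j + 1)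
  have hth : ∀ d z, th₂ d z = map (PA d) (PB d) ((full₂ A B d).h z) := fun d z => by
    show map (A.quot d).π (B.quot d).π (A.Wk.tw B.Wk (i + j + 1 + 1) ((full₂ A B d).h z)) = _
    rw [Wts.tw, LinearMap.sum_apply, map_sum, Finset.sum_eq_single (i + 1)]
    · rw [← LinearMap.comp_apply, ← TensorProduct.map_comp, show i + j + 1 + 1 - (i + 1) = j + 1 by omega]
    · intro l _ hl
      rw [← LinearMap.comp_apply, ← TensorProduct.map_comp]
      rcases lt_or_gt_of_ne hl with h | h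
      · obtain ⟨m, hm⟩ : ∃ m, i + j + 1 + 1 - l = m + 1 := ⟨i + j + 1 - l, by omega⟩
        rw [hm, quot_eq_zero (Conv.res J) DN σS hσS d m
          ((Conv.res_Hcomp J mS _ d).2 (hcomp_eq_bot_above J hs _ (by omega) d)), TensorProduct.map_zero_right]
        rfl
      · obtain ⟨m, rfl⟩ : ∃ m, l = m + 1 := ⟨l - 1, by omega⟩
        rw [quot_eq_zero (Conv.res I) DM σR hσR d m
          ((Conv.res_Hcomp I mR _ d).2 (hcomp_eq_bot_above I hr _ (by omega) d)), TensorProduct.map_zero_left]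
        rfl
    · exact fun h => absurd (Finset.mem_range.2 (by omega)) h
  let v : ℤ → EP.H b' (i + j + 1 + 2) → A.X.carrier ⊗[k] B.X.carrier := fun d h =>
    if hh : h ∈ EP.Hgr b' (i + j + 1 + 2) d then th₂ d (hsurj d h hh).choose.1 else 0
  have hv : ∀ d z, v d (cl d z) = th₂ d z.1 := fun d z => by
    show dite _ _ _ = _
    rw [dif_pos (hgr d z)]
    set z' := (hsurj d (cl d z) (hgr d z)).choose with hz'
    have h : cl d z' = cl d z := (hsurj d (cl d z) (hgr d z)).choose_spec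
    rw [← sub_eq_zero, ← map_sub (th₂ d)]
    exact ((L d).th_eq_zero_iff (hπ d _) (hπ d _) (z' - z).2).2 ((hker d (z' - z)).1 (by rw [map_sub, h, sub_self]))
  have hvadd : ∀ d, ∀ h ∈ EP.Hgr b' (i + j + 1 + 2) d, ∀ h' ∈ EP.Hgr b' (i + j + 1 + 2) d,
      v d (h + h') = v d h + v d h' := fun d h hh h' hh' => by
    obtain ⟨z, rfl⟩ := hsurj d h hh
    obtain ⟨z', rfl⟩ := hsurj d h' hh'
    rw [← map_add, hv, hv, hv]
    exact map_add (th₂ d) z.1 z'.1
  have hvsmul : ∀ d (a : k), ∀ h ∈ EP.Hgr b' (i + j + 1 + 2) d, v d (algebraMap k T a • h) = a • v d h :=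
    fun d a h hh => by
      obtain ⟨z, rfl⟩ := hsurj d h hh
      rw [← hnat d d (algebraMap k T a) z (a • z) (by
        rw [AlgHom.commutes, Algebra.algebraMap_eq_smul_one, map_smul, LinearMap.smul_apply, act_one]; rfl),
        hv, hv]
      exact map_smul (th₂ d) a z.1
  have hφsmul : ∀ (a : k) (p : P), φ (algebraMap k T a • p) = a • φ p := fun a p => by
    rw [algebraMap_smul, map_smul]
  let LL := fun d => TensorProduct.dualDistrib k CR CS ∘ₗ map (bA d) (bB d)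
  let β : ℤ → EP.H b' (i + j + 1 + 2) → P → deg0 (Conv.grp 𝒯) := fun d h p => σT (LL d (v d h) (φ p))
  have hLL : ∀ d x y c c', LL d (x ⊗ₜ[k] y) (c ⊗ₜ[k] c') = bA d x c * bB d y c' := fun d x y c c' => by
    show TensorProduct.dualDistrib k CR CS (bA d x ⊗ₜ[k] bB d y) (c ⊗ₜ[k] c') = _
    rw [TensorProduct.dualDistrib_apply]
  letI := (S13225.isInternal_Hgr EP b' (i + j + 1 + 2)).chooseDecomposition
  haveI : SetLike.GradedSMul (Conv.grp 𝒯) (EP.Hgr b' (i + j + 1 + 2)) := ⟨fun {p q} t c ht hc => by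
    obtain ⟨z, hz, rfl⟩ := hc
    exact ⟨t • z, (EP.X _).gsmul.smul_mem ht hz, map_smul _ t z⟩⟩
  refine exists_canonical_iso (hpos_grp hposT) (isField_deg0 h0T) hmT (hull_grp heT) (H := EP.H b' (i + j + 1 + 2))
    (ℋ := EP.Hgr b' (i + j + 1 + 2)) (fun d => ?_) β (fun d h hh h' hh' p _ => ?_) (fun d h _ p _ p' _ => ?_)
    (fun d h _ p _ c => ?_) (fun d d' t ht h hh p hp => ?_) (fun d h hh hk => ?_) (fun d p hp hk => ?_)
  · have he : comp (Conv.grp 𝒯) (EP.Hgr b' (i + j + 1 + 2)) d = EP.Hcomp b' (i + j + 1 + 2) d :=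
      Submodule.ext fun x => Iff.rfl
    rw [he]
    exact (finite_pieces (a := b') EP d hposT hmT (i + j + 1 + 2)).1
  · show σT _ = σT _ + σT _
    rw [hvadd d h hh h' hh', map_add, LinearMap.add_apply, map_add]
  · show σT _ = σT _ + σT _
    rw [map_add φ, map_add, map_add]
  · obtain ⟨a, rfl⟩ := σT.surjective c
    show σT _ = σT a * σT _
    rw [hσT, hφsmul, map_smul, smul_eq_mul, map_mul]
  · show σT _ = σT _
    refine congrArg σT ?_
    have key : ∀ w ∈ GrSeg.segrePiece k 𝒜 ℬ (d' - d), ∀ t, t ∈ 𝒯 (d' - d) → ψ t = w →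
        LL d' (v d' (t • h)) (φ p) = LL d (v d h) (φ (t • p)) := by
      intro w hw
      unfold GrSeg.segrePiece at hw
      induction hw using Submodule.span_induction with
      | mem w hw =>
        obtain ⟨f, hf, g, hg, rfl⟩ := hw
        intro t _ hψt
        obtain ⟨z, rfl⟩ := hsurj d h hh
        have hact : ∀ u : A.X.carrier ⊗[k] B.X.carrier, GrSeg.act k R S _ _ (ψ t) u =
            map (mulMap (k := k) f A) (mulMap (k := k) g B) u := fun u => by
          induction u using TensorProduct.induction_on with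
          | zero => simp
          | add p q hp hq => rw [map_add, map_add, hp, hq]
          | tmul x y => rw [hψt, GrSeg.act_tmul, map_tmul, mulMap_apply, mulMap_apply]
        have hF := (natMap_mul A hf).tensor (natMap_mul B hg)
        have hz' := hF.cyc_map (L d) (L d') z.2
        rw [← hnat d d' t z ⟨_, hz'⟩ (hact _).symm, hv, hv, hP.map_smul, hψt]
        show LL d' (th (full₂ A B d') (quot₂ A B d') (i + j + 1) (map _ _ z.1)) (φ p) = _
        rw [hF.th_map (L d) (L d') (hπ d _) (hπ d' _) z.2,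
          show th (full₂ A B d) (quot₂ A B d) (i + j + 1) z.1 = _ from hth d z.1]
        generalize (full₂ A B d).h z.1 = u
        show LL d' (map (A.quot d').π (B.quot d').π (map _ _ (map (PA d) (PB d) u))) (φ p) = _
        generalize φ p = w
        induction u using TensorProduct.induction_on with
        | zero => simp
        | add a b ha hb => simp only [map_add, LinearMap.add_apply, ha, hb]
        | tmul x y =>
          induction w using TensorProduct.induction_on with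
          | zero => simp
          | add a b ha hb => simp only [map_add, ha, hb]
          | tmul c c' =>
            rw [map_tmul, map_tmul, map_tmul, GrSeg.act_tmul, hLL, hLL,
              show bA d' ((A.quot d').π (mulMap (k := k) f A (PA d x))) c = bA d x (f • c) from hA2 d d' f hf x c,
              show bB d' ((B.quot d').π (mulMap (k := k) g B (PB d y))) c' = bB d y (g • c') from hB2 d d' g hg y c',
              show bA d (PA d x) = bA d x from hA1 d x, show bB d (PB d y) = bB d y from hB1 d y]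
      | zero =>
        intro t _ h'
        rw [hT.1 (h'.trans (map_zero ψ).symm), zero_smul, zero_smul, map_zero φ, map_zero]
        have h0 : v d' 0 = 0 := by
          have := hvsmul d' 0 0 (zero_mem _)
          rwa [smul_zero, zero_smul] at this
        rw [h0, map_zero]; rfl
      | add p₁ q₁ hp' hq' hp₁ hq₁ =>
        intro t _ h'
        obtain ⟨tp, htpm, htp⟩ := (hT.2 (d' - d)).ge hp'
        obtain ⟨tq, htqm, htq⟩ := (hT.2 (d' - d)).ge hq'
        rw [hT.1 (h'.trans ((map_add ψ tp tq).trans (congrArg₂ (· + ·) htp htq)).symm), add_smul, add_smul,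
          map_add φ, map_add, hvadd d' _ (sub_add_cancel d' d ▸ smul_mem_gr (𝒜 := Conv.grp 𝒯) (show tp ∈ Conv.grp 𝒯 (d' - d) from htpm) hh) _
            (sub_add_cancel d' d ▸ smul_mem_gr (𝒜 := Conv.grp 𝒯) (show tq ∈ Conv.grp 𝒯 (d' - d) from htqm) hh),
          map_add, LinearMap.add_apply, hp₁ tp htpm htp, hq₁ tq htqm htq]
      | smul a p₁ hp' hp₁ =>
        intro t _ h'
        obtain ⟨tp, htpm, htp⟩ := (hT.2 (d' - d)).ge hp'
        rw [hT.1 (h'.trans ((map_smul ψ a tp).trans (congrArg (a • ·) htp)).symm), Algebra.smul_def, mul_smul,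
          mul_smul, hvsmul d' a _ (sub_add_cancel d' d ▸ smul_mem_gr (𝒜 := Conv.grp 𝒯) (show tp ∈ Conv.grp 𝒯 (d' - d) from htpm) hh),
          hφsmul, map_smul, map_smul, LinearMap.smul_apply, hp₁ tp htpm htp]
    exact key _ ((hT.2 _).le ⟨t, ht, rfl⟩) t ht rfl
  · obtain ⟨z, rfl⟩ := hsurj d h hh
    refine (hker d z).2 (((L d).th_eq_zero_iff (hπ d _) (hπ d _) z.2).1 ?_)
    show th₂ d z.1 = 0
    rw [hth]
    refine jointly_injective_map (fun c : 𝒞R (-d) => (bA d).flip c.1) (fun c : 𝒞S (-d) => (bB d).flip c.1) _ _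
      (fun x hx => hA3 d x fun c hc => hx ⟨c, hc⟩) (fun y hy => hB3 d y fun c hc => hy ⟨c, hc⟩) _ fun c c' => ?_
    obtain ⟨p, hp, hpc⟩ := (hP.image_piece (-d)).ge (Submodule.subset_span
      (show c.1 ⊗ₜ[k] c'.1 ∈ _ from ⟨c.1, c.2, c'.1, c'.2, rfl⟩))
    have h1 := hk p hp
    change σT _ = 0 at h1
    rw [map_eq_zero_iff σT σT.injective, hv, hth, hpc] at h1
    refine (TensorProduct.lid k k).injective ?_
    rw [map_zero, ← h1]
    generalize (full₂ A B d).h z.1 = u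
    induction u using TensorProduct.induction_on with
    | zero => simp
    | add a b ha hb => simp only [map_add, LinearMap.add_apply, ha, hb]
    | tmul x y =>
      rw [map_tmul, map_tmul, TensorProduct.lid_tmul, smul_eq_mul, hLL,
        show bA d (PA d x) = bA d x from hA1 d x, show bB d (PB d y) = bB d y from hB1 d y]
      rfl
  · let prA : CR →ₗ[k] CR :=
      { toFun := GrInj.pr 𝒞R (-d)
        map_add' := map_add _
        map_smul' := fun a c => by
          rw [RingHom.id_apply, ← algebraMap_smul R a c, pr_smul' (algebraMap_mem (𝒜 := 𝒜) a), sub_zero,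
            algebraMap_smul] }
    let prB : CS →ₗ[k] CS :=
      { toFun := GrInj.pr 𝒞S (-d)
        map_add' := map_add _
        map_smul' := fun a c => by
          rw [RingHom.id_apply, ← algebraMap_smul S a c, pr_smul' (algebraMap_mem (𝒜 := ℬ) a), sub_zero,
            algebraMap_smul] }
    refine hP.injective ((?_ : φ p = map prA prB (φ p)).trans (Eq.trans ?_ (map_zero φ).symm))
    · have hmem : φ p ∈ GrSeg.segrePiece k 𝒞R 𝒞S (-d) := (hP.image_piece (-d)).le ⟨p, hp, rfl⟩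
      generalize φ p = w at hmem
      unfold GrSeg.segrePiece at hmem
      induction hmem using Submodule.span_induction with
      | mem w hw =>
        obtain ⟨c, hc, c', hc', rfl⟩ := hw
        rw [map_tmul]
        exact (congrArg₂ (· ⊗ₜ[k] ·) (pr_of_mem hc) (pr_of_mem hc')).symm
      | zero => rw [map_zero]
      | add a b _ _ ha hb => rw [map_add, ← ha, ← hb]
      | smul a w _ hw => rw [map_smul, ← hw]
    · refine jointly_injective_map (fun x : A.X.carrier => bA d x) (fun y : B.X.carrier => bB d y) prA prB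
        (fun c hc => hA4 d c hc) (fun c hc => hB4 d c hc) _ fun x y => ?_
      have hvw : (quot₂ A B d).π ((Spl.tWts A.Wk B.Wk).w (i + j + 1 + 1) (PA d x ⊗ₜ[k] PB d y)) =
          PA d x ⊗ₜ[k] PB d y := by
        show map (A.quot d).π (B.quot d).π (A.Wk.tw B.Wk (i + j + 1 + 1) _) = _
        rw [Wts.tw_tmul _ _ (a := i + 1) (b := j + 1)
          (show A.Wk.w (i + 1) (PA d x) = PA d x by
            show A.Wk.w (i + 1) ((A.quot d).π (A.Wk.w (i + 1) x)) = _
            rw [← (A.quot d).πw, A.Wk.w_self]; rfl)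
          (show B.Wk.w (j + 1) (PB d y) = PB d y by
            show B.Wk.w (j + 1) ((B.quot d).π (B.Wk.w (j + 1) y)) = _
            rw [← (B.quot d).πw, B.Wk.w_self]; rfl), if_pos (by omega), map_tmul]
        show (A.quot d).π ((A.quot d).π _) ⊗ₜ[k] (B.quot d).π ((B.quot d).π _) = _
        rw [(A.quot d).ππ, (B.quot d).ππ]
        rfl
      obtain ⟨hz, hzv⟩ := (L d).th_δ (hπ d _) hvw
      have h1 := hk (cl d ⟨_, hz⟩) (hgr d _)
      change σT _ = 0 at h1
      rw [map_eq_zero_iff σT σT.injective, hv, show th₂ d _ = _ from hzv] at h1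
      refine (TensorProduct.lid k k).injective ?_
      rw [map_zero, ← h1]
      generalize φ p = w
      induction w using TensorProduct.induction_on with
      | zero => simp
      | add a b ha hb => simp only [map_add, ha, hb]
      | tmul c c' =>
        rw [map_tmul, TensorProduct.lid_tmul, smul_eq_mul, hLL,
          show bA d (PA d x) = bA d x from hA1 d x, show bB d (PB d y) = bB d y from hB1 d y]

end Groth.Agent.GrInj.SegK
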