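import Groth.Agent.GrInj.SegreKTot

/-!
# Pieces of local cohomology as cohomology of the packed resolution
-/

set_option autoImplicit false
set_option linter.unusedSectionVars false
universe u

namespace Groth.Agent.GrInj.SegK

open GrLC

section Cls

variable {k : Type u} [Field k] {X : Type u} [AddCommGroup X] [Module k X] {W : Wts k X}
  {K : Type u} [CommRing K] (σ : k ≃+* K) {B : Type u} [AddCommGroup B] [Module K B]

/-- The coboundary condition in weight `n`. -/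
def IsBdy (S S' : Spl W) : ℕ → X → Prop
  | 0, z => z = 0
  | n + 1, z => ∃ u ∈ cone S S' n, S.δ u = z

variable (B) in
/-- `B` is the cohomology of the subcomplex in weight `n`. -/
def HasCls (S S' : Spl W) (n : ℕ) : Prop :=
  ∃ c : cyc S S' n →+ B, (∀ (r : k) z, c (r • z) = σ r • c z) ∧ Function.Surjective c ∧
    ∀ z, c z = 0 ↔ IsBdy S S' n z

variable {σ} {S S' : Spl W} (L : Link S S')

include L in
theorem HasCls.shift {n : ℕ} (h : HasCls σ B S S' (n + 2))
    (h2 : ∀ x, S.π (W.w (n + 2) x) = 0) (h1 : ∀ x, S.π (W.w (n + 1) x) = 0) :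
    Module.finrank K B = rk S' (n + 1) ∧
      (Module.Finite K B → Module.Finite k (LinearMap.range (S'.π ∘ₗ W.w (n + 1)))) := by
  obtain ⟨c, hc, hcs, hker⟩ := h
  obtain ⟨θ, hθs, hθ⟩ := L.shift n h2 h1
  exact finrank_eq_of_surj σ θ c hc hθs hcs fun z => (hθ z).trans (hker z).symm

theorem HasCls.cyc0 [Subsingleton B] (h : HasCls σ B S S' 0) (z : X) (hz : z ∈ cyc S S' 0) : z = 0 := by
  obtain ⟨c, -, -, hker⟩ := h
  exact (hker ⟨z, hz⟩).1 (Subsingleton.elim _ _)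

theorem HasCls.cyc1 [Subsingleton B] (h : HasCls σ B S S' 1) (z : X) (hz : z ∈ cyc S S' 1) :
    ∃ u ∈ cone S S' 0, S.δ u = z := by
  obtain ⟨c, -, -, hker⟩ := h
  exact (hker ⟨z, hz⟩).1 (Subsingleton.elim _ _)

theorem HasCls.subsingleton {n : ℕ} (h : HasCls σ B S S' n)
    (hz : ∀ z ∈ cyc S S' n, IsBdy S S' n z) : Subsingleton B := by
  obtain ⟨c, -, hcs, hker⟩ := h
  refine subsingleton_of_forall_eq 0 fun b => ?_
  obtain ⟨⟨z, hz'⟩, rfl⟩ := hcs b
  exact (hker _).2 (hz z hz')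

end Cls

section Single

variable {k : Type u} [Field k] {R : Type u} [CommRing R] [Algebra k R] {𝒜 : ℤ → Submodule k R}
  [GradedAlgebra 𝒜]
  {M : Type u} [AddCommGroup M] [Module R M] {ℳ : ℤ → AddSubgroup M} [DirectSum.Decomposition ℳ]
  [SetLike.GradedSMul (Conv.grp 𝒜) ℳ] {a : HomogeneousIdeal (Conv.grp 𝒜)}
  {G : Gens (Conv.grp 𝒜) a.toIdeal} (E : StarInjRes (Conv.grp 𝒜) ℳ) (DE : ∀ n, Good G (E.X n))
  (σ : k ≃+* deg0 (Conv.grp 𝒜)) (hσ : ∀ c, (σ c : R) = algebraMap k R c)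

include hσ in
/-- The pieces of local cohomology as cohomology of the packed resolution. -/
theorem hasCls (n : ℕ) (d : ℤ) :
    HasCls σ ↥(E.Hcomp a n d) ((totRes E DE).full d) ((totRes E DE).quot d) n := by
  set TR := totRes E DE
  let π : TR.X.carrier →ₗ[R] (E.X n).carrier := sumPr E.X n
  let j : ∀ i, (E.X i).carrier →ₗ[R] TR.X.carrier := fun i => sumIn E.X i
  have hmem : ∀ z ∈ cyc (TR.full d) (TR.quot d) n,
      z ∈ TR.X.gr d ∧ π z ∈ (E.X n).gr d ∧ π z ∈ E.cocyc a n ∧ j n (π z) = z := by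
    intro z hz
    obtain ⟨hc, hd⟩ := mem_cyc.1 hz
    obtain ⟨h1, h2, h3⟩ := TR.mem_cone.1 hc
    rw [TR.full_δ, pr_of_mem h1] at hd
    refine ⟨h1, grHom_sumPr E.X n d _ h1, ⟨gam_map _ π h2, ?_⟩, h3⟩
    show E.d n (π z) = 0
    have h := congrArg (sumPr E.X (n + 1)) ((congrArg TR.d h3).trans hd)
    refine Eq.trans ?_ (h.trans (map_zero (sumPr E.X (n + 1))))
    show _ = sumPr E.X (n + 1) (totD E (sumIn E.X n (π z)))
    rw [totD_in, sumPr_in]
  let c : cyc (TR.full d) (TR.quot d) n →+ E.Hcomp a n d := AddMonoidHom.mk'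
    (fun z => ⟨E.toH a n ⟨π z.1, (hmem z.1 z.2).2.2.1⟩, _, (hmem z.1 z.2).2.1, rfl⟩)
    (fun z z' => Subtype.ext (by
      show E.toH a n _ = E.toH a n _ + E.toH a n _
      rw [← map_add]
      exact congrArg (E.toH a n) (Subtype.ext (map_add π z.1 z'.1))))
  refine ⟨c, fun r z => Subtype.ext ?_, ?_, fun z => ?_⟩
  · show E.toH a n ⟨π (r • z.1), _⟩ = ((σ r : R)) • E.toH a n ⟨π z.1, _⟩
    rw [hσ, ← map_smul]
    exact congrArg (E.toH a n) (Subtype.ext (map_smul π (algebraMap k R r) z.1))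
  · rintro ⟨_, x, hx, rfl⟩
    have hxd : j n x.1 ∈ TR.X.gr d := grHom_sumIn E.X n d _ hx
    have hz : j n x.1 ∈ cyc (TR.full d) (TR.quot d) n := by
      refine mem_cyc.2 ⟨TR.mem_cone.2 ⟨hxd, gam_map _ (j n) x.2.1, congrArg (j n) (sumPr_in E.X n x.1)⟩, ?_⟩
      rw [TR.full_δ, pr_of_mem hxd]
      show totD E (sumIn E.X n x.1) = 0
      rw [totD_in, show E.d n x.1 = 0 from x.2.2, map_zero]
    exact ⟨⟨_, hz⟩, Subtype.ext (congrArg (E.toH a n) (Subtype.ext (sumPr_in E.X n x.1)))⟩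
  · obtain ⟨z, hz⟩ := z
    obtain ⟨h1, h2, h3, h4⟩ := hmem z hz
    have hiff : c ⟨z, hz⟩ = 0 ↔ π z ∈ E.cobdy a n :=
      Subtype.ext_iff.trans (Submodule.Quotient.mk_eq_zero _)
    rw [hiff]
    cases n with
    | zero =>
      show π z ∈ (⊥ : Submodule R _) ↔ z = 0
      rw [Submodule.mem_bot]
      exact ⟨fun h => by rw [← h4, h, map_zero], fun h => by rw [h, map_zero]⟩
    | succ n =>
      constructor
      · rintro ⟨y, hy, hyz⟩
        have hyd : pr (E.X n).gr d y ∈ (E.X n).gr d := pr_mem d y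
        refine ⟨j n (pr (E.X n).gr d y), TR.mem_cone.2 ⟨grHom_sumIn E.X n d _ hyd,
          gam_map _ (j n) (S13225.gam_homogeneous a d hy), congrArg (j n) (sumPr_in E.X n _)⟩, ?_⟩
        rw [TR.full_δ, pr_of_mem (show j n (pr (E.X n).gr d y) ∈ TR.X.gr d from grHom_sumIn E.X n d _ hyd)]
        show totD E (sumIn E.X n _) = z
        rw [totD_in, ← pr_grHom (E.d_grHom n), hyz, pr_of_mem h2]
        exact h4
      · rintro ⟨u, hu, hdu⟩
        obtain ⟨hu1, hu2, hu3⟩ := TR.mem_cone.1 hu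
        rw [TR.full_δ, pr_of_mem hu1] at hdu
        replace hdu : TR.d u = z := hdu
        refine ⟨sumPr E.X n u, gam_map _ (sumPr E.X n) hu2, ?_⟩
        show E.d n (sumPr E.X n u) = π z
        rw [← hdu, ← hu3]
        show E.d n (sumPr E.X n (sumIn E.X n (sumPr E.X n u))) =
          sumPr E.X (n + 1) (totD E (sumIn E.X n (sumPr E.X n u)))
        rw [totD_in, sumPr_in, sumPr_in]

include σ hσ in
/-- The weight zero cohomology is the piece of the module. -/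
theorem rk_full_zero (d : ℤ) :
    Module.finrank (deg0 (Conv.grp 𝒜)) (comp (Conv.grp 𝒜) ℳ d) = rk ((totRes E DE).full d) 0 ∧
      (Module.Finite (deg0 (Conv.grp 𝒜)) (comp (Conv.grp 𝒜) ℳ d) →
        Module.Finite k (LinearMap.range (((totRes E DE).full d).π ∘ₗ (totRes E DE).Wk.w 0))) := by
  set TR := totRes E DE
  have hr : ∀ z : LinearMap.range ((TR.full d).π ∘ₗ TR.Wk.w 0), ∃ m ∈ ℳ d, TR.ε m = (z : TR.X.carrier) :=
    fun z => (TR.range_full_zero d _).1 z.2
  choose f hf hfe using hr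
  let c : LinearMap.range ((TR.full d).π ∘ₗ TR.Wk.w 0) →+ comp (Conv.grp 𝒜) ℳ d :=
    AddMonoidHom.mk' (fun z => ⟨f z, hf z⟩) fun z z' => Subtype.ext (TR.ε_inj (by
      show TR.ε (f (z + z')) = TR.ε (f z + f z')
      rw [map_add, hfe, hfe, hfe]; rfl))
  refine finrank_eq_of_surj σ LinearMap.id c (fun r z => Subtype.ext (TR.ε_inj ?_))
    Function.surjective_id (fun m => ?_) (fun z => ⟨fun h => ?_, fun h => ?_⟩)
  · show TR.ε (f (r • z)) = TR.ε ((σ r : R) • f z)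
    rw [map_smul, hfe, hfe, hσ]; rfl
  · refine ⟨⟨TR.ε m.1, (TR.range_full_zero d _).2 ⟨m.1, m.2, rfl⟩⟩, Subtype.ext (TR.ε_inj ?_)⟩
    exact hfe _
  · rw [LinearMap.id_apply] at h; subst h; exact map_zero c
  · refine Subtype.ext ?_
    show (z : TR.X.carrier) = 0
    rw [← hfe, show f z = 0 from congrArg Subtype.val h, map_zero]

end Single

end Groth.Agent.GrInj.SegK
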