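import Groth.Agent.GrInj.SegreKRes
import Groth.Agent.SegreDim.Segre

/-!
# Dimensions of the pieces of local cohomology of a Segre product
-/

set_option autoImplicit false
set_option linter.unusedSectionVars false
universe u

open TensorProduct

namespace Groth.Agent.GrInj.SegK

open GrLC

variable {k : Type u} [Field k] {R : Type u} [CommRing R] [Algebra k R] {𝒜 : ℤ → Submodule k R}
  [GradedAlgebra 𝒜] {S : Type u} [CommRing S] [Algebra k S] {ℬ : ℤ → Submodule k S} [GradedAlgebra ℬ]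
  {T : Type u} [CommRing T] [Algebra k T] {𝒯 : ℤ → Submodule k T} [GradedAlgebra 𝒯]
  {ψ : T →ₐ[k] R ⊗[k] S}

theorem act_eq_mul (u v : R ⊗[k] S) : GrSeg.act k R S R S u v = u * v := by
  induction u using TensorProduct.induction_on with
  | zero => simp
  | add a b ha hb => simp only [map_add, LinearMap.add_apply, add_mul, ha, hb]
  | tmul a b =>
    induction v using TensorProduct.induction_on with
    | zero => simp
    | add x y hx hy => simp only [map_add, mul_add, hx, hy]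
    | tmul x y => rw [GrSeg.act_tmul, Algebra.TensorProduct.tmul_mul_tmul, smul_eq_mul, smul_eq_mul]

theorem nontrivial_segre [Nontrivial R] [Nontrivial S] (ψ : T →ₐ[k] R ⊗[k] S) : Nontrivial T := by
  refine ⟨1, 0, fun h => ?_⟩
  have h1 : (1 : R ⊗[k] S) = 0 := by rw [← map_one ψ, h, map_zero]
  exact one_ne_zero h1

theorem deg0_segre (hT : GrSeg.IsSegreRing 𝒜 ℬ 𝒯 ψ) (h0R : 𝒜 0 = Submodule.span k {(1 : R)})
    (h0S : ℬ 0 = Submodule.span k {(1 : S)}) : 𝒯 0 = Submodule.span k {(1 : T)} := by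
  refine le_antisymm (fun t ht => ?_) ((Submodule.span_singleton_le_iff_mem _ _).2 (SetLike.one_mem_graded 𝒯))
  have h : ψ t ∈ Submodule.span k {(1 : R ⊗[k] S)} := by
    refine (Submodule.span_le (p := Submodule.span k {(1 : R ⊗[k] S)})).2 ?_ (psi_mem hT ht)
    rintro _ ⟨a, ha, b, hb, rfl⟩
    rw [h0R, Submodule.mem_span_singleton] at ha
    rw [h0S, Submodule.mem_span_singleton] at hb
    obtain ⟨c, rfl⟩ := ha
    obtain ⟨c', rfl⟩ := hb
    exact Submodule.mem_span_singleton.2 ⟨c * c', by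
      rw [smul_tmul_smul, Algebra.TensorProduct.one_def]⟩
  obtain ⟨c, hc⟩ := Submodule.mem_span_singleton.1 h
  exact Submodule.mem_span_singleton.2 ⟨c, hT.1 (by rw [map_smul, map_one, hc])⟩

section Single

variable {M : Type u} [AddCommGroup M] [Module R M] {ℳ : ℤ → AddSubgroup M} [DirectSum.Decomposition ℳ]
  [SetLike.GradedSMul (Conv.grp 𝒜) ℳ] {a : HomogeneousIdeal (Conv.grp 𝒜)}
  {G : Gens (Conv.grp 𝒜) a.toIdeal} (E : StarInjRes (Conv.grp 𝒜) ℳ) (DE : ∀ n, Good G (E.X n))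
  (σ : k ≃+* deg0 (Conv.grp 𝒜)) (hσ : ∀ c, (σ c : R) = algebraMap k R c) (d : ℤ)

include σ hσ in
theorem rk_quot_succ (i : ℕ) :
    Module.finrank (deg0 (Conv.grp 𝒜)) (E.Hcomp a (i + 2) d) = rk ((totRes E DE).quot d) (i + 1) ∧
      (Module.Finite (deg0 (Conv.grp 𝒜)) (E.Hcomp a (i + 2) d) → Module.Finite k
        (LinearMap.range (((totRes E DE).quot d).π ∘ₗ (totRes E DE).Wk.w (i + 1)))) :=
  HasCls.shift ((totRes E DE).link d) (hasCls E DE σ hσ (i + 2) d)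
    ((totRes E DE).full_π_succ d (i + 1)) ((totRes E DE).full_π_succ d i)

include σ hσ in
theorem quot_eq_zero (i : ℕ) (h : E.Hcomp a (i + 2) d = ⊥) :
    ((totRes E DE).quot d).π ∘ₗ (totRes E DE).Wk.w (i + 1) = 0 := by
  haveI := σ.symm.toEquiv.nontrivial
  haveI : Subsingleton (E.Hcomp a (i + 2) d) := Submodule.subsingleton_iff_eq_bot.2 h
  obtain ⟨h1, h2⟩ := rk_quot_succ E DE σ hσ d i
  haveI := h2 inferInstance
  rw [← LinearMap.range_eq_bot, ← Submodule.finrank_eq_zero]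
  exact h1.symm.trans Module.finrank_zero_of_subsingleton

include σ hσ in
theorem quot_zero (h0 : E.Hcomp a 0 d = ⊥) (h1 : E.Hcomp a 1 d = ⊥) :
    (∀ x, (totRes E DE).Wk.w 0 x = x → ((totRes E DE).full d).π x = x →
        ((totRes E DE).quot d).τ x = 0 → x = 0) ∧
      (∀ y, ∃ x, (totRes E DE).Wk.w 0 x = x ∧ ((totRes E DE).full d).π x = x ∧
        ((totRes E DE).quot d).τ x = ((totRes E DE).quot d).π ((totRes E DE).Wk.w 0 y)) ∧
      Module.finrank (deg0 (Conv.grp 𝒜)) (comp (Conv.grp 𝒜) ℳ d) = rk ((totRes E DE).quot d) 0 ∧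
      (Module.Finite (deg0 (Conv.grp 𝒜)) (comp (Conv.grp 𝒜) ℳ d) → Module.Finite k
        (LinearMap.range (((totRes E DE).quot d).π ∘ₗ (totRes E DE).Wk.w 0))) := by
  haveI : Subsingleton (E.Hcomp a 0 d) := Submodule.subsingleton_iff_eq_bot.2 h0
  haveI : Subsingleton (E.Hcomp a 1 d) := Submodule.subsingleton_iff_eq_bot.2 h1
  set TR := totRes E DE
  have L := TR.link d
  have ha := L.hyp_a fun z hz => (hasCls E DE σ hσ 0 d).cyc0 z hz
  have hb := L.hyp_b fun z hz => (hasCls E DE σ hσ 1 d).cyc1 z hz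
  obtain ⟨hr, hf⟩ := rk_full_zero E DE σ hσ d
  refine ⟨ha, hb, hr.trans (rk_zero_eq L ha hb).symm, fun hfin => ?_⟩
  haveI := hf hfin
  refine Submodule.finiteDimensional_of_le (S₂ := (LinearMap.range ((TR.full d).π ∘ₗ TR.Wk.w 0)).map
    (TR.quot d).τ) ?_
  rintro _ ⟨y, rfl⟩
  obtain ⟨x, h1, h2, h3⟩ := hb y
  exact ⟨x, ⟨x, by rw [LinearMap.comp_apply, h1, h2]⟩, h3⟩

theorem finite_pieces [IsNoetherianRing R] [Module.Finite R M] (hpos : ∀ n : ℤ, n < 0 → 𝒜 n = ⊥)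
    (ha : a.toIdeal = Ideal.span (⋃ n ∈ Set.Ioi (0 : ℤ), (𝒜 n : Set R))) (i : ℕ) :
    Module.Finite (deg0 (Conv.grp 𝒜)) (E.Hcomp a i d) ∧
      Module.Finite (deg0 (Conv.grp 𝒜)) (comp (Conv.grp 𝒜) ℳ d) := by
  haveI : IsNoetherian R M := isNoetherian_of_isNoetherianRing_of_finite R M
  have hpos' : ∀ n : ℤ, n < 0 → Conv.grp 𝒜 n = ⊥ := fun n hn => by
    rw [AddSubgroup.eq_bot_iff_forall]
    intro x hx
    have hx' : x ∈ 𝒜 n := hx
    rwa [hpos n hn, Submodule.mem_bot] at hx'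
  haveI : Module.Finite R (GMod.of (Conv.grp 𝒜) M ℳ).carrier := inferInstanceAs (Module.Finite R M)
  haveI h1 : IsNoetherian (deg0 (Conv.grp 𝒜)) (E.Hcomp a i d) :=
    ((goodPieces a hpos' ha i) (GMod.of (Conv.grp 𝒜) M ℳ) E).1 d
  haveI h2 := isNoetherian_piece (Conv.grp 𝒜) (ℳ := ℳ) d
  exact ⟨inferInstanceAs (Module.Finite (deg0 (Conv.grp 𝒜)) (E.Hcomp a i d)), inferInstance⟩

end Single

section Pair

variable {M : Type u} [AddCommGroup M] [Module R M] [Module k M] [IsScalarTower k R M]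
  {ℳ : ℤ → AddSubgroup M} [DirectSum.Decomposition ℳ] [SetLike.GradedSMul (Conv.grp 𝒜) ℳ]
  {aR : HomogeneousIdeal (Conv.grp 𝒜)} {GR : Gens (Conv.grp 𝒜) aR.toIdeal}
  (EM : StarInjRes (Conv.grp 𝒜) ℳ) (DM : ∀ n, Good GR (EM.X n))
  (σR : k ≃+* deg0 (Conv.grp 𝒜)) (hσR : ∀ c, (σR c : R) = algebraMap k R c)
  {N : Type u} [AddCommGroup N] [Module S N] [Module k N] [IsScalarTower k S N]
  {𝒩 : ℤ → AddSubgroup N} [DirectSum.Decomposition 𝒩] [SetLike.GradedSMul (Conv.grp ℬ) 𝒩]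
  {aS : HomogeneousIdeal (Conv.grp ℬ)} {GS : Gens (Conv.grp ℬ) aS.toIdeal}
  (EN : StarInjRes (Conv.grp ℬ) 𝒩) (DN : ∀ n, Good GS (EN.X n))
  (σS : k ≃+* deg0 (Conv.grp ℬ)) (hσS : ∀ c, (σS c : S) = algebraMap k S c)
  (hT : GrSeg.IsSegreRing 𝒜 ℬ 𝒯 ψ) [IsNoetherianRing T] {mT : HomogeneousIdeal 𝒯}
  (hmT : mT.toIdeal = Ideal.span (⋃ n ∈ Set.Ioi (0 : ℤ), (𝒯 n : Set T)))
  (hIR : ∀ n : ℤ, 0 < n → ∀ p ∈ 𝒜 n, p ∈ aR.toIdeal) (hIS : ∀ n : ℤ, 0 < n → ∀ p ∈ ℬ n, p ∈ aS.toIdeal)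
  {P : Type u} [AddCommGroup P] [Module T P] [Module k P] [IsScalarTower k T P]
  {𝒬 : ℤ → AddSubgroup P} [DirectSum.Decomposition 𝒬] [SetLike.GradedSMul (Conv.grp 𝒯) 𝒬]
  {φ : P →ₗ[k] M ⊗[k] N} (hP : GrSeg.IsSegreMod ψ ℳ 𝒩 𝒬 φ) (EP : StarInjRes (Conv.grp 𝒯) 𝒬)
  (σT : k ≃+* deg0 (Conv.grp 𝒯)) (hσT : ∀ c, (σT c : T) = algebraMap k T c) (d : ℤ)

include hT hmT hIR hIS hP σT hσT in
/-- Local cohomology of a Segre product in degree at least two. -/
theorem finrank_shift (n : ℕ) :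
    Module.finrank (deg0 (Conv.grp 𝒯)) (EP.Hcomp (Conv.ideal 𝒯 mT) (n + 2) d) =
      rk (((totRes EM DM).quot d).tensor ((totRes EN DN).quot d)) (n + 1) :=
  (HasCls.shift (((totRes EM DM).link d).tensor ((totRes EN DN).link d))
    (hasCls₂ hT (totRes EM DM) (totRes EN DN) hP hmT hIR hIS EP σT hσT (n + 2) d)
    (full₂_π_succ (totRes EM DM) (totRes EN DN) d (n + 1))
    (full₂_π_succ (totRes EM DM) (totRes EN DN) d n)).1

include hT hmT hIR hIS hP σR hσR σS hσS σT hσT DM DN in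
/-- Local cohomology of a Segre product in degrees zero and one. -/
theorem low_vanish (hM : ∀ q, q ≤ 1 → EM.Hcomp aR q d = ⊥) (hN : ∀ q, q ≤ 1 → EN.Hcomp aS q d = ⊥)
    (q : ℕ) (hq : q ≤ 1) : EP.Hcomp (Conv.ideal 𝒯 mT) q d = ⊥ := by
  obtain ⟨ha, hb, -, -⟩ := quot_zero EM DM σR hσR d (hM 0 zero_le_one) (hM 1 le_rfl)
  obtain ⟨ha', hb', -, -⟩ := quot_zero EN DN σS hσS d (hN 0 zero_le_one) (hN 1 le_rfl)
  have L := ((totRes EM DM).link d).tensor ((totRes EN DN).link d)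
  refine Submodule.subsingleton_iff_eq_bot.1
    ((hasCls₂ hT (totRes EM DM) (totRes EN DN) hP hmT hIR hIS EP σT hσT q d).subsingleton fun z hz => ?_)
  interval_cases q
  · exact L.low0 (tensor_hyp_a ha ha') hz
  · exact L.low1 (full₂_π_succ (totRes EM DM) (totRes EN DN) d 0) (tensor_hyp_b hb hb') hz

include hT hmT hIR hIS hP σR hσR σS hσS σT hσT DM DN in
/-- The dimension formula when both modules have depth at least two. -/
theorem finrank_formula (hM : ∀ q, q ≤ 1 → EM.Hcomp aR q d = ⊥) (hN : ∀ q, q ≤ 1 → EN.Hcomp aS q d = ⊥)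
    (hfM : ∀ i, Module.Finite (deg0 (Conv.grp 𝒜)) (EM.Hcomp aR i d))
    (hfN : ∀ i, Module.Finite (deg0 (Conv.grp ℬ)) (EN.Hcomp aS i d))
    (hfM0 : Module.Finite (deg0 (Conv.grp 𝒜)) (comp (Conv.grp 𝒜) ℳ d))
    (hfN0 : Module.Finite (deg0 (Conv.grp ℬ)) (comp (Conv.grp ℬ) 𝒩 d)) (q : ℕ) :
    Module.finrank (deg0 (Conv.grp 𝒯)) (EP.Hcomp (Conv.ideal 𝒯 mT) q d) =
      Module.finrank (deg0 (Conv.grp 𝒜)) (comp (Conv.grp 𝒜) ℳ d) *
          Module.finrank (deg0 (Conv.grp ℬ)) (EN.Hcomp aS q d) +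
        Module.finrank (deg0 (Conv.grp 𝒜)) (EM.Hcomp aR q d) *
          Module.finrank (deg0 (Conv.grp ℬ)) (comp (Conv.grp ℬ) 𝒩 d) +
        (Finset.range (q + 2)).sum (fun i => Module.finrank (deg0 (Conv.grp 𝒜)) (EM.Hcomp aR i d) *
          Module.finrank (deg0 (Conv.grp ℬ)) (EN.Hcomp aS (q + 1 - i) d)) := by
  haveI := σR.symm.toEquiv.nontrivial
  haveI := σS.symm.toEquiv.nontrivial
  haveI := σT.symm.toEquiv.nontrivial
  have zM : ∀ i, i ≤ 1 → Module.finrank (deg0 (Conv.grp 𝒜)) (EM.Hcomp aR i d) = 0 := fun i hi => by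
    haveI : Subsingleton (EM.Hcomp aR i d) := Submodule.subsingleton_iff_eq_bot.2 (hM i hi)
    exact Module.finrank_zero_of_subsingleton
  have zN : ∀ i, i ≤ 1 → Module.finrank (deg0 (Conv.grp ℬ)) (EN.Hcomp aS i d) = 0 := fun i hi => by
    haveI : Subsingleton (EN.Hcomp aS i d) := Submodule.subsingleton_iff_eq_bot.2 (hN i hi)
    exact Module.finrank_zero_of_subsingleton
  by_cases hq : q ≤ 1
  · haveI : Subsingleton (EP.Hcomp (Conv.ideal 𝒯 mT) q d) := Submodule.subsingleton_iff_eq_bot.2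
      (low_vanish EM DM σR hσR EN DN σS hσS hT hmT hIR hIS hP EP σT hσT d hM hN q hq)
    rw [Module.finrank_zero_of_subsingleton, zM q hq, zN q hq]
    simp only [mul_zero, zero_mul, zero_add]
    refine (Finset.sum_eq_zero fun i hi => ?_).symm
    have := Finset.mem_range.1 hi
    by_cases h : i ≤ 1
    · rw [zM i h, zero_mul]
    · rw [zN (q + 1 - i) (by omega), mul_zero]
  obtain ⟨n, rfl⟩ : ∃ n, q = n + 2 := ⟨q - 2, by omega⟩
  obtain ⟨-, -, hR0, hfR0⟩ := quot_zero EM DM σR hσR d (hM 0 zero_le_one) (hM 1 le_rfl)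
  obtain ⟨-, -, hS0, hfS0⟩ := quot_zero EN DN σS hσS d (hN 0 zero_le_one) (hN 1 le_rfl)
  have hA : ∀ i, Module.Finite k
      (LinearMap.range (((totRes EM DM).quot d).π ∘ₗ (totRes EM DM).Wk.w i)) := fun i => by
    cases i with
    | zero => exact hfR0 hfM0
    | succ i => exact (rk_quot_succ EM DM σR hσR d i).2 (hfM _)
  have hB : ∀ i, Module.Finite k
      (LinearMap.range (((totRes EN DN).quot d).π ∘ₗ (totRes EN DN).Wk.w i)) := fun i => by
    cases i with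
    | zero => exact hfS0 hfN0
    | succ i => exact (rk_quot_succ EN DN σS hσS d i).2 (hfN _)
  rw [finrank_shift EM DM EN DN hT hmT hIR hIS hP EP σT hσT d n,
    rk_tensor _ _ (n + 1) fun i _ => Or.inl ⟨hA i, hB _⟩,
    Finset.sum_range_succ' _ (n + 1), Finset.sum_range_succ _ n]
  rw [Finset.sum_range_succ' _ (n + 2 + 1), Finset.sum_range_succ' _ (n + 2),
    Finset.sum_range_succ _ (n + 1), Finset.sum_range_succ _ n]
  simp only [Nat.reduceAdd, zero_add, Nat.sub_zero]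
  rw [zM 0 zero_le_one, zM 1 le_rfl, zero_mul, zero_mul, add_zero, add_zero,
    show n + 2 + 1 - (n + 1 + 1 + 1) = 0 by omega, zN 0 zero_le_one, mul_zero, add_zero,
    show n + 2 + 1 - (n + 1 + 1) = 1 by omega, zN 1 le_rfl, mul_zero, add_zero,
    show n + 1 - (n + 1) = 0 by omega, ← hR0, ← hS0, ← (rk_quot_succ EM DM σR hσR d n).1,
    ← (rk_quot_succ EN DN σS hσS d n).1]
  have e : ∀ i ∈ Finset.range n,
      rk ((totRes EM DM).quot d) (i + 1) * rk ((totRes EN DN).quot d) (n + 1 - (i + 1)) =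
        Module.finrank (deg0 (Conv.grp 𝒜)) (EM.Hcomp aR (i + 1 + 1) d) *
          Module.finrank (deg0 (Conv.grp ℬ)) (EN.Hcomp aS (n + 2 + 1 - (i + 1 + 1)) d) := fun i hi => by
    have := Finset.mem_range.1 hi
    obtain ⟨j, hj⟩ : ∃ j, n + 1 - (i + 1) = j + 1 := ⟨n - i - 1, by omega⟩
    rw [hj, show n + 2 + 1 - (i + 1 + 1) = j + 2 by omega, ← (rk_quot_succ EM DM σR hσR d i).1,
      ← (rk_quot_succ EN DN σS hσS d j).1]
  rw [Finset.sum_congr rfl e]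
  ring

include hT hmT hIR hIS hP σR hσR σS hσS σT hσT DM DN in
/-- Only the top indices contribute to the top degree. -/
theorem finrank_top {r s : ℕ} (hr : 2 ≤ r) (hs : 2 ≤ s)
    (hM : ∀ i, r < i → EM.Hcomp aR i d = ⊥) (hN : ∀ i, s < i → EN.Hcomp aS i d = ⊥)
    (hfM : Module.Finite (deg0 (Conv.grp 𝒜)) (EM.Hcomp aR r d))
    (hfN : Module.Finite (deg0 (Conv.grp ℬ)) (EN.Hcomp aS s d)) :
    Module.finrank (deg0 (Conv.grp 𝒯)) (EP.Hcomp (Conv.ideal 𝒯 mT) (r + s - 1) d) =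
      Module.finrank (deg0 (Conv.grp 𝒜)) (EM.Hcomp aR r d) *
        Module.finrank (deg0 (Conv.grp ℬ)) (EN.Hcomp aS s d) := by
  obtain ⟨r, rfl⟩ : ∃ r', r = r' + 2 := ⟨r - 2, by omega⟩
  obtain ⟨s, rfl⟩ : ∃ s', s = s' + 2 := ⟨s - 2, by omega⟩
  set A := (totRes EM DM).quot d
  set B := (totRes EN DN).quot d
  have zA : ∀ i, r + 1 < i → A.π ∘ₗ (totRes EM DM).Wk.w i = 0 := fun i hi => by
    obtain ⟨i, rfl⟩ : ∃ i', i = i' + 1 := ⟨i - 1, by omega⟩
    exact quot_eq_zero EM DM σR hσR d i (hM _ (by omega))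
  have zB : ∀ i, s + 1 < i → B.π ∘ₗ (totRes EN DN).Wk.w i = 0 := fun i hi => by
    obtain ⟨i, rfl⟩ : ∃ i', i = i' + 1 := ⟨i - 1, by omega⟩
    exact quot_eq_zero EN DN σS hσS d i (hN _ (by omega))
  obtain ⟨hA, hfA⟩ := rk_quot_succ EM DM σR hσR d r
  obtain ⟨hB, hfB⟩ := rk_quot_succ EN DN σS hσS d s
  rw [show r + 2 + (s + 2) - 1 = (r + s + 1) + 2 by omega,
    finrank_shift EM DM EN DN hT hmT hIR hIS hP EP σT hσT d (r + s + 1),
    rk_tensor A B (r + s + 1 + 1) fun i hi => ?_, Finset.sum_eq_single (r + 1), ← hA,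
    show r + s + 1 + 1 - (r + 1) = s + 1 by omega, ← hB]
  · intro i _ hne
    rcases lt_or_gt_of_ne hne with h | h
    · rw [show rk B (r + s + 1 + 1 - i) = 0 by
        rw [rk, zB _ (by omega), LinearMap.range_zero, finrank_bot], mul_zero]
    · rw [show rk A i = 0 by rw [rk, zA i h, LinearMap.range_zero, finrank_bot], zero_mul]
  · exact fun h => absurd (Finset.mem_range.2 (by omega)) h
  · rcases lt_trichotomy i (r + 1) with h | rfl | h
    · exact Or.inr (Or.inr (zB _ (by omega)))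
    · refine Or.inl ⟨hfA hfM, ?_⟩
      rw [show r + s + 1 + 1 - (r + 1) = s + 1 by omega]
      exact hfB hfN
    · exact Or.inr (Or.inl (zA i h))

end Pair

end Groth.Agent.GrInj.SegK
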