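import Groth.Agent.GrInj.SegreKCMMod

/-!
# Segre products with a module of dimension one
-/

set_option autoImplicit false
set_option linter.unusedSectionVars false
universe u

open TensorProduct

namespace Groth.Agent.GrInj.SegK

section Low

open GrLC

variable {k : Type u} [Field k] {R : Type u} [CommRing R] [Algebra k R] {𝒜 : ℤ → Submodule k R} [GradedAlgebra 𝒜]
  {S : Type u} [CommRing S] [Algebra k S] {ℬ : ℤ → Submodule k S} [GradedAlgebra ℬ]
  {T : Type u} [CommRing T] [Algebra k T] {𝒯 : ℤ → Submodule k T} [GradedAlgebra 𝒯]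
  {ψ : T →ₐ[k] R ⊗[k] S}
  {M : Type u} [AddCommGroup M] [Module R M] [Module k M] [IsScalarTower k R M]
  {ℳ : ℤ → AddSubgroup M} [DirectSum.Decomposition ℳ] [SetLike.GradedSMul (Conv.grp 𝒜) ℳ]
  {aR : HomogeneousIdeal (Conv.grp 𝒜)} {GR : Gens (Conv.grp 𝒜) aR.toIdeal}
  (EM : StarInjRes (Conv.grp 𝒜) ℳ) (DM : ∀ n, Good GR (EM.X n))
  (σR : k ≃+* deg0 (Conv.grp 𝒜)) (hσR : ∀ c, (σR c : R) = algebraMap k R c)
  {N : Type u} [AddCommGroup N] [Module S N] [Module k N] [IsScalarTower k S N]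
  {𝒩 : ℤ → AddSubgroup N} [DirectSum.Decomposition 𝒩] [SetLike.GradedSMul (Conv.grp ℬ) 𝒩]
  {aS : HomogeneousIdeal (Conv.grp ℬ)} {GS : Gens (Conv.grp ℬ) aS.toIdeal}
  (EN : StarInjRes (Conv.grp ℬ) 𝒩) (DN : ∀ n, Good GS (EN.X n))
  (σS : k ≃+* deg0 (Conv.grp ℬ)) (hσS : ∀ c, (σS c : S) = algebraMap k S c)
  (σT : k ≃+* deg0 (Conv.grp 𝒯)) (hσT : ∀ c, (σT c : T) = algebraMap k T c) (d : ℤ)
  (hT : GrSeg.IsSegreRing 𝒜 ℬ 𝒯 ψ) [IsNoetherianRing T] {mT : HomogeneousIdeal 𝒯}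
  (hmT : mT.toIdeal = Ideal.span (⋃ n ∈ Set.Ioi (0 : ℤ), (𝒯 n : Set T)))
  (hIR : ∀ n : ℤ, 0 < n → ∀ p ∈ 𝒜 n, p ∈ aR.toIdeal) (hIS : ∀ n : ℤ, 0 < n → ∀ p ∈ ℬ n, p ∈ aS.toIdeal)
  {P : Type u} [AddCommGroup P] [Module T P] [Module k P] [IsScalarTower k T P]
  {𝒬 : ℤ → AddSubgroup P} [DirectSum.Decomposition 𝒬] [SetLike.GradedSMul (Conv.grp 𝒯) 𝒬]
  {φ : P →ₗ[k] M ⊗[k] N} (hP : GrSeg.IsSegreMod ψ ℳ 𝒩 𝒬 φ) (EP : StarInjRes (Conv.grp 𝒯) 𝒬)

include σR hσR σS hσS σT hσT DM DN hT hmT hIR hIS hP in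
/-- Degree zero vanishing. -/
theorem low0_vanish (hM : EM.Hcomp aR 0 d = ⊥) (hN : EN.Hcomp aS 0 d = ⊥) :
    EP.Hcomp (Conv.ideal 𝒯 mT) 0 d = ⊥ := by
  haveI : Subsingleton (EM.Hcomp aR 0 d) := Submodule.subsingleton_iff_eq_bot.2 hM
  haveI : Subsingleton (EN.Hcomp aS 0 d) := Submodule.subsingleton_iff_eq_bot.2 hN
  have L1 := (totRes EM DM).link d
  have L2 := (totRes EN DN).link d
  have ha := L1.hyp_a fun z hz => (hasCls EM DM σR hσR 0 d).cyc0 z hz
  have ha' := L2.hyp_a fun z hz => (hasCls EN DN σS hσS 0 d).cyc0 z hz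
  refine Submodule.subsingleton_iff_eq_bot.1
    ((hasCls₂ hT (totRes EM DM) (totRes EN DN) hP hmT hIR hIS EP σT hσT 0 d).subsingleton fun z hz => ?_)
  exact (L1.tensor L2).low0 (tensor_hyp_a ha ha') hz

include σR hσR σS hσS σT hσT DM DN hT hmT hIR hIS hP in
/-- Degree one of the cohomology of a Segre product, when the second factor has depth two. -/
theorem low1_iff (hN0 : EN.Hcomp aS 0 d = ⊥) (hN1 : EN.Hcomp aS 1 d = ⊥)
    (hfN : Module.Finite (deg0 (Conv.grp ℬ)) (comp (Conv.grp ℬ) 𝒩 d)) :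
    EP.Hcomp (Conv.ideal 𝒯 mT) 1 d = ⊥ ↔
      EM.Hcomp aR 1 d = ⊥ ∨ Module.finrank (deg0 (Conv.grp ℬ)) (comp (Conv.grp ℬ) 𝒩 d) = 0 := by
  classical
  set A := totRes EM DM
  set B := totRes EN DN
  have L1 := A.link d
  have L2 := B.link d
  obtain ⟨-, hbN, hrN, hfinN⟩ := quot_zero EN DN σS hσS d hN0 hN1
  haveI := hfinN hfN
  have hB : Module.finrank (deg0 (Conv.grp ℬ)) (comp (Conv.grp ℬ) 𝒩 d) = 0 ↔
      ∀ y, (B.quot d).π (B.Wk.w 0 y) = 0 := by
    rw [hrN]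
    show Module.finrank k (LinearMap.range ((B.quot d).π ∘ₗ B.Wk.w 0)) = 0 ↔ _
    rw [Submodule.finrank_eq_zero, LinearMap.range_eq_bot]
    exact ⟨fun h y => LinearMap.congr_fun h y, fun h => LinearMap.ext h⟩
  constructor
  · intro h
    haveI : Subsingleton (EP.Hcomp (Conv.ideal 𝒯 mT) 1 d) := Submodule.subsingleton_iff_eq_bot.2 h
    rw [or_iff_not_imp_right, hB]
    intro hne
    push Not at hne
    obtain ⟨y₀, hy₀⟩ := hne
    have hb₂ := (L1.tensor L2).hyp_b fun z hz =>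
      (hasCls₂ hT A B hP hmT hIR hIS EP σT hσT 1 d).cyc1 z hz
    obtain ⟨φ, hφ⟩ := Module.Projective.exists_dual_ne_zero k hy₀
    refine Submodule.subsingleton_iff_eq_bot.1 ((hasCls EM DM σR hσR 1 d).subsingleton fun z hz =>
      L1.low1 (A.full_π_succ d 0) (fun x₀ => ?_) hz)
    set c := φ ((B.quot d).π (B.Wk.w 0 y₀)) with hc
    obtain ⟨z, hzw, hzπ, hzτ⟩ := hb₂ (x₀ ⊗ₜ[k] y₀)
    let C : A.X.carrier ⊗[k] B.X.carrier →ₗ[k] A.X.carrier :=
      c⁻¹ • ((TensorProduct.rid k A.X.carrier).toLinearMap ∘ₗ map LinearMap.id (φ ∘ₗ (B.quot d).τ))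
    have hC : ∀ f : A.X.carrier →ₗ[k] A.X.carrier, ∀ v, f (C v) = C (map f LinearMap.id v) := fun f v => by
      induction v using TensorProduct.induction_on with
      | zero => simp
      | tmul a b => simp [C]
      | add p q hp hq => simp only [map_add, hp, hq]
    have hz0 : map (A.Wk.w 0) (B.Wk.w 0) z = z := (tw_zero z).symm.trans hzw
    have hw1 : map (A.Wk.w 0) LinearMap.id z = z := by
      conv_lhs => rw [← hz0]
      rw [← LinearMap.comp_apply, ← TensorProduct.map_comp, LinearMap.id_comp,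
        show A.Wk.w 0 ∘ₗ A.Wk.w 0 = A.Wk.w 0 from LinearMap.ext fun x => A.Wk.w_self 0 x]
      exact hz0
    have hπ1 : map (A.full d).π LinearMap.id z = z := by
      conv_lhs => rw [← hzπ]
      show map (A.full d).π LinearMap.id (map (A.full d).π (B.full d).π z) = z
      rw [← LinearMap.comp_apply, ← TensorProduct.map_comp, LinearMap.id_comp,
        show (A.full d).π ∘ₗ (A.full d).π = (A.full d).π from LinearMap.ext fun x => (A.full d).ππ x]
      exact hzπ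
    refine ⟨C z, by rw [hC, hw1], by rw [hC, hπ1], ?_⟩
    have hτ : map (A.quot d).τ (B.quot d).τ z =
        (A.quot d).π (A.Wk.w 0 x₀) ⊗ₜ[k] (B.quot d).π (B.Wk.w 0 y₀) := by
      refine hzτ.trans ?_
      show map (A.quot d).π (B.quot d).π (A.Wk.tw B.Wk 0 (x₀ ⊗ₜ[k] y₀)) = _
      rw [tw_zero, map_tmul, map_tmul]
    have hD : C (map (A.quot d).τ LinearMap.id z) =
        (c⁻¹ • ((TensorProduct.rid k A.X.carrier).toLinearMap ∘ₗ map LinearMap.id φ))
          (map (A.quot d).τ (B.quot d).τ z) := by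
      show (c⁻¹ • _ : A.X.carrier ⊗[k] B.X.carrier →ₗ[k] A.X.carrier) _ = _
      simp only [LinearMap.smul_apply, LinearMap.comp_apply]
      rw [← LinearMap.comp_apply (map _ _) (map _ _), ← TensorProduct.map_comp,
        ← LinearMap.comp_apply (map _ _) (map _ _), ← TensorProduct.map_comp]
      rfl
    rw [hC, hD, hτ]
    simp only [LinearMap.smul_apply, LinearMap.comp_apply, map_tmul, LinearMap.id_apply, LinearEquiv.coe_coe,
      TensorProduct.rid_tmul]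
    rw [← hc, smul_smul, inv_mul_cancel₀ hφ, one_smul]
  · intro h
    refine Submodule.subsingleton_iff_eq_bot.1
      ((hasCls₂ hT A B hP hmT hIR hIS EP σT hσT 1 d).subsingleton fun z hz => ?_)
    refine (L1.tensor L2).low1 (full₂_π_succ A B d 0) ?_ hz
    rcases h with h | h
    · haveI : Subsingleton (EM.Hcomp aR 1 d) := Submodule.subsingleton_iff_eq_bot.2 h
      exact tensor_hyp_b (L1.hyp_b fun z hz => (hasCls EM DM σR hσR 1 d).cyc1 z hz) hbN
    · intro z₀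
      refine ⟨0, map_zero _, map_zero _, ?_⟩
      rw [map_zero]
      show 0 = map (A.quot d).π (B.quot d).π (A.Wk.tw B.Wk 0 z₀)
      rw [tw_zero, ← LinearMap.comp_apply, ← TensorProduct.map_comp,
        show (B.quot d).π ∘ₗ B.Wk.w 0 = 0 from LinearMap.ext (hB.1 h), TensorProduct.map_zero_right]
      rfl

include σR hσR σS hσS σT hσT DM DN hT hmT hIR hIS hP in
/-- Higher vanishing when the first factor has no cohomology above degree one. -/
theorem rk_vanish (n : ℕ) (hM : ∀ i, 1 < i → EM.Hcomp aR i d = ⊥) (hN : EN.Hcomp aS (n + 2) d = ⊥) :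
    Module.finrank (deg0 (Conv.grp 𝒯)) (EP.Hcomp (Conv.ideal 𝒯 mT) (n + 2) d) = 0 := by
  have zA : ∀ i, ((totRes EM DM).quot d).π ∘ₗ (totRes EM DM).Wk.w (i + 1) = 0 := fun i =>
    quot_eq_zero EM DM σR hσR d i (hM _ (by omega))
  have zB := quot_eq_zero EN DN σS hσS d n hN
  rw [finrank_shift EM DM EN DN hT hmT hIR hIS hP EP σT hσT d n, rk_tensor _ _ (n + 1) fun a _ => ?_]
  · refine Finset.sum_eq_zero fun a _ => ?_
    rcases a with _ | a
    · rw [Nat.sub_zero, show rk ((totRes EN DN).quot d) (n + 1) = 0 by rw [rk, zB, LinearMap.range_zero, finrank_bot],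
        mul_zero]
    · rw [show rk ((totRes EM DM).quot d) (a + 1) = 0 by rw [rk, zA a, LinearMap.range_zero, finrank_bot], zero_mul]
  · rcases a with _ | a
    · exact Or.inr (Or.inr zB)
    · exact Or.inr (Or.inl (zA a))

end Low

open GrLC in
/-- The Cohen-Macaulay criterion for Segre products with a module of dimension one. -/
theorem cm_segreMod_dim_one {k : Type u} [Field k] {R : Type u} [CommRing R] [Algebra k R] {𝒜 : ℤ → Submodule k R}
    [GradedAlgebra 𝒜] [Algebra.FiniteType k R] {S : Type u} [CommRing S] [Algebra k S] {ℬ : ℤ → Submodule k S}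
    [GradedAlgebra ℬ] [Algebra.FiniteType k S] {T : Type u} [CommRing T] [Algebra k T] {𝒯 : ℤ → Submodule k T}
    [GradedAlgebra 𝒯] {ψ : T →ₐ[k] R ⊗[k] S} (hT : GrSeg.IsSegreRing 𝒜 ℬ 𝒯 ψ)
    (hposR : ∀ n : ℤ, n < 0 → 𝒜 n = ⊥) (h0R : 𝒜 0 = Submodule.span k {(1 : R)})
    (hposS : ∀ n : ℤ, n < 0 → ℬ n = ⊥) (h0S : ℬ 0 = Submodule.span k {(1 : S)})
    (mR : HomogeneousIdeal 𝒜) (hmR : mR.toIdeal = Ideal.span (⋃ n ∈ Set.Ioi (0 : ℤ), (𝒜 n : Set R)))
    {M : Type u} [AddCommGroup M] [Module R M] [Module k M] [IsScalarTower k R M] {ℳ : ℤ → AddSubgroup M}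
    [DirectSum.Decomposition ℳ] [SetLike.GradedSMul 𝒜 ℳ] [Module.Finite R M] (I : StarInjRes 𝒜 ℳ)
    {N : Type u} [AddCommGroup N] [Module S N] [Module k N] [IsScalarTower k S N] {𝒩 : ℤ → AddSubgroup N}
    [DirectSum.Decomposition 𝒩] [SetLike.GradedSMul ℬ 𝒩] [Module.Finite S N]
    {P : Type u} [AddCommGroup P] [Module T P] [Module k P] [IsScalarTower k T P] {𝒬 : ℤ → AddSubgroup P}
    [DirectSum.Decomposition 𝒬] [SetLike.GradedSMul 𝒯 𝒬] [Module.Finite T P] [Nontrivial P]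
    {φ : P →ₗ[k] M ⊗[k] N} (hP : GrSeg.IsSegreMod ψ ℳ 𝒩 𝒬 φ) {s : ℕ} (h1s : 1 ≤ s)
    (hr : Module.supportDim R M = ((1 : ℕ) : WithBot ℕ∞)) (hs : Module.supportDim S N = s)
    (hdim : Module.supportDim T P = (s : WithBot ℕ∞))
    (hMcm : ∀ (q : Ideal R) [q.IsPrime], Subsingleton (LocalizedModule q.primeCompl M) ∨
      LocCoh.IsCohenMacaulayModule (Localization.AtPrime q) (LocalizedModule q.primeCompl M))
    (hNcm : ∀ (q : Ideal S) [q.IsPrime], Subsingleton (LocalizedModule q.primeCompl N) ∨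
      LocCoh.IsCohenMacaulayModule (Localization.AtPrime q) (LocalizedModule q.primeCompl N))
    {mT : HomogeneousIdeal 𝒯} (hmT : mT.toIdeal = Ideal.span (⋃ n ∈ Set.Ioi (0 : ℤ), (𝒯 n : Set T)))
    (E : StarInjRes 𝒯 𝒬) :
    (∀ d, E.Hcomp mT 0 d = ⊥) ∧
    (2 ≤ s → ∀ d, (E.Hcomp mT 1 d = ⊥ ↔ I.Hcomp mR 1 d = ⊥ ∨ 𝒩 d = ⊥)) ∧
    (2 ≤ s → ((∀ (q : Ideal T) [q.IsPrime], Subsingleton (LocalizedModule q.primeCompl P) ∨
      LocCoh.IsCohenMacaulayModule (Localization.AtPrime q) (LocalizedModule q.primeCompl P)) ↔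
        ∀ d : ℤ, I.Hcomp mR 1 d = ⊥ ∨ 𝒩 d = ⊥)) ∧
    (s = 1 → (∀ (q : Ideal T) [q.IsPrime], Subsingleton (LocalizedModule q.primeCompl P) ∨
      LocCoh.IsCohenMacaulayModule (Localization.AtPrime q) (LocalizedModule q.primeCompl P))) := by
  classical
  haveI : IsNoetherianRing R := Algebra.FiniteType.isNoetherianRing k R
  haveI : IsNoetherianRing S := Algebra.FiniteType.isNoetherianRing k S
  haveI : IsNoetherianRing T := SegreDim.isNoetherian ψ hT.1 hT.2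
  haveI : Nontrivial R := by
    by_contra h
    rw [not_nontrivial_iff_subsingleton] at h
    haveI := Module.subsingleton R M
    rw [Module.supportDim_eq_bot_of_subsingleton] at hr
    simp at hr
  haveI : Nontrivial S := by
    by_contra h
    rw [not_nontrivial_iff_subsingleton] at h
    haveI := Module.subsingleton S N
    rw [Module.supportDim_eq_bot_of_subsingleton] at hs
    simp at hs
  haveI := nontrivial_segre ψ
  let mS : HomogeneousIdeal ℬ := ⟨Ideal.span (⋃ n ∈ Set.Ioi (0 : ℤ), (ℬ n : Set S)),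
    Ideal.homogeneous_span ℬ _ (by
      intro x hx
      simp only [Set.mem_iUnion] at hx
      obtain ⟨i, -, hx⟩ := hx
      exact ⟨i, hx⟩)⟩
  have hmS : mS.toIdeal = Ideal.span (⋃ n ∈ Set.Ioi (0 : ℤ), (ℬ n : Set S)) := rfl
  obtain ⟨J⟩ := nonempty_res (𝒜 := ℬ) (ℳ := 𝒩)
  have h0T := deg0_segre hT h0R h0S
  have hposT : ∀ n : ℤ, n < 0 → 𝒯 n = ⊥ := fun n hn => by
    rw [Submodule.eq_bot_iff]
    intro t ht
    have h : ψ t ∈ GrSeg.segrePiece k 𝒜 ℬ n := (hT.2 n).le ⟨t, ht, rfl⟩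
    have h0 : GrSeg.segrePiece k 𝒜 ℬ n = ⊥ := by
      unfold GrSeg.segrePiece
      rw [Submodule.span_eq_bot]
      rintro _ ⟨a, ha, b, -, rfl⟩
      rw [hposR n hn, Submodule.mem_bot] at ha
      rw [ha, TensorProduct.zero_tmul]
    rw [h0, Submodule.mem_bot] at h
    exact hT.1 (h.trans (map_zero ψ).symm)
  obtain ⟨σT, hσT⟩ := exists_deg0Equiv h0T
  obtain ⟨GR, DM, σR, hσR⟩ := exists_data h0R mR hmR I
  obtain ⟨GS, DN, σS, hσS⟩ := exists_data h0S mS hmS J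
  have hR0 := hcompMod_eq_bot_below hposR h0R hmR I hr hMcm 0 Nat.one_pos
  have hS := hcompMod_eq_bot_below hposS h0S hmS J hs hNcm
  have h0 : ∀ d, E.Hcomp mT 0 d = ⊥ := fun d => (Conv.res_Hcomp E mT 0 d).1
    (low0_vanish (Conv.res I) DM σR hσR (Conv.res J) DN σS hσS σT hσT d hT hmT (irrelevant_mem hmR)
      (irrelevant_mem hmS) (isSegreMod_grp hP) (Conv.res E) ((Conv.res_Hcomp I mR 0 d).2 (hR0 d))
      ((Conv.res_Hcomp J mS 0 d).2 (hS 0 (by omega) d)))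
  have h1 : 2 ≤ s → ∀ d, (E.Hcomp mT 1 d = ⊥ ↔ I.Hcomp mR 1 d = ⊥ ∨ 𝒩 d = ⊥) := fun h2 d => by
    refine (Conv.res_Hcomp E mT 1 d).symm.trans ((low1_iff (Conv.res I) DM σR hσR (Conv.res J) DN σS hσS σT hσT d
      hT hmT (irrelevant_mem hmR) (irrelevant_mem hmS) (isSegreMod_grp hP) (Conv.res E)
      ((Conv.res_Hcomp J mS 0 d).2 (hS 0 (by omega) d)) ((Conv.res_Hcomp J mS 1 d).2 (hS 1 (by omega) d))
      (finite_pieces (a := Conv.ideal ℬ mS) (Conv.res J) d hposS hmS 0).2).trans (or_congr (Conv.res_Hcomp I mR 1 d) ?_))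
    rw [finrank_comp_grp]
    exact (finrank_comp_eq_zero_iff hposS h0S hmS d).trans (AddSubgroup.eq_bot_iff_forall _).symm
  have h2q : ∀ q, 2 ≤ q → q < s → ∀ d, E.Hcomp mT q d = ⊥ := fun q hq hqs d => by
    obtain ⟨n, rfl⟩ : ∃ n, q = n + 2 := ⟨q - 2, by omega⟩
    refine (finrank_hcomp_eq_zero_iff hposT h0T hmT E (n + 2) d).1 ?_
    rw [← finrank_Hcomp_res E mT (n + 2) d]
    exact rk_vanish (Conv.res I) DM σR hσR (Conv.res J) DN σS hσS σT hσT d hT hmT (irrelevant_mem hmR)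
      (irrelevant_mem hmS) (isSegreMod_grp hP) (Conv.res E) n
      (fun i hi => (Conv.res_Hcomp I mR i d).2 (hcompMod_eq_bot_above I hr i hi d))
      ((Conv.res_Hcomp J mS _ d).2 (hS _ hqs d))
  have hm := starLocal hposT h0T hmT
  haveI := star_isMaximal (hpos_grp hposT) hm
  have hcm : (∀ q, q < s → ∀ d, E.Hcomp mT q d = ⊥) → ∀ (q : Ideal T) [q.IsPrime],
      Subsingleton (LocalizedModule q.primeCompl P) ∨
      LocCoh.IsCohenMacaulayModule (Localization.AtPrime q) (LocalizedModule q.primeCompl P) := fun h q hq =>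
    CMCrit.cm_of_vanishing (hpos_grp hposT) hm (Conv.grp 𝒬) (Conv.res E) hdim.le
      (fun i hi => subsingleton_H_of_pieces _ _ i fun d => (Conv.res_Hcomp E mT i d).2 (h i hi d)) q
  refine ⟨h0, h1, fun h2 => ⟨fun h d => (h1 h2 d).1 (hcompMod_eq_bot_below hposT h0T hmT E hdim h 1 h2 d),
    fun h => hcm fun q hq d => ?_⟩, fun hs1 => hcm fun q hq d => ?_⟩
  · rcases q with _ | _ | q
    exacts [h0 d, (h1 h2 d).2 (h d), h2q _ (by omega) hq d]
  · obtain rfl : q = 0 := by omega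
    exact h0 d

end Groth.Agent.GrInj.SegK
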