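import Groth.Agent.GrInj.Serre
import Groth.Agent.S13220

/-!
# Splitting a *injective module along homogeneous generators of an ideal
-/

set_option autoImplicit false
set_option linter.unusedSectionVars false
universe u

namespace Groth.Agent.GrInj.SegK

open GrLC

variable {R : Type u} [CommRing R] {𝒜 : ℤ → AddSubgroup R} [GradedRing 𝒜]

theorem torsion_of_essential [IsNoetherianRing R] {M : Type u} [AddCommGroup M] [Module R M]
    {E : Type u} [AddCommGroup E] [Module R E] (I : Ideal R) {f : M →ₗ[R] E}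
    (hess : InjHull.IsEssentialInj f) (hM : ∀ x, x ∈ gam I M) (y : E) : y ∈ gam I E := by
  have hp : I ≤ Ideal.radical (LinearMap.ker (LinearMap.toSpanSingleton R E y)) := by
    intro a ha
    by_contra hna
    have hn : ∀ n : ℕ, a ^ n • y ≠ 0 := fun n h => hna ⟨n, h⟩
    obtain ⟨n, hstab⟩ := monotone_stabilizes_iff_noetherian.2 (inferInstance : IsNoetherian R R)
      ⟨fun n => LinearMap.ker (LinearMap.toSpanSingleton R E (a ^ n • y)), fun m n hmn r hr => by
        simp only [LinearMap.mem_ker, LinearMap.toSpanSingleton_apply] at hr ⊢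
        obtain ⟨k, rfl⟩ := Nat.exists_eq_add_of_le hmn
        rw [pow_add, mul_comm, mul_smul, smul_comm, hr, smul_zero]⟩
    obtain ⟨z, ⟨hz, x, rfl⟩, hz0⟩ := Submodule.exists_mem_ne_zero_of_ne_bot
      (hess.essential _ (by simpa [Submodule.span_singleton_eq_bot] using hn n :
        Submodule.span R {a ^ n • y} ≠ ⊥))
    obtain ⟨r, hr⟩ := Submodule.mem_span_singleton.1 hz
    obtain ⟨l, hl⟩ := hM x
    have h1 : r ∈ LinearMap.ker (LinearMap.toSpanSingleton R E (a ^ (n + l) • y)) := by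
      rw [LinearMap.mem_ker, LinearMap.toSpanSingleton_apply, add_comm, pow_add, mul_smul, smul_comm, hr,
        ← map_smul, hl _ (Ideal.pow_mem_pow ha l), map_zero]
    rw [show LinearMap.ker (LinearMap.toSpanSingleton R E (a ^ (n + l) • y)) =
      LinearMap.ker (LinearMap.toSpanSingleton R E (a ^ n • y)) from (hstab (n + l) (by omega)).symm,
      LinearMap.mem_ker, LinearMap.toSpanSingleton_apply, hr] at h1
    exact hz0 h1
  obtain ⟨n, hn⟩ := Ideal.exists_pow_le_of_le_radical_of_fg hp (IsNoetherian.noetherian _)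
  exact ⟨n, fun r hr => hn hr⟩

/-- The torsion part of a *injective module is *injective. -/
theorem starInj_gam [IsNoetherianRing R] (I : HomogeneousIdeal 𝒜) {W : GMod.{u} 𝒜}
    (hW : IsStarInj 𝒜 W.gr) :
    IsStarInj 𝒜 (subMod 𝒜 (ℳ := W.gr) (gam I.toIdeal W.carrier) (S13225.gam_homogeneous I)).gr := by
  refine starInj_of_noExt fun B g hg => ?_
  have hG : (gam I.toIdeal W.carrier).IsHomogeneous W.gr := S13225.gam_homogeneous I
  obtain ⟨h, hh, hhg⟩ := hW _ B g hg.grHom hg.injective (subInc 𝒜 _ hG) (grHom_subInc hG)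
  have hhi : Function.Injective h :=
    injective_of_ess hg hh (by rw [hhg]; exact subInc_injective hG)
  intro b
  have hb : b ∈ gam I.toIdeal B.carrier := torsion_of_essential I.toIdeal (isEssentialInj 𝒜 hg)
    (fun x => by
      obtain ⟨n, hn⟩ := x.2
      exact ⟨n, fun r hr => Subtype.ext (hn r hr)⟩) b
  exact ⟨⟨h b, gam_map _ h hb⟩, hhi ((LinearMap.congr_fun hhg _).trans rfl)⟩

theorem iterate_degree {M : Type u} [AddCommGroup M] [Module R M] {ℳ : ℤ → AddSubgroup M}
    {f : M →ₗ[R] M} {d : ℤ} (hf : IsGrHomDeg ℳ ℳ f d) :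
    ∀ n : ℕ, IsGrHomDeg ℳ ℳ (f ^ n) (n * d)
  | 0 => fun g m hm => by simpa using hm
  | n + 1 => fun g m hm => by
    rw [pow_succ', Module.End.mul_apply, show g + ((n + 1 : ℕ) : ℤ) * d = g + n * d + d by push_cast; ring]
    exact hf _ _ (iterate_degree hf n g m hm)

/-- Finitely many homogeneous elements of positive degree of an ideal. -/
structure Gens (𝒜 : ℤ → AddSubgroup R) (I : Ideal R) where
  L : ℕ
  f : Fin L → R
  e : Fin L → ℕ
  he : ∀ l, 0 < e l
  hf : ∀ l, f l ∈ 𝒜 (e l)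
  hI : ∀ l, f l ∈ I

/-- A graded module split into a torsion part and parts where a generator acts bijectively. -/
structure Good {I : Ideal R} (G : Gens 𝒜 I) (X : GMod.{u} 𝒜) where
  p0 : X.carrier →ₗ[R] X.carrier
  q : Fin G.L → X.carrier →ₗ[R] X.carrier
  p0_grHom : IsGrHom X.gr X.gr p0
  q_deg : ∀ l, IsGrHomDeg X.gr X.gr (q l) (-(G.e l : ℤ))
  sum : ∀ x, p0 x + ∑ l, G.f l • q l x = x
  fqq : ∀ l x, G.f l • q l (q l x) = q l x
  tors : ∀ x, p0 x ∈ gam I X.carrier

namespace Good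

variable {I : Ideal R} {G : Gens 𝒜 I} {X : GMod.{u} 𝒜} (D : Good G X)

theorem pow_smul (l : Fin G.L) :
    ∀ (n : ℕ) (x : X.carrier), G.f l ^ (n + 1) • (D.q l ^ (n + 1)) x = G.f l • D.q l x
  | 0, x => by rw [pow_one, pow_one]
  | n + 1, x => by
    rw [pow_succ' (D.q l), Module.End.mul_apply, pow_succ (G.f l), mul_smul, pow_succ' (D.q l) n,
      Module.End.mul_apply, D.fqq, ← Module.End.mul_apply, ← pow_succ', pow_smul l n x]

theorem q_eq_zero (l : Fin G.L) {x : X.carrier} (hx : x ∈ gam I X.carrier) :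
    G.f l • D.q l x = 0 := by
  obtain ⟨n, hn⟩ := hx
  rw [← D.pow_smul l n, ← map_smul, hn _ (Ideal.pow_le_pow_right (Nat.le_succ n) (Ideal.pow_mem_pow (G.hI l) _)),
    map_zero]

/-- The projection away from the torsion. -/
noncomputable def tau : X.carrier →ₗ[R] X.carrier := ∑ l, G.f l • D.q l

theorem tau_apply (x : X.carrier) : D.tau x = ∑ l, G.f l • D.q l x := by
  simp [tau, LinearMap.sum_apply]

theorem p0_add_tau (x : X.carrier) : D.p0 x + D.tau x = x := by rw [tau_apply]; exact D.sum x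

theorem tau_eq_zero_iff {x : X.carrier} : D.tau x = 0 ↔ x ∈ gam I X.carrier := by
  refine ⟨fun h => ?_, fun h => ?_⟩
  · have := D.p0_add_tau x
    rw [h, add_zero] at this
    rw [← this]; exact D.tors x
  · rw [tau_apply]; exact Finset.sum_eq_zero fun l _ => D.q_eq_zero l h

theorem tau_p0 (x : X.carrier) : D.tau (D.p0 x) = 0 := D.tau_eq_zero_iff.2 (D.tors x)

theorem tau_tau (x : X.carrier) : D.tau (D.tau x) = D.tau x := by
  conv_rhs => rw [← D.p0_add_tau x]
  rw [map_add, D.tau_p0, zero_add]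

theorem grHom_tau : IsGrHom X.gr X.gr D.tau := fun g m hm => by
  rw [tau_apply]
  refine sum_mem fun l _ => ?_
  have := smul_mem_gr (G.hf l) (D.q_deg l g m hm)
  rwa [show (G.e l : ℤ) + (g + -(G.e l : ℤ)) = g by ring] at this

theorem tau_comm {Y : GMod.{u} 𝒜} (D' : Good G Y) (f : X.carrier →ₗ[R] Y.carrier) (x : X.carrier) :
    D'.tau (f (D.tau x)) = D'.tau (f x) := by
  conv_rhs => rw [← D.p0_add_tau x, map_add, map_add, D'.tau_eq_zero_iff.2 (gam_map I f (D.tors x)),
    zero_add]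

end Good

/-- Extend a decomposition by one more element. -/
theorem exists_good_aux [IsNoetherianRing R] : ∀ (n : ℕ) (f : Fin n → R) (e : Fin n → ℕ),
    (∀ l, f l ∈ 𝒜 (e l)) → (∀ l, 0 < e l) → ∀ (W : GMod.{u} 𝒜), IsStarInj 𝒜 W.gr →
    ∃ (p0 : W.carrier →ₗ[R] W.carrier) (q : Fin n → W.carrier →ₗ[R] W.carrier),
      IsGrHom W.gr W.gr p0 ∧ (∀ l, IsGrHomDeg W.gr W.gr (q l) (-(e l : ℤ))) ∧
      (∀ x, p0 x + ∑ l, f l • q l x = x) ∧ (∀ l x, f l • q l (q l x) = q l x) ∧
      ∀ x, p0 x ∈ gam (Ideal.span (Set.range f)) W.carrier := by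
  intro n
  induction n with
  | zero =>
    intro f e _ _ W _
    refine ⟨LinearMap.id, fun l => l.elim0, fun _ _ h => h, fun l => l.elim0, fun x => by simp,
      fun l => l.elim0, fun x => ⟨1, fun r hr => ?_⟩⟩
    rw [pow_one, Set.range_eq_empty, Ideal.span_empty, Ideal.mem_bot] at hr
    rw [hr, zero_smul]
  | succ n ih =>
    intro f e hf he W hW
    set a := f 0 with ha
    let J : HomogeneousIdeal 𝒜 := ⟨Ideal.span {a},
      Ideal.homogeneous_span 𝒜 {a} fun x hx => ⟨e 0, by rw [Set.mem_singleton_iff.1 hx]; exact hf 0⟩⟩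
    have hG : (gam J.toIdeal W.carrier).IsHomogeneous W.gr := S13225.gam_homogeneous J
    let G₀ : GMod.{u} 𝒜 := subMod 𝒜 (gam J.toIdeal W.carrier) hG
    have hG₀ : IsStarInj 𝒜 G₀.gr := starInj_gam J hW
    let i₀ : G₀.carrier →ₗ[R] W.carrier := subInc 𝒜 _ hG
    have hi₀ : IsGrHom G₀.gr W.gr i₀ := grHom_subInc hG
    obtain ⟨r, hr, hri⟩ := exists_retraction hG₀ hi₀ (subInc_injective hG)
    have hK : (LinearMap.ker r).IsHomogeneous W.gr := hom_ker hr
    let W' : GMod.{u} 𝒜 := subMod 𝒜 (LinearMap.ker r) hK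
    let j : W'.carrier →ₗ[R] W.carrier := subInc 𝒜 _ hK
    let p : W.carrier →ₗ[R] W'.carrier :=
      (LinearMap.id - i₀ ∘ₗ r).codRestrict (LinearMap.ker r) fun x => by
        show r (x - i₀ (r x)) = 0
        rw [map_sub, show r (i₀ (r x)) = r x from LinearMap.congr_fun hri (r x), sub_self]
    have hp : IsGrHom W.gr W'.gr p := fun g m hm => sub_mem hm (hi₀ g _ (hr g m hm))
    have hpj : p ∘ₗ j = LinearMap.id := LinearMap.ext fun x => Subtype.ext (by
      show j x - i₀ (r (j x)) = j x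
      rw [show r (j x) = 0 from x.2, map_zero, sub_zero])
    have hW' : IsStarInj 𝒜 W'.gr := starInj_of_retract hW (grHom_subInc hK) hp hpj
    let m : W'.carrier →ₗ[R] W'.carrier := LinearMap.lsmul R W'.carrier a
    have hm : IsGrHom W'.gr (shGr W'.gr (-(e 0 : ℤ))) m := fun g x hx => by
      show a • x ∈ W'.gr (g - -(e 0 : ℤ))
      rw [sub_neg_eq_add, add_comm]
      exact smul_mem_gr (hf 0) hx
    have hmi : Function.Injective m := by
      refine (injective_iff_map_eq_zero m).2 fun x hx => subInc_injective hK ?_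
      have hx' : j x ∈ gam J.toIdeal W.carrier := ⟨1, fun c hc => by
        rw [pow_one] at hc
        obtain ⟨c', rfl⟩ := Ideal.mem_span_singleton'.1 hc
        rw [mul_smul, ← map_smul, show a • x = 0 from hx, map_zero, smul_zero]⟩
      have h1 : r (i₀ ⟨j x, hx'⟩) = (⟨j x, hx'⟩ : G₀.carrier) := LinearMap.congr_fun hri _
      have h2 : (0 : G₀.carrier) = ⟨j x, hx'⟩ := (show r (j x) = 0 from x.2).symm.trans h1
      show j x = j 0
      rw [map_zero]
      exact (congrArg Subtype.val h2).symm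
    obtain ⟨v, hv, hvm⟩ := exists_retraction (𝒩 := shGr W'.gr (-(e 0 : ℤ))) hW' hm hmi
    have hmv : ∀ x, a • v x = x := fun x => by
      have h : v (a • v x) = v x := LinearMap.congr_fun hvm (v x)
      have h' : v (a • v x - x) = 0 := by rw [map_sub, h, sub_self]
      rw [← sub_eq_zero]
      refine hmi ?_
      rw [map_zero]
      show a • (a • v x - x) = 0
      rw [smul_sub, sub_eq_zero]
      have h3 : v (a • x) = x := LinearMap.congr_fun hvm x
      rw [← map_smul, h3]
    obtain ⟨p0', q', hp0', hq', hsum', hfqq', htors'⟩ :=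
      ih (fun l => f l.succ) (fun l => e l.succ) (fun l => hf _) (fun l => he _) G₀ hG₀
    refine ⟨i₀ ∘ₗ p0' ∘ₗ r, Fin.cases (j ∘ₗ v ∘ₗ p) (fun l => i₀ ∘ₗ q' l ∘ₗ r),
      fun g x hx => hi₀ g _ (hp0' g _ (hr g x hx)), fun l => ?_, fun x => ?_, fun l x => ?_, fun x => ?_⟩
    · induction l using Fin.cases with
      | zero =>
        intro g x hx
        refine hv (g + -(e 0 : ℤ)) _ ?_
        show p x ∈ W'.gr (g + -(e 0 : ℤ) - -(e 0 : ℤ))
        rw [add_sub_cancel_right]; exact hp g x hx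
      | succ l => exact fun g x hx => hi₀ _ _ (hq' l g _ (hr g x hx))
    · rw [Fin.sum_univ_succ]
      simp only [Fin.cases_zero, Fin.cases_succ, LinearMap.comp_apply]
      rw [add_left_comm, ← map_smul j, hmv, Finset.sum_congr rfl fun l _ => (map_smul i₀ _ _).symm,
        ← map_sum, ← map_add, hsum']
      show (x - i₀ (r x)) + i₀ (r x) = x
      rw [sub_add_cancel]
    · induction l using Fin.cases with
      | zero =>
        simp only [Fin.cases_zero, LinearMap.comp_apply]
        rw [show p (j (v (p x))) = v (p x) from LinearMap.congr_fun hpj _, ← map_smul j, hmv]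
      | succ l =>
        simp only [Fin.cases_succ, LinearMap.comp_apply]
        rw [show r (i₀ (q' l (r x))) = q' l (r x) from LinearMap.congr_fun hri _, ← map_smul i₀,
          hfqq']
    · obtain ⟨k, hk⟩ := (p0' (r x)).2
      obtain ⟨l, hl⟩ := htors' (r x)
      refine ⟨k + l, fun c hc => ?_⟩
      have hspan : Ideal.span (Set.range f) ≤ J.toIdeal ⊔ Ideal.span (Set.range fun l : Fin n => f l.succ) := by
        rw [Ideal.span_le]
        rintro _ ⟨i, rfl⟩
        induction i using Fin.cases with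
        | zero => exact Ideal.mem_sup_left (Ideal.subset_span rfl)
        | succ i => exact Ideal.mem_sup_right (Ideal.subset_span ⟨i, rfl⟩)
      obtain ⟨c₁, h₁, c₂, h₂, rfl⟩ := Submodule.mem_sup.1
        (Ideal.sup_pow_add_le_pow_sup_pow (Ideal.pow_right_mono hspan (k + l) hc))
      show (c₁ + c₂) • i₀ (p0' (r x)) = 0
      rw [add_smul, show c₁ • i₀ (p0' (r x)) = 0 from hk c₁ h₁, ← map_smul, hl c₂ h₂, map_zero, add_zero]

/-- Generators of the irrelevant ideal. -/
theorem exists_gens [IsNoetherianRing R] (I : Ideal R)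
    (hI : I = Ideal.span (⋃ n ∈ Set.Ioi (0 : ℤ), (𝒜 n : Set R))) :
    ∃ G : Gens 𝒜 I, Ideal.span (Set.range G.f) = I := by
  classical
  obtain ⟨t, htsub, ht⟩ := (Submodule.fg_span_iff_fg_span_finset_subset _).1
    (show (Submodule.span R (⋃ n ∈ Set.Ioi (0 : ℤ), (𝒜 n : Set R))).FG from IsNoetherian.noetherian _)
  have hd : ∀ l : Fin t.card, ∃ d : ℕ, 0 < d ∧ (t.equivFin.symm l : R) ∈ 𝒜 d := fun l => by
    obtain ⟨n, hn, hr⟩ := Set.mem_iUnion₂.1 (htsub (t.equivFin.symm l).2)
    have hn' : (0 : ℤ) < n := hn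
    obtain ⟨d, rfl⟩ := Int.eq_ofNat_of_zero_le hn'.le
    exact ⟨d, by exact_mod_cast hn', hr⟩
  choose e he hf using hd
  refine ⟨⟨t.card, fun l => t.equivFin.symm l, e, he, hf, fun l => ?_⟩, ?_⟩
  · rw [hI]; exact Ideal.subset_span (htsub (t.equivFin.symm l).2)
  · show Ideal.span (Set.range fun l => (t.equivFin.symm l : R)) = I
    rw [hI, show Ideal.span (⋃ n ∈ Set.Ioi (0 : ℤ), (𝒜 n : Set R)) = Submodule.span R (t : Set R) from ht]
    congr 1
    ext x
    exact ⟨fun ⟨l, hl⟩ => hl ▸ (t.equivFin.symm l).2, fun hx => ⟨t.equivFin ⟨x, hx⟩, by simp⟩⟩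

/-- A *injective module is split along generators. -/
theorem nonempty_good [IsNoetherianRing R] {I : Ideal R} (G : Gens 𝒜 I)
    (hG : Ideal.span (Set.range G.f) = I) (W : GMod.{u} 𝒜) (hW : IsStarInj 𝒜 W.gr) :
    Nonempty (Good G W) := by
  obtain ⟨p0, q, h1, h2, h3, h4, h5⟩ := exists_good_aux G.L G.f G.e G.hf G.he W hW
  exact ⟨⟨p0, q, h1, h2, h3, h4, fun x => by have := h5 x; rwa [hG] at this⟩⟩

end Groth.Agent.GrInj.SegK
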