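import Mathlib
import Groth.Agent.GrInj.LES
import Groth.Agent.S13215
import Groth.Agent.S13224
import Groth.Agent.S13225

/-!
# Finiteness and vanishing of the pieces of graded local cohomology
-/

set_option autoImplicit false
set_option linter.unusedSectionVars false
universe u

namespace Groth.Agent.GrInj

open GrLC

variable {R : Type u} [CommRing R] [IsNoetherianRing R] {𝒜 : ℤ → AddSubgroup R} [GradedRing 𝒜]
variable {M : Type u} [AddCommGroup M] [Module R M] {ℳ : ℤ → AddSubgroup M} [DirectSum.Decomposition ℳ]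
  [SetLike.GradedSMul 𝒜 ℳ]

variable (𝒜) in
/-- The pieces of a Noetherian graded module are Noetherian over the degree zero subring. -/
theorem isNoetherian_piece [IsNoetherian R M] (n : ℤ) : IsNoetherian (deg0 𝒜) (comp 𝒜 ℳ n) := by
  let Φ : Submodule (deg0 𝒜) (comp 𝒜 ℳ n) → Submodule R M := fun S =>
    Submodule.span R ((fun x : comp 𝒜 ℳ n => (x : M)) '' S)
  have key : ∀ S (x : comp 𝒜 ℳ n), (x : M) ∈ Φ S → x ∈ S := by
    intro S x hx
    have h : ∀ y ∈ Φ S, ∀ r : R, (⟨pr ℳ n (r • y), pr_mem n _⟩ : comp 𝒜 ℳ n) ∈ S := by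
      intro y hy
      induction hy using Submodule.span_induction with
      | mem y hy =>
        obtain ⟨z, hz, rfl⟩ := hy
        intro r
        have h : (⟨pr ℳ n (r • (z : M)), pr_mem n _⟩ : comp 𝒜 ℳ n) =
            (⟨pr 𝒜 0 r, pr_mem 0 r⟩ : deg0 𝒜) • z := Subtype.ext (by
          show pr ℳ n (r • (z : M)) = pr 𝒜 0 r • (z : M)
          have h := pr_map (ℳ := 𝒜) (𝒩 := ℳ) (f := (smulAddHom R M).flip (z : M)) (d := n)
            (fun g b hb => smul_mem_gr hb z.2) 0 r
          rw [zero_add] at h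
          exact h)
        rw [h]; exact S.smul_mem _ hz
      | zero =>
        intro r
        rw [show (⟨pr ℳ n (r • (0 : M)), pr_mem n _⟩ : comp 𝒜 ℳ n) = 0 from
          Subtype.ext (by show pr ℳ n (r • (0 : M)) = 0; rw [smul_zero, map_zero])]
        exact zero_mem _
      | add b c _ _ hb hc =>
        intro r
        rw [show (⟨pr ℳ n (r • (b + c)), pr_mem n _⟩ : comp 𝒜 ℳ n) =
          ⟨pr ℳ n (r • b), pr_mem n _⟩ + ⟨pr ℳ n (r • c), pr_mem n _⟩ from
            Subtype.ext (by show pr ℳ n (r • (b + c)) = _ + _; rw [smul_add, map_add])]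
        exact add_mem (hb r) (hc r)
      | smul q b _ hb =>
        intro r
        rw [show (⟨pr ℳ n (r • q • b), pr_mem n _⟩ : comp 𝒜 ℳ n) = ⟨pr ℳ n ((r * q) • b), pr_mem n _⟩ from
          Subtype.ext (by show pr ℳ n (r • q • b) = pr ℳ n ((r * q) • b); rw [mul_smul])]
        exact hb _
    have := h _ hx 1
    rwa [show (⟨pr ℳ n ((1 : R) • (x : M)), pr_mem n _⟩ : comp 𝒜 ℳ n) = x from
      Subtype.ext (by show pr ℳ n ((1 : R) • (x : M)) = x; rw [one_smul, pr_of_mem x.2])] at this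
  exact isNoetherian_iff'.2 ((OrderEmbedding.ofMapLEIff Φ fun S T =>
    ⟨fun h x hx => key T x (SetLike.le_def.1 h (Submodule.subset_span ⟨x, hx, rfl⟩)),
      fun h => Submodule.span_mono (Set.image_mono h)⟩).wellFoundedGT)

variable (a : HomogeneousIdeal 𝒜) (hpos : ∀ n : ℤ, n < 0 → 𝒜 n = ⊥)
  (ha : a.toIdeal = Ideal.span (⋃ n ∈ Set.Ioi (0 : ℤ), (𝒜 n : Set R)))

include hpos ha in
theorem mem_a {n : ℤ} {r : R} (hn : n ≠ 0) (hr : r ∈ 𝒜 n) : r ∈ a.toIdeal := by
  rcases lt_or_gt_of_ne hn with h | h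
  · rw [hpos n h, AddSubgroup.mem_bot] at hr; rw [hr]; exact zero_mem _
  · rw [ha]; exact Ideal.subset_span (Set.mem_biUnion (Set.mem_Ioi.2 h) hr)

include hpos ha in
/-- A finitely generated module killed by a power of `R₊` lives in degrees bounded above. -/
theorem exists_bound_of_pow : ∀ (k : ℕ) (X : GMod.{u} 𝒜) [Module.Finite R X.carrier],
    (∀ r ∈ a.toIdeal ^ k, ∀ x : X.carrier, r • x = 0) → ∃ D : ℤ, ∀ n, D ≤ n → ∀ x ∈ X.gr n, x = 0 := by
  intro k
  induction k with
  | zero =>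
    exact fun X _ h => ⟨0, fun n _ x _ => by rw [← one_smul R x]; exact h 1 (by simp) x⟩
  | succ k ih =>
    intro X _ h
    classical
    let P : Submodule R X.carrier := a.toIdeal • ⊤
    have hP : P.IsHomogeneous X.gr := fun i x hx => by
      show pr X.gr i x ∈ P
      refine Submodule.smul_induction_on (p := fun y => pr X.gr i y ∈ P) hx (fun r hr y hy => ?_)
        (fun y z hy hz => ?_)
      · rw [← sum_supp (ℳ := 𝒜) r, Finset.sum_smul, map_sum]
        refine sum_mem fun d _ => ?_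
        rw [pr_smul' (pr_mem d r)]
        exact Submodule.smul_mem_smul (a.isHomogeneous d hr) Submodule.mem_top
      · rw [map_add]; exact add_mem hy hz
    haveI : Module.Finite R (subMod 𝒜 P hP).carrier := Module.Finite.iff_fg.2 (IsNoetherian.noetherian P)
    obtain ⟨D, hD⟩ := ih (subMod 𝒜 P hP) fun r hr x => by
      refine subInc_injective (𝒜 := 𝒜) hP ?_
      rw [map_smul, map_zero]
      have hx : subInc 𝒜 P hP x ∈ P := (range_subInc (𝒜 := 𝒜) hP).le ⟨x, rfl⟩
      refine Submodule.smul_induction_on (p := fun y => r • y = 0) hx (fun s hs y _ => ?_)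
        fun y z hy hz => by rw [smul_add, hy, hz, add_zero]
      rw [smul_smul]
      exact h _ (by rw [pow_succ]; exact Ideal.mul_mem_mul hr hs) y
    obtain ⟨N, deg, v, hv, hspan⟩ := exists_hom_gens (R := R) (ℳ := X.gr)
    obtain ⟨B, hB⟩ := Finite.exists_le deg
    refine ⟨max D (B + 1), fun n hn x hx => ?_⟩
    have hxP : x ∈ P := by
      obtain ⟨c, hc⟩ := (Submodule.mem_span_range_iff_exists_fun R).1
        (show x ∈ Submodule.span R (Set.range v) by rw [hspan]; trivial)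
      rw [← pr_of_mem hx, ← hc, map_sum]
      refine sum_mem fun j _ => ?_
      have h' := pr_map (ℳ := 𝒜) (𝒩 := X.gr) (f := (smulAddHom R X.carrier).flip (v j)) (d := deg j)
        (fun g b hb => smul_mem_gr hb (hv j)) (n - deg j) (c j)
      rw [sub_add_cancel] at h'
      rw [show pr X.gr n (c j • v j) = pr 𝒜 (n - deg j) (c j) • v j from h']
      exact Submodule.smul_mem_smul (mem_a a hpos ha (by have := hB j; omega) (pr_mem _ _)) Submodule.mem_top
    have h0 := hD n (le_trans (le_max_left _ _) hn) ⟨x, hxP⟩ hx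
    exact congrArg Subtype.val h0

/-- A finitely generated submodule of torsion elements is killed by one power. -/
theorem exists_pow_gam (I : Ideal R) (X : Type u) [AddCommGroup X] [Module R X] [IsNoetherian R X] :
    ∃ k : ℕ, ∀ r ∈ I ^ k, ∀ x ∈ gam I X, r • x = 0 := by
  classical
  obtain ⟨s, hs⟩ := IsNoetherian.noetherian (gam I X)
  have hmem : ∀ x : s, (x : X) ∈ gam I X := fun x => hs ▸ Submodule.subset_span x.2
  choose k hk using hmem
  refine ⟨Finset.univ.sup k, fun r hr x hx => ?_⟩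
  rw [← hs] at hx
  induction hx using Submodule.span_induction with
  | mem y hy => exact hk ⟨y, hy⟩ r (Ideal.pow_le_pow_right (Finset.le_sup (Finset.mem_univ _)) hr)
  | zero => rw [smul_zero]
  | add b c _ _ hb hc => rw [smul_add, hb, hc, add_zero]
  | smul q b _ hb => rw [smul_comm, hb, smul_zero]

include hpos ha in
/-- Homogeneous prime avoidance in positive degree. -/
theorem exists_avoid (S : Finset (Ideal R))
    (hS : ∀ p ∈ S, p.IsPrime ∧ p.IsHomogeneous 𝒜 ∧ ¬ a.toIdeal ≤ p) :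
    ∃ (f : R) (e : ℤ), 0 < e ∧ f ∈ 𝒜 e ∧ ∀ p ∈ S, f ∉ p := by
  classical
  induction S using Finset.strongInduction with
  | H S ih =>
    rcases S.eq_empty_or_nonempty with rfl | hne
    · exact ⟨0, 1, one_pos, zero_mem _, by simp⟩
    obtain ⟨p, hp, hmin⟩ := S.exists_minimal hne
    obtain ⟨hpp, hph, hpo⟩ := hS p hp
    obtain ⟨f, e, he, hfe, hf⟩ := ih (S.erase p) (Finset.erase_ssubset hp)
      fun q hq => hS q (Finset.mem_of_mem_erase hq)
    by_cases hfp : f ∈ p
    swap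
    · refine ⟨f, e, he, hfe, fun q hq => ?_⟩
      rcases eq_or_ne q p with rfl | hqp
      · exact hfp
      · exact hf q (Finset.mem_erase.2 ⟨hqp, hq⟩)
    obtain ⟨y, ⟨d, hd, hyd⟩, hyp⟩ : ∃ y, (∃ n : ℤ, 0 < n ∧ y ∈ 𝒜 n) ∧ y ∉ p := by
      by_contra hcon
      push Not at hcon
      refine hpo (ha ▸ Ideal.span_le.2 fun x hx => ?_)
      obtain ⟨n, hn, hxn⟩ := Set.mem_iUnion₂.1 hx
      exact hcon x ⟨n, hn, hxn⟩
    have key : ∀ T ⊆ S.erase p, ∃ (g : R) (m : ℤ), 0 ≤ m ∧ g ∈ 𝒜 m ∧ g ∉ p ∧ ∀ q ∈ T, g ∈ q := by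
      intro T hT
      induction T using Finset.induction with
      | empty =>
        exact ⟨1, 0, le_rfl, SetLike.one_mem_graded 𝒜,
          fun h1 => hpp.ne_top ((Ideal.eq_top_iff_one _).2 h1), by simp⟩
      | insert q T _ iht =>
        obtain ⟨g, m, hm, hgm, hgp, hg⟩ := iht ((Finset.subset_insert q T).trans hT)
        obtain ⟨hqp, hqS⟩ := Finset.mem_erase.1 (hT (Finset.mem_insert_self q T))
        obtain ⟨i, x, hx, hxq, hxp⟩ : ∃ (i : ℤ) (x : R), x ∈ 𝒜 i ∧ x ∈ q ∧ x ∉ p := by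
          by_contra hcon
          push Not at hcon
          refine hqp (le_antisymm ?_ (hmin hqS ?_))
          all_goals
            intro x hx
            rw [← DirectSum.sum_support_decompose 𝒜 x]
            exact p.sum_mem fun i _ => hcon i _ (SetLike.coe_mem _) ((hS q hqS).2.1 i hx)
        have hi : 0 ≤ i := by
          by_contra hi
          rw [hpos i (by omega), AddSubgroup.mem_bot] at hx
          exact hxp (hx ▸ p.zero_mem)
        refine ⟨g * x, m + i, by omega, SetLike.GradedMul.mul_mem hgm hx,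
          fun hgx => (hpp.mem_or_mem hgx).elim hgp hxp, fun q' hq' => ?_⟩
        rcases Finset.mem_insert.1 hq' with rfl | hq'
        · exact q'.mul_mem_left _ hxq
        · exact q'.mul_mem_right _ (hg q' hq')
    obtain ⟨g, m, hm, hgm, hgp, hg⟩ := key _ subset_rfl
    have hG : g * y ∈ 𝒜 (m + d) := SetLike.GradedMul.mul_mem hgm hyd
    have ha' : 0 < (m + d).toNat := by omega
    have hb : 0 < e.toNat := by omega
    refine ⟨f ^ (m + d).toNat + (g * y) ^ e.toNat, e * (m + d), mul_pos he (by omega),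
      add_mem ?_ ?_, fun q hq hmem => ?_⟩
    · have := SetLike.pow_mem_graded (m + d).toNat hfe
      rwa [nsmul_eq_mul, Int.toNat_of_nonneg (by omega), mul_comm] at this
    · have := SetLike.pow_mem_graded e.toNat hG
      rwa [nsmul_eq_mul, Int.toNat_of_nonneg he.le] at this
    · obtain ⟨hqp', -, -⟩ := hS q hq
      rcases eq_or_ne q p with rfl | hqp
      · have := (Ideal.add_mem_iff_right q (q.pow_mem_of_mem hfp _ ha')).1 hmem
        rcases hpp.mem_or_mem (hpp.mem_of_pow_mem _ this) with h' | h'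
        · exact hgp h'
        · exact hyp h'
      · have hq' := Finset.mem_erase.2 ⟨hqp, hq⟩
        have := (Ideal.add_mem_iff_left q
          (q.pow_mem_of_mem (q.mul_mem_right _ (hg q hq')) _ hb)).1 hmem
        exact hf q hq' (hqp'.mem_of_pow_mem _ this)

include hpos ha in
/-- Without torsion, some homogeneous element of positive degree is a non-zero-divisor. -/
theorem exists_regular (X : Type u) [AddCommGroup X] [Module R X] [Module.Finite R X] (h : gam a.toIdeal X = ⊥) :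
    ∃ (x : R) (d : ℤ), 0 < d ∧ x ∈ 𝒜 d ∧ IsSMulRegular X x := by
  classical
  have hfin := associatedPrimes.finite R X
  have hnle : ∀ p ∈ associatedPrimes R X, ¬ a.toIdeal ≤ p := by
    intro p hp hle
    obtain ⟨hp', y, hy⟩ := (isAssociatedPrime_iff (R := R) (M := X)).1 hp
    have hy0 : y = 0 := by
      rw [← Submodule.mem_bot (R := R), ← h]
      refine ⟨1, fun r hr => ?_⟩
      have hr' : r ∈ p := hle (by rwa [pow_one] at hr)
      rw [hy, Submodule.mem_colon_singleton, Submodule.mem_bot] at hr'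
      exact hr'
    exact hp'.ne_top (by rw [hy, hy0]; simp)
  let S : Finset (Ideal R) := hfin.toFinset.image fun p => (p.homogeneousCore 𝒜).toIdeal
  obtain ⟨x, d, hd, hx, hxS⟩ := exists_avoid a hpos ha S (fun q hq => by
    obtain ⟨p, hp, rfl⟩ := Finset.mem_image.1 hq
    have hp' := (hfin.mem_toFinset).1 hp
    refine ⟨Ideal.IsPrime.homogeneousCore hp'.toIsPrime, (p.homogeneousCore 𝒜).isHomogeneous, fun hle => ?_⟩
    exact hnle p hp' (hle.trans (Ideal.toIdeal_homogeneousCore_le 𝒜 p)))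
  refine ⟨x, d, hd, hx, isSMulRegular_iff_right_eq_zero_of_smul.2 fun y hy => ?_⟩
  by_contra hy0
  have hmem : x ∈ ⋃ p ∈ associatedPrimes R X, (p : Set R) := by
    rw [biUnion_associatedPrimes_eq_zero_divisors]; exact ⟨y, hy0, hy⟩
  obtain ⟨p, hp, hxp⟩ := Set.mem_iUnion₂.1 hmem
  refine hxS _ (Finset.mem_image_of_mem _ (hfin.mem_toFinset.2 hp)) ?_
  exact Ideal.mem_homogeneousCore_of_homogeneous_of_mem ⟨d, hx⟩ hxp

/-! ### Pieces -/

/-- A linear map carrying a piece into a piece. -/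
noncomputable def pieceMap {A B : Type u} [AddCommGroup A] [Module R A] [AddCommGroup B] [Module R B]
    {S : Submodule (deg0 𝒜) A} {S' : Submodule (deg0 𝒜) B} (u : A →ₗ[R] B) (h : ∀ x ∈ S, u x ∈ S') :
    S →ₗ[deg0 𝒜] S' :=
  (u.restrictScalars (deg0 𝒜)).restrict h

theorem Hcomp_comp {ι : Type} [AddCommGroup ι] [DecidableEq ι] {R : Type u} [CommRing R]
    {𝒜 : ι → AddSubgroup R} [GradedRing 𝒜] {M : Type u} [AddCommGroup M] [Module R M]
    {ℳ : ι → AddSubgroup M} [DirectSum.Decomposition ℳ] [SetLike.GradedSMul 𝒜 ℳ]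
    {N : Type u} [AddCommGroup N] [Module R N] {𝒩 : ι → AddSubgroup N} [DirectSum.Decomposition 𝒩]
    [SetLike.GradedSMul 𝒜 𝒩] {E : StarInjRes 𝒜 ℳ} {F : StarInjRes 𝒜 𝒩} {a : HomogeneousIdeal 𝒜} {i j : ℕ}
    {g : ι} (u : E.H a i →ₗ[R] F.H a j) (hu : IsGrHom (E.Hgr a i) (F.Hgr a j) u) :
    ∀ x ∈ E.Hcomp a i g, u x ∈ F.Hcomp a j g := fun x hx => hu g x hx

/-- An element of positive degree acting on pieces. -/
theorem smul_mem_Hcomp (E : StarInjRes 𝒜 ℳ) {a : HomogeneousIdeal 𝒜} {i : ℕ} {d m : ℤ} {x : R}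
    (hx : x ∈ 𝒜 d) {c : E.H a i} (hc : c ∈ E.Hcomp a i m) : x • c ∈ E.Hcomp a i (d + m) := by
  obtain ⟨z, hz, rfl⟩ := hc
  exact ⟨x • z, (E.X i).gsmul.smul_mem hx hz, map_smul _ _ _⟩

theorem subsingleton_of_torsion {E : StarInjRes 𝒜 ℳ} (h : LocCoh.IsPowerTorsion a.toIdeal M) (k : ℕ) :
    Subsingleton (E.H a (k + 1)) := by
  obtain ⟨e⟩ := S13224.succ_case E a k
  haveI : Subsingleton (LocCoh.H a.toIdeal (k + 1) M) :=
    LocCohLib.subsingleton_of_isPowerTorsion k (ModuleCat.of R M) h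
  exact e.injective.subsingleton

/-- The property proved by induction on the cohomological degree. -/
def GoodPieces (a : HomogeneousIdeal 𝒜) (i : ℕ) : Prop :=
  ∀ (X : GMod.{u} 𝒜) [Module.Finite R X.carrier] (E : StarInjRes 𝒜 X.gr),
    (∀ n, IsNoetherian (deg0 𝒜) (E.Hcomp a i n)) ∧ ∃ r : ℤ, ∀ n, r ≤ n → E.Hcomp a i n = ⊥

include hpos ha in
theorem goodPieces_zero : GoodPieces a 0 := by
  intro X _ E
  let G : Submodule R X.carrier := gam a.toIdeal X.carrier
  have hG : G.IsHomogeneous X.gr := S13225.gam_homogeneous a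
  have hlift : ∀ n, ∀ c ∈ E.Hcomp a 0 n, ∃ m ∈ X.gr n, ∃ hm : m ∈ G,
      c = E.toH a 0 ⟨E.ε m, gam_map _ E.ε hm, d_aug E m⟩ := by
    rintro n _ ⟨⟨z, hz, hd⟩, hzn, rfl⟩
    obtain ⟨m, rfl⟩ := E.exact_zero.le hd
    obtain ⟨k, hk⟩ := hz
    exact ⟨m, inverse_grHom E.ε_grHom E.ε_injective hzn,
      ⟨k, fun r hr => E.ε_injective (by rw [map_smul, hk r hr, map_zero])⟩, rfl⟩
  refine ⟨fun n => ?_, ?_⟩
  · haveI := isNoetherian_piece 𝒜 (ℳ := X.gr) n
    let T : Submodule (deg0 𝒜) (comp 𝒜 X.gr n) := (G.restrictScalars (deg0 𝒜)).comap (comp 𝒜 X.gr n).subtype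
    let θ : T →ₗ[deg0 𝒜] E.Hcomp a 0 n :=
      { toFun := fun m => ⟨E.toH a 0 ⟨E.ε m.1.1, gam_map _ E.ε m.2, d_aug E m.1.1⟩,
          ⟨⟨E.ε m.1.1, gam_map _ E.ε m.2, d_aug E m.1.1⟩, E.ε_grHom n _ m.1.2, rfl⟩⟩
        map_add' := fun p q => Subtype.ext (by
          show E.toH a 0 _ = E.toH a 0 _ + E.toH a 0 _
          rw [← map_add]; exact congrArg _ (Subtype.ext (map_add E.ε p.1.1 q.1.1)))
        map_smul' := fun r p => Subtype.ext (by
          show E.toH a 0 _ = (r : R) • E.toH a 0 _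
          rw [← map_smul]; exact congrArg _ (Subtype.ext (map_smul E.ε (r : R) p.1.1))) }
    refine isNoetherian_of_surjective θ (LinearMap.range_eq_top.2 ?_)
    rintro ⟨c, hc⟩
    obtain ⟨m, hmn, hm, rfl⟩ := hlift n c hc
    exact ⟨⟨⟨m, hmn⟩, hm⟩, rfl⟩
  · haveI : Module.Finite R (subMod 𝒜 G hG).carrier := Module.Finite.iff_fg.2 (IsNoetherian.noetherian G)
    obtain ⟨k, hk⟩ := exists_pow_gam a.toIdeal X.carrier
    obtain ⟨D, hD⟩ := exists_bound_of_pow a hpos ha k (subMod 𝒜 G hG) fun r hr x => by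
      refine subInc_injective (𝒜 := 𝒜) hG ?_
      rw [map_smul, map_zero]
      exact hk r hr _ ((range_subInc (𝒜 := 𝒜) hG).le ⟨x, rfl⟩)
    refine ⟨D, fun n hn => eq_bot_iff.2 fun c hc => ?_⟩
    obtain ⟨m, hmn, hm, rfl⟩ := hlift n c hc
    have h0 : m = 0 := congrArg Subtype.val (hD n hn ⟨m, hm⟩ hmn)
    subst h0
    rw [Submodule.mem_bot]
    exact (congrArg (E.toH a 0) (Subtype.ext (map_zero E.ε))).trans (map_zero _)

include hpos ha in
theorem goodPieces_torsionFree {i : ℕ} (hi : GoodPieces a i) (Q : GMod.{u} 𝒜) [Module.Finite R Q.carrier]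
    (htf : gam a.toIdeal Q.carrier = ⊥) (E : StarInjRes 𝒜 Q.gr) :
    (∀ n, IsNoetherian (deg0 𝒜) (E.Hcomp a (i + 1) n)) ∧
      ∃ r : ℤ, ∀ n, r ≤ n → E.Hcomp a (i + 1) n = ⊥ := by
  obtain ⟨x, d, hd, hx, hreg⟩ := exists_regular a hpos ha Q.carrier htf
  haveI : SetLike.GradedSMul 𝒜 Q.gr := Q.gsmul
  have hf : IsGrHom (shGr Q.gr d) Q.gr (LinearMap.lsmul R Q.carrier x) := grHom_lsmul hx
  let P : Submodule R Q.carrier := LinearMap.range (LinearMap.lsmul R Q.carrier x)
  have hP : P.IsHomogeneous Q.gr := hom_range hf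
  haveI : Module.Finite R (quoMod 𝒜 P hP).carrier := inferInstanceAs (Module.Finite R (Q.carrier ⧸ P))
  obtain ⟨F⟩ := S13215.result R 𝒜 (quoMod 𝒜 P hP).carrier (quoMod 𝒜 P hP).gr
  obtain ⟨hFn, r₀, hr₀⟩ := hi (quoMod 𝒜 P hP) F
  obtain ⟨δ, hδ, -, hexA, -, -⟩ := exists_les (a := a) (f := LinearMap.lsmul R Q.carrier x)
    (g := quoMk 𝒜 P hP) (grHom_quoMk hP) (Submodule.mkQ_surjective P) (Submodule.ker_mkQ P) E
    (shiftRes E d) F hf hreg
  -- the connecting map, into the unshifted module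
  let δ' : F.H a i →ₗ[R] E.H a (i + 1) := δ i
  have hδ' : ∀ m, ∀ y ∈ F.Hcomp a i (m + d), δ' y ∈ E.Hcomp a (i + 1) m := fun m y hy => by
    have h := (mem_shiftRes_Hgr (E := E) (d := d) a).1 (hδ i (m + d) y hy)
    rwa [add_sub_cancel_right] at h
  have hker : ∀ m, ∀ c ∈ E.Hcomp a (i + 1) m, x • c = 0 → ∃ y ∈ F.Hcomp a i (m + d), δ' y = c := by
    intro m c hc hxc
    have hind : ind (shiftRes E d) E a (LinearMap.lsmul R Q.carrier x) hf (i + 1)
        (c : (shiftRes E d).H a (i + 1)) = 0 := (ind_lsmul a hx (i + 1) _).trans hxc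
    have hmem := (SetLike.ext_iff.1 (hexA i) _).1 (LinearMap.mem_ker.2 hind)
    obtain ⟨y, hy⟩ := hmem
    letI := (S13225.isInternal_Hgr F a i).chooseDecomposition
    letI := (S13225.isInternal_Hgr (shiftRes E d) a (i + 1)).chooseDecomposition
    refine ⟨pr (F.Hgr a i) (m + d) y, pr_mem (ℳ := F.Hgr a i) (m + d) y, ?_⟩
    show δ i (pr (F.Hgr a i) (m + d) y) = c
    rw [← pr_grHom (hδ i), hy]
    refine pr_of_mem ?_
    exact (mem_shiftRes_Hgr a).2 (by rw [add_sub_cancel_right]; exact hc)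
  have hvan : ∀ m, r₀ - d ≤ m → E.Hcomp a (i + 1) m = ⊥ := by
    have hinj : ∀ m, r₀ - d ≤ m → ∀ c ∈ E.Hcomp a (i + 1) m, x • c = 0 → c = 0 := fun m hm c hc hxc => by
      obtain ⟨y, hy, rfl⟩ := hker m c hc hxc
      rw [hr₀ (m + d) (by omega), Submodule.mem_bot] at hy
      rw [hy, map_zero]
    have hall : ∀ k : ℕ, ∀ m, r₀ - d ≤ m → ∀ c ∈ E.Hcomp a (i + 1) m, x ^ k • c = 0 → c = 0 := by
      intro k
      induction k with
      | zero => exact fun m _ c _ h => by rwa [pow_zero, one_smul] at h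
      | succ k ih =>
        intro m hm c hc h
        refine hinj m hm c hc (ih (d + m) (by omega) _ (smul_mem_Hcomp E hx hc) ?_)
        rw [smul_smul, ← pow_succ]; exact h
    intro m hm
    refine eq_bot_iff.2 fun c hc => (Submodule.mem_bot _).2 ?_
    obtain ⟨z, hz, rfl⟩ := hc
    obtain ⟨k, hk⟩ := z.2.1
    refine hall k m hm _ ⟨z, hz, rfl⟩ ?_
    rw [← map_smul, show x ^ k • z = 0 from
      Subtype.ext (hk _ (Ideal.pow_mem_pow (mem_a a hpos ha hd.ne' hx) k)), map_zero]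
  refine ⟨fun n => ?_, r₀ - d, hvan⟩
  suffices H : ∀ t : ℕ, ∀ m, r₀ - d - t ≤ m → IsNoetherian (deg0 𝒜) (E.Hcomp a (i + 1) m) from
    H (r₀ - d - n).toNat n (by omega)
  intro t
  induction t with
  | zero =>
    intro m hm
    haveI : Subsingleton (E.Hcomp a (i + 1) m) := by
      rw [hvan m (by omega)]; infer_instance
    infer_instance
  | succ t ih =>
    intro m hm
    haveI := hFn (m + d)
    haveI := ih (d + m) (by omega)
    refine isNoetherian_of_range_eq_ker (pieceMap δ' (hδ' m))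
      (pieceMap (LinearMap.lsmul R (E.H a (i + 1)) x) fun c hc => smul_mem_Hcomp E hx hc) (le_antisymm ?_ ?_)
    · rintro _ ⟨y, rfl⟩
      refine LinearMap.mem_ker.2 (Subtype.ext ?_)
      have hmem : δ i y.1 ∈ LinearMap.ker (ind (shiftRes E d) E a _ hf (i + 1)) := (hexA i).ge ⟨y.1, rfl⟩
      exact (ind_lsmul (E := E) (d := d) a hx (i + 1) (δ i y.1)).symm.trans hmem
    · intro c hc
      obtain ⟨y, hy, hyc⟩ := hker m c.1 c.2 (congrArg Subtype.val hc)
      exact ⟨⟨y, hy⟩, Subtype.ext hyc⟩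

include hpos ha in
/-- Finiteness and vanishing in high degrees of the pieces, in every cohomological degree. -/
theorem goodPieces : ∀ i, GoodPieces a i
  | 0 => goodPieces_zero a hpos ha
  | i + 1 => by
    intro X _ E
    let G : Submodule R X.carrier := gam a.toIdeal X.carrier
    have hG : G.IsHomogeneous X.gr := S13225.gam_homogeneous a
    haveI : Module.Finite R (quoMod 𝒜 G hG).carrier := inferInstanceAs (Module.Finite R (X.carrier ⧸ G))
    obtain ⟨EG⟩ := S13215.result R 𝒜 (subMod 𝒜 G hG).carrier (subMod 𝒜 G hG).gr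
    obtain ⟨EQ⟩ := S13215.result R 𝒜 (quoMod 𝒜 G hG).carrier (quoMod 𝒜 G hG).gr
    obtain ⟨k, hk⟩ := exists_pow_gam a.toIdeal X.carrier
    have htf : gam a.toIdeal (quoMod 𝒜 G hG).carrier = ⊥ := by
      refine eq_bot_iff.2 fun q hq => ?_
      obtain ⟨y, rfl⟩ := Submodule.mkQ_surjective G q
      obtain ⟨l, hl⟩ := hq
      refine (Submodule.mem_bot R).2 ((Submodule.Quotient.mk_eq_zero G).2 ⟨k + l, fun r hr => ?_⟩)
      rw [pow_add] at hr
      refine Submodule.mul_induction_on hr (fun p hp q hq => ?_)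
        fun p q hp hq => by rw [add_smul, hp, hq, add_zero]
      rw [mul_smul]
      exact hk p hp _ ((Submodule.Quotient.mk_eq_zero G).1 ((map_smul G.mkQ q y).trans (hl q hq)))
    obtain ⟨hQn, r, hr⟩ := goodPieces_torsionFree a hpos ha (goodPieces i) (quoMod 𝒜 G hG) htf EQ
    obtain ⟨δ, -, -, -, hexB, -⟩ := exists_les (a := a) (f := subInc 𝒜 G hG) (g := quoMk 𝒜 G hG)
      (grHom_quoMk hG) (Submodule.mkQ_surjective G)
      ((Submodule.ker_mkQ G).trans (range_subInc (𝒜 := 𝒜) hG).symm) E EG EQ (grHom_subInc hG)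
      (subInc_injective hG)
    haveI : Subsingleton (EG.H a (i + 1)) := by
      refine subsingleton_of_torsion a (fun y => ?_) i
      obtain ⟨l, hl⟩ := y.2
      exact ⟨l, fun r hr => Subtype.ext (hl r hr)⟩
    have hinj : Function.Injective (ind E EQ a (quoMk 𝒜 G hG) (grHom_quoMk hG) (i + 1)) := by
      rw [← LinearMap.ker_eq_bot, hexB (i + 1), LinearMap.range_eq_bot]
      exact LinearMap.ext fun y => by rw [Subsingleton.elim y 0, map_zero, map_zero]
    refine ⟨fun n => ?_, r, fun n hn => eq_bot_iff.2 fun c hc => ?_⟩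
    · haveI := hQn n
      exact isNoetherian_of_injective (pieceMap (ind E EQ a (quoMk 𝒜 G hG) (grHom_quoMk hG) (i + 1))
        (Hcomp_comp (g := n) _ (ind_grHom a (grHom_quoMk hG) (i + 1))))
        fun p q hpq => Subtype.ext (hinj (congrArg Subtype.val hpq))
    · have h := Hcomp_comp (g := n) _ (ind_grHom a (E := E) (F := EQ) (grHom_quoMk hG) (i + 1)) c hc
      rw [hr n hn, Submodule.mem_bot] at h
      exact (Submodule.mem_bot _).2 (hinj (h.trans (map_zero _).symm))

include hpos ha in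
/-- One bound for all cohomological degrees. -/
theorem exists_uniform_bound (X : GMod.{u} 𝒜) [Module.Finite R X.carrier] (E : StarInjRes 𝒜 X.gr) :
    ∃ r : ℤ, ∀ (i : ℕ) (n : ℤ), r ≤ n → E.Hcomp a i n = ⊥ := by
  classical
  obtain ⟨s, hs⟩ := IsNoetherian.noetherian a.toIdeal
  choose r hr using fun i => (goodPieces a hpos ha i X E).2
  refine ⟨∑ i ∈ Finset.range (s.card + 1), max (r i) 0, fun i n hn => ?_⟩
  by_cases hi : i ≤ s.card
  · refine hr i n (le_trans (le_trans (le_max_left _ (0 : ℤ)) ?_) hn)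
    exact Finset.single_le_sum (f := fun i => max (r i) 0) (fun _ _ => le_max_right _ _)
      (Finset.mem_range.2 (by omega))
  · obtain ⟨j, rfl⟩ : ∃ j, i = j + 1 := ⟨i - 1, by omega⟩
    obtain ⟨e⟩ := S13224.succ_case E a j
    have hsub : Subsingleton (LocCoh.H a.toIdeal (j + 1) X.carrier) := by
      have h := LocCohLib.subsingleton_of_card_lt s (j + 1) (by omega) (ModuleCat.of R X.carrier)
      rwa [show Ideal.span (s : Set R) = a.toIdeal from hs] at h
    exact eq_bot_iff.2 fun c _ => (Submodule.mem_bot _).2 (e.injective (Subsingleton.elim _ _))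

end Groth.Agent.GrInj
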