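import Mathlib
import Groth.Agent.GrInj.FreeReg
import Groth.Agent.GrInj.TopDim
import Groth.Agent.LocCohLib.CdLE
import Groth.Agent.LocCohLib.LocMap

/-!
# Right exactness of top local cohomology
-/

set_option autoImplicit false
universe u

namespace Groth.Agent.GrInj

open GrLC CategoryTheory

variable {R : Type u} [CommRing R] [IsNoetherianRing R]

theorem map_sum_apply {I : Ideal R} {i : ℕ} {M M' : ModuleCat.{u} R} {ι : Type} (s : Finset ι) (g : ι → (M ⟶ M'))
    (w : (localCohomology I i).obj M) :
    (localCohomology I i).map (∑ j ∈ s, g j) w = ∑ j ∈ s, (localCohomology I i).map (g j) w := by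
  classical
  obtain ⟨n, x, rfl⟩ := LocCohLib.exists_cl w
  induction s using Finset.induction_on with
  | empty =>
    rw [Finset.sum_empty, Finset.sum_empty, LocCohLib.map_cl, Abelian.Ext.mk₀_zero, Abelian.Ext.comp_zero, map_zero]
  | insert b t hb ih =>
    rw [Finset.sum_insert hb, Finset.sum_insert hb, ← ih, LocCohLib.map_cl, LocCohLib.map_cl, LocCohLib.map_cl,
      Abelian.Ext.mk₀_add, Abelian.Ext.comp_add, map_add]

/-- Top local cohomology is killed modulo an ideal of smaller dimensional quotient. -/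
theorem span_smul_top_localCohomology (I : Ideal R) (d : ℕ) (hd : ringKrullDim R = d) {N : ℕ} (f : Fin N → R)
    (hf : ringKrullDim (R ⧸ Ideal.span (Set.range f)) < d) (w : LocCoh.H I d R) :
    w ∈ Ideal.span (Set.range f) • (⊤ : Submodule R (LocCoh.H I d R)) := by
  open LocCohLib in
  let π : (Fin N → R) →ₗ[R] R := Fintype.linearCombination R f
  have hrange : LinearMap.range π = Ideal.span (Set.range f) := Fintype.range_linearCombination R f
  let M : ModuleCat.{u} R := ModuleCat.of R R
  let F : ModuleCat.{u} R := ModuleCat.of R (Fin N → R)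
  let K : ShortComplex (ModuleCat.{u} R) := ShortComplex.mk (ModuleCat.ofHom (LinearMap.ker π).subtype)
    (ModuleCat.ofHom (X := Fin N → R) π.rangeRestrict)
    (ModuleCat.hom_ext (LinearMap.ext fun x => Subtype.ext x.2))
  let C : ShortComplex (ModuleCat.{u} R) := ShortComplex.mk (ModuleCat.ofHom (LinearMap.range π).subtype)
    (ModuleCat.ofHom (X := R) (LinearMap.range π).mkQ)
    (ModuleCat.hom_ext (LinearMap.ext fun x => (Submodule.Quotient.mk_eq_zero _).2 x.2))
  have hK : K.ShortExact :=
    { exact := (ShortComplex.ShortExact.moduleCat_exact_iff_function_exact _).2 fun x =>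
        ⟨fun h => ⟨⟨x, congrArg Subtype.val h⟩, rfl⟩, by rintro ⟨y, rfl⟩; exact Subtype.ext y.2⟩
      mono_f := (ModuleCat.mono_iff_injective _).2 (LinearMap.ker π).injective_subtype
      epi_g := (ModuleCat.epi_iff_surjective _).2 π.surjective_rangeRestrict }
  have hC : C.ShortExact :=
    { exact := (ShortComplex.ShortExact.moduleCat_exact_iff_function_exact _).2 fun x =>
        ⟨fun h => ⟨⟨x, (Submodule.Quotient.mk_eq_zero _).1 h⟩, rfl⟩, by
          rintro ⟨y, rfl⟩; exact (Submodule.Quotient.mk_eq_zero _).2 y.2⟩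
      mono_f := (ModuleCat.mono_iff_injective _).2 (LinearMap.range π).injective_subtype
      epi_g := (ModuleCat.epi_iff_surjective _).2 (Submodule.mkQ_surjective _) }
  have h1 : Subsingleton ((localCohomology I (d + 1)).obj K.X₁) :=
    LocCohLib.subsingleton_of_dimLt I (d + 1) _ (LocCohLib.DimLt.of_supportDim
      ((Module.supportDim_le_ringKrullDim R _).trans_lt (by rw [hd]; exact_mod_cast Nat.lt_succ_self d)))
  have h2 : Subsingleton ((localCohomology I d).obj C.X₃) :=
    LocCohLib.subsingleton_of_dimLt I d _ (LocCohLib.DimLt.of_supportDim (by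
      show Module.supportDim R (R ⧸ LinearMap.range π) < _
      rw [Module.supportDim_quotient_eq_ringKrullDim, hrange]
      exact hf))
  obtain ⟨v, rfl⟩ := LocCohLib.exact₂ hC w (h2.elim _ _)
  obtain ⟨x, rfl⟩ := LocCohLib.exact₃ hK v (h1.elim _ _)
  let p : Fin N → (F ⟶ M) := fun i => ModuleCat.ofHom (LinearMap.proj i)
  have he : K.g ≫ C.f = ∑ i, p i ≫ (f i • 𝟙 M) := ModuleCat.hom_ext (LinearMap.ext fun c => by
    rw [ModuleCat.hom_sum, LinearMap.sum_apply]
    show π c = ∑ i, f i • c i
    rw [Fintype.linearCombination_apply]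
    exact Finset.sum_congr rfl fun i _ => mul_comm _ _)
  rw [show (localCohomology I d).map C.f ((localCohomology I d).map K.g x) =
    (localCohomology I d).map (K.g ≫ C.f) x by rw [Functor.map_comp]; rfl, he]
  rw [map_sum_apply]
  refine sum_mem fun i _ => ?_
  rw [Functor.map_comp]
  show (localCohomology I d).map (f i • 𝟙 M) ((localCohomology I d).map (p i) x) ∈ _
  rw [LocCohLib.map_smul_id]
  exact Submodule.smul_mem_smul (Ideal.subset_span ⟨i, rfl⟩) Submodule.mem_top

variable {𝒜 : ℤ → AddSubgroup R} [GradedRing 𝒜]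

/-- The graded version. -/
theorem span_smul_top_H (a : HomogeneousIdeal 𝒜) {d : ℕ} (hd : ringKrullDim R = (d + 1 : ℕ)) {N : ℕ} (f : Fin N → R)
    (hf : ringKrullDim (R ⧸ Ideal.span (Set.range f)) < (d + 1 : ℕ)) (E : StarInjRes 𝒜 𝒜) (c : E.H a (d + 1)) :
    c ∈ Ideal.span (Set.range f) • (⊤ : Submodule R (E.H a (d + 1))) := by
  obtain ⟨e⟩ := S13224.succ_case E a d
  have h := Submodule.mem_map_of_mem (f := e.symm.toLinearMap) (span_smul_top_localCohomology a.toIdeal _ hd f hf (e c))
  rw [Submodule.map_smul'', LinearEquiv.coe_coe, e.symm_apply_apply] at h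
  exact Submodule.smul_mono le_rfl le_top h

end Groth.Agent.GrInj
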