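import Groth.Agent.GrInj.AcyclicGr
import Groth.Agent.GrInj.TopDim
import Groth.Agent.LocCohLib.BaseRing

/-!
# Veronese submodules and graded local cohomology
-/

set_option autoImplicit false
set_option linter.unusedSectionVars false
universe u

namespace Groth.Agent.GrInj

open GrLC LocCohLib

variable {R R' : Type u} [CommRing R] [CommRing R'] [Algebra R' R]
  {𝒜 : ℤ → AddSubgroup R} [GradedRing 𝒜] {𝒜' : ℤ → AddSubgroup R'} [GradedRing 𝒜'] {q : ℕ}

variable (𝒜' q) in
/-- The degree condition on a map of a Veronese subring. -/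
def IsVero (𝒜 : ℤ → AddSubgroup R) : Prop :=
  ∀ j : ℤ, (𝒜' j).map (algebraMap R' R : R' →+ R) = 𝒜 (j * q)

theorem IsVero.map_mem (h : IsVero 𝒜' q 𝒜) {j : ℤ} {r : R'} (hr : r ∈ 𝒜' j) :
    algebraMap R' R r ∈ 𝒜 (j * q) := (h j).le ⟨r, hr, rfl⟩

section Vero
variable (X : GMod.{u} 𝒜)

/-- The degrees divisible by `q`. -/
def veroSub (q : ℕ) : AddSubgroup X.carrier := ⨆ j : ℤ, X.gr (j * q)

/-- The projection to the degrees divisible by `q`. -/
noncomputable def vPr (q : ℕ) : X.carrier →+ X.carrier :=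
  (DirectSum.toAddMonoid fun g : ℤ => if (q : ℤ) ∣ g then (X.gr g).subtype else 0).comp
    (DirectSum.decomposeAddEquiv X.gr).toAddMonoidHom

theorem vPr_of_mem {g : ℤ} {x : X.carrier} (hx : x ∈ X.gr g) :
    vPr X q x = if (q : ℤ) ∣ g then x else 0 := by
  show DirectSum.toAddMonoid (fun g : ℤ => if (q : ℤ) ∣ g then (X.gr g).subtype else 0)
    (DirectSum.decompose X.gr x) = _
  rw [DirectSum.decompose_of_mem _ hx, DirectSum.toAddMonoid_of]
  split <;> rfl

theorem vPr_mem (x : X.carrier) : vPr X q x ∈ veroSub X q := by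
  induction x using induction X.gr with
  | h0 => rw [map_zero]; exact zero_mem _
  | hh g m hm =>
    rw [vPr_of_mem X hm]
    split_ifs with h
    · obtain ⟨j, rfl⟩ := h
      exact le_iSup (fun j : ℤ => X.gr (j * q)) j (by rwa [mul_comm])
    · exact zero_mem _
  | hadd a b ha hb => rw [map_add]; exact add_mem ha hb

theorem vPr_id {x : X.carrier} (hx : x ∈ veroSub X q) : vPr X q x = x := by
  refine AddSubgroup.iSup_induction _ (C := fun x => vPr X q x = x) hx (fun j y hy => ?_) (map_zero _)
    fun a b ha hb => by rw [map_add, ha, hb]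
  rw [vPr_of_mem X hy, if_pos (dvd_mul_left _ _)]

variable (h : IsVero 𝒜' q 𝒜)

include h in
theorem vPr_smul (r : R') (x : X.carrier) :
    vPr X q (algebraMap R' R r • x) = algebraMap R' R r • vPr X q x := by
  induction r using induction 𝒜' generalizing x with
  | h0 => rw [map_zero, zero_smul, zero_smul, map_zero]
  | hh d r hr =>
    induction x using induction X.gr with
    | h0 => rw [smul_zero, map_zero, smul_zero]
    | hh g m hm =>
      rw [vPr_of_mem X hm, vPr_of_mem X (smul_mem_gr (h.map_mem hr) hm)]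
      by_cases hg : (q : ℤ) ∣ g
      · rw [if_pos hg, if_pos ((dvd_add_right (dvd_mul_left _ d)).2 hg)]
      · rw [if_neg hg, if_neg (mt (dvd_add_right (dvd_mul_left _ d)).1 hg), smul_zero]
    | hadd a b ha hb => rw [smul_add, map_add, ha, hb, map_add, smul_add]
  | hadd a b ha hb => rw [map_add, add_smul, add_smul, map_add, ha, hb]

include h in
theorem smul_mem_veroSub (r : R') {x : X.carrier} (hx : x ∈ veroSub X q) :
    algebraMap R' R r • x ∈ veroSub X q := by
  rw [← vPr_id X hx, ← vPr_smul X h]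
  exact vPr_mem X _

/-- The Veronese submodule as a module over the Veronese subring. -/
noncomputable abbrev veroMod : Module R' (veroSub X q) where
  smul r x := ⟨algebraMap R' R r • x.1, smul_mem_veroSub X h r x.2⟩
  one_smul x := Subtype.ext (show algebraMap R' R 1 • x.1 = x.1 by rw [map_one, one_smul])
  mul_smul r s x := Subtype.ext (show algebraMap R' R (r * s) • x.1 = _ by rw [map_mul, mul_smul]; rfl)
  smul_zero r := Subtype.ext (smul_zero (algebraMap R' R r))
  smul_add r x y := Subtype.ext (smul_add (algebraMap R' R r) x.1 y.1)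
  add_smul r s x := Subtype.ext (show algebraMap R' R (r + s) • x.1 = _ by rw [map_add, add_smul]; rfl)
  zero_smul x := Subtype.ext (show algebraMap R' R 0 • x.1 = 0 by rw [map_zero, zero_smul])

/-- The pieces of the Veronese submodule. -/
def veroGr (q : ℕ) (j : ℤ) : AddSubgroup (veroSub X q) :=
  (X.gr (j * q)).comap (veroSub X q).subtype

theorem isInternal_veroGr (hq : 0 < q) : DirectSum.IsInternal (veroGr X q) := by
  refine isInternal_of _ (fun j => AddMonoidHom.mk' (fun x => (⟨pr X.gr (j * q) x.1,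
      le_iSup (fun j : ℤ => X.gr (j * q)) j (pr_mem _ _)⟩ : veroSub X q))
      fun a b => Subtype.ext (map_add _ a.1 b.1))
    (fun j x hx => Subtype.ext (pr_of_mem hx))
    (fun i j hij x hx => Subtype.ext (pr_of_ne hx fun e => hij (mul_right_cancel₀ (by omega) e))) ?_
  rintro ⟨x, hx⟩
  refine AddSubgroup.iSup_induction' _ (C := fun x hx => (⟨x, hx⟩ : veroSub X q) ∈ ⨆ j, veroGr X q j)
    (fun j y hy => le_iSup (veroGr X q) j (show (y : X.carrier) ∈ X.gr (j * q) from hy)) (zero_mem _)
    (fun a b _ _ ha hb => add_mem ha hb) hx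

/-- The Veronese submodule as a graded module. -/
noncomputable def vero (hq : 0 < q) : GMod.{u} 𝒜' :=
  @GMod.mk _ _ _ _ _ _ _ _ 𝒜' _ (veroSub X q) _ (veroMod X h) (veroGr X q)
    (isInternal_veroGr X hq).chooseDecomposition
    (letI := veroMod X h
     gsmul_mk fun i j r hr x hx => by
      show algebraMap R' R r • x.1 ∈ X.gr ((i + j) * q)
      rw [add_mul]
      exact smul_mem_gr (h.map_mem hr) hx)

/-- The inclusion of the Veronese submodule. -/
noncomputable def veroIncl (hq : 0 < q) : (vero X h hq).carrier →+ X.carrier := (veroSub X q).subtype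

theorem veroIncl_injective (hq : 0 < q) : Function.Injective (veroIncl X h hq) := Subtype.val_injective

theorem veroIncl_smul (hq : 0 < q) (r : R') (x : (vero X h hq).carrier) :
    veroIncl X h hq (r • x) = algebraMap R' R r • veroIncl X h hq x := rfl

theorem mem_vero_gr (hq : 0 < q) {j : ℤ} {x : (vero X h hq).carrier} :
    x ∈ (vero X h hq).gr j ↔ veroIncl X h hq x ∈ X.gr (j * q) := Iff.rfl

theorem exists_veroIncl (hq : 0 < q) {j : ℤ} {y : X.carrier} (hy : y ∈ X.gr (j * q)) :
    ∃ x ∈ (vero X h hq).gr j, veroIncl X h hq x = y :=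
  ⟨⟨y, le_iSup (fun j : ℤ => X.gr (j * q)) j hy⟩, hy, rfl⟩

/-- The Veronese submodule is a retract of the restriction of scalars. -/
theorem acyclic_vero [IsNoetherianRing R] [IsNoetherianRing R'] (hq : 0 < q) (I : Ideal R')
    (hX : Acyclic (I.map (algebraMap R' R)) (ModuleCat.of R X.carrier)) :
    Acyclic I (ModuleCat.of R' (vero X h hq).carrier) := by
  let E := (res R' R).obj (ModuleCat.of R X.carrier)
  let s : (vero X h hq).carrier →ₗ[R'] E :=
    { toFun := veroIncl X h hq, map_add' := fun a b => map_add _ a b, map_smul' := fun _ _ => rfl }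
  let r : E →ₗ[R'] (vero X h hq).carrier :=
    { toFun := fun x => (⟨vPr X q x, vPr_mem X x⟩ : veroSub X q)
      map_add' := fun a b => Subtype.ext (map_add (vPr X q) a b)
      map_smul' := fun c x => Subtype.ext (vPr_smul X h c x) }
  refine acyclic_of_retract (Y := E) (fun k => ?_) s r (LinearMap.ext fun x => Subtype.ext (vPr_id X x.2))
  obtain ⟨e⟩ := nonempty_resEquiv I (k + 1) (ModuleCat.of R X.carrier)
  haveI : Subsingleton ((res R' R).obj ((localCohomology (I.map (algebraMap R' R)) (k + 1)).obj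
    (ModuleCat.of R X.carrier))) := hX k
  exact e.symm.injective.subsingleton

end Vero

theorem exists_veroMap {X Y : GMod.{u} 𝒜} (h : IsVero 𝒜' q 𝒜) (hq : 0 < q) (f : X.carrier →ₗ[R] Y.carrier)
    (hf : IsGrHom X.gr Y.gr f) : ∃ g : (vero X h hq).carrier →ₗ[R'] (vero Y h hq).carrier,
      IsGrHom (vero X h hq).gr (vero Y h hq).gr g ∧ ∀ x, veroIncl Y h hq (g x) = f (veroIncl X h hq x) := by
  have hmem : ∀ x : veroSub X q, f x.1 ∈ veroSub Y q := fun x =>
    AddSubgroup.iSup_induction _ (C := fun x => f x ∈ veroSub Y q) x.2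
      (fun j y hy => le_iSup (fun j : ℤ => Y.gr (j * q)) j (hf _ y hy)) (by rw [map_zero]; exact zero_mem _)
      fun a b ha hb => by rw [map_add]; exact add_mem ha hb
  exact ⟨{ toFun := fun x => (⟨f (veroIncl X h hq x), hmem x⟩ : veroSub Y q)
           map_add' := fun a b => Subtype.ext (map_add f _ _)
           map_smul' := fun c x => Subtype.ext (map_smul f (algebraMap R' R c) _) },
    fun j x hx => hf _ _ hx, fun _ => rfl⟩

theorem isNoetherianRing_vero [IsNoetherianRing R] (h : IsVero 𝒜' q 𝒜) (hq : 0 < q)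
    (hinj : Function.Injective (algebraMap R' R)) : IsNoetherianRing R' := by
  classical
  let X : GMod.{u} 𝒜 := GMod.of 𝒜 R 𝒜
  have hR : ∀ x ∈ veroSub X q, ∃ c : R', algebraMap R' R c = x := fun x hx =>
    AddSubgroup.iSup_induction _ (C := fun x => ∃ c : R', algebraMap R' R c = x) hx
      (fun j y hy => by obtain ⟨c, -, hc⟩ := (h j).ge hy; exact ⟨c, hc⟩) ⟨0, map_zero _⟩
      fun a b ⟨c, hc⟩ ⟨c', hc'⟩ => ⟨c + c', by rw [map_add, hc, hc']⟩
  choose π hπ using fun x : R => hR (vPr X q x) (vPr_mem X x)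
  have hπ' : ∀ (c : R') (x : R), π (algebraMap R' R c * x) = c * π x := fun c x => hinj (by
    rw [hπ, map_mul, hπ]
    exact vPr_smul X h c x)
  have hπ0 : π 0 = 0 := hinj ((hπ 0).trans ((map_zero (vPr X q)).trans (map_zero (algebraMap R' R)).symm))
  have hπa : ∀ x y, π (x + y) = π x + π y := fun x y => hinj (by rw [hπ, map_add (algebraMap R' R), hπ, hπ]; exact map_add _ x y)
  have hπ1 : π 1 = 1 := hinj (by
    rw [hπ, map_one]
    exact vPr_id X (le_iSup (fun j : ℤ => X.gr (j * q)) 0 (by rw [zero_mul]; exact SetLike.one_mem_graded 𝒜)))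
  have key : ∀ I : Ideal R', (I.map (algebraMap R' R)).comap (algebraMap R' R) = I := by
    intro I
    refine le_antisymm (fun x hx => ?_) Ideal.le_comap_map
    have h1 : ∀ y ∈ I.map (algebraMap R' R), ∀ r : R, π (r * y) ∈ I := by
      intro y hy
      induction hy using Submodule.span_induction with
      | mem y hy =>
        obtain ⟨c, hc, rfl⟩ := hy
        exact fun r => by rw [mul_comm r, hπ']; exact I.mul_mem_right _ hc
      | zero => exact fun r => by rw [mul_zero, hπ0]; exact zero_mem _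
      | add b c _ _ hb hc => exact fun r => by rw [mul_add, hπa]; exact add_mem (hb r) (hc r)
      | smul t b _ hb => exact fun r => by rw [smul_eq_mul, ← mul_assoc]; exact hb _
    have h2 := h1 _ hx 1
    rwa [one_mul, ← mul_one (algebraMap R' R x), hπ', hπ1, mul_one] at h2
  exact isNoetherianRing_iff.2 (isNoetherian_iff'.2 ((OrderEmbedding.ofMapLEIff
    (fun I : Ideal R' => I.map (algebraMap R' R)) fun I J =>
      ⟨fun h => by rw [← key I, ← key J]; exact Ideal.comap_mono h, fun h => Ideal.map_mono h⟩).wellFoundedGT))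

theorem map_isHomogeneous (h : IsVero 𝒜' q 𝒜) (a : HomogeneousIdeal 𝒜') :
    (a.toIdeal.map (algebraMap R' R)).IsHomogeneous 𝒜 := by
  have hs : a.toIdeal.map (algebraMap R' R) =
      Ideal.span (algebraMap R' R '' ((a : Set R') ∩ ⋃ j, (𝒜' j : Set R'))) := by
    refine le_antisymm (Ideal.map_le_iff_le_comap.2 fun x hx => ?_)
      (Ideal.span_le.2 ?_)
    · rw [Ideal.mem_comap, ← sum_supp (ℳ := 𝒜') x, map_sum]
      exact sum_mem fun j _ => Ideal.subset_span
        ⟨_, ⟨a.isHomogeneous j hx, Set.mem_iUnion.2 ⟨j, pr_mem j x⟩⟩, rfl⟩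
    · rintro _ ⟨c, hc, rfl⟩
      exact Ideal.mem_map_of_mem _ hc.1
  rw [hs]
  refine Ideal.homogeneous_span 𝒜 _ ?_
  rintro _ ⟨c, ⟨-, hc⟩, rfl⟩
  obtain ⟨j, hj⟩ := Set.mem_iUnion.1 hc
  exact ⟨j * q, h.map_mem hj⟩

end Groth.Agent.GrInj
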