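import Mathlib
import Groth.Agent.GrInj.Veronese
import Groth.Agent.GrInj.GorDual
import Groth.Agent.DimTrdeg.Basic

/-!
# Local cohomology of Veronese subrings with its module structure
-/

set_option autoImplicit false
universe u

namespace Groth.Agent.GrInj

open GrLC

variable {R R' : Type u} [CommRing R] [CommRing R'] [Algebra R' R]
  {𝒜 : ℤ → AddSubgroup R} [GradedRing 𝒜] {𝒜' : ℤ → AddSubgroup R'} [GradedRing 𝒜'] {q : ℕ}
  {m : HomogeneousIdeal 𝒜} {m' : HomogeneousIdeal 𝒜'}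

theorem vPr_grHom {X Y : GMod.{u} 𝒜} (f : X.carrier →ₗ[R] Y.carrier) (hf : IsGrHom X.gr Y.gr f)
    (x : X.carrier) : vPr Y q (f x) = f (vPr X q x) := by
  induction x using GrInj.induction X.gr with
  | h0 => simp only [map_zero]
  | hh g m hm =>
    rw [vPr_of_mem X hm, vPr_of_mem Y (hf g m hm)]
    split_ifs <;> simp
  | hadd a b ha hb => simp only [map_add, ha, hb]

theorem mem_gam_vero [IsNoetherianRing R] [IsNoetherianRing R'] (h : IsVero 𝒜' q 𝒜) (hq : 0 < q) (X : GMod.{u} 𝒜) (I : Ideal R')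
    (x : (vero X h hq).carrier) :
    x ∈ gam I (vero X h hq).carrier ↔ veroIncl X h hq x ∈ gam (I.map (algebraMap R' R)) X.carrier := by
  refine exists_congr fun k => ?_
  rw [← Ideal.map_pow]
  refine Iff.trans ?_ (LocCohLib.annihilated_map_iff (R := R') (R' := R) (I ^ k) (ModuleCat.of R X.carrier)
    (veroIncl X h hq x)).symm
  refine forall₂_congr fun r _ => ?_
  exact ⟨fun hx => (veroIncl_smul X h hq r x).symm.trans ((congrArg _ hx).trans (map_zero _)),
    fun hx => veroIncl_injective X h hq ((veroIncl_smul X h hq r x).trans (hx.trans (map_zero _).symm))⟩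

/-! ### The Veronese subring -/

variable (h : IsVero 𝒜' q 𝒜) (hq : 0 < q) (hinj : Function.Injective (algebraMap R' R))
  (hpos : ∀ n : ℤ, n < 0 → 𝒜 n = ⊥)

include h hq hinj hpos in
theorem vero_pos (j : ℤ) (hj : j < 0) : 𝒜' j = ⊥ :=
  (AddSubgroup.eq_bot_iff_forall _).2 fun r hr => hinj (by
    rw [map_zero]
    exact AddSubgroup.mem_bot.1 ((hpos _ (mul_neg_of_neg_of_pos hj (by exact_mod_cast hq))).le (h.map_mem hr)))

include h hinj in
theorem exists_deg0Equiv : ∃ φ₀ : deg0 𝒜' ≃+* deg0 𝒜, ∀ r, ((φ₀ r : deg0 𝒜) : R) = algebraMap R' R (r : R') := by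
  let φ₀ : deg0 𝒜' →+* deg0 𝒜 :=
    ((algebraMap R' R).comp (deg0 𝒜').subtype).codRestrict (deg0 𝒜) fun r => by
      show algebraMap R' R r.1 ∈ 𝒜 0
      have := h.map_mem (j := 0) r.2
      rwa [zero_mul] at this
  have hφ₀ : Function.Bijective φ₀ := by
    refine ⟨fun r s hrs => Subtype.ext (hinj (congrArg Subtype.val hrs)), fun r => ?_⟩
    obtain ⟨c, hc, hcr⟩ := (h 0).ge (show r.1 ∈ 𝒜 (0 * q) by rw [zero_mul]; exact r.2)
    exact ⟨⟨c, hc⟩, Subtype.ext hcr⟩
  exact ⟨RingEquiv.ofBijective φ₀ hφ₀, fun r => rfl⟩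

include h hinj in
theorem vero_field (h0 : IsField (deg0 𝒜)) : IsField (deg0 𝒜') := by
  obtain ⟨φ₀, -⟩ := exists_deg0Equiv h hinj
  exact φ₀.toMulEquiv.isField h0

include h hq hinj hpos in
theorem vero_dim [IsNoetherianRing R]
    (hmsp : m.toIdeal = Ideal.span (⋃ n ∈ Set.Ioi (0 : ℤ), (𝒜 n : Set R))) : ringKrullDim R' = ringKrullDim R := by
  haveI : Algebra.IsIntegral R' R := ⟨fun x => by
    induction x using GrInj.induction 𝒜 with
    | h0 => exact isIntegral_zero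
    | hh i x hx =>
      have hxq : x ^ q ∈ 𝒜 (i * q) := by
        have := SetLike.pow_mem_graded (A := 𝒜) q hx
        rwa [nsmul_eq_mul, mul_comm] at this
      obtain ⟨c, -, hc⟩ := (h i).ge hxq
      exact IsIntegral.of_pow hq (hc ▸ isIntegral_algebraMap)
    | hadd a b ha hb => exact ha.add hb⟩
  exact (DimTrdeg.ringKrullDim_eq_of_isIntegral R' R hinj).symm

include h hq in
theorem vero_radical (hmsp : m.toIdeal = Ideal.span (⋃ n ∈ Set.Ioi (0 : ℤ), (𝒜 n : Set R)))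
    (hm'sp : m'.toIdeal = Ideal.span (⋃ j ∈ Set.Ioi (0 : ℤ), (𝒜' j : Set R'))) :
    (m'.toIdeal.map (algebraMap R' R)).radical = m.toIdeal.radical := by
  refine le_antisymm (Ideal.radical_mono ?_) (Ideal.radical_le_radical_iff.2 ?_)
  · rw [hm'sp, Ideal.map_span, Ideal.span_le, hmsp]
    rintro _ ⟨c, hc, rfl⟩
    simp only [Set.mem_iUnion] at hc
    obtain ⟨i, hi, hc⟩ := hc
    refine Ideal.subset_span (Set.mem_biUnion (x := i * q) ?_ (h.map_mem hc))
    exact mul_pos (Set.mem_Ioi.1 hi) (by exact_mod_cast hq)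
  · rw [hmsp, Ideal.span_le]
    intro x hx
    simp only [Set.mem_iUnion] at hx
    obtain ⟨i, hi, hx⟩ := hx
    have hxq : x ^ q ∈ 𝒜 (i * q) := by
      have := SetLike.pow_mem_graded (A := 𝒜) q hx
      rwa [nsmul_eq_mul, mul_comm] at this
    obtain ⟨c, hc, hcx⟩ := (h i).ge hxq
    refine ⟨q, hcx ▸ Ideal.mem_map_of_mem _ ?_⟩
    rw [hm'sp]
    exact Ideal.subset_span (Set.mem_biUnion hi hc)

/-! ### The comparison map -/

variable [IsNoetherianRing R] [IsNoetherianRing R']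

include h hq hinj in
/-- Local cohomology of the Veronese subring inside that of the ring. -/
theorem exists_veroH (hrad : (m'.toIdeal.map (algebraMap R' R)).radical = m.toIdeal.radical)
    (E : StarInjRes 𝒜 𝒜) (F : StarInjRes 𝒜' 𝒜') (p : ℕ) :
    ∃ Ξ : F.H m' p →+ E.H m p, Function.Injective Ξ ∧ (∀ (r : R') x, Ξ (r • x) = algebraMap R' R r • Ξ x) ∧
      (∀ j, ∀ x ∈ F.Hgr m' p j, Ξ x ∈ E.Hgr m p (j * q)) ∧
      ∀ j, ∀ c ∈ E.Hgr m p (j * q), ∃ x ∈ F.Hgr m' p j, Ξ x = c := by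
  classical
  let a : HomogeneousIdeal 𝒜 := ⟨m'.toIdeal.map (algebraMap R' R), map_isHomogeneous h m'⟩
  have hgam : ∀ (X : Type u) [AddCommGroup X] [Module R X], gam a.toIdeal X = gam m.toIdeal X :=
    fun X _ _ => gam_congr hrad X
  choose d' hd' hd'c using fun n => exists_veroMap h hq (E.d n) (E.d_grHom n)
  let MM : GMod.{u} 𝒜 := GMod.of 𝒜 R 𝒜
  have hsurj : ∀ y ∈ veroSub MM q, ∃ x : R', algebraMap R' R x = y := fun y hy =>
    AddSubgroup.iSup_induction _ (C := fun y => ∃ x : R', algebraMap R' R x = y) hy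
      (fun j z hz => by obtain ⟨c, -, hc⟩ := (h j).ge hz; exact ⟨c, hc⟩) ⟨0, map_zero _⟩
      fun a b ⟨c, hc⟩ ⟨c', hc'⟩ => ⟨c + c', by rw [map_add, hc, hc']⟩
  have hmemsub : ∀ x : R', algebraMap R' R x ∈ veroSub MM q := fun x => by
    induction x using GrInj.induction 𝒜' with
    | h0 => rw [map_zero]; exact zero_mem _
    | hh i y hy => exact le_iSup (fun j : ℤ => MM.gr (j * q)) i (h.map_mem hy)
    | hadd a b ha hb => rw [map_add]; exact add_mem ha hb
  have hεmem : ∀ x : R', E.ε (algebraMap R' R x) ∈ veroSub (E.X 0) q := fun x => by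
    rw [← vPr_id MM (hmemsub x), show E.ε (vPr MM q (algebraMap R' R x)) = vPr (E.X 0) q (E.ε (algebraMap R' R x)) from
      (vPr_grHom (X := MM) E.ε E.ε_grHom _).symm]
    exact vPr_mem _ _
  let ε' : R' →ₗ[R'] (vero (E.X 0) h hq).carrier :=
    { toFun := fun x => (⟨E.ε (algebraMap R' R x), hεmem x⟩ : veroSub (E.X 0) q)
      map_add' := fun x y => Subtype.ext ((congrArg E.ε (map_add (algebraMap R' R) x y)).trans (map_add E.ε _ _))
      map_smul' := fun r x => Subtype.ext ((congrArg E.ε (map_mul (algebraMap R' R) r x)).trans (map_smul E.ε (algebraMap R' R r) _)) }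
  let Y : AcRes 𝒜' m' :=
    { X := fun n => vero (E.X n) h hq
      d := d'
      ε := ε'
      d_grHom := hd'
      ε_grHom := fun i x hx => E.ε_grHom (i * q) _ (h.map_mem hx)
      ε_injective := fun x y hxy => hinj (E.ε_injective (congrArg (veroIncl (E.X 0) h hq) hxy))
      exact_zero := by
        refine le_antisymm (fun u hu => ?_) ?_
        · obtain ⟨n, hn⟩ := E.exact_zero.le (show E.d 0 (veroIncl (E.X 0) h hq u) = 0 by
            rw [← hd'c, LinearMap.mem_ker.1 hu, map_zero])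
          obtain ⟨x, hx⟩ := hsurj _ (vPr_mem MM (q := q) n)
          refine ⟨x, veroIncl_injective (E.X 0) h hq ?_⟩
          show E.ε (algebraMap R' R x) = _
          rw [hx, show E.ε (vPr MM q n) = vPr (E.X 0) q (E.ε n) from
            (vPr_grHom (X := MM) E.ε E.ε_grHom n).symm, hn]
          exact vPr_id (E.X 0) u.2
        · rintro _ ⟨x, rfl⟩
          exact veroIncl_injective (E.X 1) h hq
            ((hd'c 0 _).trans ((E.exact_zero.ge ⟨_, rfl⟩).trans (map_zero _).symm))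
      exact_succ := fun n => by
        refine le_antisymm (fun u hu => ?_) ?_
        · obtain ⟨w, hw⟩ := (E.exact_succ n).le (show E.d (n + 1) (veroIncl (E.X (n + 1)) h hq u) = 0 by
            rw [← hd'c, LinearMap.mem_ker.1 hu, map_zero])
          refine ⟨(⟨vPr (E.X n) q w, vPr_mem _ w⟩ : veroSub (E.X n) q), veroIncl_injective (E.X (n + 1)) h hq ?_⟩
          rw [hd'c]
          show E.d n (vPr (E.X n) q w) = _
          rw [← vPr_grHom (E.d n) (E.d_grHom n), hw]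
          exact vPr_id (E.X (n + 1)) u.2
        · rintro _ ⟨x, rfl⟩
          exact veroIncl_injective (E.X (n + 1 + 1)) h hq
            ((hd'c (n + 1) _).trans ((congrArg _ (hd'c n x)).trans
              (((E.exact_succ n).ge ⟨_, rfl⟩).trans (map_zero _).symm)))
      acyclic := fun n => acyclic_vero (E.X n) h hq m'.toIdeal (S13217.acyclic a (E.starInj n)) }
  obtain ⟨ψ, hψ, hεψ, hc⟩ := exists_lift_res Y.X Y.d Y.d_grHom Y.ε Y.ε_grHom Y.ε_injective Y.exact_zero
    Y.exact_succ F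
  have hc' : ∀ n x, ψ (n + 1) (Y.d n x) = F.d n (ψ n x) := fun n x => LinearMap.congr_fun (hc n) x
  have hε' : ∀ x, ψ 0 (Y.ε x) = F.ε x := fun x => LinearMap.congr_fun hεψ x
  have htor : ∀ n x, x ∈ gam m'.toIdeal (Y.X n).carrier ↔
      veroIncl (E.X n) h hq x ∈ gam m.toIdeal (E.X n).carrier := fun n x => by
    rw [← hgam]; exact mem_gam_vero h hq (E.X n) m'.toIdeal x
  let C : Submodule R' (Y.X p).carrier := gam m'.toIdeal (Y.X p).carrier ⊓ LinearMap.ker (Y.d p)
  let π₁ : C →ₗ[R'] F.H m' p := F.toH m' p ∘ₗ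
    { toFun := fun z => (⟨ψ p z.1, gam_map _ (ψ p) z.2.1, show F.d p (ψ p z.1) = 0 by
        rw [← hc', show Y.d p z.1 = 0 from z.2.2, map_zero]⟩ : F.cocyc m' p)
      map_add' := fun _ _ => Subtype.ext (map_add _ _ _)
      map_smul' := fun r z => Subtype.ext (map_smul (ψ p) r z.1) }
  let π₂ : C →+ E.H m p := (E.toH m p).toAddMonoidHom.comp (AddMonoidHom.mk'
    (fun z => (⟨veroIncl (E.X p) h hq z.1, (htor p z.1).1 z.2.1, show E.d p (veroIncl (E.X p) h hq z.1) = 0 from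
      (hd'c p z.1).symm.trans ((congrArg _ z.2.2).trans (map_zero _))⟩ : E.cocyc m p))
    fun a b => Subtype.ext (map_add (veroIncl (E.X p) h hq) a.1 b.1))
  have hπ₂s : ∀ (r : R') (z : C), π₂ (r • z) = algebraMap R' R r • π₂ z := fun r z =>
    (congrArg (E.toH m p) (Subtype.ext (veroIncl_smul (E.X p) h hq r z.1) :
      (⟨veroIncl (E.X p) h hq (r • z.1), _⟩ : E.cocyc m p) = algebraMap R' R r •
        (⟨veroIncl (E.X p) h hq z.1, (htor p z.1).1 z.2.1, (hd'c p z.1).symm.trans ((congrArg _ z.2.2).trans (map_zero _))⟩ :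
          E.cocyc m p))).trans (map_smul _ _ _)
  have hπ₁surj : Function.Surjective π₁ := fun c => by
    obtain ⟨x, rfl⟩ := Submodule.mkQ_surjective _ c
    obtain ⟨y, hy, hdy, w, hw, hxy⟩ := AcRes.exists_lift_cycle Y F ψ hc' hε' p x.1 x.2.1 x.2.2
    refine ⟨⟨y, hy, hdy⟩, (Submodule.Quotient.eq _).2 ?_⟩
    show ψ p y - x.1 ∈ F.cobdy m' p
    rw [hxy, sub_add_cancel_left]
    exact neg_mem hw
  have hk₁ : ∀ z : C, π₁ z = 0 ↔ z.1 ∈ Y.cob p := fun z => by
    refine (Submodule.Quotient.mk_eq_zero _).trans ⟨fun hz => AcRes.mem_cob_of Y F ψ hc' hε' p z.1 z.2.1 z.2.2 hz,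
      fun hz => ?_⟩
    show ψ p z.1 ∈ F.cobdy m' p
    clear * - hz hc'
    cases p with
    | zero =>
      have h0 : (z.1 : (Y.X 0).carrier) = 0 := (Submodule.mem_bot R').1 hz
      rw [h0, map_zero]; exact zero_mem _
    | succ p =>
      obtain ⟨w, hw, hwz⟩ := hz
      exact ⟨ψ p w, gam_map _ (ψ p) hw, (hc' p w).symm.trans (congrArg _ hwz)⟩
  have hk₂ : ∀ z : C, π₂ z = 0 ↔ z.1 ∈ Y.cob p := fun z => by
    refine (Submodule.Quotient.mk_eq_zero _).trans ?_
    show veroIncl (E.X p) h hq z.1 ∈ E.cobdy m p ↔ _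
    clear * - hd'c htor
    cases p with
    | zero =>
      constructor
      · intro hx
        exact (Submodule.mem_bot R').2 (veroIncl_injective (E.X 0) h hq (((Submodule.mem_bot R).1 hx).trans (map_zero _).symm))
      · intro hx
        rw [(Submodule.mem_bot R').1 hx, map_zero]
        exact zero_mem _
    | succ p =>
      constructor
      · rintro ⟨y, hy, hyx⟩
        have hv : veroIncl (E.X (p + 1)) h hq z.1 = E.d p (vPr (E.X p) q y) := by
          rw [← vPr_grHom (E.d p) (E.d_grHom p), hyx]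
          exact (vPr_id (E.X (p + 1)) z.1.2).symm
        have hvy : vPr (E.X p) q y ∈ gam m.toIdeal (E.X p).carrier := by
          rw [← sum_supp (ℳ := (E.X p).gr) y, map_sum]
          refine sum_mem fun i _ => ?_
          rw [vPr_of_mem _ (pr_mem i y)]
          split_ifs
          exacts [S13225.gam_homogeneous m i hy, zero_mem _]
        refine ⟨(⟨vPr (E.X p) q y, vPr_mem _ y⟩ : veroSub (E.X p) q), (htor p _).2 hvy,
          veroIncl_injective (E.X (p + 1)) h hq ?_⟩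
        rw [hd'c]; exact hv.symm
      · rintro ⟨y, hy, hyx⟩
        exact ⟨veroIncl (E.X p) h hq y, (htor p y).1 hy, (hd'c p y).symm.trans (congrArg _ hyx)⟩
  have hwd : ∀ z z' : C, π₁ z = π₁ z' → π₂ z = π₂ z' := fun z z' he => by
    rw [← sub_eq_zero, ← map_sub, hk₂, ← hk₁, map_sub, he, sub_self]
  let Ξ : F.H m' p →+ E.H m p := AddMonoidHom.mk' (fun x => π₂ (Function.surjInv hπ₁surj x)) fun x x' => by
    rw [← map_add]; exact hwd _ _ (by rw [map_add]; simp only [Function.surjInv_eq hπ₁surj])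
  have hΞ : ∀ z, Ξ (π₁ z) = π₂ z := fun z => hwd _ _ (Function.surjInv_eq hπ₁surj _)
  have hC : ∀ (j : ℤ) (z : C), pr (Y.X p).gr j z.1 ∈ C := fun j z =>
    ⟨S13225.gam_homogeneous m' j z.2.1, hom_ker (Y.d_grHom p) j z.2.2⟩
  letI := (S13225.isInternal_Hgr F m' p).chooseDecomposition
  refine ⟨Ξ, (injective_iff_map_eq_zero Ξ).2 fun x hx => ?_, fun r x => ?_, fun j x hx => ?_, fun j c hc => ?_⟩
  · obtain ⟨z, rfl⟩ := hπ₁surj x
    rw [hΞ, hk₂] at hx
    exact (hk₁ z).2 hx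
  · obtain ⟨z, rfl⟩ := hπ₁surj x
    rw [← map_smul, hΞ, hΞ, hπ₂s]
  · obtain ⟨z, rfl⟩ := hπ₁surj x
    have h1 : ∀ i, π₁ ⟨pr (Y.X p).gr i z.1, hC i z⟩ ∈ F.Hgr m' p i := fun i =>
      ⟨_, hψ p i _ (pr_mem i z.1), rfl⟩
    have h2 : π₁ z = π₁ ⟨pr (Y.X p).gr j z.1, hC j z⟩ := by
      have hz : z = ∑ i ∈ supp (Y.X p).gr z.1, (⟨pr (Y.X p).gr i z.1, hC i z⟩ : C) := Subtype.ext (by
        rw [AddSubmonoidClass.coe_finset_sum]; exact (sum_supp z.1).symm)
      conv_lhs => rw [← pr_of_mem hx, hz, map_sum, map_sum]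
      rw [Finset.sum_eq_single j (fun i _ hi => pr_of_ne (h1 i) hi) fun hns => by
        rw [show (⟨pr (Y.X p).gr j z.1, hC j z⟩ : C) = 0 from Subtype.ext (pr_eq_zero hns), map_zero, map_zero]]
      exact pr_of_mem (h1 j)
    rw [h2, hΞ]
    refine ⟨⟨veroIncl (E.X p) h hq (pr (Y.X p).gr j z.1), (htor p _).1 (hC j z).1, (hd'c p _).symm.trans
      ((congrArg _ (hC j z).2).trans (map_zero _))⟩, ?_, rfl⟩
    exact (mem_vero_gr (E.X p) h hq).1 (pr_mem (ℳ := (Y.X p).gr) j z.1)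
  · obtain ⟨x, hx, rfl⟩ := hc
    obtain ⟨z, hz, hzx⟩ := exists_veroIncl (E.X p) h hq hx
    let w : C := ⟨z, (htor p z).2 (by rw [hzx]; exact x.2.1), veroIncl_injective (E.X (p + 1)) h hq
      ((hd'c p z).trans ((congrArg _ hzx).trans (x.2.2.trans (map_zero _).symm)))⟩
    refine ⟨π₁ w, ⟨_, hψ p j _ hz, rfl⟩, ?_⟩
    rw [hΞ]
    exact congrArg (E.toH m p) (Subtype.ext hzx)

variable (hmsp : m.toIdeal = Ideal.span (⋃ n ∈ Set.Ioi (0 : ℤ), (𝒜 n : Set R)))
  (hm'sp : m'.toIdeal = Ideal.span (⋃ j ∈ Set.Ioi (0 : ℤ), (𝒜' j : Set R')))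

include h hq hinj hpos hmsp hm'sp in
/-- The length of the socle over the Veronese subring when it lives in one degree. -/
theorem length_vero_socle {n : ℕ} (E : StarInjRes 𝒜 𝒜) (F : StarInjRes 𝒜' 𝒜') (j₀ : ℤ)
    (honly : ∀ j, ∀ c ∈ E.Hgr m n (j * q), c ≠ 0 →
      (∀ t : ℤ, 0 < t → ∀ r ∈ 𝒜 (t * q), r • c = 0) → j = j₀)
    (hkill : ∀ c ∈ E.Hgr m n (j₀ * q), ∀ t : ℤ, 0 < t → ∀ r ∈ 𝒜 (t * q), r • c = 0) :
    Module.length R' (Submodule.torsionBySet R' (F.H m' n) m'.toIdeal) =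
      Module.length (deg0 𝒜) (E.Hcomp m n (j₀ * q)) := by
  classical
  obtain ⟨Ξ, hΞi, hΞs, hΞg, hΞg'⟩ := exists_veroH h hq hinj (vero_radical h hq hmsp hm'sp) E F n
  obtain ⟨φ₀, hφ₀⟩ := exists_deg0Equiv h hinj
  letI := (S13225.isInternal_Hgr F m' n).chooseDecomposition
  haveI : SetLike.GradedSMul 𝒜' (F.Hgr m' n) := ⟨fun {i j} r c hr hc => by
    obtain ⟨z, hz, rfl⟩ := hc
    exact ⟨r • z, (F.X n).gsmul.smul_mem hr hz, map_smul _ r z⟩⟩
  let S := Submodule.torsionBySet R' (F.H m' n) m'.toIdeal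
  have hsoc : ∀ x : F.H m' n, x ∈ S ↔ x ∈ F.Hgr m' n j₀ := by
    intro x
    constructor
    · intro hx
      have hk : ∀ j, ∀ s ∈ m'.toIdeal, s • pr (F.Hgr m' n) j x = 0 := by
        intro j s hs
        rw [← sum_supp (ℳ := 𝒜') s, Finset.sum_smul]
        refine Finset.sum_eq_zero fun d _ => ?_
        rw [← pr_smul (pr_mem d s), show pr 𝒜' d s • x = 0 from
          (Submodule.mem_torsionBySet_iff _ _).1 hx ⟨_, m'.isHomogeneous d hs⟩, map_zero]
      have hne : ∀ j, pr (F.Hgr m' n) j x ≠ 0 → j = j₀ := fun j hj => by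
        refine honly j _ (hΞg j _ (pr_mem j x)) (fun h0 => hj (hΞi (h0.trans (map_zero Ξ).symm))) fun t ht r hr => ?_
        obtain ⟨c, hc, rfl⟩ := (h t).ge hr
        refine (hΞs c _).symm.trans ?_
        rw [hk j c (hm'sp ▸ Ideal.subset_span (Set.mem_biUnion (show t ∈ Set.Ioi (0 : ℤ) from ht) hc)), map_zero]
      rw [← sum_supp (ℳ := F.Hgr m' n) x]
      refine sum_mem fun j _ => ?_
      by_cases hj : pr (F.Hgr m' n) j x = 0
      · rw [hj]; exact zero_mem _
      · exact hne j hj ▸ pr_mem j x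
    · intro hx
      refine (Submodule.mem_torsionBySet_iff _ _).2 fun s => ?_
      obtain ⟨s, hs⟩ := s
      show s • x = 0
      have hs' : s ∈ Ideal.span (⋃ j ∈ Set.Ioi (0 : ℤ), (𝒜' j : Set R')) := hm'sp ▸ hs
      clear hs
      induction hs' using Submodule.span_induction with
      | mem y hy =>
        simp only [Set.mem_iUnion] at hy
        obtain ⟨t, ht, hy⟩ := hy
        refine hΞi ?_
        rw [hΞs, map_zero]
        exact hkill _ (hΞg j₀ x hx) t ht _ (h.map_mem hy)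
      | zero => exact zero_smul R' x
      | add p q _ _ hp hq => rw [add_smul, hp, hq, add_zero]
      | smul b p _ hp => rw [smul_eq_mul, mul_smul, hp, smul_zero]
  rw [length_killed (vero_pos h hq hinj hpos) hm'sp S fun r hr x => Subtype.ext
    ((Submodule.mem_torsionBySet_iff _ _).1 x.2 ⟨r, hr⟩)]
  haveI : RingHomSurjective (φ₀ : deg0 𝒜' →+* deg0 𝒜) := ⟨φ₀.surjective⟩
  let θ : S →ₛₗ[(φ₀ : deg0 𝒜' →+* deg0 𝒜)] E.Hcomp m n (j₀ * q) :=
    { toFun := fun x => ⟨Ξ (x : F.H m' n), hΞg j₀ _ ((hsoc _).1 x.2)⟩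
      map_add' := fun x y => Subtype.ext (map_add Ξ _ _)
      map_smul' := fun r x => Subtype.ext ((hΞs (r : R') (x : F.H m' n)).trans (by rw [← hφ₀]; rfl)) }
  have hθ : Function.Bijective θ := by
    refine ⟨fun x y hxy => Subtype.ext (hΞi (congrArg Subtype.val hxy)), fun c => ?_⟩
    obtain ⟨x, hx, hxc⟩ := hΞg' j₀ c.1 c.2
    exact ⟨⟨x, (hsoc x).2 hx⟩, Subtype.ext hxc⟩
  apply WithBot.coe_injective
  rw [Module.coe_length, Module.coe_length,
    Order.krullDim_eq_of_orderIso (Submodule.orderIsoMapComapOfBijective θ hθ)]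

include h hq hinj hmsp hm'sp in
theorem vero_subsingleton (E : StarInjRes 𝒜 𝒜) (F : StarInjRes 𝒜' 𝒜') {i : ℕ}
    (hE : Subsingleton (E.H m i)) : Subsingleton (F.H m' i) := by
  obtain ⟨Ξ, hΞi, -⟩ := exists_veroH h hq hinj (vero_radical h hq hmsp hm'sp) E F i
  exact @Function.Injective.subsingleton _ _ _ hΞi hE

end Groth.Agent.GrInj
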