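import Mathlib
import Groth.Agent.GrInj.VeroH
import Groth.Agent.GrInj.TopQuot
import Groth.Agent.GrInj.Serre

/-!
# Veronese subrings with Gorenstein property: auxiliary facts for the converse
-/

set_option autoImplicit false
universe u

namespace Groth.Agent.GrInj

open GrLC
open scoped Pointwise

variable {R : Type u} [CommRing R] [IsNoetherianRing R] {𝒜 : ℤ → AddSubgroup R} [GradedRing 𝒜] {m : HomogeneousIdeal 𝒜}

theorem exists_endDeg (hpos : ∀ n : ℤ, n < 0 → 𝒜 n = ⊥)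
    (hmsp : m.toIdeal = Ideal.span (⋃ n ∈ Set.Ioi (0 : ℤ), (𝒜 n : Set R))) (E : StarInjRes 𝒜 𝒜) {n : ℕ}
    (hne : ¬ Subsingleton (E.H m n)) : ∃ a : ℤ, endDeg (E.Hgr m n) = ((a : WithTop ℤ) : WithBot (WithTop ℤ)) := by
  classical
  haveI : Module.Finite R (GMod.of 𝒜 R 𝒜).carrier := inferInstanceAs (Module.Finite R R)
  obtain ⟨r, hr⟩ := exists_uniform_bound m hpos hmsp (GMod.of 𝒜 R 𝒜) E
  have hb : ∀ g, E.Hgr m n g ≠ ⊥ → g ≤ r := fun g hg => by
    by_contra hlt
    exact hg ((AddSubgroup.eq_bot_iff_forall _).2 fun c hc => (Submodule.mem_bot _).1 ((hr n g (by omega)).le hc))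
  have hex : ∃ g, E.Hgr m n g ≠ ⊥ := by
    by_contra h
    push Not at h
    letI := (S13225.isInternal_Hgr E m n).chooseDecomposition
    refine hne ⟨fun x y => ?_⟩
    have hz : ∀ c : E.H m n, c = 0 := fun c => by
      rw [← sum_supp (ℳ := E.Hgr m n) c]
      exact Finset.sum_eq_zero fun g _ => AddSubgroup.mem_bot.1 ((h g).le (pr_mem g c))
    rw [hz x, hz y]
  obtain ⟨a, ha, hmax⟩ := Int.exists_greatest_of_bdd (P := fun g => E.Hgr m n g ≠ ⊥) ⟨r, hb⟩ hex
  refine ⟨a, le_antisymm (iSup₂_le fun g hg => ?_) (le_iSup₂_of_le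
    (f := fun (i : ℤ) (_ : E.Hgr m n i ≠ ⊥) => ((i : WithTop ℤ) : WithBot (WithTop ℤ))) a ha le_rfl)⟩
  exact WithBot.coe_le_coe.2 (WithTop.coe_le_coe.2 (hmax g hg))

/-- In dimension at least two a one-dimensional piece of the top local cohomology is followed by a zero piece. -/
theorem eq_zero_of_one_dim (hpos : ∀ n : ℤ, n < 0 → 𝒜 n = ⊥) (h0 : IsField (deg0 𝒜))
    (hstd' : m.toIdeal = Ideal.span ((𝒜 1 : AddSubgroup R) : Set R))
    (hmsp : m.toIdeal = Ideal.span (⋃ n ∈ Set.Ioi (0 : ℤ), (𝒜 n : Set R)))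
    {i : ℕ} (hn : ringKrullDim R = (i + 1 : ℕ)) (h2 : 2 ≤ i + 1) (I : StarInjRes 𝒜 𝒜) {g : ℤ} {c0 : I.H m (i + 1)}
    (hspan : ∀ c ∈ I.Hgr m (i + 1) g, ∃ r : deg0 𝒜, c = (r : R) • c0)
    {h1' : I.H m (i + 1)} (hh1 : h1' ∈ I.Hgr m (i + 1) (g + 1)) : h1' = 0 := by
  classical
  letI := h0.toField
  letI := (S13225.isInternal_Hgr I m (i + 1)).chooseDecomposition
  haveI hgs : SetLike.GradedSMul 𝒜 (I.Hgr m (i + 1)) := ⟨fun {p q} r c hr hc => by
    obtain ⟨z, hz, rfl⟩ := hc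
    exact ⟨r • z, (I.X (i + 1)).gsmul.smul_mem hr hz, map_smul _ r z⟩⟩
  by_contra hh10
  obtain ⟨ψ, hψ⟩ := Submodule.exists_dual_map_eq_bot_of_notMem
    (p := (⊥ : Submodule (deg0 𝒜) (I.H m (i + 1)))) (x := h1') (by simpa using hh10) inferInstance
  let T : comp 𝒜 𝒜 1 →ₗ[deg0 𝒜] deg0 𝒜 :=
    { toFun := fun l => ψ ((l : R) • c0)
      map_add' := fun p q => by
        show ψ (((p : R) + q) • c0) = _
        rw [add_smul, map_add]
      map_smul' := fun r p => by
        show ψ (((r : R) * p) • c0) = r • ψ ((p : R) • c0)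
        rw [← map_smul, mul_smul]; rfl }
  obtain ⟨x1, hx1⟩ : ∃ x1 : comp 𝒜 𝒜 1, ∀ l : comp 𝒜 𝒜 1, ∃ c : deg0 𝒜, T (l - c • x1) = 0 := by
    by_cases hT : ∀ l, T l = 0
    · exact ⟨0, fun l => ⟨0, hT _⟩⟩
    push Not at hT
    obtain ⟨x, hx⟩ := hT
    exact ⟨x, fun l => ⟨T l / T x, by rw [map_sub, map_smul, smul_eq_mul, div_mul_cancel₀ _ hx, sub_self]⟩⟩
  haveI := isNoetherian_piece 𝒜 (M := R) (ℳ := 𝒜) 1
  obtain ⟨N, s, hs⟩ := Submodule.fg_iff_exists_fin_generating_family.1 (IsNoetherian.noetherian (LinearMap.ker T))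
  let f : Fin N → R := fun t => (s t : R)
  let J : Ideal R := Ideal.span (Set.range f)
  have hJ : ∀ l : comp 𝒜 𝒜 1, T l = 0 → (l : R) ∈ J := fun l hl => by
    have h : l ∈ Submodule.span (deg0 𝒜) (Set.range s) := hs.symm ▸ hl
    induction h using Submodule.span_induction with
    | mem x hx => obtain ⟨t, rfl⟩ := hx; exact Ideal.subset_span ⟨t, rfl⟩
    | zero => exact zero_mem _
    | add p q _ _ hp hq => exact add_mem (hp (by simp_all)) (hq (by simp_all))
    | smul r p _ hp => exact J.mul_mem_left (r : R) (hp (by simp_all))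
  have hdimJ : ringKrullDim (R ⧸ J) ≤ 1 := by
    let Φ : Polynomial (deg0 𝒜) →+* R ⧸ J :=
      Polynomial.eval₂RingHom ((Ideal.Quotient.mk J).comp (deg0 𝒜).subtype) (Ideal.Quotient.mk J (x1 : R))
    have hpiece : ∀ t : ℕ, ∀ y ∈ 𝒜 (t : ℤ), Ideal.Quotient.mk J y ∈ Φ.range := by
      intro t
      induction t with
      | zero => intro y hy; exact ⟨Polynomial.C ⟨y, hy⟩, by simp [Φ]⟩
      | succ t ih =>
        intro y hy
        have hym : y ∈ Ideal.span ((𝒜 1 : AddSubgroup R) : Set R) := hstd' ▸ mem_a m hpos hmsp (by omega) hy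
        have hb : ∀ p ∈ Ideal.span ((𝒜 1 : AddSubgroup R) : Set R), ∀ b : R,
            Ideal.Quotient.mk J (pr 𝒜 ((t + 1 : ℕ) : ℤ) (b • p)) ∈ Φ.range := by
          intro p hp
          induction hp using Submodule.span_induction with
          | mem l hl =>
            intro b
            rw [smul_eq_mul, mul_comm, ← smul_eq_mul, pr_smul' (show l ∈ 𝒜 1 from hl), smul_eq_mul, map_mul]
            refine mul_mem ?_ ?_
            · obtain ⟨d, hd⟩ := hx1 ⟨l, hl⟩
              rw [Ideal.Quotient.mk_eq_mk_iff_sub_mem _ _ |>.2 (hJ _ hd : l - (d : R) * (x1 : R) ∈ J)]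
              exact ⟨Polynomial.C d * Polynomial.X, by simp [Φ]; exact (map_mul _ _ _).symm⟩
            · rw [show ((t + 1 : ℕ) : ℤ) - 1 = (t : ℤ) by omega]
              exact ih _ (pr_mem _ b)
          | zero => intro b; rw [smul_zero, map_zero, map_zero]; exact zero_mem _
          | add p q _ _ hp hq => intro b; rw [smul_add, map_add, map_add]; exact add_mem (hp b) (hq b)
          | smul r p _ hp => intro b; rw [smul_smul]; exact hp _
        have := hb y hym 1
        rwa [one_smul, pr_of_mem hy] at this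
    have hΦ : Function.Surjective Φ := fun y => by
      obtain ⟨y, rfl⟩ := Ideal.Quotient.mk_surjective y
      show Ideal.Quotient.mk J y ∈ Φ.range
      rw [← sum_supp (ℳ := 𝒜) y, map_sum]
      refine sum_mem fun d _ => ?_
      rcases lt_or_ge d 0 with hd | hd
      · rw [AddSubgroup.mem_bot.1 ((hpos d hd).le (pr_mem (ℳ := 𝒜) d y)), map_zero]; exact zero_mem _
      · obtain ⟨t, rfl⟩ := Int.eq_ofNat_of_zero_le hd
        exact hpiece t _ (pr_mem _ y)
    refine (ringKrullDim_le_of_surjective Φ hΦ).trans ?_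
    rw [Polynomial.ringKrullDim_of_isNoetherianRing, ringKrullDim_eq_zero_of_field]
    rfl
  have hJlt : ringKrullDim (R ⧸ J) < ((i + 1 : ℕ) : WithBot ℕ∞) :=
    hdimJ.trans_lt (by exact_mod_cast (show 1 < i + 1 by omega))
  have hkill : ∀ c ∈ J • (⊤ : Submodule R (I.H m (i + 1))), ψ (pr (I.Hgr m (i + 1)) (g + 1) c) = 0 := by
    intro c hc
    refine Submodule.smul_induction_on (p := fun z => ψ (pr (I.Hgr m (i + 1)) (g + 1) z) = 0) hc
      (fun r hr z _ => ?_) (fun p q hp hq => by rw [map_add, map_add, hp, hq, add_zero])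
    induction hr using Submodule.span_induction generalizing z with
    | mem r hr =>
      obtain ⟨t, rfl⟩ := hr
      show ψ (pr (I.Hgr m (i + 1)) (g + 1) ((s t : R) • z)) = 0
      rw [pr_smul' (show (s t : R) ∈ 𝒜 1 from (s t).2), add_sub_cancel_right]
      obtain ⟨d, hd⟩ := hspan _ (pr_mem g z)
      rw [hd, smul_comm]
      have hT : T (s t) = 0 := by
        have : s t ∈ LinearMap.ker T := hs ▸ Submodule.subset_span ⟨t, rfl⟩
        exact this
      show ψ (d • ((s t : R) • c0)) = 0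
      rw [map_smul, show ψ ((s t : R) • c0) = 0 from hT, smul_zero]
    | zero => rw [zero_smul, map_zero, map_zero]
    | add p q _ _ hp hq => rw [add_smul, map_add, map_add, hp z trivial, hq z trivial, add_zero]
    | smul b p _ hp => rw [smul_eq_mul, mul_comm, mul_smul]; exact hp (b • z) trivial
  have := hkill h1' (span_smul_top_H m hn f hJlt I h1')
  rw [pr_of_mem (show h1' ∈ I.Hgr m (i + 1) (g + 1) from hh1)] at this
  exact hψ.1 this

theorem pow_le_span_piece (hstd' : m.toIdeal = Ideal.span ((𝒜 1 : AddSubgroup R) : Set R)) (v : ℕ) :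
    m.toIdeal ^ v ≤ Ideal.span ((𝒜 (v : ℤ) : AddSubgroup R) : Set R) := by
  induction v with
  | zero =>
    intro x _
    rw [← mul_one x]
    exact Ideal.mul_mem_left _ _ (Ideal.subset_span (SetLike.one_mem_graded 𝒜))
  | succ v ih =>
    rw [pow_succ]
    refine (Ideal.mul_mono ih hstd'.le).trans ?_
    rw [Ideal.span_mul_span', Ideal.span_le]
    rintro _ ⟨p, hp, q, hq, rfl⟩
    refine Ideal.subset_span ?_
    rw [Nat.cast_succ]
    exact SetLike.mul_mem_graded hp hq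

/-- A compatible family on the generators of an ideal of depth two is a multiplication. -/
theorem exists_mul_eq_of_sym {e : ℤ} {v : ℕ} (η : 𝒜 (v : ℤ) → R) (hη : ∀ w, η w ∈ 𝒜 (e + v))
    (hsym : ∀ w w' : 𝒜 (v : ℤ), (w : R) * η w' = (w' : R) * η w)
    (hdep : (2 : ℕ∞) ≤ LocCoh.idealDepth (Ideal.span ((𝒜 (v : ℤ) : AddSubgroup R) : Set R)) R) :
    ∃ ξ ∈ 𝒜 e, ∀ w : 𝒜 (v : ℤ), η w = (w : R) * ξ := by
  classical
  obtain ⟨X, hX, hXr, Y, hY, hYr⟩ := DepthLib.two_le_idealDepth_iff.1 hdep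
  have hext : ∀ Z ∈ Ideal.span ((𝒜 (v : ℤ) : AddSubgroup R) : Set R),
      ∃ r : R, ∀ w : 𝒜 (v : ℤ), (w : R) * r = Z * η w := by
    intro Z hZ
    induction hZ using Submodule.span_induction with
    | mem w0 hw0 => exact ⟨η ⟨w0, hw0⟩, fun w => hsym w ⟨w0, hw0⟩⟩
    | zero => exact ⟨0, fun w => by rw [mul_zero, zero_mul]⟩
    | add p q _ _ hp hq =>
      obtain ⟨r, hr⟩ := hp
      obtain ⟨r', hr'⟩ := hq
      exact ⟨r + r', fun w => by rw [mul_add, hr, hr', add_mul]⟩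
    | smul b p _ hp =>
      obtain ⟨r, hr⟩ := hp
      exact ⟨b * r, fun w => by rw [smul_eq_mul, mul_left_comm, hr, mul_assoc]⟩
  obtain ⟨r, hr⟩ := hext X hX
  obtain ⟨r', hr'⟩ := hext Y hY
  have hD : ∀ Z ∈ Ideal.span ((𝒜 (v : ℤ) : AddSubgroup R) : Set R), Z * (Y * r - X * r') = 0 := by
    intro Z hZ
    induction hZ using Submodule.span_induction with
    | mem w hw =>
      have e1 := hr ⟨w, hw⟩
      have e2 := hr' ⟨w, hw⟩
      rw [mul_sub, mul_left_comm w Y r, e1, mul_left_comm w X r', e2, mul_left_comm Y X, sub_self]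
    | zero => exact zero_mul _
    | add p q _ _ hp hq => rw [add_mul, hp, hq, add_zero]
    | smul b p _ hp => rw [smul_eq_mul, mul_assoc, hp, mul_zero]
  have hYX : Y * r = X * r' := sub_eq_zero.1 (hXr (show X • (Y * r - X * r') = X • (0 : R) by
    rw [smul_eq_mul, smul_eq_mul, mul_zero, hD X hX]))
  have hrX : r ∈ X • (⊤ : Submodule R R) := (Submodule.Quotient.mk_eq_zero _).1 (hYr
    (show Y • (Submodule.Quotient.mk r : QuotSMulTop X R) = Y • 0 by
      rw [smul_zero, ← Submodule.Quotient.mk_smul, Submodule.Quotient.mk_eq_zero, smul_eq_mul, hYX]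
      exact Submodule.smul_mem_pointwise_smul r' X ⊤ trivial))
  obtain ⟨ξ, -, hξ⟩ := (Submodule.mem_smul_pointwise_iff_exists _ _ _).1 hrX
  refine ⟨pr 𝒜 e ξ, pr_mem e ξ, fun w => ?_⟩
  have h1 : η w = (w : R) * ξ := hXr (show X • η w = X • ((w : R) * ξ) by
    rw [smul_eq_mul, smul_eq_mul, ← hr w, ← hξ, smul_eq_mul]
    ring)
  calc η w = pr 𝒜 (e + v) (η w) := (pr_of_mem (hη w)).symm
    _ = pr 𝒜 (e + v) ((w : R) • ξ) := by rw [h1, smul_eq_mul]
    _ = (w : R) * pr 𝒜 e ξ := by rw [pr_smul' w.2, add_sub_cancel_right, smul_eq_mul]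

end Groth.Agent.GrInj
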