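import Groth.Agent.GrInj.SegreKNat
import Groth.Agent.GrInj.SegreKCM
import Groth.Agent.GrInj.GorDual
import Groth.Agent.GrInj.VeroConv

/-!
# Gorenstein Segre products
-/

set_option autoImplicit false
set_option linter.unusedSectionVars false
universe u

open TensorProduct

namespace Groth.Agent.GrInj.SegK

open GrLC

variable {k : Type u} [Field k] {R : Type u} [CommRing R] [Algebra k R] {𝒜 : ℤ → Submodule k R} [GradedAlgebra 𝒜]

theorem endDeg_res (I : StarInjRes 𝒜 𝒜) (m : HomogeneousIdeal 𝒜) (i : ℕ) :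
    endDeg ((Conv.res I).Hgr (Conv.ideal 𝒜 m) i) = endDeg (I.Hgr m i) := rfl

/-- The socle data of a Gorenstein graded algebra. -/
theorem gor_data [Nontrivial R] [IsNoetherianRing R] [LocCoh.IsGorensteinRing R]
    (hpos : ∀ n : ℤ, n < 0 → 𝒜 n = ⊥) (h0 : 𝒜 0 = Submodule.span k {(1 : R)}) {m : HomogeneousIdeal 𝒜}
    (hm : m.toIdeal = Ideal.span (⋃ n ∈ Set.Ioi (0 : ℤ), (𝒜 n : Set R))) (I : StarInjRes 𝒜 𝒜) {r : ℕ}
    (hr : ringKrullDim R = r) :
    ∃ a : ℤ, endDeg (I.Hgr m r) = ((a : WithTop ℤ) : WithBot (WithTop ℤ)) ∧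
      (∀ d, ∀ c ∈ (Conv.res I).Hgr (Conv.ideal 𝒜 m) r d, (∀ f ∈ 𝒜 (a - d), f • c = 0) → c = 0) ∧
      Module.finrank (deg0 𝒜) (I.Hcomp m r a) = 1 := by
  let a' := Conv.ideal 𝒜 m
  let E := Conv.res I
  have hp := hpos_grp hpos
  have hf := isField_deg0 (k := k) (𝒜 := 𝒜) h0
  have hsl := starLocal hpos h0 hm
  haveI := isCohenMacaulayRing_of_gorenstein (R := R)
  have hne : ¬ Subsingleton (E.H a' r) := fun hs => by
    have h1 := (isGorensteinRing_iff_socle hp hsl hr E).1 inferInstance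
    haveI : Subsingleton (Submodule.torsionBySet R (E.H a' r) a'.toIdeal) :=
      ⟨fun x y => Subtype.ext (@Subsingleton.elim _ hs _ _)⟩
    rw [Module.length_eq_zero] at h1
    exact zero_ne_one h1
  obtain ⟨a, ha⟩ := exists_endDeg hp (m := a') hm E hne
  refine ⟨a, (endDeg_res I m r).symm.trans ha, fun d c hc hk => by_contra fun hc0 => ?_, ?_⟩
  · obtain ⟨f, hf', hne'⟩ := exists_smul_ne_zero hp hf hm E ha hr hc hc0
    exact hne' (hk f hf')
  · have h1 := (finrank_comp_eq_finrank_Hcomp hp hf hm E ha hr 0).1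
    rw [sub_zero, finrank_Hcomp_res I m r a, finrank_comp_grp, finrank_comp_self h0, h0,
      finrank_span_singleton (one_ne_zero : (1 : R) ≠ 0)] at h1
    exact h1

/-- The Segre product of two Gorenstein algebras with the same `a`-invariant is Gorenstein when Cohen-Macaulay. -/
theorem gorenstein_segre [Algebra.FiniteType k R] {S : Type u} [CommRing S] [Algebra k S] {ℬ : ℤ → Submodule k S}
    [GradedAlgebra ℬ] [Algebra.FiniteType k S] {T : Type u} [CommRing T] [Algebra k T] {𝒯 : ℤ → Submodule k T}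
    [GradedAlgebra 𝒯] {ψ : T →ₐ[k] R ⊗[k] S} (hT : GrSeg.IsSegreRing 𝒜 ℬ 𝒯 ψ)
    (hposR : ∀ n : ℤ, n < 0 → 𝒜 n = ⊥) (h0R : 𝒜 0 = Submodule.span k {(1 : R)})
    (hposS : ∀ n : ℤ, n < 0 → ℬ n = ⊥) (h0S : ℬ 0 = Submodule.span k {(1 : S)})
    [LocCoh.IsGorensteinRing R] [LocCoh.IsGorensteinRing S]
    (mR : HomogeneousIdeal 𝒜) (hmR : mR.toIdeal = Ideal.span (⋃ n ∈ Set.Ioi (0 : ℤ), (𝒜 n : Set R)))
    (I : StarInjRes 𝒜 𝒜)
    (mS : HomogeneousIdeal ℬ) (hmS : mS.toIdeal = Ideal.span (⋃ n ∈ Set.Ioi (0 : ℤ), (ℬ n : Set S)))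
    (J : StarInjRes ℬ ℬ) {r s : ℕ} (hr : ringKrullDim R = r) (hs : ringKrullDim S = s) (h2r : 2 ≤ r) (h2s : 2 ≤ s)
    (haeq : endDeg (I.Hgr mR r) = endDeg (J.Hgr mS s)) [LocCoh.IsCohenMacaulayRing T] :
    LocCoh.IsGorensteinRing T := by
  classical
  haveI : Nontrivial R := by
    by_contra h
    rw [not_nontrivial_iff_subsingleton] at h
    rw [ringKrullDim_eq_bot_of_subsingleton] at hr; simp at hr
  haveI : Nontrivial S := by
    by_contra h
    rw [not_nontrivial_iff_subsingleton] at h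
    rw [ringKrullDim_eq_bot_of_subsingleton] at hs; simp at hs
  haveI : IsNoetherianRing R := Algebra.FiniteType.isNoetherianRing k R
  haveI : IsNoetherianRing S := Algebra.FiniteType.isNoetherianRing k S
  haveI : IsNoetherianRing T := SegreDim.isNoetherian ψ hT.1 hT.2
  haveI := nontrivial_segre ψ
  obtain ⟨a, ha, hdetR, hR1⟩ := gor_data hposR h0R hmR I hr
  obtain ⟨a₁, ha₁, hdetS, hS1⟩ := gor_data hposS h0S hmS J hs
  have : a₁ = a := by
    rw [ha, ha₁] at haeq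
    exact (WithTop.coe_injective (WithBot.coe_injective haeq)).symm
  subst this
  obtain ⟨i, rfl⟩ : ∃ i, r = i + 2 := ⟨r - 2, by omega⟩
  obtain ⟨j, rfl⟩ : ∃ j, s = j + 2 := ⟨s - 2, by omega⟩
  have hdim : ringKrullDim T = ((i + j + 1 + 2 : ℕ) : WithBot ℕ∞) := by
    rw [SegreDim.dim_segre ψ hT.1 hT.2 (r := i + 1) (s := j + 1) ⟨hposR, h0R⟩ ⟨hposS, h0S⟩ hr hs]
    rw [show i + 1 + (j + 1) + 1 = i + j + 1 + 2 by omega]
  let mT : HomogeneousIdeal 𝒯 := ⟨Ideal.span (⋃ n ∈ Set.Ioi (0 : ℤ), (𝒯 n : Set T)),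
    Ideal.homogeneous_span 𝒯 _ (by
      intro x hx
      simp only [Set.mem_iUnion] at hx
      obtain ⟨i, -, hx⟩ := hx
      exact ⟨i, hx⟩)⟩
  have hmT : mT.toIdeal = Ideal.span (⋃ n ∈ Set.Ioi (0 : ℤ), (𝒯 n : Set T)) := rfl
  have h0T := deg0_segre hT h0R h0S
  have hposT : ∀ n : ℤ, n < 0 → 𝒯 n = ⊥ := fun n hn => by
    rw [Submodule.eq_bot_iff]
    intro t ht
    have h : ψ t ∈ GrSeg.segrePiece k 𝒜 ℬ n := (hT.2 n).le ⟨t, ht, rfl⟩
    have h0 : GrSeg.segrePiece k 𝒜 ℬ n = ⊥ := by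
      unfold GrSeg.segrePiece
      rw [Submodule.span_eq_bot]
      rintro _ ⟨a, ha, b, -, rfl⟩
      rw [hposR n hn, Submodule.mem_bot] at ha
      rw [ha, TensorProduct.zero_tmul]
    rw [h0, Submodule.mem_bot] at h
    exact hT.1 (h.trans (map_zero ψ).symm)
  obtain ⟨E⟩ := nonempty_res (𝒜 := 𝒯) (ℳ := 𝒯)
  obtain ⟨GR, DM, σR, hσR⟩ := exists_data h0R mR hmR I
  obtain ⟨GS, DN, σS, hσS⟩ := exists_data h0S mS hmS J
  let EP := Conv.res E
  let b' := Conv.ideal 𝒯 mT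
  have hdet : ∀ d, ∀ c ∈ EP.Hgr b' (i + j + 1 + 2) d, (∀ t ∈ 𝒯 (a₁ - d), t • c = 0) → c = 0 := fun d c hc hk =>
    top_detect (Conv.res I) DM σR hσR (Conv.res J) DN σS hσS hT hmT (irrelevant_mem hmR) (irrelevant_mem hmS)
      (isSegreMod_grp (isSegreMod_self hT)) EP
      (fun q hq => (Conv.res_Hcomp I mR q d).2 (hcomp_eq_bot_above I hr q hq d))
      (fun q hq => (Conv.res_Hcomp J mS q d).2 (hcomp_eq_bot_above J hs q hq d))
      (hdetR d) (hdetS d) c hc hk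
  have habove : ∀ d, a₁ < d → ∀ c ∈ EP.Hgr b' (i + j + 1 + 2) d, c = 0 := fun d hd c hc =>
    hdet d c hc fun t ht => by rw [(Submodule.mem_bot k).1 ((hposT _ (by omega)).le ht), zero_smul]
  have hfin1 : Module.finrank (deg0 𝒯) (E.Hcomp mT (i + j + 1 + 2) a₁) = 1 := by
    have h := kunneth_top hposR h0R hposS h0S hT mR hmR mS hmS mT hmT I J (isSegreMod_self hT) E a₁ hr hs
      (by omega) (by omega)
    rw [show i + 2 + (j + 2) - 1 = i + j + 1 + 2 by omega, hR1, hS1, one_mul] at h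
    exact h
  have hp := hpos_grp hposT
  have hsl := starLocal hposT h0T hmT
  rw [isGorensteinRing_iff_socle hp hsl hdim EP]
  set H := Submodule.torsionBySet T (EP.H b' (i + j + 1 + 2)) b'.toIdeal with hH
  rw [length_killed hp hmT H fun t ht x => Subtype.ext ((Submodule.mem_torsionBySet_iff _ _).1 x.2 ⟨t, ht⟩)]
  letI := (S13225.isInternal_Hgr EP b' (i + j + 1 + 2)).chooseDecomposition
  haveI : SetLike.GradedSMul (Conv.grp 𝒯) (EP.Hgr b' (i + j + 1 + 2)) := ⟨fun {p q} t c ht hc => by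
    obtain ⟨z, hz, rfl⟩ := hc
    exact ⟨t • z, (EP.X _).gsmul.smul_mem ht hz, map_smul _ t z⟩⟩
  have heq : H.restrictScalars (deg0 (Conv.grp 𝒯)) = EP.Hcomp b' (i + j + 1 + 2) a₁ := by
    refine le_antisymm (fun c hc => ?_) (fun c hc => ?_)
    · have hck : ∀ t ∈ b'.toIdeal, t • c = 0 := fun t ht => (Submodule.mem_torsionBySet_iff _ _).1 hc ⟨t, ht⟩
      have hz : ∀ d, d ≠ a₁ → pr (EP.Hgr b' (i + j + 1 + 2)) d c = 0 := fun d hd => by
        rcases lt_or_gt_of_ne hd with h | h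
        · refine hdet d _ (pr_mem d c) fun t ht => ?_
          rw [← pr_smul (𝒜 := Conv.grp 𝒯) (show t ∈ Conv.grp 𝒯 (a₁ - d) from ht) d c,
            hck t (irrelevant_mem hmT _ (by omega) t ht), map_zero]
        · exact habove d h _ (pr_mem d c)
      rw [← sum_supp (ℳ := EP.Hgr b' (i + j + 1 + 2)) c]
      refine sum_mem fun d _ => ?_
      rcases eq_or_ne d a₁ with rfl | hd
      · exact pr_mem (ℳ := EP.Hgr b' (i + j + 1 + 2)) d c
      · rw [hz d hd]; exact zero_mem _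
    · refine (Submodule.mem_torsionBySet_iff _ _).2 ?_
      rintro ⟨t, ht⟩
      show t • c = 0
      change t ∈ mT.toIdeal at ht
      rw [hmT] at ht
      induction ht using Submodule.span_induction with
      | mem y hy =>
        simp only [Set.mem_iUnion] at hy
        obtain ⟨n, hn, hy⟩ := hy
        refine habove (n + a₁) (by have : (0 : ℤ) < n := hn; omega) _ ?_
        exact smul_mem_gr (𝒜 := Conv.grp 𝒯) (show y ∈ Conv.grp 𝒯 n from hy) (show c ∈ EP.Hgr b' _ a₁ from hc)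
      | zero => exact zero_smul _ _
      | add p q _ _ hp hq => rw [add_smul, hp, hq, add_zero]
      | smul b p _ hp => rw [smul_eq_mul, mul_smul, hp, smul_zero]
  let e : H ≃ₗ[deg0 (Conv.grp 𝒯)] EP.Hcomp b' (i + j + 1 + 2) a₁ :=
    { toFun := fun x => ⟨x.1, heq.le x.2⟩
      invFun := fun x => ⟨x.1, heq.ge x.2⟩
      left_inv := fun _ => rfl
      right_inv := fun _ => rfl
      map_add' := fun _ _ => rfl
      map_smul' := fun _ _ => rfl }
  rw [e.length_eq]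
  letI := (isField_deg0 (k := k) (𝒜 := 𝒯) h0T).toField
  haveI : Module.Finite T T := inferInstance
  haveI := (finite_pieces (a := b') EP a₁ hposT hmT (i + j + 1 + 2)).1
  rw [Module.length_eq_finrank, finrank_Hcomp_res E mT (i + j + 1 + 2) a₁, hfin1]
  rfl

end Groth.Agent.GrInj.SegK
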