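import Mathlib.LinearAlgebra.TensorProduct.Map
import Mathlib.LinearAlgebra.TensorProduct.Finiteness
import Mathlib.LinearAlgebra.Basis.VectorSpace
import Mathlib.RingTheory.Flat.Basic
import Mathlib.RingTheory.TensorProduct.Finite
import Mathlib.LinearAlgebra.Dimension.Constructions
import Mathlib.LinearAlgebra.Dimension.Basic
import Mathlib.Algebra.BigOperators.Finprod

/-!
# Linear algebra for the Künneth formula of Segre products
-/

set_option autoImplicit false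
set_option linter.unusedSectionVars false
universe u

open TensorProduct Finset

namespace Groth.Agent.GrInj.SegK

section Wts

variable {A : Type u} [CommRing A] {X : Type u} [AddCommGroup X] [Module A X]

/-- A complete family of orthogonal projections. -/
structure Wts (A : Type u) [CommRing A] (X : Type u) [AddCommGroup X] [Module A X] where
  w : ℕ → X →ₗ[A] X
  w_self : ∀ i x, w i (w i x) = w i x
  w_ne : ∀ i j, i ≠ j → ∀ x, w i (w j x) = 0
  w_sum : ∀ x, ∃ n, ∑ i ∈ range n, w i x = x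

namespace Wts

variable (W : Wts A X)

theorem eventually_zero (x : X) : ∃ n, ∀ i, n ≤ i → W.w i x = 0 := by
  obtain ⟨n, hn⟩ := W.w_sum x
  refine ⟨n, fun i hi => ?_⟩
  rw [← hn, map_sum]
  exact sum_eq_zero fun j hj => W.w_ne i j (fun e => absurd (mem_range.1 hj) (by omega)) x

theorem finite_support (f : ℕ → X →ₗ[A] X) (x : X) :
    (Function.support fun i => f i (W.w i x)).Finite := by
  obtain ⟨n, hn⟩ := W.eventually_zero x
  refine (range n).finite_toSet.subset fun i hi => ?_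
  by_contra h
  exact hi (by simp only [mem_coe, mem_range, not_lt] at h; simp [hn i h])

/-- The map given by `f i` on the range of the `i`-th projection. -/
noncomputable def wsum (f : ℕ → X →ₗ[A] X) : X →ₗ[A] X where
  toFun x := ∑ᶠ i, f i (W.w i x)
  map_add' x y := by
    rw [← finsum_add_distrib (W.finite_support f x) (W.finite_support f y)]
    simp [map_add]
  map_smul' c x := by
    rw [RingHom.id_apply, smul_finsum' c (W.finite_support f x)]
    simp

theorem wsum_of (f : ℕ → X →ₗ[A] X) {i : ℕ} {x : X} (hx : W.w i x = x) : W.wsum f x = f i x := by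
  refine (finsum_eq_single (fun j => f j (W.w j x)) i fun j hj => ?_).trans (by rw [hx])
  rw [← hx, W.w_ne j i hj, map_zero]

theorem ext {Y : Type u} [AddCommGroup Y] [Module A Y] {f g : X →ₗ[A] Y}
    (h : ∀ i x, W.w i x = x → f x = g x) : f = g := by
  refine LinearMap.ext fun x => ?_
  obtain ⟨n, hn⟩ := W.w_sum x
  rw [← hn, map_sum, map_sum]
  exact sum_congr rfl fun i _ => h i _ (W.w_self i x)

theorem w_of {i j : ℕ} {x : X} (hx : W.w i x = x) (h : j ≠ i) : W.w j x = 0 := by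
  rw [← hx, W.w_ne j i h]

/-- The sign of the weight. -/
noncomputable def sgn : X →ₗ[A] X := W.wsum fun i => (-1 : A) ^ i • LinearMap.id

theorem sgn_of {i : ℕ} {x : X} (hx : W.w i x = x) : W.sgn x = (-1 : A) ^ i • x := by
  rw [sgn, W.wsum_of _ hx]; rfl

theorem sgn_comm {f : X →ₗ[A] X} (hf : ∀ i x, f (W.w i x) = W.w i (f x)) (x : X) :
    f (W.sgn x) = W.sgn (f x) := by
  refine LinearMap.congr_fun (W.ext (f := f ∘ₗ W.sgn) (g := W.sgn ∘ₗ f) fun i y hy => ?_) x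
  have h : W.w i (f y) = f y := by rw [← hf, hy]
  simp only [LinearMap.comp_apply, W.sgn_of hy, W.sgn_of h, map_smul]

theorem sgn_sgn (x : X) : W.sgn (W.sgn x) = x := by
  refine LinearMap.congr_fun (W.ext (f := W.sgn ∘ₗ W.sgn) (g := LinearMap.id) fun i y hy => ?_) x
  simp only [LinearMap.comp_apply, LinearMap.id_apply, W.sgn_of hy, map_smul, smul_smul]
  rw [← mul_pow, neg_one_mul, neg_neg, one_pow, one_smul]

theorem sgn_anti {f : X →ₗ[A] X} (hf : ∀ i x, f (W.w i x) = W.w (i + 1) (f x)) (x : X) :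
    f (W.sgn x) = -W.sgn (f x) := by
  refine LinearMap.congr_fun (W.ext (f := f ∘ₗ W.sgn) (g := -(W.sgn ∘ₗ f)) fun i y hy => ?_) x
  have h : W.w (i + 1) (f y) = f y := by rw [← hf, hy]
  simp only [LinearMap.comp_apply, LinearMap.neg_apply, W.sgn_of hy, W.sgn_of h, map_smul, pow_succ,
    mul_neg, mul_one, neg_smul, neg_neg]

variable {Y : Type u} [AddCommGroup Y] [Module A Y] (W' : Wts A Y)

/-- The projection to total weight `n`. -/
noncomputable def tw (n : ℕ) : X ⊗[A] Y →ₗ[A] X ⊗[A] Y :=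
  ∑ i ∈ range (n + 1), map (W.w i) (W'.w (n - i))

theorem tw_tmul {a b : ℕ} {x : X} {y : Y} (hx : W.w a x = x) (hy : W'.w b y = y) (n : ℕ) :
    W.tw W' n (x ⊗ₜ[A] y) = if a + b = n then x ⊗ₜ[A] y else 0 := by
  by_cases ha : a ≤ n
  · rw [tw, LinearMap.sum_apply, sum_eq_single a]
    · rw [map_tmul, hx]
      by_cases hb : a + b = n
      · rw [if_pos hb, show n - a = b by omega, hy]
      · rw [if_neg hb, W'.w_of hy (by omega), tmul_zero]
    · intro i _ hi
      rw [map_tmul, W.w_of hx hi, zero_tmul]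
    · exact fun h => absurd (mem_range.2 (by omega)) h
  · rw [tw, LinearMap.sum_apply, if_neg (by omega)]
    refine sum_eq_zero fun i hi => ?_
    have := mem_range.1 hi
    rw [map_tmul, W.w_of hx (by omega), zero_tmul]

theorem ext_tmul {Z : Type u} [AddCommGroup Z] [Module A Z] {f g : X ⊗[A] Y →ₗ[A] Z}
    (h : ∀ a b x y, W.w a x = x → W'.w b y = y → f (x ⊗ₜ[A] y) = g (x ⊗ₜ[A] y)) : f = g := by
  refine TensorProduct.ext' fun x y => ?_
  obtain ⟨n, hn⟩ := W.w_sum x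
  obtain ⟨m, hm⟩ := W'.w_sum y
  rw [← hn, ← hm, sum_tmul, map_sum, map_sum]
  refine sum_congr rfl fun i _ => ?_
  rw [tmul_sum, map_sum, map_sum]
  exact sum_congr rfl fun j _ => h i j _ _ (W.w_self i x) (W'.w_self j y)

end Wts

end Wts

section Field

variable {k : Type u} [Field k] {X : Type u} [AddCommGroup X] [Module k X]

/-- A square zero map of weight one, and an idempotent cutting out a subcomplex. -/
structure Pre (W : Wts k X) where
  δ : X →ₗ[k] X
  τ : X →ₗ[k] X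
  ττ : ∀ x, τ (τ x) = τ x
  τδ : ∀ x, τ (δ x) = δ x
  δτ : ∀ x, δ (τ x) = δ x
  δδ : ∀ x, δ (δ x) = 0
  τw : ∀ i x, τ (W.w i x) = W.w i (τ x)
  δw : ∀ i x, δ (W.w i x) = W.w (i + 1) (δ x)
  w0δ : ∀ x, W.w 0 (δ x) = 0

/-- A contracting homotopy up to the projection onto cohomology. -/
structure Spl (W : Wts k X) extends Pre W where
  h : X →ₗ[k] X
  π : X →ₗ[k] X
  τh : ∀ x, τ (h x) = h x
  hτ : ∀ x, h (τ x) = h x
  τπ : ∀ x, τ (π x) = π x
  πτ : ∀ x, π (τ x) = π x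
  homotopy : ∀ x, δ (h x) + h (δ x) = τ x - π x
  δπ : ∀ x, δ (π x) = 0
  πδ : ∀ x, π (δ x) = 0
  ππ : ∀ x, π (π x) = π x
  hw : ∀ i x, h (W.w (i + 1) x) = W.w i (h x)
  hw0 : ∀ x, h (W.w 0 x) = 0
  πw : ∀ i x, π (W.w i x) = W.w i (π x)

theorem exists_pinv {Y : Type u} [AddCommGroup Y] [Module k Y] (f : X →ₗ[k] Y) :
    ∃ g : Y →ₗ[k] X, ∀ x, f (g (f x)) = f x := by
  obtain ⟨g₀, hg₀⟩ := f.rangeRestrict.exists_rightInverse_of_surjective f.range_rangeRestrict
  obtain ⟨g, hg⟩ := g₀.exists_extend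
  refine ⟨g, fun x => ?_⟩
  have h1 : g (f x) = g₀ ⟨f x, x, rfl⟩ := LinearMap.congr_fun hg ⟨f x, x, rfl⟩
  rw [h1]
  exact congrArg Subtype.val (LinearMap.congr_fun hg₀ ⟨f x, x, rfl⟩)

/-- An arbitrary pseudo inverse, made of weight minus one. -/
theorem Pre.exists_h0 {W : Wts k X} (P : Pre W) : ∃ h : X →ₗ[k] X,
    (∀ x, P.δ (h (P.δ x)) = P.δ x) ∧ (∀ x, P.τ (h x) = h x) ∧ (∀ x, h (P.τ x) = h x) ∧
      (∀ i x, h (W.w (i + 1) x) = W.w i (h x)) ∧ ∀ x, h (W.w 0 x) = 0 := by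
  obtain ⟨g, hg⟩ := exists_pinv P.δ
  let G : ℕ → X →ₗ[k] X := fun i => match i with
    | 0 => 0
    | i + 1 => W.w i ∘ₗ g
  let h := P.τ ∘ₗ W.wsum G ∘ₗ P.τ
  have hw : ∀ i x, W.w (i + 1) x = x → h x = P.τ (W.w i (g (P.τ x))) := fun i x hx => by
    show P.τ (W.wsum G (P.τ x)) = _
    rw [W.wsum_of G (i := i + 1) (by rw [← P.τw, hx])]
    rfl
  have hw0 : ∀ x, h (W.w 0 x) = 0 := fun x => by
    show P.τ (W.wsum G (P.τ (W.w 0 x))) = _
    rw [W.wsum_of G (i := 0) (by rw [← P.τw, W.w_self])]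
    exact map_zero _
  have hmem : ∀ i x, W.w (i + 1) x = x → W.w i (h x) = h x := fun i x hx => by
    rw [hw i x hx, ← P.τw, W.w_self]
  refine ⟨h, fun x => ?_, fun x => P.ττ _, fun x => ?_, fun i x => ?_, hw0⟩
  · refine LinearMap.congr_fun (W.ext (f := P.δ ∘ₗ h ∘ₗ P.δ) (g := P.δ) fun i y hy => ?_) x
    have hd : W.w (i + 1) (P.δ y) = P.δ y := by rw [← P.δw, hy]
    show P.δ (h (P.δ y)) = P.δ y
    rw [hw i _ hd, P.δτ, P.δw, P.τδ, hg, hd]
  · show P.τ (W.wsum G (P.τ (P.τ x))) = _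
    rw [P.ττ]; rfl
  · refine LinearMap.congr_fun (W.ext (f := h ∘ₗ W.w (i + 1)) (g := W.w i ∘ₗ h) fun j y hy => ?_) x
    show h (W.w (i + 1) y) = W.w i (h y)
    cases j with
    | zero => rw [W.w_of hy (Nat.succ_ne_zero i), map_zero, show h y = 0 by rw [← hy, hw0], map_zero]
    | succ j =>
      rcases eq_or_ne i j with rfl | hne
      · rw [hy, hmem i y hy]
      · rw [W.w_of hy (by omega), map_zero, W.w_of (hmem j y hy) hne]

/-- A choice of homotopy. -/
theorem Pre.nonempty_spl {W : Wts k X} (P : Pre W) : ∃ S : Spl W, S.toPre = P := by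
  obtain ⟨h₀, h1, h2, h3, h4, h5⟩ := P.exists_h0
  let a : X →ₗ[k] X := h₀ ∘ₗ P.δ ∘ₗ h₀
  let h : X →ₗ[k] X := a - a ∘ₗ a ∘ₗ P.δ
  let π : X →ₗ[k] X := P.τ - P.δ ∘ₗ h - h ∘ₗ P.δ
  have ae : ∀ x, a x = h₀ (P.δ (h₀ x)) := fun x => rfl
  have a1 : ∀ x, P.δ (a (P.δ x)) = P.δ x := fun x => by rw [ae, h1, h1]
  have a2 : ∀ x, a (P.δ (a x)) = a x := fun x => by rw [ae, ae, h1, h1]
  have a3 : ∀ x, P.τ (a x) = a x := fun x => h2 _
  have a4 : ∀ x, a (P.τ x) = a x := fun x => by rw [ae, h3]; rfl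
  have a5 : ∀ i x, a (W.w (i + 1) x) = W.w i (a x) := fun i x => by rw [ae, h4, P.δw, h4]; rfl
  have a6 : ∀ x, a (W.w 0 x) = 0 := fun x => by rw [ae, h5, map_zero, map_zero]
  have hπ : ∀ x, π x = P.τ x - P.δ (a x) + P.δ (a (a (P.δ x))) - a (P.δ x) := fun x => by
    show P.τ x - P.δ (a x - a (a (P.δ x))) - (a (P.δ x) - a (a (P.δ (P.δ x)))) = _
    rw [P.δδ, map_zero, map_zero, sub_zero, map_sub]
    abel
  have he : ∀ x, h x = a x - a (a (P.δ x)) := fun x => rfl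
  have hh : ∀ i x, h (W.w (i + 1) x) = W.w i (h x) := fun i x => by
    rw [he, he, a5, P.δw, a5, a5, map_sub]
  have hh0 : ∀ x, h (W.w 0 x) = 0 := fun x => by
    rw [he, a6, P.δw, a5, a6, sub_zero]
  refine ⟨{ P with
    h := h
    π := π
    τh := fun x => ?_
    hτ := fun x => ?_
    τπ := fun x => ?_
    πτ := fun x => ?_
    homotopy := fun x => ?_
    δπ := fun x => ?_
    πδ := fun x => ?_
    ππ := fun x => ?_
    hw := hh
    hw0 := hh0
    πw := fun i x => ?_ }, rfl⟩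
  · simp only [he, map_sub, a3]
  · simp only [he, P.δτ, a4]
  · simp only [hπ, map_sub, map_add, P.ττ, P.τδ, a3]
  · simp only [hπ, P.δτ, a4, P.ττ]
  · show _ = P.τ x - (P.τ x - P.δ (h x) - h (P.δ x))
    abel
  · simp only [hπ, map_sub, map_add, P.δτ, P.δδ, a1]
    abel
  · simp only [hπ, P.δδ, map_zero, P.τδ, a1]
    abel
  · simp only [hπ, map_sub, map_add, P.ττ, P.τδ, P.δτ, P.δδ, a3, a4, a1, a2, map_zero]
    abel
  · show P.τ (W.w i x) - P.δ (h (W.w i x)) - h (P.δ (W.w i x)) =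
      W.w i (P.τ x - P.δ (h x) - h (P.δ x))
    rw [map_sub, map_sub, P.τw, P.δw, hh]
    cases i with
    | zero => rw [hh0, map_zero, P.w0δ]
    | succ i => rw [hh, P.δw]

namespace Spl

variable {Y : Type u} [AddCommGroup Y] [Module k Y]

/-- The weights of a tensor product. -/
noncomputable def tWts (W : Wts k X) (W' : Wts k Y) : Wts k (X ⊗[k] Y) where
  w := W.tw W'
  w_self n z := by
    refine LinearMap.congr_fun (W.ext_tmul W' (f := W.tw W' n ∘ₗ W.tw W' n) (g := W.tw W' n)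
      fun a b x y hx hy => ?_) z
    rw [LinearMap.comp_apply, W.tw_tmul W' hx hy]
    split_ifs with h
    · rw [W.tw_tmul W' hx hy, if_pos h]
    · exact map_zero _
  w_ne i j hij z := by
    refine LinearMap.congr_fun (W.ext_tmul W' (f := W.tw W' i ∘ₗ W.tw W' j) (g := 0)
      fun a b x y hx hy => ?_) z
    rw [LinearMap.comp_apply, W.tw_tmul W' hx hy]
    split_ifs with h
    · rw [W.tw_tmul W' hx hy, if_neg (by omega)]; rfl
    · exact map_zero _
  w_sum z := by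
    suffices h : ∃ n, ∀ m, n ≤ m → ∑ i ∈ range m, W.tw W' i z = z by
      obtain ⟨n, hn⟩ := h
      exact ⟨n, hn n le_rfl⟩
    induction z using TensorProduct.induction_on with
    | zero => exact ⟨0, fun m _ => by simp⟩
    | add p q hp hq =>
      obtain ⟨n, hn⟩ := hp
      obtain ⟨n', hn'⟩ := hq
      exact ⟨max n n', fun m hm => by
        simp only [map_add, sum_add_distrib, hn m (le_of_max_le_left hm), hn' m (le_of_max_le_right hm)]⟩
    | tmul x y =>
      obtain ⟨n, hn⟩ := W.w_sum x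
      obtain ⟨n', hn'⟩ := W'.w_sum y
      refine ⟨n + n', fun m hm => ?_⟩
      rw [← hn, ← hn', sum_tmul]
      simp only [map_sum, tmul_sum]
      rw [sum_comm]
      refine sum_congr rfl fun a ha => ?_
      rw [sum_comm]
      refine sum_congr rfl fun b hb => ?_
      have h1 := mem_range.1 ha
      have h2 := mem_range.1 hb
      rw [sum_eq_single (a + b) (fun i _ hi => by
          rw [W.tw_tmul W' (W.w_self a x) (W'.w_self b y), if_neg (Ne.symm hi)])
        (fun h => absurd (mem_range.2 (by omega)) h),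
        W.tw_tmul W' (W.w_self a x) (W'.w_self b y), if_pos rfl]

variable {W : Wts k X} {W' : Wts k Y} (S : Spl W) (S' : Spl W')

theorem mem_δ {a : ℕ} {x : X} (hx : W.w a x = x) : W.w (a + 1) (S.δ x) = S.δ x := by rw [← S.δw, hx]

/-- The tensor product of two split complexes. -/
noncomputable def tensor : Spl (tWts W W') where
  δ := map S.δ S'.τ + map (W.sgn ∘ₗ S.τ) S'.δ
  τ := map S.τ S'.τ
  h := map S.h S'.τ + map (W.sgn ∘ₗ S.π) S'.h
  π := map S.π S'.π
  ττ z := by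
    refine LinearMap.congr_fun (TensorProduct.ext' (g := map S.τ S'.τ ∘ₗ map S.τ S'.τ)
      (h := map S.τ S'.τ) fun x y => ?_) z
    simp [S.ττ, S'.ττ]
  τδ z := by
    refine LinearMap.congr_fun (TensorProduct.ext' (g := map S.τ S'.τ ∘ₗ _)
      (h := map S.δ S'.τ + map (W.sgn ∘ₗ S.τ) S'.δ) fun x y => ?_) z
    simp [W.sgn_comm S.τw, S.ττ, S.τδ, S'.ττ, S'.τδ]
  δτ z := by
    refine LinearMap.congr_fun (TensorProduct.ext' (g := (map S.δ S'.τ + map (W.sgn ∘ₗ S.τ) S'.δ) ∘ₗ map S.τ S'.τ)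
      (h := map S.δ S'.τ + map (W.sgn ∘ₗ S.τ) S'.δ) fun x y => ?_) z
    simp [S.ττ, S.δτ, S'.ττ, S'.δτ]
  δδ z := by
    refine LinearMap.congr_fun (TensorProduct.ext' (g := (map S.δ S'.τ + map (W.sgn ∘ₗ S.τ) S'.δ) ∘ₗ (map S.δ S'.τ + map (W.sgn ∘ₗ S.τ) S'.δ))
      (h := 0) fun x y => ?_) z
    simp [W.sgn_comm S.τw, W.sgn_anti S.δw, W.sgn_sgn, S.ττ, S.τδ, S.δτ, S.δδ, S'.ττ, S'.τδ, S'.δτ,
      S'.δδ, neg_tmul]
  τw n z := by
    refine LinearMap.congr_fun (W.ext_tmul W' (f := map S.τ S'.τ ∘ₗ W.tw W' n)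
      (g := W.tw W' n ∘ₗ map S.τ S'.τ) fun a b x y hx hy => ?_) z
    simp only [LinearMap.comp_apply, map_tmul, W.tw_tmul W' hx hy,
      W.tw_tmul W' (show W.w a (S.τ x) = S.τ x by rw [← S.τw, hx])
        (show W'.w b (S'.τ y) = S'.τ y by rw [← S'.τw, hy])]
    split_ifs <;> simp
  δw n z := by
    refine LinearMap.congr_fun (W.ext_tmul W' (f := (map S.δ S'.τ + map (W.sgn ∘ₗ S.τ) S'.δ) ∘ₗ W.tw W' n)
      (g := W.tw W' (n + 1) ∘ₗ (map S.δ S'.τ + map (W.sgn ∘ₗ S.τ) S'.δ)) fun a b x y hx hy => ?_) z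
    have h1 : W.w a (W.sgn (S.τ x)) = W.sgn (S.τ x) := by
      rw [W.sgn_of (i := a) (by rw [← S.τw, hx]), map_smul, ← S.τw, hx]
    simp only [LinearMap.comp_apply, LinearMap.add_apply, map_tmul, map_add, W.tw_tmul W' hx hy,
      W.tw_tmul W' (S.mem_δ hx) (show W'.w b (S'.τ y) = S'.τ y by rw [← S'.τw, hy]),
      W.tw_tmul W' h1 (S'.mem_δ hy)]
    by_cases h : a + b = n
    · rw [if_pos h, if_pos (by omega), if_pos (by omega)]; simp
    · rw [if_neg h, if_neg (by omega), if_neg (by omega)]; simp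
  w0δ z := by
    refine LinearMap.congr_fun (W.ext_tmul W' (f := W.tw W' 0 ∘ₗ
      (map S.δ S'.τ + map (W.sgn ∘ₗ S.τ) S'.δ)) (g := 0) fun a b x y hx hy => ?_) z
    have h1 : W.w a (W.sgn (S.τ x)) = W.sgn (S.τ x) := by
      rw [W.sgn_of (i := a) (by rw [← S.τw, hx]), map_smul, ← S.τw, hx]
    simp only [LinearMap.comp_apply, LinearMap.add_apply, map_tmul, map_add,
      W.tw_tmul W' (S.mem_δ hx) (show W'.w b (S'.τ y) = S'.τ y by rw [← S'.τw, hy]),
      W.tw_tmul W' h1 (S'.mem_δ hy)]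
    rw [if_neg (by omega), if_neg (by omega)]; simp
  τh z := by
    refine LinearMap.congr_fun (TensorProduct.ext' (g := map S.τ S'.τ ∘ₗ _)
      (h := map S.h S'.τ + map (W.sgn ∘ₗ S.π) S'.h) fun x y => ?_) z
    simp [W.sgn_comm S.τw, S.τh, S.τπ, S'.ττ, S'.τh]
  hτ z := by
    refine LinearMap.congr_fun (TensorProduct.ext' (g := (map S.h S'.τ + map (W.sgn ∘ₗ S.π) S'.h) ∘ₗ map S.τ S'.τ)
      (h := map S.h S'.τ + map (W.sgn ∘ₗ S.π) S'.h) fun x y => ?_) z
    simp [S.hτ, S.πτ, S'.ττ, S'.hτ]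
  τπ z := by
    refine LinearMap.congr_fun (TensorProduct.ext' (g := map S.τ S'.τ ∘ₗ map S.π S'.π)
      (h := map S.π S'.π) fun x y => ?_) z
    simp [S.τπ, S'.τπ]
  πτ z := by
    refine LinearMap.congr_fun (TensorProduct.ext' (g := map S.π S'.π ∘ₗ map S.τ S'.τ)
      (h := map S.π S'.π) fun x y => ?_) z
    simp [S.πτ, S'.πτ]
  homotopy z := by
    refine LinearMap.congr_fun (TensorProduct.ext'
      (g := (map S.δ S'.τ + map (W.sgn ∘ₗ S.τ) S'.δ) ∘ₗ (map S.h S'.τ + map (W.sgn ∘ₗ S.π) S'.h) +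
        (map S.h S'.τ + map (W.sgn ∘ₗ S.π) S'.h) ∘ₗ (map S.δ S'.τ + map (W.sgn ∘ₗ S.τ) S'.δ))
      (h := map S.τ S'.τ - map S.π S'.π) fun x y => ?_) z
    have hanti : ∀ x, S.h (W.sgn x) = -W.sgn (S.h x) := fun x => by
      refine LinearMap.congr_fun (W.ext (f := S.h ∘ₗ W.sgn) (g := -(W.sgn ∘ₗ S.h)) fun i u hu => ?_) x
      show S.h (W.sgn u) = -W.sgn (S.h u)
      rw [W.sgn_of hu, map_smul]
      cases i with
      | zero => rw [← hu, S.hw0]; simp
      | succ i =>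
        rw [W.sgn_of (i := i) (show W.w i (S.h u) = S.h u by rw [← S.hw, hu]), pow_succ, mul_neg,
          mul_one, neg_smul]
    simp only [LinearMap.add_apply, LinearMap.sub_apply, LinearMap.comp_apply, map_tmul, map_add,
      W.sgn_comm S.τw, W.sgn_comm S.πw, W.sgn_anti S.δw, hanti, W.sgn_sgn, S.ττ, S.τδ, S.δτ, S.τh,
      S.hτ, S.τπ, S.πτ, S.δπ, S.πδ, map_zero, neg_zero, zero_tmul, S'.ττ, S'.τδ, S'.δτ, S'.τh, S'.hτ,
      add_zero, zero_add, neg_tmul]
    have e1 : S.δ (S.h x) ⊗ₜ[k] S'.τ y + S.h (S.δ x) ⊗ₜ[k] S'.τ y = (S.τ x - S.π x) ⊗ₜ[k] S'.τ y := by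
      rw [← add_tmul, S.homotopy]
    have e2 : S.π x ⊗ₜ[k] S'.δ (S'.h y) + S.π x ⊗ₜ[k] S'.h (S'.δ y) =
        S.π x ⊗ₜ[k] (S'.τ y - S'.π y) := by
      rw [← tmul_add, S'.homotopy]
    rw [sub_tmul] at e1
    rw [tmul_sub] at e2
    have e3 := congrArg₂ (· + ·) e1 e2
    beta_reduce at e3
    rw [← sub_eq_zero] at e3 ⊢
    rw [← e3]
    abel
  δπ z := by
    refine LinearMap.congr_fun (TensorProduct.ext' (g := (map S.δ S'.τ + map (W.sgn ∘ₗ S.τ) S'.δ) ∘ₗ map S.π S'.π)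
      (h := 0) fun x y => ?_) z
    simp [S.δπ, S'.δπ]
  πδ z := by
    refine LinearMap.congr_fun (TensorProduct.ext' (g := map S.π S'.π ∘ₗ _)
      (h := 0) fun x y => ?_) z
    simp [S.πδ, S'.πδ]
  ππ z := by
    refine LinearMap.congr_fun (TensorProduct.ext' (g := map S.π S'.π ∘ₗ map S.π S'.π)
      (h := map S.π S'.π) fun x y => ?_) z
    simp [S.ππ, S'.ππ]
  hw n z := by
    refine LinearMap.congr_fun (W.ext_tmul W' (f := (map S.h S'.τ + map (W.sgn ∘ₗ S.π) S'.h) ∘ₗ W.tw W' (n + 1))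
      (g := W.tw W' n ∘ₗ (map S.h S'.τ + map (W.sgn ∘ₗ S.π) S'.h)) fun a b x y hx hy => ?_) z
    have hτy : W'.w b (S'.τ y) = S'.τ y := by rw [← S'.τw, hy]
    have h1 : W.w a (W.sgn (S.π x)) = W.sgn (S.π x) := by
      rw [W.sgn_of (i := a) (by rw [← S.πw, hx]), map_smul, ← S.πw, hx]
    simp only [LinearMap.comp_apply, LinearMap.add_apply, map_tmul, map_add, W.tw_tmul W' hx hy]
    rcases a with _ | a <;> rcases b with _ | b
    · rw [if_neg (by omega)]
      simp [show S.h x = 0 by rw [← hx, S.hw0], show S'.h y = 0 by rw [← hy, S'.hw0]]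
    · have h2 : W'.w b (S'.h y) = S'.h y := by rw [← S'.hw, hy]
      simp only [show S.h x = 0 by rw [← hx, S.hw0], zero_tmul, map_zero, zero_add,
        W.tw_tmul W' h1 h2]
      by_cases h : b + 1 = n + 1
      · rw [if_pos h, if_pos (by omega)]; simp [show S.h x = 0 by rw [← hx, S.hw0]]
      · rw [if_neg h, if_neg (by omega)]; simp
    · have h2 : W.w a (S.h x) = S.h x := by rw [← S.hw, hx]
      simp only [show S'.h y = 0 by rw [← hy, S'.hw0], tmul_zero, map_zero, add_zero,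
        W.tw_tmul W' h2 hτy]
      by_cases h : a + 1 = n + 1
      · rw [if_pos h, if_pos (by omega)]; simp [show S'.h y = 0 by rw [← hy, S'.hw0]]
      · rw [if_neg h, if_neg (by omega)]; simp
    · have h2 : W.w a (S.h x) = S.h x := by rw [← S.hw, hx]
      have h3 : W'.w b (S'.h y) = S'.h y := by rw [← S'.hw, hy]
      simp only [W.tw_tmul W' h2 hτy, W.tw_tmul W' h1 h3]
      by_cases h : a + 1 + (b + 1) = n + 1
      · rw [if_pos h, if_pos (by omega), if_pos (by omega)]; simp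
      · rw [if_neg h, if_neg (by omega), if_neg (by omega)]; simp
  hw0 z := by
    refine LinearMap.congr_fun (W.ext_tmul W' (f := (map S.h S'.τ + map (W.sgn ∘ₗ S.π) S'.h) ∘ₗ W.tw W' 0)
      (g := 0) fun a b x y hx hy => ?_) z
    simp only [LinearMap.comp_apply, W.tw_tmul W' hx hy]
    split_ifs with h
    · obtain ⟨rfl, rfl⟩ : a = 0 ∧ b = 0 := by omega
      simp [show S.h x = 0 by rw [← hx, S.hw0], show S'.h y = 0 by rw [← hy, S'.hw0]]
    · exact map_zero _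
  πw n z := by
    refine LinearMap.congr_fun (W.ext_tmul W' (f := map S.π S'.π ∘ₗ W.tw W' n)
      (g := W.tw W' n ∘ₗ map S.π S'.π) fun a b x y hx hy => ?_) z
    simp only [LinearMap.comp_apply, map_tmul, W.tw_tmul W' hx hy,
      W.tw_tmul W' (show W.w a (S.π x) = S.π x by rw [← S.πw, hx])
        (show W'.w b (S'.π y) = S'.π y by rw [← S'.πw, hy])]
    split_ifs <;> simp

end Spl

/-! ### The cone of a subcomplex -/

variable {W : Wts k X}

/-- `P'` is the quotient of `S` by a subcomplex. -/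
structure Link (S S' : Spl W) : Prop where
  le : ∀ x, S.τ (S'.τ x) = S'.τ x
  ge : ∀ x, S'.τ (S.τ x) = S'.τ x
  comp : ∀ x, S'.τ (S.δ x) = S'.δ x

/-- The weight `n` part of the subcomplex. -/
def cone (S S' : Spl W) (n : ℕ) : Submodule k X :=
  LinearMap.ker (S.τ - LinearMap.id) ⊓ LinearMap.ker S'.τ ⊓ LinearMap.ker (W.w n - LinearMap.id)

theorem mem_cone {S S' : Spl W} {n : ℕ} {x : X} :
    x ∈ cone S S' n ↔ S.τ x = x ∧ S'.τ x = 0 ∧ W.w n x = x := by
  simp [cone, and_assoc, sub_eq_zero]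

/-- The cocycles of weight `n` of the subcomplex. -/
def cyc (S S' : Spl W) (n : ℕ) : Submodule k X := cone S S' n ⊓ LinearMap.ker S.δ

theorem mem_cyc {S S' : Spl W} {n : ℕ} {x : X} :
    x ∈ cyc S S' n ↔ x ∈ cone S S' n ∧ S.δ x = 0 := Iff.rfl

namespace Link

variable {S S' : Spl W} (L : Link S S')

include L

theorem π_δ (x : X) : S'.π (S.δ x) = 0 := by rw [← S'.πτ, L.comp, S'.πδ]

theorem δ_tau (x : X) : S'.τ (S.δ x) = S'.δ (S'.τ x) := by rw [L.comp, S'.δτ]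

/-- A cocycle in a weight without cohomology is a coboundary. -/
theorem eq_δ_h {n : ℕ} {z : X} (hz : z ∈ cyc S S' n) (hpos : S.π z = 0) : S.δ (S.h z) = z := by
  obtain ⟨hc, hd⟩ := mem_cyc.1 hz
  have := S.homotopy z
  rw [hd, map_zero, add_zero, hpos, sub_zero, (mem_cone.1 hc).1] at this
  exact this

/-- Cohomology of the subcomplex in degree at least two. -/
theorem shift (n : ℕ) (h2 : ∀ x, S.π (W.w (n + 2) x) = 0) (h1 : ∀ x, S.π (W.w (n + 1) x) = 0) :
    ∃ θ : cyc S S' (n + 2) →ₗ[k] LinearMap.range (S'.π ∘ₗ W.w (n + 1)), Function.Surjective θ ∧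
      ∀ z, θ z = 0 ↔ ∃ u ∈ cone S S' (n + 1), S.δ u = z := by
  let θ : cyc S S' (n + 2) →ₗ[k] LinearMap.range (S'.π ∘ₗ W.w (n + 1)) :=
    ((S'.π ∘ₗ W.w (n + 1)) ∘ₗ S.h ∘ₗ (cyc S S' (n + 2)).subtype).codRestrict _ fun z => ⟨_, rfl⟩
  refine ⟨θ, ?_, ?_⟩
  · rintro ⟨_, x, rfl⟩
    set y := S'.π (W.w (n + 1) x) with hy
    have hw : W.w (n + 1) y = y := by rw [hy, ← S'.πw, W.w_self]
    have hτ : S.τ y = y := by rw [hy, ← S'.τπ, L.le]
    have hz : S.δ y ∈ cyc S S' (n + 2) := by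
      refine ⟨mem_cone.2 ⟨S.τδ y, ?_, ?_⟩, S.δδ y⟩
      · rw [L.comp, hy, S'.δπ]
      · rw [← S.δw, hw]
    refine ⟨⟨S.δ y, hz⟩, Subtype.ext ?_⟩
    show S'.π (W.w (n + 1) (S.h (S.δ y))) = y
    have e : S.h (S.δ y) = y - S.δ (S.h y) := by
      have := S.homotopy y
      rw [hτ, show S.π y = 0 by rw [← hw, h1], sub_zero] at this
      rw [eq_sub_iff_add_eq, add_comm]; exact this
    rw [← S.hw, ← S.δw, hw, e, map_sub, L.π_δ, sub_zero, hy, S'.ππ]
  · intro z
    obtain ⟨z, hz⟩ := z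
    obtain ⟨hc, hd⟩ := mem_cyc.1 hz
    obtain ⟨hτ, hτ', hw⟩ := mem_cone.1 hc
    have hzero : S.π z = 0 := by rw [← hw, h2]
    constructor
    · intro h
      have h' : S'.π (W.w (n + 1) (S.h z)) = 0 := congrArg Subtype.val h
      set u := S.h z with hu
      have huw : W.w (n + 1) u = u := by rw [hu, ← S.hw, hw]
      rw [huw] at h'
      have hdu : S.δ u = z := L.eq_δ_h hz hzero
      set y := S'.τ u with hy
      have hdy : S'.δ y = 0 := by rw [hy, ← L.δ_tau, hdu, hτ']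
      set v := S'.h y with hv
      have e : S'.δ v = y := by
        have := S'.homotopy y
        rw [hdy, map_zero, add_zero, show S'.π y = 0 by rw [hy, S'.πτ, h'], sub_zero, hy, S'.ττ] at this
        exact this
      have hyw : W.w (n + 1) y = y := by rw [hy, ← S'.τw, huw]
      have hvw : W.w n v = v := by rw [hv, ← S'.hw, hyw]
      refine ⟨u - S.δ v, mem_cone.2 ⟨?_, ?_, ?_⟩, ?_⟩
      · rw [map_sub, S.τδ, hu, S.τh]
      · rw [map_sub, L.comp, e, hy, sub_self]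
      · rw [map_sub, huw, ← S.δw, hvw]
      · rw [map_sub, S.δδ, sub_zero, hdu]
    · rintro ⟨u, hu, hdu⟩
      obtain ⟨huτ, huτ', huw⟩ := mem_cone.1 hu
      refine Subtype.ext ?_
      show S'.π (W.w (n + 1) (S.h z)) = 0
      have e : S.h z = u - S.δ (S.h u) := by
        have := S.homotopy u
        rw [huτ, show S.π u = 0 by rw [← huw, h1], sub_zero, hdu] at this
        rw [eq_sub_iff_add_eq, add_comm]; exact this
      rw [← S.hw, hw, e, map_sub, L.π_δ, sub_zero, ← S'.πτ, huτ', map_zero]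

/-- No cohomology in degree zero. -/
theorem low0 (ha : ∀ x, W.w 0 x = x → S.π x = x → S'.τ x = 0 → x = 0) {z : X}
    (hz : z ∈ cyc S S' 0) : z = 0 := by
  obtain ⟨hc, hd⟩ := mem_cyc.1 hz
  obtain ⟨hτ, hτ', hw⟩ := mem_cone.1 hc
  refine ha z hw ?_ hτ'
  have := S.homotopy z
  rw [hd, show S.h z = 0 by rw [← hw, S.hw0], map_zero, map_zero, add_zero, hτ] at this
  exact (sub_eq_zero.1 this.symm).symm

/-- No cohomology in degree one. -/
theorem low1 (h1 : ∀ x, S.π (W.w 1 x) = 0)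
    (hb : ∀ y, ∃ x, W.w 0 x = x ∧ S.π x = x ∧ S'.τ x = S'.π (W.w 0 y)) {z : X}
    (hz : z ∈ cyc S S' 1) : ∃ u ∈ cone S S' 0, S.δ u = z := by
  obtain ⟨hc, hd⟩ := mem_cyc.1 hz
  obtain ⟨hτ, hτ', hw⟩ := mem_cone.1 hc
  set u := S.h z with hu
  have huw : W.w 0 u = u := by rw [hu, ← S.hw, hw]
  have hdu : S.δ u = z := L.eq_δ_h hz (by rw [← hw, h1])
  have hy : S'.τ u = S'.π u := by
    have := S'.homotopy (S'.τ u)
    rw [← L.δ_tau, hdu, hτ', map_zero, S'.hτ, show S'.h u = 0 by rw [← huw, S'.hw0], map_zero, add_zero,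
      S'.ττ, S'.πτ] at this
    exact sub_eq_zero.1 this.symm
  obtain ⟨x, hxw, hxπ, hxτ⟩ := hb u
  refine ⟨u - x, mem_cone.2 ⟨?_, ?_, ?_⟩, ?_⟩
  · rw [map_sub, hu, S.τh, ← hxπ, S.τπ]
  · rw [map_sub, hxτ, huw, hy, sub_self]
  · rw [map_sub, huw, hxw]
  · rw [map_sub, hdu, ← hxπ, S.δπ, sub_zero]

theorem hyp_a (h0 : ∀ z ∈ cyc S S' 0, z = 0) (x : X) (hw : W.w 0 x = x) (hπ : S.π x = x)
    (hτ' : S'.τ x = 0) : x = 0 :=
  h0 x ⟨mem_cone.2 ⟨by rw [← hπ, S.τπ], hτ', hw⟩, show S.δ x = 0 by rw [← hπ, S.δπ]⟩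

theorem hyp_b (h1 : ∀ z ∈ cyc S S' 1, ∃ u ∈ cone S S' 0, S.δ u = z) (y₀ : X) :
    ∃ x, W.w 0 x = x ∧ S.π x = x ∧ S'.τ x = S'.π (W.w 0 y₀) := by
  set y := S'.π (W.w 0 y₀) with hy
  have hw : W.w 0 y = y := by rw [hy, ← S'.πw, W.w_self]
  have hτ : S.τ y = y := by rw [hy, ← S'.τπ, L.le]
  obtain ⟨u, hu, hdu⟩ := h1 (S.δ y) ⟨mem_cone.2 ⟨S.τδ y, by rw [L.comp, hy, S'.δπ],
    by rw [← S.δw, hw]⟩, S.δδ y⟩
  obtain ⟨huτ, huτ', huw⟩ := mem_cone.1 hu
  refine ⟨y - u, by rw [map_sub, hw, huw], ?_, by rw [map_sub, huτ', sub_zero, hy, S'.τπ]⟩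
  have := S.homotopy (y - u)
  rw [map_sub S.δ, hdu, sub_self, map_zero,
    show S.h (y - u) = 0 by
      rw [show y - u = W.w 0 (y - u) by rw [map_sub, hw, huw], S.hw0],
    map_zero, add_zero, map_sub, hτ, huτ] at this
  exact (sub_eq_zero.1 this.symm).symm

/-- The tensor product of two linked pairs. -/
theorem tensor {Y : Type u} [AddCommGroup Y] [Module k Y] {W' : Wts k Y} {T T' : Spl W'}
    (L' : Link T T') : Link (S.tensor T) (S'.tensor T') where
  le z := by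
    refine LinearMap.congr_fun (TensorProduct.ext' (g := map S.τ T.τ ∘ₗ map S'.τ T'.τ)
      (h := map S'.τ T'.τ) fun x y => ?_) z
    simp [L.le, L'.le]
  ge z := by
    refine LinearMap.congr_fun (TensorProduct.ext' (g := map S'.τ T'.τ ∘ₗ map S.τ T.τ)
      (h := map S'.τ T'.τ) fun x y => ?_) z
    simp [L.ge, L'.ge]
  comp z := by
    refine LinearMap.congr_fun (TensorProduct.ext' (g := map S'.τ T'.τ ∘ₗ
      (map S.δ T.τ + map (W.sgn ∘ₗ S.τ) T.δ)) (h := map S'.δ T'.τ + map (W.sgn ∘ₗ S'.τ) T'.δ)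
      fun x y => ?_) z
    simp [L.comp, L'.comp, L.ge, L'.ge, W.sgn_comm S'.τw]

end Link

theorem exists_factor_of_ker_le {Y Z : Type u} [AddCommGroup Y] [Module k Y] [AddCommGroup Z] [Module k Z]
    (f : X →ₗ[k] Y) (f' : X →ₗ[k] Z) (h : LinearMap.ker f' ≤ LinearMap.ker f) :
    ∃ j : Z →ₗ[k] Y, j ∘ₗ f' = f := by
  let l : LinearMap.range f' →ₗ[k] Y :=
    (Submodule.liftQ _ f h) ∘ₗ f'.quotKerEquivRange.symm.toLinearMap
  obtain ⟨j, hj⟩ := l.exists_extend
  refine ⟨j, LinearMap.ext fun x => ?_⟩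
  have h1 : j (f' x) = l ⟨f' x, x, rfl⟩ := LinearMap.congr_fun hj ⟨f' x, x, rfl⟩
  rw [LinearMap.comp_apply, h1]
  show Submodule.liftQ _ f h (f'.quotKerEquivRange.symm ⟨f' x, _⟩) = f x
  rw [LinearMap.quotKerEquivRange_symm_apply_image f' x (LinearMap.mem_range_self f' x)]
  exact Submodule.liftQ_apply _ _ _

section Two

variable {Y : Type u} [AddCommGroup Y] [Module k Y] {W' : Wts k Y} {S S' : Spl W} {T T' : Spl W'}

theorem tw_zero (z : X ⊗[k] Y) : W.tw W' 0 z = map (W.w 0) (W'.w 0) z := by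
  simp [Wts.tw]

theorem tensor_hyp_a (hS : ∀ x, W.w 0 x = x → S.π x = x → S'.τ x = 0 → x = 0)
    (hT : ∀ y, W'.w 0 y = y → T.π y = y → T'.τ y = 0 → y = 0) (z : X ⊗[k] Y)
    (hw : (Spl.tWts W W').w 0 z = z) (hπ : (S.tensor T).π z = z) (hτ : (S'.tensor T').τ z = 0) :
    z = 0 := by
  obtain ⟨j, hj⟩ := exists_factor_of_ker_le (S.π ∘ₗ W.w 0) (S'.τ ∘ₗ S.π ∘ₗ W.w 0) fun x hx =>
    hS _ (by rw [LinearMap.comp_apply, ← S.πw, W.w_self])
      (by rw [LinearMap.comp_apply, S.ππ]) hx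
  obtain ⟨j', hj'⟩ := exists_factor_of_ker_le (T.π ∘ₗ W'.w 0) (T'.τ ∘ₗ T.π ∘ₗ W'.w 0) fun x hx =>
    hT _ (by rw [LinearMap.comp_apply, ← T.πw, W'.w_self])
      (by rw [LinearMap.comp_apply, T.ππ]) hx
  have e : z = map (S.π ∘ₗ W.w 0) (T.π ∘ₗ W'.w 0) z := by
    rw [TensorProduct.map_comp, LinearMap.comp_apply, ← tw_zero]
    exact (hπ.symm.trans (congrArg _ hw.symm))
  rw [e, ← hj, ← hj', TensorProduct.map_comp, LinearMap.comp_apply,
    TensorProduct.map_comp, LinearMap.comp_apply, ← e]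
  exact (congrArg _ hτ).trans (map_zero _)

theorem tensor_hyp_b (hS : ∀ x₀, ∃ x, W.w 0 x = x ∧ S.π x = x ∧ S'.τ x = S'.π (W.w 0 x₀))
    (hT : ∀ y₀, ∃ y, W'.w 0 y = y ∧ T.π y = y ∧ T'.τ y = T'.π (W'.w 0 y₀)) (z₀ : X ⊗[k] Y) :
    ∃ z, (Spl.tWts W W').w 0 z = z ∧ (S.tensor T).π z = z ∧
      (S'.tensor T').τ z = (S'.tensor T').π ((Spl.tWts W W').w 0 z₀) := by
  induction z₀ using TensorProduct.induction_on with
  | zero => exact ⟨0, map_zero _, map_zero _, by rw [map_zero, map_zero, map_zero]⟩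
  | add p q hp hq =>
    obtain ⟨a, ha1, ha2, ha3⟩ := hp
    obtain ⟨b, hb1, hb2, hb3⟩ := hq
    exact ⟨a + b, by rw [map_add, ha1, hb1], by rw [map_add, ha2, hb2],
      by rw [map_add, map_add, map_add, ha3, hb3]⟩
  | tmul x y =>
    obtain ⟨a, ha1, ha2, ha3⟩ := hS x
    obtain ⟨b, hb1, hb2, hb3⟩ := hT y
    refine ⟨a ⊗ₜ[k] b, ?_, ?_, ?_⟩
    · show W.tw W' 0 _ = _
      rw [tw_zero, map_tmul, ha1, hb1]
    · show map S.π T.π _ = _
      rw [map_tmul, ha2, hb2]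
    · show map S'.τ T'.τ _ = map S'.π T'.π (W.tw W' 0 _)
      rw [tw_zero, map_tmul, map_tmul, map_tmul, ha3, hb3]

/-! ### Dimensions -/

/-- The dimension of the cohomology in weight `n`. -/
noncomputable def rk (S : Spl W) (n : ℕ) : ℕ := Module.finrank k (LinearMap.range (S.π ∘ₗ W.w n))

theorem finrank_range_map {A B : Type u} [AddCommGroup A] [Module k A] [AddCommGroup B] [Module k B]
    (f : X →ₗ[k] A) (g : Y →ₗ[k] B) :
    Module.finrank k (LinearMap.range (map f g)) =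
      Module.finrank k (LinearMap.range f) * Module.finrank k (LinearMap.range g) := by
  have h1 : LinearMap.range (map f g) =
      LinearMap.range (TensorProduct.mapIncl (LinearMap.range f) (LinearMap.range g)) := by
    rw [TensorProduct.range_mapIncl, TensorProduct.range_map]
  rw [h1, LinearMap.finrank_range_of_inj (map_injective_of_flat_flat _ _
    (LinearMap.range f).injective_subtype (LinearMap.range g).injective_subtype),
    Module.finrank_tensorProduct]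

theorem finite_range_map {A B : Type u} [AddCommGroup A] [Module k A] [AddCommGroup B] [Module k B]
    (f : X →ₗ[k] A) (g : Y →ₗ[k] B)
    (h : (Module.Finite k (LinearMap.range f) ∧ Module.Finite k (LinearMap.range g)) ∨
      f = 0 ∨ g = 0) : Module.Finite k (LinearMap.range (map f g)) := by
  rcases h with ⟨hf, hg⟩ | rfl | rfl
  · have h1 : LinearMap.range (map f g) =
        LinearMap.range (TensorProduct.mapIncl (LinearMap.range f) (LinearMap.range g)) := by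
      rw [TensorProduct.range_mapIncl, TensorProduct.range_map]
    rw [h1]; infer_instance
  · rw [TensorProduct.map_zero_left, LinearMap.range_zero]; infer_instance
  · rw [TensorProduct.map_zero_right, LinearMap.range_zero]; infer_instance

/-- Künneth formula for the dimensions. -/
theorem rk_tensor (S : Spl W) (T : Spl W') (n : ℕ)
    (hfin : ∀ a, a ≤ n → (Module.Finite k (LinearMap.range (S.π ∘ₗ W.w a)) ∧
      Module.Finite k (LinearMap.range (T.π ∘ₗ W'.w (n - a)))) ∨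
        S.π ∘ₗ W.w a = 0 ∨ T.π ∘ₗ W'.w (n - a) = 0) :
    rk (S.tensor T) n = ∑ a ∈ range (n + 1), rk S a * rk T (n - a) := by
  let F : ℕ → X ⊗[k] Y →ₗ[k] X ⊗[k] Y := fun a => map (S.π ∘ₗ W.w a) (T.π ∘ₗ W'.w (n - a))
  let P := (S.tensor T).π ∘ₗ (Spl.tWts W W').w n
  have hP : P = ∑ a ∈ range (n + 1), F a := LinearMap.ext fun z => by
    show map S.π T.π (W.tw W' n z) = _
    rw [Wts.tw, LinearMap.sum_apply, map_sum, LinearMap.sum_apply]
    refine sum_congr rfl fun a _ => ?_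
    rw [← LinearMap.comp_apply, ← TensorProduct.map_comp]
  have hFF : ∀ a b, a ≤ n → b ≤ n → ∀ z, F a (F b z) = if a = b then F b z else 0 := by
    intro a b ha hb z
    split_ifs with h
    · subst h
      refine LinearMap.congr_fun (TensorProduct.ext' (g := F a ∘ₗ F a) (h := F a) fun x y => ?_) z
      simp [F, ← S.πw, ← T.πw, S.ππ, T.ππ, W.w_self, W'.w_self]
    · refine LinearMap.congr_fun (TensorProduct.ext' (g := F a ∘ₗ F b) (h := 0) fun x y => ?_) z
      simp [F, ← S.πw, W.w_ne a b h]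
  let Φ : LinearMap.range P →ₗ[k] (∀ a : Fin (n + 1), LinearMap.range (F a)) :=
    LinearMap.pi fun a => (F a ∘ₗ (LinearMap.range P).subtype).codRestrict _ fun z => ⟨_, rfl⟩
  have hrec : ∀ z : LinearMap.range P, ∑ a ∈ range (n + 1), F a (z : X ⊗[k] Y) = z := by
    rintro ⟨_, x, rfl⟩
    simp only [hP, LinearMap.sum_apply, map_sum]
    rw [sum_comm]
    refine sum_congr rfl fun b hb => ?_
    rw [sum_congr rfl fun a ha => hFF a b (Nat.lt_succ_iff.1 (mem_range.1 ha))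
      (Nat.lt_succ_iff.1 (mem_range.1 hb)) x, sum_ite_eq', if_pos hb]
  have hΦ : Function.Bijective Φ := by
    refine ⟨(injective_iff_map_eq_zero Φ).2 fun z hz => Subtype.ext ?_, fun v => ?_⟩
    · rw [← hrec z]
      exact sum_eq_zero fun a ha =>
        congrArg Subtype.val (congrFun hz ⟨a, mem_range.1 ha⟩)
    · let s : X ⊗[k] Y := ∑ b : Fin (n + 1), (v b : X ⊗[k] Y)
      have key : ∀ a : Fin (n + 1), F a s = v a := fun a => by
        simp only [s, map_sum]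
        rw [sum_eq_single a]
        · obtain ⟨x, hx⟩ := (v a).2
          rw [← hx, hFF a a (Nat.lt_succ_iff.1 a.2) (Nat.lt_succ_iff.1 a.2), if_pos rfl]
        · intro b _ hb
          obtain ⟨x, hx⟩ := (v b).2
          rw [← hx, hFF a b (Nat.lt_succ_iff.1 a.2) (Nat.lt_succ_iff.1 b.2),
            if_neg fun e => hb (Fin.ext e).symm]
        · exact fun h => absurd (mem_univ a) h
      refine ⟨⟨s, s, ?_⟩, funext fun a => Subtype.ext (key a)⟩
      rw [hP, LinearMap.sum_apply, ← Fin.sum_univ_eq_sum_range (fun a => F a s)]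
      exact sum_congr rfl fun a _ => key a
  have : ∀ a : Fin (n + 1), Module.Finite k (LinearMap.range (F a)) := fun a =>
    finite_range_map _ _ (hfin a (Nat.lt_succ_iff.1 a.2))
  show Module.finrank k (LinearMap.range P) = _
  rw [(LinearEquiv.ofBijective Φ hΦ).finrank_eq, Module.finrank_pi_fintype,
    ← Fin.sum_univ_eq_sum_range (fun a => rk S a * rk T (n - a))]
  exact sum_congr rfl fun a _ => finrank_range_map _ _

/-- In weight zero the quotient has the cohomology of the whole complex. -/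
theorem rk_zero_eq (L : Link S S') (ha : ∀ x, W.w 0 x = x → S.π x = x → S'.τ x = 0 → x = 0)
    (hb : ∀ y, ∃ x, W.w 0 x = x ∧ S.π x = x ∧ S'.τ x = S'.π (W.w 0 y)) :
    rk S' 0 = rk S 0 := by
  have hr : ∀ x : LinearMap.range (S.π ∘ₗ W.w 0),
      S'.τ (x : X) ∈ LinearMap.range (S'.π ∘ₗ W.w 0) := by
    rintro ⟨_, y, rfl⟩
    set x := (S.π ∘ₗ W.w 0) y with hx
    have hw : W.w 0 x = x := by rw [hx, LinearMap.comp_apply, ← S.πw, W.w_self]
    refine ⟨S'.τ x, ?_⟩
    show S'.π (W.w 0 (S'.τ x)) = S'.τ x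
    have hd : S'.δ (S'.τ x) = 0 := by
      rw [← L.δ_tau, hx, LinearMap.comp_apply, S.δπ, map_zero]
    have := S'.homotopy (S'.τ x)
    rw [hd, map_zero, S'.hτ, show S'.h x = 0 by rw [← hw, S'.hw0], map_zero, add_zero, S'.ττ] at this
    rw [← S'.τw, hw, ← sub_eq_zero.1 this.symm]
  let τ₀ : LinearMap.range (S.π ∘ₗ W.w 0) →ₗ[k] LinearMap.range (S'.π ∘ₗ W.w 0) :=
    (S'.τ ∘ₗ (LinearMap.range _).subtype).codRestrict _ hr
  refine (LinearEquiv.ofBijective τ₀ ⟨(injective_iff_map_eq_zero τ₀).2 fun x hx => ?_, ?_⟩).finrank_eq.symm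
  · obtain ⟨_, y, rfl⟩ := x
    exact Subtype.ext (ha _ (show W.w 0 (S.π (W.w 0 y)) = S.π (W.w 0 y) by rw [← S.πw, W.w_self])
      (S.ππ _) (congrArg Subtype.val hx))
  · rintro ⟨_, y, rfl⟩
    obtain ⟨x, h1, h2, h3⟩ := hb y
    exact ⟨⟨x, x, by rw [LinearMap.comp_apply, h1, h2]⟩, Subtype.ext h3⟩

end Two

end Field

end Groth.Agent.GrInj.SegK
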