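import Groth.Agent.GrInj.SegreKNat

/-!
# Local cohomology of a Segre product with a periodic module
-/

set_option autoImplicit false
set_option linter.unusedSectionVars false
universe u

open TensorProduct

namespace Groth.Agent.GrInj.SegK

open GrLC

section Lin

variable {k : Type u} [Field k] {X Y C : Type u} [AddCommGroup X] [Module k X] [AddCommGroup Y] [Module k Y]
  [AddCommGroup C] [Module k C]

theorem mem_range_map {ι : Type u} (j : C →ₗ[k] X) (F : ι → X →ₗ[k] X)
    (h : ∀ x, (∀ i, F i x = 0) → x ∈ LinearMap.range j) (v : X ⊗[k] Y)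
    (hv : ∀ i, map (F i) LinearMap.id v = 0) : ∃ w : C ⊗[k] Y, map j LinearMap.id w = v := by
  have h0 : map (LinearMap.range j).mkQ (LinearMap.id : Y →ₗ[k] Y) v = 0 :=
    jointly_injective_map F (fun _ : PUnit.{u + 1} => (LinearMap.id : Y →ₗ[k] Y)) _ _
      (fun x hx => (Submodule.Quotient.mk_eq_zero _).2 (h x hx)) (fun y hy => hy PUnit.unit) v
      fun i _ => hv i
  exact (Module.Flat.rTensor_exact (R := k) Y (f := j) (g := (LinearMap.range j).mkQ)
    (LinearMap.exact_map_mkQ_range j) v).1 h0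

theorem map_id_injective (j : C →ₗ[k] X) (hj : Function.Injective j) :
    Function.Injective (map j (LinearMap.id : Y →ₗ[k] Y)) :=
  map_injective_of_flat_flat j LinearMap.id hj Function.injective_id

theorem map_map_id {Z : Type u} [AddCommGroup Z] [Module k Z] (f : X →ₗ[k] Z) (g : C →ₗ[k] X) (v : C ⊗[k] Y) :
    map f LinearMap.id (map g LinearMap.id v) = map (f ∘ₗ g) (LinearMap.id : Y →ₗ[k] Y) v := by
  rw [← LinearMap.comp_apply, ← TensorProduct.map_comp, LinearMap.id_comp]

end Lin

variable {k : Type u} [Field k] {R : Type u} [CommRing R] [Algebra k R] {𝒜 : ℤ → Submodule k R} [GradedAlgebra 𝒜]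
  {S : Type u} [CommRing S] [Algebra k S] {ℬ : ℤ → Submodule k S} [GradedAlgebra ℬ]
  {T : Type u} [CommRing T] [Algebra k T] {𝒯 : ℤ → Submodule k T} [GradedAlgebra 𝒯]
  {ψ : T →ₐ[k] R ⊗[k] S}

theorem sval_pr (hT : GrSeg.IsSegreRing 𝒜 ℬ 𝒯 ψ) (X : GMod.{u} (Conv.grp 𝒜)) (Y : GMod.{u} (Conv.grp ℬ)) (d : ℤ)
    (x : (seg X Y hT).carrier) :
    sval X Y hT (pr (seg X Y hT).gr d x) = prd X Y d (sval X Y hT x) := by
  induction x using GrInj.induction (seg X Y hT).gr with
  | h0 => simp
  | hh g x hx =>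
    rw [prd_of_mem X Y ((mem_seg_gr X Y hT).1 hx)]
    rcases eq_or_ne g d with rfl | h
    · rw [pr_of_mem hx, if_pos rfl]
    · rw [pr_of_ne hx h, if_neg h, map_zero]
  | hadd p q hp hq => simp only [map_add, hp, hq]

attribute [-instance] Submodule.Quotient.instSMul' Submodule.Quotient.module' Submodule.Quotient.mulAction'
  Submodule.Quotient.smulZeroClass' Submodule.Quotient.distribSMul' Submodule.Quotient.distribMulAction'

section Per

variable {M : Type u} [AddCommGroup M] [Module R M] [Module k M] [IsScalarTower k R M]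
  {ℳ : ℤ → AddSubgroup M} [DirectSum.Decomposition ℳ] [SetLike.GradedSMul (Conv.grp 𝒜) ℳ]
  {aR : HomogeneousIdeal (Conv.grp 𝒜)} {GR : Gens (Conv.grp 𝒜) aR.toIdeal}
  (EM : StarInjRes (Conv.grp 𝒜) ℳ) (DM : ∀ n, Good GR (EM.X n))
  {N : Type u} [AddCommGroup N] [Module S N] [Module k N] [IsScalarTower k S N]
  {𝒩 : ℤ → AddSubgroup N} [DirectSum.Decomposition 𝒩] [SetLike.GradedSMul (Conv.grp ℬ) 𝒩]
  {IS : Ideal S} {GS : Gens (Conv.grp ℬ) IS} (B : TotRes GS 𝒩)
  (hBd : ∀ y, B.d y = 0) (hBw : ∀ i y, B.W.w i y = if i = 0 then y else 0) (hBτ : ∀ y, B.D.tau y = y)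
  (eN : B.X.carrier →ₗ[S] N) (heN : Function.Bijective eN) (heNgr : ∀ d y, y ∈ B.X.gr d ↔ eN y ∈ 𝒩 d)
  (hT : GrSeg.IsSegreRing 𝒜 ℬ 𝒯 ψ) [IsNoetherianRing T] {mT : HomogeneousIdeal 𝒯}
  (hmT : mT.toIdeal = Ideal.span (⋃ n ∈ Set.Ioi (0 : ℤ), (𝒯 n : Set T)))
  (hIR : ∀ n : ℤ, 0 < n → ∀ p ∈ 𝒜 n, p ∈ aR.toIdeal) (hIS : ∀ n : ℤ, 0 < n → ∀ p ∈ ℬ n, p ∈ IS)
  {P : Type u} [AddCommGroup P] [Module T P] [Module k P] [IsScalarTower k T P]
  {𝒬 : ℤ → AddSubgroup P} [DirectSum.Decomposition 𝒬] [SetLike.GradedSMul (Conv.grp 𝒯) 𝒬]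
  {φ : P →ₗ[k] M ⊗[k] N} (hP : GrSeg.IsSegreMod ψ ℳ 𝒩 𝒬 φ) (EP : StarInjRes (Conv.grp 𝒯) 𝒬)

include DM hBd hBw hBτ heN heNgr hT hmT hIR hIS hP in
/-- Local cohomology of a Segre product with a periodic module. -/
theorem exists_segreMod_periodic (q : ℕ) [Module k (EM.H aR q)] [IsScalarTower k R (EM.H aR q)]
    [Module k (EP.H (Conv.ideal 𝒯 mT) q)] [IsScalarTower k T (EP.H (Conv.ideal 𝒯 mT) q)]
    [DirectSum.Decomposition (EP.Hgr (Conv.ideal 𝒯 mT) q)] :
    ∃ φ' : EP.H (Conv.ideal 𝒯 mT) q →ₗ[k] EM.H aR q ⊗[k] N,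
      GrSeg.IsSegreMod ψ (EM.Hgr aR q) 𝒩 (EP.Hgr (Conv.ideal 𝒯 mT) q) φ' := by
  classical
  set A := totRes EM DM with hA
  set Y := segRes hT A B hP hmT hIR hIS with hY
  obtain ⟨κ, hκ0, hκg, hκs⟩ := exists_cohMap Y EP q
  let coc := ↥(gam (Conv.ideal 𝒯 mT).toIdeal (segTerm hT A B q).carrier ⊓ LinearMap.ker (segTermD hT A B q))
  let inc := fun n => segTermInc hT A B n
  have hincGr : ∀ n, IsGrHom (segTerm hT A B n).gr (seg A.X B.X hT).gr (inc n) := fun n d y hy => hy
  have hBsum : ∀ i, (B.W.w i).restrictScalars k = if i = 0 then LinearMap.id else (0 : B.X.carrier →ₗ[k] B.X.carrier) :=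
    fun i => LinearMap.ext fun y => by
      show B.W.w i y = _
      rw [hBw]; split_ifs <;> rfl
  have htw : ∀ n u, A.Wk.tw B.Wk n u = map (A.Wk.w n) LinearMap.id u := fun n u => by
    rw [Wts.tw, LinearMap.sum_apply, Finset.sum_eq_single n]
    · rw [Nat.sub_self, show B.Wk.w 0 = LinearMap.id from (hBsum 0).trans (if_pos rfl)]
    · intro i hi hne
      have := Finset.mem_range.1 hi
      rw [show B.Wk.w (n - i) = 0 from (hBsum (n - i)).trans (if_neg (by omega)), TensorProduct.map_zero_right]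
      rfl
    · exact fun h => absurd (Finset.mem_range.2 (by omega)) h
  have hτB : B.D.tau.restrictScalars k = LinearMap.id := LinearMap.ext hBτ
  have hDB : B.d.restrictScalars k = 0 := LinearMap.ext hBd
  have hsD : ∀ z : (seg A.X B.X hT).carrier, sval A.X B.X hT (totSegD hT A B z) =
      map (A.d.restrictScalars k) LinearMap.id (sval A.X B.X hT z) := fun z => by
    rw [totSegD, LinearMap.add_apply, map_add, sval_segMap, sval_segMap, hDB, TensorProduct.map_zero_right,
      LinearMap.zero_apply, add_zero]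
    rfl
  -- the tensor of a cochain
  have hw : ∀ n (y : (segTerm hT A B n).carrier),
      map (A.Wk.w n) LinearMap.id (sval A.X B.X hT (inc n y)) = sval A.X B.X hT (inc n y) := fun n y => by
    rw [← htw]
    exact (sval_totSegW hT A B n _).symm.trans (congrArg _ (segTerm_fix hT A B n y))
  have hg : ∀ n (y : (segTerm hT A B n).carrier), y ∈ gam mT.toIdeal (segTerm hT A B n).carrier →
      map (A.D.tau.restrictScalars k) LinearMap.id (sval A.X B.X hT (inc n y)) = 0 := fun n y hy => by
    rw [← hτB]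
    exact (mem_gam_seg_iff hT hmT A.D B.D hIR hIS _).1 (gam_map _ (inc n) hy)
  -- cochains of the first factor
  let C := EM.cocyc aR q
  let j : C →ₗ[k] A.X.carrier := ((sumIn EM.X q) ∘ₗ C.subtype).restrictScalars k
  have hj : Function.Injective j := fun c c' h => Subtype.ext (by
    have h' := congrArg (sumPr EM.X q) h
    exact (sumPr_in EM.X q c.1).symm.trans (h'.trans (sumPr_in EM.X q c'.1)))
  have hjd : ∀ n (x : A.X.carrier), A.Wk.w n x = x → A.D.tau x = 0 →
      x = sumIn EM.X n (sumPr EM.X n x) ∧ sumPr EM.X n x ∈ gam aR.toIdeal (EM.X n).carrier := fun n x hx hτ =>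
    ⟨hx.symm, gam_map _ (sumPr EM.X n) (A.D.tau_eq_zero_iff.1 hτ)⟩
  let Cn : ∀ n, gam aR.toIdeal (EM.X n).carrier →ₗ[k] A.X.carrier := fun n =>
    ((sumIn EM.X n) ∘ₗ (gam aR.toIdeal (EM.X n).carrier).subtype).restrictScalars k
  have hpre : ∀ n (v : A.X.carrier ⊗[k] B.X.carrier), map (A.Wk.w n) LinearMap.id v = v →
      map (A.D.tau.restrictScalars k) LinearMap.id v = 0 → ∃ w, map (Cn n) LinearMap.id w = v := by
    intro n v h1 h2
    refine mem_range_map (Cn n) (fun i : ULift.{u} Bool => if i.down then LinearMap.id - A.Wk.w n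
      else A.D.tau.restrictScalars k) (fun x hx => ?_) v fun i => ?_
    · have e1 := hx ⟨true⟩
      have e2 := hx ⟨false⟩
      simp only [if_true, LinearMap.sub_apply, LinearMap.id_apply, sub_eq_zero] at e1
      simp only [Bool.false_eq_true, if_false, LinearMap.coe_restrictScalars] at e2
      obtain ⟨e3, e4⟩ := hjd n x e1.symm e2
      exact ⟨⟨_, e4⟩, e3.symm⟩
    · obtain ⟨b⟩ := i
      cases b
      · simpa using h2
      · simp only [if_true]
        exact (LinearMap.congr_fun (LinearMap.rTensor_sub (LinearMap.id : A.X.carrier →ₗ[k] A.X.carrier) (A.Wk.w n)) v).trans (by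
          show map (LinearMap.id : A.X.carrier →ₗ[k] A.X.carrier) LinearMap.id v - map (A.Wk.w n) LinearMap.id v = 0
          rw [TensorProduct.map_id, LinearMap.id_apply, h1, sub_self])
  let ι : coc →ₗ[k] A.X.carrier ⊗[k] B.X.carrier :=
    { toFun := fun z => sval A.X B.X hT (inc q z.1)
      map_add' := fun z z' => (congrArg _ (map_add (inc q) z.1 z'.1)).trans (map_add _ _ _)
      map_smul' := fun c z => (congrArg _ (map_smul (inc q) (algebraMap k T c) z.1)).trans (sval_ksmul _ _ hT c _) }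
  have hι : ∀ z, ι z ∈ LinearMap.range (map j (LinearMap.id : B.X.carrier →ₗ[k] B.X.carrier)) := by
    rintro ⟨z, hzg, hzd⟩
    refine mem_range_map j (fun i : ULift.{u} (Fin 3) => ![LinearMap.id - A.Wk.w q, A.D.tau.restrictScalars k,
      A.d.restrictScalars k] i.down) (fun x hx => ?_) _ fun i => ?_
    · have e1 := hx ⟨0⟩
      have e2 := hx ⟨1⟩
      have e3 := hx ⟨2⟩
      simp only [Matrix.cons_val_zero, LinearMap.sub_apply, LinearMap.id_apply, sub_eq_zero] at e1
      simp only [Matrix.cons_val_one, Matrix.cons_val_zero, LinearMap.coe_restrictScalars] at e2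
      simp only [Matrix.cons_val, LinearMap.coe_restrictScalars] at e3
      obtain ⟨e4, e5⟩ := hjd q x e1.symm e2
      refine ⟨⟨sumPr EM.X q x, e5, ?_⟩, e4.symm⟩
      rw [e4] at e3
      change totD EM (sumIn EM.X q _) = 0 at e3
      rw [totD_in] at e3
      have := congrArg (sumPr EM.X (q + 1)) e3
      rwa [sumPr_in, map_zero] at this
    · obtain ⟨i⟩ := i
      fin_cases i
      · show map (LinearMap.id - A.Wk.w q) LinearMap.id (sval A.X B.X hT (inc q z)) = 0
        exact (LinearMap.congr_fun (LinearMap.rTensor_sub (LinearMap.id : A.X.carrier →ₗ[k] A.X.carrier) (A.Wk.w q)) _).trans (by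
          show map (LinearMap.id : A.X.carrier →ₗ[k] A.X.carrier) LinearMap.id _ - map (A.Wk.w q) LinearMap.id _ = 0
          rw [TensorProduct.map_id, LinearMap.id_apply, hw, sub_self])
      · exact hg q z hzg
      · show map (A.d.restrictScalars k) LinearMap.id (sval A.X B.X hT (inc q z)) = 0
        rw [← hsD]
        exact (congrArg _ ((congrArg (inc (q + 1)) (LinearMap.mem_ker.1 hzd)).trans (map_zero _))).trans (map_zero _)
  let J : coc →ₗ[k] C ⊗[k] B.X.carrier :=
    (LinearEquiv.ofInjective _ (map_id_injective j hj)).symm.toLinearMap ∘ₗ ι.codRestrict _ hι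
  have hJ : ∀ z, map j LinearMap.id (J z) = ι z := fun z =>
    congrArg Subtype.val ((LinearEquiv.ofInjective _ (map_id_injective j hj)).apply_symm_apply ⟨ι z, hι z⟩)
  let θ : C →ₗ[k] EM.H aR q :=
    { toFun := EM.toH aR q
      map_add' := map_add _
      map_smul' := fun c x => (map_smul (EM.toH aR q) (algebraMap k R c) x).symm.symm.trans
        (algebraMap_smul R c _) }
  let ek : B.X.carrier →ₗ[k] N := eN.restrictScalars k
  let Λ : coc →ₗ[k] EM.H aR q ⊗[k] N := map θ ek ∘ₗ J
  have hΛsplit : ∀ w, map θ ek w = map LinearMap.id ek (map θ LinearMap.id w) := fun w => by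
    rw [← LinearMap.comp_apply, ← TensorProduct.map_comp, LinearMap.id_comp, LinearMap.comp_id]
  have hek : Function.Injective (map (LinearMap.id : EM.H aR q →ₗ[k] EM.H aR q) ek) :=
    map_injective_of_flat_flat _ ek Function.injective_id heN.1
  -- the kernel
  have hker : ∀ z : coc, Λ z = 0 ↔ κ z = 0 := by
    intro z
    rw [hκ0]
    show map θ ek (J z) = 0 ↔ _
    rw [hΛsplit, ← map_zero (map (LinearMap.id : EM.H aR q →ₗ[k] EM.H aR q) ek), hek.eq_iff]
    cases q with
    | zero =>
      have hθ : Function.Injective θ := (injective_iff_map_eq_zero θ).2 fun c hc => by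
        have h : c ∈ (EM.cobdy aR 0).comap (EM.cocyc aR 0).subtype := (Submodule.Quotient.mk_eq_zero _).1 hc
        exact Subtype.ext ((Submodule.mem_bot R).1 h)
      rw [← map_zero (map θ (LinearMap.id : B.X.carrier →ₗ[k] B.X.carrier)), (map_id_injective θ hθ).eq_iff]
      rw [show Y.cob 0 = ⊥ from rfl, Submodule.mem_bot, ← (map_id_injective j hj).eq_iff, hJ, map_zero]
      exact ⟨fun h => segTermInc_injective hT A B 0 (sval_injective _ _ hT (h.trans
          ((congrArg _ (map_zero (inc 0))).trans (map_zero _)).symm)),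
        fun h => (congrArg (fun t => sval A.X B.X hT (inc 0 t)) h).trans
          ((congrArg _ (map_zero (inc 0))).trans (map_zero _))⟩
    | succ q =>
      let Ψ : gam aR.toIdeal (EM.X q).carrier →ₗ[k] C :=
        { toFun := fun c => ⟨EM.d q c.1, gam_map _ (EM.d q) c.2, d_comp EM q c.1⟩
          map_add' := fun _ _ => Subtype.ext (map_add _ _ _)
          map_smul' := fun r c => Subtype.ext (map_smul (EM.d q) (algebraMap k R r) c.1) }
      have hθΨ : θ ∘ₗ Ψ = 0 := LinearMap.ext fun c =>
        (Submodule.Quotient.mk_eq_zero _).2 ⟨c.1, c.2, rfl⟩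
      have hjΨ : j ∘ₗ Ψ = A.d.restrictScalars k ∘ₗ Cn q := LinearMap.ext fun c => (totD_in EM q c.1).symm
      have hex : Function.Exact Ψ θ := fun c => ⟨fun hc => by
        obtain ⟨b, hb, hbc⟩ := (Submodule.Quotient.mk_eq_zero _).1 (show Submodule.Quotient.mk c = 0 from hc)
        exact ⟨⟨b, hb⟩, Subtype.ext hbc⟩, by rintro ⟨b, rfl⟩; exact LinearMap.congr_fun hθΨ b⟩
      constructor
      · intro h
        obtain ⟨v, hv⟩ := (Module.Flat.rTensor_exact (R := k) B.X.carrier hex (J z)).1 h
        change map Ψ LinearMap.id v = J z at hv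
        set u := map (Cn q) (LinearMap.id : B.X.carrier →ₗ[k] B.X.carrier) v with hu
        have hdu : map (A.d.restrictScalars k) LinearMap.id u = ι z := by
          rw [hu, map_map_id, ← hjΨ, ← map_map_id, hv, hJ]
        show z.1 ∈ Y.cob (q + 1)
        refine GrInj.mem_of_pr (ℳ := (segTerm hT A B (q + 1)).gr) fun d => ?_
        have hcomm : ∀ (f : A.X.carrier →ₗ[R] A.X.carrier), IsGrHom A.X.gr A.X.gr f → ∀ v,
            map (f.restrictScalars k) LinearMap.id (prd A.X B.X d v) =
              prd A.X B.X d (map (f.restrictScalars k) LinearMap.id v) := fun f hf v => by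
          induction v using TensorProduct.induction_on with
          | zero => simp
          | add p q hp hq => simp only [map_add, hp, hq]
          | tmul x y =>
            simp only [prd, map_tmul, prk_apply, LinearMap.coe_restrictScalars, LinearMap.id_apply, pr_grHom hf]
        obtain ⟨x, hx⟩ := exists_sval A.X B.X hT (piece_le_segSub _ _ d (prd_mem A.X B.X d u))
        have hwu : map (A.Wk.w q) LinearMap.id u = u := by
          rw [hu, map_map_id]
          exact congrArg (fun f => map f LinearMap.id v) (LinearMap.ext fun c => congrArg (sumIn EM.X q) (sumPr_in EM.X q c.1))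
        have hτu : map (A.D.tau.restrictScalars k) LinearMap.id u = 0 := by
          rw [hu, map_map_id, show A.D.tau.restrictScalars k ∘ₗ Cn q = 0 from LinearMap.ext fun c =>
            A.D.tau_eq_zero_iff.2 (gam_map _ (sumIn EM.X q) c.2), TensorProduct.map_zero_left, LinearMap.zero_apply]
        obtain ⟨w, rfl⟩ := exists_segTerm hT A B (q := q) (z := x) (sval_injective A.X B.X hT (by
          rw [sval_totSegW]
          show A.Wk.tw B.Wk q _ = _
          rw [htw, hx]
          exact (hcomm _ (A.w_grHom q) u).trans (congrArg _ hwu)))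
        refine ⟨w, ?_, segTermInc_injective hT A B (q + 1) (sval_injective A.X B.X hT ?_)⟩
        · obtain ⟨i, hi⟩ := (mem_gam_seg_iff hT hmT A.D B.D hIR hIS _).2 (show map (A.D.tau.restrictScalars k)
            (B.D.tau.restrictScalars k) (sval A.X B.X hT (inc q w)) = 0 by
              rw [hτB, hx, hcomm _ A.D.grHom_tau, hτu, map_zero])
          exact ⟨i, fun r hr => segTermInc_injective hT A B q
            ((map_smul (inc q) r w).trans ((hi r hr).trans (map_zero (inc q)).symm))⟩
        · refine (hsD (inc q w)).trans ?_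
          rw [hx, hcomm _ A.d_grHom, hdu]
          exact (sval_pr hT A.X B.X d _).symm.trans (congrArg _ (pr_grHom (hincGr (q + 1)) d z.1))
      · intro hy
        obtain ⟨w, hwg, hwz⟩ : ∃ w : (segTerm hT A B q).carrier,
            w ∈ gam mT.toIdeal (segTerm hT A B q).carrier ∧ segTermD hT A B q w = z.1 := hy
        obtain ⟨v, hv⟩ := hpre q _ (hw q w) (hg q w hwg)
        have h1 : J z = map Ψ LinearMap.id v := by
          refine map_id_injective j hj ?_
          rw [hJ, map_map_id, hjΨ, ← map_map_id, hv, ← hsD]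
          exact congrArg (fun t => sval A.X B.X hT (inc (q + 1) t)) hwz.symm
        rw [h1, map_map_id, hθΨ, TensorProduct.map_zero_left, LinearMap.zero_apply]
  -- surjectivity of `κ`
  let κk : coc →ₗ[k] EP.H (Conv.ideal 𝒯 mT) q :=
    { toFun := κ
      map_add' := map_add κ
      map_smul' := fun c z => by
        show κ (c • z) = c • κ z
        rw [← algebraMap_smul T c (κ z), ← map_smul]
        rfl }
  have hκsurj : Function.Surjective κk := fun b => by
    induction b using GrInj.induction (EP.Hgr (Conv.ideal 𝒯 mT) q) with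
    | h0 => exact ⟨0, map_zero _⟩
    | hh g b hb =>
      obtain ⟨z, -, hz⟩ := hκs g b hb
      exact ⟨z, hz⟩
    | hadd p q hp hq =>
      obtain ⟨x, hx⟩ := hp
      obtain ⟨y, hy⟩ := hq
      exact ⟨x + y, by rw [map_add, hx, hy]⟩
  have hle : LinearMap.ker κk ≤ LinearMap.ker Λ := fun z hz => (hker z).2 hz
  let φ' : EP.H (Conv.ideal 𝒯 mT) q →ₗ[k] EM.H aR q ⊗[k] N :=
    Submodule.liftQ _ Λ hle ∘ₗ (κk.quotKerEquivOfSurjective hκsurj).symm.toLinearMap
  have hφ' : ∀ z, φ' (κk z) = Λ z := fun z => by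
    show Submodule.liftQ _ Λ hle ((κk.quotKerEquivOfSurjective hκsurj).symm (κk z)) = Λ z
    rw [show (κk.quotKerEquivOfSurjective hκsurj).symm (κk z) = Submodule.Quotient.mk z from
      (κk.quotKerEquivOfSurjective hκsurj).injective (by rw [LinearEquiv.apply_symm_apply]; rfl)]
    rfl
  refine ⟨φ', ⟨(injective_iff_map_eq_zero φ').2 fun b hb => ?_, fun d => ?_, fun t b => ?_⟩⟩
  · obtain ⟨z, rfl⟩ := hκsurj b
    rw [hφ'] at hb
    exact (hker z).1 hb
  · have hpiece : ∀ z : coc, z.1 ∈ (segTerm hT A B q).gr d →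
        Λ z ∈ GrSeg.segrePiece k (EM.Hgr aR q) 𝒩 d := by
      intro z hz
      have h1 : prd A.X B.X d (ι z) = ι z := by
        have := (sval_pr hT A.X B.X d (inc q z.1)).symm
        rwa [pr_of_mem (hincGr q d z.1 hz)] at this
      let pC : C →ₗ[k] C :=
        { toFun := fun c => ⟨pr (EM.X q).gr d c.1, S13225.gam_homogeneous aR d c.2.1, by
            show EM.d q _ = 0
            rw [← pr_grHom (EM.d_grHom q), show EM.d q c.1 = 0 from c.2.2, map_zero]⟩
          map_add' := fun _ _ => Subtype.ext (map_add _ _ _)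
          map_smul' := fun r c => Subtype.ext (map_smul (prk (EM.X q) d) r c.1) }
      have h2 : ∀ v, map j LinearMap.id (map pC (prk B.X d) v) = prd A.X B.X d (map j LinearMap.id v) := fun v => by
        induction v using TensorProduct.induction_on with
        | zero => simp
        | add p q hp hq => simp only [map_add, hp, hq]
        | tmul x y =>
          rw [map_tmul, map_tmul, map_tmul, prd, map_tmul]
          exact congrArg (· ⊗ₜ[k] _) (pr_grHom (grHom_sumIn EM.X q) d x.1).symm
      have h3 : map pC (prk B.X d) (J z) = J z := map_id_injective j hj (by rw [h2, hJ, h1])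
      show map θ ek (J z) ∈ _
      rw [← h3]
      generalize J z = v
      induction v using TensorProduct.induction_on with
      | zero => simp only [map_zero]; exact zero_mem _
      | add p q hp hq => simp only [map_add]; exact add_mem hp hq
      | tmul x y =>
        rw [map_tmul, map_tmul]
        exact Submodule.subset_span ⟨_, ⟨pC x, pr_mem d x.1, rfl⟩, _, (heNgr d _).1 (pr_mem d y), rfl⟩
    refine Set.Subset.antisymm ?_ fun v hv => ?_
    · rintro _ ⟨b, hb, rfl⟩
      obtain ⟨z, hz, rfl⟩ := hκs d b hb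
      exact (hφ' z).symm ▸ hpiece z hz
    · change v ∈ GrSeg.segrePiece k (EM.Hgr aR q) 𝒩 d at hv
      unfold GrSeg.segrePiece at hv
      have hex : ∃ z : coc, z.1 ∈ (segTerm hT A B q).gr d ∧ Λ z = v := by
        induction hv using Submodule.span_induction with
        | mem v hv =>
          obtain ⟨c, ⟨x, hx, rfl⟩, y, hy, rfl⟩ := hv
          obtain ⟨y, rfl⟩ := heN.2 y
          rw [← heNgr] at hy
          have hmem : j x ⊗ₜ[k] y ∈ GrSeg.segrePiece k A.X.gr B.X.gr d :=
            Submodule.subset_span ⟨_, grHom_sumIn EM.X q d _ hx, _, hy, rfl⟩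
          obtain ⟨s, hs⟩ := exists_sval A.X B.X hT (piece_le_segSub _ _ d hmem)
          have hjw : A.Wk.w q (j x) = j x := congrArg (sumIn EM.X q) (sumPr_in EM.X q x.1)
          obtain ⟨w, rfl⟩ := exists_segTerm hT A B (q := q) (z := s) (sval_injective A.X B.X hT (by
            rw [sval_totSegW]
            show A.Wk.tw B.Wk q _ = _
            rw [htw, hs, map_tmul, hjw]; rfl))
          have hgw : w ∈ gam mT.toIdeal (segTerm hT A B q).carrier := by
            obtain ⟨i, hi⟩ := (mem_gam_seg_iff hT hmT A.D B.D hIR hIS _).2 (show map (A.D.tau.restrictScalars k)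
              (B.D.tau.restrictScalars k) (sval A.X B.X hT (inc q w)) = 0 by
                rw [hs, map_tmul, show A.D.tau.restrictScalars k (j x) = 0 from
                  A.D.tau_eq_zero_iff.2 (gam_map _ (sumIn EM.X q) x.2.1), zero_tmul])
            exact ⟨i, fun r hr => segTermInc_injective hT A B q
            ((map_smul (inc q) r w).trans ((hi r hr).trans (map_zero (inc q)).symm))⟩
          have hdw : segTermD hT A B q w = 0 :=
            segTermInc_injective hT A B (q + 1) (sval_injective A.X B.X hT (by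
              refine (hsD (inc q w)).trans ?_
              rw [hs, map_tmul, show A.d.restrictScalars k (j x) = 0 from (totD_in EM q x.1).trans (by
                rw [show EM.d q x.1 = 0 from x.2.2, map_zero]; rfl), zero_tmul, map_zero, map_zero]))
          refine ⟨⟨w, hgw, hdw⟩, (mem_segTerm_gr hT A B).2 ((mem_seg_gr A.X B.X hT).2 (hs ▸ hmem)), ?_⟩
          show map θ ek (J ⟨w, hgw, hdw⟩) = _
          rw [map_id_injective j hj (a₁ := J ⟨w, hgw, hdw⟩) (a₂ := x ⊗ₜ[k] y) (by
            rw [hJ, map_tmul]; exact hs)]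
          rfl
        | zero => exact ⟨0, zero_mem _, map_zero _⟩
        | add p q _ _ hp hq =>
          obtain ⟨x, hx, rfl⟩ := hp
          obtain ⟨y, hy, rfl⟩ := hq
          exact ⟨x + y, add_mem hx hy, map_add _ _ _⟩
        | smul c p _ hp =>
          obtain ⟨x, hx, rfl⟩ := hp
          exact ⟨c • x, ksmul_mem (𝒜 := 𝒯) c hx, map_smul _ _ _⟩
      obtain ⟨z, hz, rfl⟩ := hex
      exact ⟨κk z, hκg d z hz, hφ' z⟩
  · obtain ⟨z, rfl⟩ := hκsurj b
    show φ' (t • κ z) = _
    rw [← map_smul]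
    refine (hφ' (t • z)).trans ?_
    rw [hφ']
    show map θ ek (J (t • z)) = GrSeg.act k R S _ _ (ψ t) (map θ ek (J z))
    rw [map_id_injective j hj (a₁ := J (t • z))
      (a₂ := GrSeg.act k R S C B.X.carrier (ψ t) (J z)) ?_]
    · exact act_map (EM.toH aR q) eN (ψ t) (J z)
    · rw [hJ]
      refine Eq.trans ?_ (act_map ((sumIn EM.X q) ∘ₗ C.subtype) LinearMap.id (ψ t) (J z)).symm
      refine Eq.trans ?_ (congrArg (GrSeg.act k R S A.X.carrier B.X.carrier (ψ t)) (hJ z)).symm
      exact (congrArg _ (map_smul (inc q) t z.1)).trans (sval_smul _ _ hT t _)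

end Per

/-- Local cohomology of a Segre product with a module on which a homogeneous element acts bijectively. -/
theorem exists_segreMod_bijective [IsNoetherianRing R] (hT : GrSeg.IsSegreRing 𝒜 ℬ 𝒯 ψ) [IsNoetherianRing T]
    {M : Type u} [AddCommGroup M] [Module R M] [Module k M] [IsScalarTower k R M]
    {ℳ : ℤ → AddSubgroup M} [DirectSum.Decomposition ℳ] [SetLike.GradedSMul (Conv.grp 𝒜) ℳ]
    {aR : HomogeneousIdeal (Conv.grp 𝒜)}
    (haR : aR.toIdeal = Ideal.span (⋃ n ∈ Set.Ioi (0 : ℤ), (𝒜 n : Set R))) (EM : StarInjRes (Conv.grp 𝒜) ℳ)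
    {N : Type u} [AddCommGroup N] [Module S N] [Module k N] [IsScalarTower k S N]
    {𝒩 : ℤ → AddSubgroup N} [DirectSum.Decomposition 𝒩] [SetLike.GradedSMul (Conv.grp ℬ) 𝒩]
    {e : ℕ} (he : 0 < e) {g : S} (hg : g ∈ ℬ (e : ℤ)) (hgN : Function.Bijective (fun y : N => g • y))
    {mT : HomogeneousIdeal 𝒯} (hmT : mT.toIdeal = Ideal.span (⋃ n ∈ Set.Ioi (0 : ℤ), (𝒯 n : Set T)))
    {P : Type u} [AddCommGroup P] [Module T P] [Module k P] [IsScalarTower k T P]
    {𝒬 : ℤ → AddSubgroup P} [DirectSum.Decomposition 𝒬] [SetLike.GradedSMul (Conv.grp 𝒯) 𝒬]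
    {φ : P →ₗ[k] M ⊗[k] N} (hP : GrSeg.IsSegreMod ψ ℳ 𝒩 𝒬 φ) (EP : StarInjRes (Conv.grp 𝒯) 𝒬)
    (q : ℕ) [Module k (EM.H aR q)] [IsScalarTower k R (EM.H aR q)]
    [Module k (EP.H (Conv.ideal 𝒯 mT) q)] [IsScalarTower k T (EP.H (Conv.ideal 𝒯 mT) q)]
    [DirectSum.Decomposition (EP.Hgr (Conv.ideal 𝒯 mT) q)] :
    ∃ φ' : EP.H (Conv.ideal 𝒯 mT) q →ₗ[k] EM.H aR q ⊗[k] N,
      GrSeg.IsSegreMod ψ (EM.Hgr aR q) 𝒩 (EP.Hgr (Conv.ideal 𝒯 mT) q) φ' := by
  classical
  obtain ⟨GR, hGR⟩ := exists_gens (𝒜 := Conv.grp 𝒜) aR.toIdeal haR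
  let DM := fun n => (nonempty_good GR hGR _ (EM.starInj n)).some
  let IS : Ideal S := Ideal.span (⋃ n ∈ Set.Ioi (0 : ℤ), (ℬ n : Set S))
  have hIS : ∀ n : ℤ, 0 < n → ∀ p ∈ ℬ n, p ∈ IS := fun n hn p hp =>
    Ideal.subset_span (Set.mem_biUnion (Set.mem_Ioi.2 hn) hp)
  have hgI : g ∈ IS := hIS e (by exact_mod_cast he) g hg
  let G : Gens (Conv.grp ℬ) IS :=
    { L := 1, f := fun _ => g, e := fun _ => e, he := fun _ => he, hf := fun _ => hg, hI := fun _ => hgI }
  let X : GMod.{u} (Conv.grp ℬ) := GMod.of (Conv.grp ℬ) N 𝒩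
  let E := LinearEquiv.ofBijective (LinearMap.lsmul S X.carrier g) hgN
  have hE : ∀ x, g • E.symm x = x := fun x => E.apply_symm_apply x
  let D : Good G X :=
    { p0 := 0
      q := fun _ => E.symm.toLinearMap
      p0_grHom := fun d m _ => zero_mem _
      q_deg := fun _ d m hm => by
        have h : pr X.gr (d + -(e : ℤ)) (E.symm m) = E.symm m := E.injective (by
          show g • pr X.gr (d + -(e : ℤ)) (E.symm m) = g • E.symm m
          rw [← pr_smul (𝒜 := Conv.grp ℬ) (show g ∈ Conv.grp ℬ (e : ℤ) from hg), hE,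
            show (e : ℤ) + (d + -(e : ℤ)) = d by ring, pr_of_mem hm])
        show E.symm m ∈ X.gr (d + -(e : ℤ))
        rw [← h]
        exact pr_mem _ _
      sum := fun x => by
        show (0 : X.carrier) + ∑ _l : Fin 1, g • E.symm x = x
        rw [Fin.sum_univ_one, zero_add, hE]
      fqq := fun _ x => hE (E.symm x)
      tors := fun x => zero_mem _ }
  let B : TotRes G 𝒩 :=
    { X := X
      W :=
        { w := fun i => if i = 0 then LinearMap.id else 0
          w_self := fun i x => by split_ifs <;> simp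
          w_ne := fun i j h x => by split_ifs <;> simp_all
          w_sum := fun x => ⟨1, by simp⟩ }
      d := 0
      ε := LinearMap.id
      D := D
      w_grHom := fun i d m hm => by
        show (if i = 0 then LinearMap.id else (0 : X.carrier →ₗ[S] X.carrier)) m ∈ X.gr d
        split_ifs
        exacts [hm, zero_mem _]
      d_grHom := fun _ _ _ => zero_mem _
      ε_grHom := fun _ _ hm => hm
      ε_inj := Function.injective_id
      d_d := fun _ => rfl
      d_w := fun i x => by simp
      w0_d := fun x => by simp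
      w0_ε := fun m => rfl
      d_ε := fun _ => rfl
      exact0 := fun x _ _ => ⟨x, rfl⟩
      exact1 := fun i x hx _ => ⟨0, map_zero _, by rw [← hx]; simp⟩
      tau_w := fun i x => by rcases i with _ | i <;> simp }
  exact exists_segreMod_periodic EM DM B (fun _ => rfl) (fun i y => by
      show (if i = 0 then LinearMap.id else (0 : X.carrier →ₗ[S] X.carrier)) y = _
      split_ifs <;> rfl)
    (fun y => by
      have h := B.D.p0_add_tau y
      exact (zero_add _).symm.trans h)
    LinearMap.id Function.bijective_id (fun _ _ => Iff.rfl) hT hmT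
    (fun n hn p hp => haR ▸ Ideal.subset_span (Set.mem_biUnion (Set.mem_Ioi.2 hn) hp)) hIS hP EP q

end Groth.Agent.GrInj.SegK
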