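import Groth.Agent.GrInj.SegreKCls
import Groth.Agent.GrInj.AcyclicGr

/-!
# The resolution of a Segre product
-/

set_option autoImplicit false
set_option linter.unusedSectionVars false
universe u

open TensorProduct

namespace Groth.Agent.GrInj.SegK

open GrLC LocCohLib

variable {k : Type u} [Field k] {R : Type u} [CommRing R] [Algebra k R] {𝒜 : ℤ → Submodule k R}
  [GradedAlgebra 𝒜] {S : Type u} [CommRing S] [Algebra k S] {ℬ : ℤ → Submodule k S} [GradedAlgebra ℬ]
  {T : Type u} [CommRing T] [Algebra k T] {𝒯 : ℤ → Submodule k T} [GradedAlgebra 𝒯]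
  {ψ : T →ₐ[k] R ⊗[k] S} (hT : GrSeg.IsSegreRing 𝒜 ℬ 𝒯 ψ)

section Tensor

variable {IR : Ideal R} {GR : Gens (Conv.grp 𝒜) IR} {M : Type u} [AddCommGroup M] [Module R M]
  {ℳ : ℤ → AddSubgroup M}
  {IS : Ideal S} {GS : Gens (Conv.grp ℬ) IS} {N : Type u} [AddCommGroup N] [Module S N]
  {𝒩 : ℤ → AddSubgroup N}
  (A : TotRes GR ℳ) (B : TotRes GS 𝒩)

/-- The tensor product complex of degree `d`. -/
noncomputable abbrev full₂ (d : ℤ) : Spl (Spl.tWts A.Wk B.Wk) := (A.full d).tensor (B.full d)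

/-- The tensor product complex of degree `d`, modulo torsion. -/
noncomputable abbrev quot₂ (d : ℤ) : Spl (Spl.tWts A.Wk B.Wk) := (A.quot d).tensor (B.quot d)

theorem full₂_τ (d : ℤ) (v : A.X.carrier ⊗[k] B.X.carrier) : (full₂ A B d).τ v = prd A.X B.X d v := by
  refine LinearMap.congr_fun (TensorProduct.ext' (g := map (A.full d).τ (B.full d).τ)
    (h := prd A.X B.X d) fun x y => ?_) v
  rw [map_tmul, A.full_τ, B.full_τ]; rfl

theorem quot₂_τ (d : ℤ) (v : A.X.carrier ⊗[k] B.X.carrier) :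
    (quot₂ A B d).τ v = map (A.D.tau.restrictScalars k) (B.D.tau.restrictScalars k) (prd A.X B.X d v) := by
  refine LinearMap.congr_fun (TensorProduct.ext' (g := map (A.quot d).τ (B.quot d).τ)
    (h := map (A.D.tau.restrictScalars k) (B.D.tau.restrictScalars k) ∘ₗ prd A.X B.X d) fun x y => ?_) v
  rw [map_tmul, A.quot_τ, B.quot_τ]; rfl

theorem full₂_τ_of_mem {d : ℤ} {v : A.X.carrier ⊗[k] B.X.carrier}
    (hv : v ∈ GrSeg.segrePiece k A.X.gr B.X.gr d) : (full₂ A B d).τ v = v := by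
  rw [full₂_τ, prd_of_mem A.X B.X hv, if_pos rfl]

theorem mem_piece_of_τ {d : ℤ} {v : A.X.carrier ⊗[k] B.X.carrier} (hv : (full₂ A B d).τ v = v) :
    v ∈ GrSeg.segrePiece k A.X.gr B.X.gr d := by
  rw [← hv, full₂_τ]; exact prd_mem A.X B.X d v

theorem wk_sgn (x : A.X.carrier) : A.Wk.sgn x = A.W.sgn x := by
  refine LinearMap.congr_fun (A.Wk.ext (f := A.Wk.sgn) (g := A.W.sgn.restrictScalars k) fun i y hy => ?_) x
  show A.Wk.sgn y = A.W.sgn y
  rw [A.Wk.sgn_of hy, A.W.sgn_of (i := i) hy, ← algebraMap_smul R ((-1 : k) ^ i), map_pow, map_neg,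
    map_one]

theorem grHom_sgn : IsGrHom A.X.gr A.X.gr A.W.sgn := by
  intro g x hx
  obtain ⟨n, hn⟩ := A.W.w_sum x
  rw [← hn, map_sum]
  refine sum_mem fun i _ => ?_
  rw [A.W.sgn_of (A.W.w_self i x)]
  rcases neg_one_pow_eq_or R i with h | h
  · rw [h, one_smul]; exact A.w_grHom i g x hx
  · rw [h, neg_one_smul]; exact neg_mem (A.w_grHom i g x hx)

theorem deg_of_grHom {R' : Type u} [CommRing R'] {Z Z' : Type u} [AddCommGroup Z] [Module R' Z]
    [AddCommGroup Z'] [Module R' Z'] {𝒵 : ℤ → AddSubgroup Z} {𝒵' : ℤ → AddSubgroup Z'}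
    {f : Z →ₗ[R'] Z'} (hf : IsGrHom 𝒵 𝒵' f) : IsGrHomDeg 𝒵 𝒵' f 0 := fun g m hm => by
  rw [add_zero]; exact hf g m hm

theorem grHom_of_deg {R' : Type u} [CommRing R'] {Z Z' : Type u} [AddCommGroup Z] [Module R' Z]
    [AddCommGroup Z'] [Module R' Z'] {𝒵 : ℤ → AddSubgroup Z} {𝒵' : ℤ → AddSubgroup Z'}
    {f : Z →ₗ[R'] Z'} (hf : IsGrHomDeg 𝒵 𝒵' f 0) : IsGrHom 𝒵 𝒵' f := fun g m hm => by
  have := hf g m hm; rwa [add_zero] at this

/-- The total differential. -/
noncomputable def totSegD : (seg A.X B.X hT).carrier →ₗ[T] (seg A.X B.X hT).carrier :=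
  segMap hT (deg_of_grHom A.d_grHom) (deg_id B.X) +
    segMap hT (deg_of_grHom (grHom_sgn A)) (deg_of_grHom B.d_grHom)

theorem totSegD_grHom : IsGrHom (seg A.X B.X hT).gr (seg A.X B.X hT).gr (totSegD hT A B) :=
  fun g m hm => add_mem (grHom_of_deg (segMap_deg hT _ _) g m hm) (grHom_of_deg (segMap_deg hT _ _) g m hm)

/-- The projection to total weight `q`. -/
noncomputable def totSegW (q : ℕ) : (seg A.X B.X hT).carrier →ₗ[T] (seg A.X B.X hT).carrier :=
  ∑ i ∈ Finset.range (q + 1),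
    segMap hT (deg_of_grHom (A.w_grHom i)) (deg_of_grHom (B.w_grHom (q - i)))

theorem sval_totSegW (q : ℕ) (z : (seg A.X B.X hT).carrier) :
    sval A.X B.X hT (totSegW hT A B q z) = (Spl.tWts A.Wk B.Wk).w q (sval A.X B.X hT z) := by
  show _ = A.Wk.tw B.Wk q _
  rw [totSegW, LinearMap.sum_apply, map_sum, Wts.tw, LinearMap.sum_apply]
  exact Finset.sum_congr rfl fun i _ => sval_segMap hT _ _ z

theorem totSegW_grHom (q : ℕ) : IsGrHom (seg A.X B.X hT).gr (seg A.X B.X hT).gr (totSegW hT A B q) :=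
  fun g m hm => by
    rw [totSegW, LinearMap.sum_apply]
    exact sum_mem fun i _ => grHom_of_deg (segMap_deg hT _ _) g m hm

theorem sval_totSegD {d : ℤ} {z : (seg A.X B.X hT).carrier} (hz : z ∈ (seg A.X B.X hT).gr d) :
    sval A.X B.X hT (totSegD hT A B z) = (full₂ A B d).δ (sval A.X B.X hT z) := by
  rw [totSegD, LinearMap.add_apply, map_add, sval_segMap, sval_segMap]
  have h := (mem_seg_gr A.X B.X hT).1 hz
  generalize sval A.X B.X hT z = v at h
  show _ = (map (A.full d).δ (B.full d).τ + map (A.Wk.sgn ∘ₗ (A.full d).τ) (B.full d).δ) v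
  unfold GrSeg.segrePiece at h
  induction h using Submodule.span_induction with
  | mem v hv =>
    obtain ⟨x, hx, y, hy, rfl⟩ := hv
    simp only [LinearMap.add_apply, map_tmul, LinearMap.comp_apply, LinearMap.coe_restrictScalars,
      LinearMap.id_apply, A.full_δ, B.full_τ, A.full_τ, B.full_δ, pr_of_mem hx, pr_of_mem hy, wk_sgn]
  | zero => simp
  | add p q _ _ hp hq => simp only [map_add]; rw [← hp, ← hq]; abel
  | smul c p _ hp => simp only [map_smul]; rw [← hp, smul_add]

theorem totSegW_self (q : ℕ) (z : (seg A.X B.X hT).carrier) :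
    totSegW hT A B q (totSegW hT A B q z) = totSegW hT A B q z :=
  sval_injective A.X B.X hT (by rw [sval_totSegW, sval_totSegW, (Spl.tWts A.Wk B.Wk).w_self])

theorem totSegD_W (q : ℕ) : totSegD hT A B ∘ₗ totSegW hT A B q =
    totSegW hT A B (q + 1) ∘ₗ totSegD hT A B :=
  GrInj.hom_ext (ℳ := (seg A.X B.X hT).gr) fun d z hz => sval_injective A.X B.X hT (by
    rw [LinearMap.comp_apply, LinearMap.comp_apply, sval_totSegW,
      sval_totSegD hT A B (totSegW_grHom hT A B q d z hz), sval_totSegW, sval_totSegD hT A B hz]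
    exact (full₂ A B d).δw q _)

theorem totSegD_D : totSegD hT A B ∘ₗ totSegD hT A B = 0 :=
  GrInj.hom_ext (ℳ := (seg A.X B.X hT).gr) fun d z hz => sval_injective A.X B.X hT (by
    rw [LinearMap.comp_apply, LinearMap.zero_apply, map_zero,
      sval_totSegD hT A B (totSegD_grHom hT A B d z hz), sval_totSegD hT A B hz]
    exact (full₂ A B d).δδ _)

theorem full₂_π_succ (d : ℤ) (q : ℕ) (v : A.X.carrier ⊗[k] B.X.carrier) :
    (full₂ A B d).π ((Spl.tWts A.Wk B.Wk).w (q + 1) v) = 0 := by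
  refine LinearMap.congr_fun (A.Wk.ext_tmul B.Wk
    (f := map (A.full d).π (B.full d).π ∘ₗ A.Wk.tw B.Wk (q + 1)) (g := 0) fun a b x y hx hy => ?_) v
  rw [LinearMap.comp_apply, A.Wk.tw_tmul B.Wk hx hy]
  split_ifs with h
  · rw [map_tmul, LinearMap.zero_apply]
    cases a with
    | zero =>
      obtain rfl : b = q + 1 := by omega
      rw [← hy, B.full_π_succ, tmul_zero]
    | succ a => rw [← hx, A.full_π_succ, zero_tmul]
  · exact map_zero _

/-- The terms of the resolution. -/
noncomputable def segTerm (q : ℕ) : GMod.{u} (Conv.grp 𝒯) :=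
  subMod (Conv.grp 𝒯) (LinearMap.range (totSegW hT A B q)) (hom_range (totSegW_grHom hT A B q))

/-- The inclusion of a term. -/
noncomputable def segTermInc (q : ℕ) : (segTerm hT A B q).carrier →ₗ[T] (seg A.X B.X hT).carrier :=
  subInc (Conv.grp 𝒯) _ (hom_range (totSegW_grHom hT A B q))

theorem segTermInc_injective (q : ℕ) : Function.Injective (segTermInc hT A B q) := subInc_injective _

theorem segTerm_fix (q : ℕ) (y : (segTerm hT A B q).carrier) :
    totSegW hT A B q (segTermInc hT A B q y) = segTermInc hT A B q y := by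
  obtain ⟨z, hz⟩ := y.2
  show totSegW hT A B q y.1 = y.1
  rw [← hz, totSegW_self]

theorem exists_segTerm {q : ℕ} {z : (seg A.X B.X hT).carrier} (hz : totSegW hT A B q z = z) :
    ∃ y, segTermInc hT A B q y = z := ⟨⟨z, z, hz⟩, rfl⟩

theorem mem_segTerm_gr {q : ℕ} {d : ℤ} {y : (segTerm hT A B q).carrier} :
    y ∈ (segTerm hT A B q).gr d ↔ segTermInc hT A B q y ∈ (seg A.X B.X hT).gr d := Iff.rfl

theorem totSegD_mem (q : ℕ) (y : (segTerm hT A B q).carrier) :
    totSegD hT A B (segTermInc hT A B q y) ∈ LinearMap.range (totSegW hT A B (q + 1)) :=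
  ⟨totSegD hT A B (segTermInc hT A B q y), by
    rw [← LinearMap.comp_apply, ← totSegD_W, LinearMap.comp_apply, segTerm_fix]⟩

/-- The differential of the resolution. -/
noncomputable def segTermD (q : ℕ) : (segTerm hT A B q).carrier →ₗ[T] (segTerm hT A B (q + 1)).carrier :=
  (totSegD hT A B ∘ₗ segTermInc hT A B q).codRestrict _ (totSegD_mem hT A B q)

theorem inc_segTermD (q : ℕ) (y : (segTerm hT A B q).carrier) :
    segTermInc hT A B (q + 1) (segTermD hT A B q y) = totSegD hT A B (segTermInc hT A B q y) := rfl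

theorem segTermD_grHom (q : ℕ) :
    IsGrHom (segTerm hT A B q).gr (segTerm hT A B (q + 1)).gr (segTermD hT A B q) :=
  fun d _ hy => totSegD_grHom hT A B d _ hy

section Aug

variable [Module k M] [IsScalarTower k R M] [Module k N] [IsScalarTower k S N]
  {P : Type u} [AddCommGroup P] [Module T P] [Module k P] [IsScalarTower k T P]
  {𝒬 : ℤ → AddSubgroup P} [DirectSum.Decomposition 𝒬] {φ : P →ₗ[k] M ⊗[k] N}
  (hP : GrSeg.IsSegreMod ψ ℳ 𝒩 𝒬 φ)

theorem εmap_mem {d : ℤ} {v : M ⊗[k] N} (hv : v ∈ GrSeg.segrePiece k ℳ 𝒩 d) :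
    map (A.ε.restrictScalars k) (B.ε.restrictScalars k) v ∈ GrSeg.segrePiece k A.X.gr B.X.gr d := by
  have h := map_piece (a := A.ε.restrictScalars k) (b := B.ε.restrictScalars k) (ℳ' := A.X.gr)
    (𝒩' := B.X.gr) (d := 0) (fun x hx => by rw [add_zero]; exact A.ε_grHom d x hx)
    (fun y hy => by rw [add_zero]; exact B.ε_grHom d y hy) hv
  rwa [add_zero] at h

include hP in
theorem εmap_mem_segSub (p : P) :
    map (A.ε.restrictScalars k) (B.ε.restrictScalars k) (φ p) ∈ segSub A.X B.X := by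
  induction p using induction 𝒬 with
  | h0 => rw [map_zero, map_zero]; exact zero_mem _
  | hh d p hp =>
    exact piece_le_segSub _ _ d (εmap_mem A B (by
      have := (hP.image_piece d).le ⟨p, hp, rfl⟩
      exact this))
  | hadd a b ha hb => rw [map_add, map_add]; exact add_mem ha hb

/-- The augmentation into the Segre product. -/
noncomputable def segAug : P →ₗ[T] (seg A.X B.X hT).carrier where
  toFun p := ⟨map (A.ε.restrictScalars k) (B.ε.restrictScalars k) (φ p), εmap_mem_segSub A B hP p⟩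
  map_add' p q := Subtype.ext (by
    show map (A.ε.restrictScalars k) (B.ε.restrictScalars k) (φ (p + q)) = _
    rw [map_add, map_add]; rfl)
  map_smul' t p := Subtype.ext (by
    show map (A.ε.restrictScalars k) (B.ε.restrictScalars k) (φ (t • p)) = _
    rw [hP.map_smul, act_map]; rfl)

theorem sval_segAug (p : P) : sval A.X B.X hT (segAug hT A B hP p) =
    map (A.ε.restrictScalars k) (B.ε.restrictScalars k) (φ p) := rfl

theorem segAug_grHom : IsGrHom 𝒬 (seg A.X B.X hT).gr (segAug hT A B hP) :=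
  fun d p hp => εmap_mem A B ((hP.image_piece d).le ⟨p, hp, rfl⟩)

theorem segAug_W (p : P) : totSegW hT A B 0 (segAug hT A B hP p) = segAug hT A B hP p := by
  refine sval_injective A.X B.X hT ?_
  rw [sval_totSegW, sval_segAug]
  show A.Wk.tw B.Wk 0 _ = _
  rw [tw_zero]
  generalize φ p = v
  induction v using TensorProduct.induction_on with
  | zero => simp
  | add a b ha hb => simp only [map_add, ha, hb]
  | tmul x y =>
    simp only [map_tmul, LinearMap.coe_restrictScalars]
    exact congrArg₂ (· ⊗ₜ[k] ·) (A.w0_ε x) (B.w0_ε y)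

theorem segAug_D (p : P) : totSegD hT A B (segAug hT A B hP p) = 0 := by
  refine sval_injective A.X B.X hT ?_
  rw [totSegD, LinearMap.add_apply, map_add, sval_segMap, sval_segMap, sval_segAug, map_zero]
  generalize φ p = v
  induction v using TensorProduct.induction_on with
  | zero => simp
  | add a b ha hb => simp only [map_add]; rw [add_add_add_comm, ha, hb, add_zero]
  | tmul x y => simp [A.d_ε, B.d_ε]

theorem segAug_injective : Function.Injective (segAug hT A B hP) := fun p q h => hP.injective (by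
  have h' := congrArg (sval A.X B.X hT) h
  rw [sval_segAug, sval_segAug] at h'
  exact map_injective_of_flat_flat (A.ε.restrictScalars k) (B.ε.restrictScalars k) A.ε_inj B.ε_inj h')

theorem totSeg_exact0 [DirectSum.Decomposition ℳ] [DirectSum.Decomposition 𝒩]
    {d : ℤ} {z : (seg A.X B.X hT).carrier} (hz : z ∈ (seg A.X B.X hT).gr d)
    (hw : totSegW hT A B 0 z = z) (hd : totSegD hT A B z = 0) : ∃ p, segAug hT A B hP p = z := by
  set v := sval A.X B.X hT z with hv
  have hτ : (full₂ A B d).τ v = v := full₂_τ_of_mem A B hz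
  have hwv : (Spl.tWts A.Wk B.Wk).w 0 v = v := by rw [hv, ← sval_totSegW, hw]
  have hδ : (full₂ A B d).δ v = 0 := by rw [hv, ← sval_totSegD hT A B hz, hd, map_zero]
  have hπ : (full₂ A B d).π v = v := by
    have := (full₂ A B d).homotopy v
    rw [hδ, show (full₂ A B d).h v = 0 by rw [← hwv]; exact (full₂ A B d).hw0 _, map_zero, map_zero,
      add_zero, hτ] at this
    exact (sub_eq_zero.1 this.symm).symm
  have key : v ∈ (GrSeg.segrePiece k ℳ 𝒩 d).map
      (map (A.ε.restrictScalars k) (B.ε.restrictScalars k)) := by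
    rw [← hπ, ← hwv]
    show map (A.full d).π (B.full d).π (A.Wk.tw B.Wk 0 v) ∈ _
    rw [tw_zero]
    generalize v = u
    induction u using TensorProduct.induction_on with
    | zero => simp only [map_zero]; exact zero_mem _
    | add a b ha hb => simp only [map_add]; exact add_mem ha hb
    | tmul x y =>
      obtain ⟨m, hm, hme⟩ := (A.range_full_zero d _).1 ⟨x, rfl⟩
      obtain ⟨n, hn, hne⟩ := (B.range_full_zero d _).1 ⟨y, rfl⟩
      refine ⟨m ⊗ₜ[k] n, Submodule.subset_span ⟨m, hm, n, hn, rfl⟩, ?_⟩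
      rw [map_tmul, map_tmul, map_tmul, ← hme, ← hne]; rfl
  obtain ⟨u, hu, huv⟩ := key
  obtain ⟨p, -, hp⟩ := (hP.image_piece d).ge hu
  exact ⟨p, sval_injective A.X B.X hT (by rw [sval_segAug, hp, huv])⟩

theorem totSeg_exact1 {d : ℤ} {q : ℕ} {z : (seg A.X B.X hT).carrier}
    (hz : z ∈ (seg A.X B.X hT).gr d) (hw : totSegW hT A B (q + 1) z = z) (hd : totSegD hT A B z = 0) :
    ∃ u, totSegW hT A B q u = u ∧ totSegD hT A B u = z := by
  set v := sval A.X B.X hT z with hv
  set F := full₂ A B d with hF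
  have hτ : F.τ v = v := full₂_τ_of_mem A B hz
  have hwv : (Spl.tWts A.Wk B.Wk).w (q + 1) v = v := by rw [hv, ← sval_totSegW, hw]
  have hδ : F.δ v = 0 := by rw [hv, hF, ← sval_totSegD hT A B hz, hd, map_zero]
  have e : F.δ (F.h v) = v := by
    have := F.homotopy v
    rw [hδ, map_zero, add_zero, hτ, show F.π v = 0 by rw [← hwv]; exact full₂_π_succ A B d q v,
      sub_zero] at this
    exact this
  have hu : F.h v ∈ GrSeg.segrePiece k A.X.gr B.X.gr d := mem_piece_of_τ A B (F.τh v)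
  obtain ⟨u, hu'⟩ := exists_sval A.X B.X hT (piece_le_segSub _ _ d hu)
  refine ⟨u, sval_injective A.X B.X hT ?_, sval_injective A.X B.X hT ?_⟩
  · rw [sval_totSegW, hu', ← F.hw, hwv]
  · rw [sval_totSegD hT A B (show u ∈ (seg A.X B.X hT).gr d from
      (mem_seg_gr A.X B.X hT).2 (hu' ▸ hu)), hu', e]

variable [IsNoetherianRing T] [SetLike.GradedSMul (Conv.grp 𝒯) 𝒬] {mT : HomogeneousIdeal 𝒯}
  (hmT : mT.toIdeal = Ideal.span (⋃ n ∈ Set.Ioi (0 : ℤ), (𝒯 n : Set T)))
  (hIR : ∀ n : ℤ, 0 < n → ∀ p ∈ 𝒜 n, p ∈ IR) (hIS : ∀ n : ℤ, 0 < n → ∀ p ∈ ℬ n, p ∈ IS)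

/-- The acyclic resolution of a Segre product. -/
noncomputable def segRes [DirectSum.Decomposition ℳ] [DirectSum.Decomposition 𝒩] :
    AcRes (𝒜 := Conv.grp 𝒯) 𝒬 (Conv.ideal 𝒯 mT) where
  X := segTerm hT A B
  d := segTermD hT A B
  ε := (segAug hT A B hP).codRestrict _ fun p => ⟨segAug hT A B hP p, segAug_W hT A B hP p⟩
  d_grHom := segTermD_grHom hT A B
  ε_grHom d p hp := segAug_grHom hT A B hP d p hp
  ε_injective p q h := segAug_injective hT A B hP (congrArg (segTermInc hT A B 0) h)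
  exact_zero := by
    refine le_antisymm (fun y hy => ?_) ?_
    · refine GrInj.mem_of_pr (ℳ := (segTerm hT A B 0).gr) fun d => ?_
      have h1 : segTermD hT A B 0 (pr (segTerm hT A B 0).gr d y) = 0 := by
        rw [← pr_grHom (segTermD_grHom hT A B 0), LinearMap.mem_ker.1 hy, map_zero]
      obtain ⟨p, hp⟩ := totSeg_exact0 hT A B hP (d := d)
        ((mem_segTerm_gr hT A B).1 (pr_mem d y)) (segTerm_fix hT A B 0 _)
        ((inc_segTermD hT A B 0 _).symm.trans ((congrArg _ h1).trans (map_zero _)))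
      exact ⟨p, segTermInc_injective hT A B 0 hp⟩
    · rintro _ ⟨p, rfl⟩
      exact segTermInc_injective hT A B 1 ((segAug_D hT A B hP p).trans (map_zero _).symm)
  exact_succ q := by
    refine le_antisymm (fun y hy => ?_) ?_
    · refine GrInj.mem_of_pr (ℳ := (segTerm hT A B (q + 1)).gr) fun d => ?_
      have h1 : segTermD hT A B (q + 1) (pr (segTerm hT A B (q + 1)).gr d y) = 0 := by
        rw [← pr_grHom (segTermD_grHom hT A B (q + 1)), LinearMap.mem_ker.1 hy, map_zero]
      obtain ⟨u, hu, hdu⟩ := totSeg_exact1 hT A B (d := d)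
        ((mem_segTerm_gr hT A B).1 (pr_mem d y)) (segTerm_fix hT A B (q + 1) _)
        ((inc_segTermD hT A B (q + 1) _).symm.trans ((congrArg _ h1).trans (map_zero _)))
      obtain ⟨u', rfl⟩ := exists_segTerm hT A B hu
      exact ⟨u', segTermInc_injective hT A B (q + 1) hdu⟩
    · rintro _ ⟨u, rfl⟩
      exact segTermInc_injective hT A B (q + 1 + 1)
        ((LinearMap.congr_fun (totSegD_D hT A B) _).trans (map_zero _).symm)
  acyclic q :=
    GrInj.acyclic_of_retract (seg_acyclic hT hmT A.D B.D hIR hIS) (segTermInc hT A B q)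
      ((totSegW hT A B q).codRestrict _ fun z => ⟨z, rfl⟩)
      (LinearMap.ext fun y => segTermInc_injective hT A B q (segTerm_fix hT A B q y))

include hT hP hmT hIR hIS in
/-- The pieces of local cohomology of a Segre product as cohomology of the tensor complex. -/
theorem hasCls₂ [DirectSum.Decomposition ℳ] [DirectSum.Decomposition 𝒩]
    (E : StarInjRes (Conv.grp 𝒯) 𝒬) (σ : k ≃+* deg0 (Conv.grp 𝒯))
    (hσ : ∀ c, (σ c : T) = algebraMap k T c) (q : ℕ) (d : ℤ) :
    HasCls σ ↥(E.Hcomp (Conv.ideal 𝒯 mT) q d) (full₂ A B d) (quot₂ A B d) q := by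
  set Y := segRes hT A B hP hmT hIR hIS
  obtain ⟨e⟩ := Y.nonempty_pieceEquiv E q d
  let inc := fun n => segTermInc hT A B n
  have hto : ∀ n, ∀ y : (segTerm hT A B n).carrier, y ∈ (segTerm hT A B n).gr d →
      y ∈ gam mT.toIdeal (segTerm hT A B n).carrier →
      sval A.X B.X hT (inc n y) ∈ cone (full₂ A B d) (quot₂ A B d) n := fun n y hy hg => by
    have h1 := full₂_τ_of_mem A B ((mem_seg_gr A.X B.X hT).1 ((mem_segTerm_gr hT A B).1 hy))
    refine mem_cone.2 ⟨h1, ?_, ?_⟩
    · rw [quot₂_τ, ← full₂_τ A B d, h1]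
      exact (mem_gam_seg_iff hT hmT A.D B.D hIR hIS _).1 (gam_map _ (inc n) hg)
    · rw [← sval_totSegW, segTerm_fix]
  have hfrom : ∀ n v, v ∈ cone (full₂ A B d) (quot₂ A B d) n → ∃ y : (segTerm hT A B n).carrier,
      y ∈ (segTerm hT A B n).gr d ∧ y ∈ gam mT.toIdeal (segTerm hT A B n).carrier ∧
        sval A.X B.X hT (inc n y) = v := fun n v hv => by
    obtain ⟨h1, h2, h3⟩ := mem_cone.1 hv
    have hmem := mem_piece_of_τ A B h1
    obtain ⟨z, rfl⟩ := exists_sval A.X B.X hT (piece_le_segSub _ _ d hmem)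
    obtain ⟨y, rfl⟩ := exists_segTerm hT A B (q := n)
      (sval_injective A.X B.X hT ((sval_totSegW hT A B n z).trans h3))
    refine ⟨y, (mem_segTerm_gr hT A B).2 ((mem_seg_gr A.X B.X hT).2 hmem), ?_, rfl⟩
    rw [quot₂_τ, ← full₂_τ A B d, h1] at h2
    obtain ⟨j, hj⟩ := (mem_gam_seg_iff hT hmT A.D B.D hIR hIS _).2 h2
    exact ⟨j, fun r hr => segTermInc_injective hT A B n (by rw [map_smul, hj r hr, map_zero])⟩
  have hD : ∀ n, ∀ y : (segTerm hT A B n).carrier, y ∈ (segTerm hT A B n).gr d →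
      sval A.X B.X hT (inc (n + 1) (segTermD hT A B n y)) =
        (full₂ A B d).δ (sval A.X B.X hT (inc n y)) := fun n y hy =>
    sval_totSegD hT A B ((mem_segTerm_gr hT A B).1 hy)
  have hf : ∀ z : cyc (full₂ A B d) (quot₂ A B d) q, ∃ y : Y.coc q d,
      sval A.X B.X hT (inc q y.1) = (z : A.X.carrier ⊗[k] B.X.carrier) := fun z => by
    obtain ⟨hc, hd⟩ := mem_cyc.1 z.2
    obtain ⟨y, h1, h2, h3⟩ := hfrom q z.1 hc
    refine ⟨⟨y, h1, h2, ?_⟩, h3⟩
    exact segTermInc_injective hT A B (q + 1) (sval_injective A.X B.X hT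
      ((((hD q y h1).trans ((congrArg _ h3).trans hd)).trans (map_zero (sval A.X B.X hT)).symm).trans
        (congrArg _ (map_zero (inc (q + 1))).symm)))
  choose f hfv using hf
  have huniq : ∀ y y' : Y.coc q d,
      sval A.X B.X hT (inc q y.1) = sval A.X B.X hT (inc q y'.1) → y = y' := fun y y' h =>
    Subtype.ext (segTermInc_injective hT A B q (sval_injective A.X B.X hT h))
  let cy : cyc (full₂ A B d) (quot₂ A B d) q →+ Y.coc q d := AddMonoidHom.mk' f fun z z' =>
    huniq _ _ (by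
      rw [hfv]
      refine Eq.trans ?_ ((congrArg _ (map_add (inc q) _ _)).trans (map_add (sval A.X B.X hT) _ _)).symm
      rw [hfv, hfv]; rfl)
  let c : cyc (full₂ A B d) (quot₂ A B d) q →+ E.Hcomp (Conv.ideal 𝒯 mT) q d :=
    AddMonoidHom.mk' (fun z => e (Submodule.Quotient.mk (cy z)))
      fun z z' => by rw [map_add cy, Submodule.Quotient.mk_add, map_add]
  refine ⟨c, fun r z => ?_, fun b => ?_, fun z => ?_⟩
  · show e (Submodule.Quotient.mk (f (r • z))) = σ r • e (Submodule.Quotient.mk (f z))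
    rw [← map_smul, ← Submodule.Quotient.mk_smul]
    refine congrArg (fun y => e (Submodule.Quotient.mk y)) (huniq _ _ ?_)
    rw [hfv]
    show r • z.1 = sval A.X B.X hT (inc q ((σ r : T) • (f z).1))
    refine Eq.trans ?_ (congrArg _ (map_smul (inc q) _ _)).symm
    rw [hσ, ← ksmul_def, sval_ksmul, hfv]
  · obtain ⟨y, hy⟩ := Submodule.Quotient.mk_surjective _ (e.symm b)
    have hv : sval A.X B.X hT (inc q y.1) ∈ cyc (full₂ A B d) (quot₂ A B d) q :=
      mem_cyc.2 ⟨hto q y.1 y.2.1 y.2.2.1, by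
        rw [← hD q y.1 y.2.1, show segTermD hT A B q y.1 = 0 from y.2.2.2]; simp⟩
    refine ⟨⟨_, hv⟩, ?_⟩
    show e (Submodule.Quotient.mk (f ⟨_, hv⟩)) = b
    rw [show f ⟨_, hv⟩ = y from huniq _ _ (hfv _), hy, LinearEquiv.apply_symm_apply]
  · show e (Submodule.Quotient.mk (f z)) = 0 ↔ _
    rw [LinearEquiv.map_eq_zero_iff, Submodule.Quotient.mk_eq_zero]
    have hz := hfv z
    generalize f z = y at hz
    obtain ⟨z, hzc⟩ := z
    show (y.1 ∈ Y.cob q) ↔ IsBdy _ _ q z
    change sval A.X B.X hT (inc q y.1) = z at hz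
    subst hz
    cases q with
    | zero =>
      show y.1 ∈ (⊥ : Submodule T _) ↔ sval A.X B.X hT (inc 0 y.1) = 0
      rw [Submodule.mem_bot]
      exact ⟨fun h => (congrArg (fun t => sval A.X B.X hT (inc 0 t)) h).trans
          ((congrArg _ (map_zero (inc 0))).trans (map_zero _)),
        fun h => segTermInc_injective hT A B 0 ((sval_injective A.X B.X hT (h.trans (map_zero _).symm)).trans
          (map_zero _).symm)⟩
    | succ q =>
      constructor
      · intro hy
        obtain ⟨w, hw, hwy⟩ : ∃ w : (segTerm hT A B q).carrier,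
            w ∈ gam mT.toIdeal (segTerm hT A B q).carrier ∧ segTermD hT A B q w = y.1 := hy
        have hw' : pr (segTerm hT A B q).gr d w ∈ gam mT.toIdeal (segTerm hT A B q).carrier :=
          S13225.gam_homogeneous (Conv.ideal 𝒯 mT) d hw
        refine ⟨_, hto q _ (pr_mem d w) hw', ?_⟩
        rw [← hD q _ (pr_mem d w), ← pr_grHom (segTermD_grHom hT A B q)]
        exact congrArg (fun t => sval A.X B.X hT (inc (q + 1) t))
          ((congrArg (pr (segTerm hT A B (q + 1)).gr d) hwy).trans (pr_of_mem y.2.1))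
      · rintro ⟨u, hu, hdu⟩
        obtain ⟨w, h1, h2, rfl⟩ := hfrom q u hu
        refine ⟨w, h2, segTermInc_injective hT A B (q + 1) (sval_injective A.X B.X hT ?_)⟩
        exact (hD q w h1).trans hdu

end Aug

end Tensor

end Groth.Agent.GrInj.SegK
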