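import Groth.Agent.GrInj.SegreKGood
import Groth.Agent.GrInj.Conv
import Groth.Agent.GrInj.AcyclicRes
import Groth.Prelude.Def_GrSeg

/-!
# The Segre product of two graded modules, and its acyclicity
-/

set_option autoImplicit false
set_option linter.unusedSectionVars false
universe u

open TensorProduct CategoryTheory

namespace Groth.Agent.GrInj.SegK

open GrLC LocCohLib

section Functor

variable {A : Type u} [CommRing A] (I : Ideal A) (i : ℕ) {X Y : Type u} [AddCommGroup X] [Module A X]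
  [AddCommGroup Y] [Module A Y]

theorem lc_map_add (f g : X →ₗ[A] Y) (w : (localCohomology I i).obj (ModuleCat.of A X)) :
    (localCohomology I i).map (ModuleCat.ofHom (f + g)) w =
      (localCohomology I i).map (ModuleCat.ofHom f) w + (localCohomology I i).map (ModuleCat.ofHom g) w := by
  obtain ⟨n, x, rfl⟩ := exists_cl w
  rw [map_cl, map_cl, map_cl, show ModuleCat.ofHom (f + g) = ModuleCat.ofHom f + ModuleCat.ofHom g from rfl,
    Abelian.Ext.mk₀_add, Abelian.Ext.comp_add, map_add]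

theorem lc_map_smul (t : A) (f : X →ₗ[A] Y) (w : (localCohomology I i).obj (ModuleCat.of A X)) :
    (localCohomology I i).map (ModuleCat.ofHom (t • f)) w =
      t • (localCohomology I i).map (ModuleCat.ofHom f) w := by
  obtain ⟨n, x, rfl⟩ := exists_cl w
  rw [map_cl, map_cl, show ModuleCat.ofHom (t • f) = t • ModuleCat.ofHom f from rfl,
    Abelian.Ext.mk₀_smul, Abelian.Ext.comp_smul, map_smul]

theorem lc_map_zero (w : (localCohomology I i).obj (ModuleCat.of A X)) :
    (localCohomology I i).map (ModuleCat.ofHom (0 : X →ₗ[A] Y)) w = 0 := by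
  have h := lc_map_smul I i (0 : A) (0 : X →ₗ[A] Y) w
  rwa [smul_zero, zero_smul] at h

theorem lc_map_sum {σ : Type} (s : Finset σ) (f : σ → X →ₗ[A] Y)
    (h : ∀ j ∈ s, ∀ w, (localCohomology I i).map (ModuleCat.ofHom (f j)) w = 0)
    (w : (localCohomology I i).obj (ModuleCat.of A X)) :
    (localCohomology I i).map (ModuleCat.ofHom (∑ j ∈ s, f j)) w = 0 := by
  classical
  induction s using Finset.induction_on with
  | empty => rw [Finset.sum_empty]; exact lc_map_zero I i w
  | insert j s hj ih =>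
    rw [Finset.sum_insert hj, lc_map_add, h j (Finset.mem_insert_self j s),
      ih fun l hl => h l (Finset.mem_insert_of_mem hl), add_zero]

theorem lc_map_torsion [IsNoetherianRing A] (k : ℕ) (f : X →ₗ[A] Y) (hf : ∀ x, f x ∈ gam I Y)
    (w : (localCohomology I (k + 1)).obj (ModuleCat.of A X)) :
    (localCohomology I (k + 1)).map (ModuleCat.ofHom f) w = 0 := by
  have h : ModuleCat.ofHom f =
      ModuleCat.ofHom (f.codRestrict (gam I Y) hf) ≫ ModuleCat.ofHom (gam I Y).subtype := rfl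
  rw [h, Functor.map_comp]
  show (localCohomology I (k + 1)).map (ModuleCat.ofHom (gam I Y).subtype)
    ((localCohomology I (k + 1)).map (ModuleCat.ofHom (f.codRestrict (gam I Y) hf)) w) = 0
  rw [@Subsingleton.elim _ (subsingleton_of_isPowerTorsion (I := I) k (ModuleCat.of A (gam I Y))
    fun y => ⟨y.2.choose, fun r hr => Subtype.ext (y.2.choose_spec r hr)⟩)
    ((localCohomology I (k + 1)).map (ModuleCat.ofHom (f.codRestrict (gam I Y) hf)) w) 0, map_zero]

theorem lc_map_periodic (k : ℕ) {t : A} (ht : t ∈ I) (Q : X →ₗ[A] X) (hQ : ∀ x, t • Q (Q x) = Q x)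
    (w : (localCohomology I (k + 1)).obj (ModuleCat.of A X)) :
    (localCohomology I (k + 1)).map (ModuleCat.ofHom (t • Q)) w = 0 := by
  obtain ⟨n, hn⟩ := isPowerTorsion_H (k + 1) (ModuleCat.of A X) w
  have e : ∀ m : ℕ, t ^ (m + 1) • Q ^ (m + 1) = t • Q := fun m => by
    induction m with
    | zero => rw [pow_one, pow_one]
    | succ m ih =>
      refine LinearMap.ext fun x => ?_
      rw [LinearMap.smul_apply, LinearMap.smul_apply, pow_succ' Q, Module.End.mul_apply, pow_succ t,
        mul_smul, pow_succ' Q m, Module.End.mul_apply, hQ, ← Module.End.mul_apply, ← pow_succ',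
        ← LinearMap.smul_apply, ih]
      rfl
  rw [← e n, lc_map_smul, ← map_smul,
    hn _ (Ideal.pow_le_pow_right (Nat.le_succ n) (Ideal.pow_mem_pow ht _)), map_zero]

end Functor

variable {k : Type u} [Field k]

section KMod

variable {R : Type u} [CommRing R] [Algebra k R] {𝒜 : ℤ → Submodule k R} [GradedAlgebra 𝒜]

/-- The vector space structure of a graded module over a graded algebra. -/
noncomputable scoped instance kMod (X : GMod.{u} (Conv.grp 𝒜)) : Module k X.carrier :=
  Module.compHom _ (algebraMap k R)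

scoped instance kTower (X : GMod.{u} (Conv.grp 𝒜)) : IsScalarTower k R X.carrier :=
  IsScalarTower.of_algebraMap_smul fun _ _ => rfl

theorem ksmul_def (X : GMod.{u} (Conv.grp 𝒜)) (c : k) (x : X.carrier) :
    c • x = algebraMap k R c • x := rfl

theorem algebraMap_mem (c : k) : algebraMap k R c ∈ Conv.grp 𝒜 0 :=
  SetLike.algebraMap_mem_graded 𝒜 c

theorem ksmul_mem {M : Type u} [AddCommGroup M] [Module R M] [Module k M] [IsScalarTower k R M]
    {ℳ : ℤ → AddSubgroup M} [SetLike.GradedSMul (Conv.grp 𝒜) ℳ] (c : k) {d : ℤ} {x : M} (hx : x ∈ ℳ d) :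
    c • x ∈ ℳ d := by
  have h := SetLike.GradedSMul.smul_mem (A := Conv.grp 𝒜) (B := ℳ) (algebraMap_mem (𝒜 := 𝒜) c) hx
  rwa [vadd_eq_add, zero_add, algebraMap_smul] at h

/-- The projection to degree `d`, as a linear map. -/
noncomputable def prk (X : GMod.{u} (Conv.grp 𝒜)) (d : ℤ) : X.carrier →ₗ[k] X.carrier where
  toFun := pr X.gr d
  map_add' := map_add _
  map_smul' c x := by
    rw [RingHom.id_apply, ksmul_def, pr_smul' (algebraMap_mem (𝒜 := 𝒜) c), sub_zero]; rfl

theorem prk_apply (X : GMod.{u} (Conv.grp 𝒜)) (d : ℤ) (x : X.carrier) : prk X d x = pr X.gr d x := rfl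

end KMod

variable {R : Type u} [CommRing R] [Algebra k R] {𝒜 : ℤ → Submodule k R} [GradedAlgebra 𝒜]
  {S : Type u} [CommRing S] [Algebra k S] {ℬ : ℤ → Submodule k S} [GradedAlgebra ℬ]

section Act

variable {M N : Type u} [AddCommGroup M] [Module R M] [Module k M] [IsScalarTower k R M]
  [AddCommGroup N] [Module S N] [Module k N] [IsScalarTower k S N]

theorem act_mul (u v : R ⊗[k] S) (z : M ⊗[k] N) :
    GrSeg.act k R S M N (u * v) z = GrSeg.act k R S M N u (GrSeg.act k R S M N v z) := by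
  induction u using TensorProduct.induction_on with
  | zero => simp
  | add a b ha hb => simp only [add_mul, map_add, LinearMap.add_apply, ha, hb]
  | tmul a b =>
    induction v using TensorProduct.induction_on with
    | zero => simp
    | add c d hc hd => simp only [mul_add, map_add, LinearMap.add_apply, hc, hd]
    | tmul c d =>
      induction z using TensorProduct.induction_on with
      | zero => simp
      | add x y hx hy => simp only [map_add, hx, hy]
      | tmul x y => rw [Algebra.TensorProduct.tmul_mul_tmul, GrSeg.act_tmul, GrSeg.act_tmul,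
          GrSeg.act_tmul, mul_smul, mul_smul]

theorem act_one (z : M ⊗[k] N) : GrSeg.act k R S M N 1 z = z := by
  induction z using TensorProduct.induction_on with
  | zero => simp
  | add x y hx hy => simp only [map_add, hx, hy]
  | tmul x y => rw [Algebra.TensorProduct.one_def, GrSeg.act_tmul, one_smul, one_smul]

variable {M' N' : Type u} [AddCommGroup M'] [Module R M'] [Module k M'] [IsScalarTower k R M']
  [AddCommGroup N'] [Module S N'] [Module k N'] [IsScalarTower k S N']

theorem act_map (a : M →ₗ[R] M') (b : N →ₗ[S] N') (u : R ⊗[k] S) (z : M ⊗[k] N) :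
    map (a.restrictScalars k) (b.restrictScalars k) (GrSeg.act k R S M N u z) =
      GrSeg.act k R S M' N' u (map (a.restrictScalars k) (b.restrictScalars k) z) := by
  induction u using TensorProduct.induction_on with
  | zero => simp
  | add p q hp hq => simp only [map_add, LinearMap.add_apply, hp, hq]
  | tmul p q =>
    induction z using TensorProduct.induction_on with
    | zero => simp
    | add x y hx hy => simp only [map_add, hx, hy]
    | tmul x y => simp [GrSeg.act_tmul]

theorem map_piece {ℳ : ℤ → AddSubgroup M} {𝒩 : ℤ → AddSubgroup N} {ℳ' : ℤ → AddSubgroup M'}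
    {𝒩' : ℤ → AddSubgroup N'} {a : M →ₗ[k] M'} {b : N →ₗ[k] N'} {d g : ℤ}
    (ha : ∀ x ∈ ℳ g, a x ∈ ℳ' (g + d)) (hb : ∀ y ∈ 𝒩 g, b y ∈ 𝒩' (g + d)) {z : M ⊗[k] N}
    (hz : z ∈ GrSeg.segrePiece k ℳ 𝒩 g) : map a b z ∈ GrSeg.segrePiece k ℳ' 𝒩' (g + d) := by
  unfold GrSeg.segrePiece at hz
  induction hz using Submodule.span_induction with
  | mem z hz =>
    obtain ⟨x, hx, y, hy, rfl⟩ := hz
    exact Submodule.subset_span ⟨_, ha x hx, _, hb y hy, map_tmul _ _ _ _⟩
  | zero => rw [map_zero]; exact zero_mem _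
  | add p q _ _ hp hq => rw [map_add]; exact add_mem hp hq
  | smul c p _ hp => rw [map_smul]; exact Submodule.smul_mem _ c hp

theorem act_piece {ℳ : ℤ → AddSubgroup M} {𝒩 : ℤ → AddSubgroup N} [SetLike.GradedSMul (Conv.grp 𝒜) ℳ]
    [SetLike.GradedSMul (Conv.grp ℬ) 𝒩] {i g : ℤ} {u : R ⊗[k] S}
    (hu : u ∈ GrSeg.segrePiece k 𝒜 ℬ i) {z : M ⊗[k] N} (hz : z ∈ GrSeg.segrePiece k ℳ 𝒩 g) :
    GrSeg.act k R S M N u z ∈ GrSeg.segrePiece k ℳ 𝒩 (i + g) := by
  unfold GrSeg.segrePiece at hu
  induction hu using Submodule.span_induction with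
  | mem u hu =>
    obtain ⟨a, ha, b, hb, rfl⟩ := hu
    unfold GrSeg.segrePiece at hz
    induction hz using Submodule.span_induction with
    | mem z hz =>
      obtain ⟨x, hx, y, hy, rfl⟩ := hz
      exact Submodule.subset_span ⟨_, SetLike.GradedSMul.smul_mem (A := Conv.grp 𝒜) (B := ℳ) ha hx, _,
        SetLike.GradedSMul.smul_mem (A := Conv.grp ℬ) (B := 𝒩) hb hy, GrSeg.act_tmul _ _ _ _⟩
    | zero => rw [map_zero]; exact zero_mem _
    | add p q _ _ hp hq => rw [map_add]; exact add_mem hp hq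
    | smul c p _ hp => rw [map_smul]; exact Submodule.smul_mem _ c hp
  | zero => rw [map_zero]; exact zero_mem _
  | add p q _ _ hp hq => rw [map_add]; exact add_mem hp hq
  | smul c p _ hp => rw [map_smul]; exact Submodule.smul_mem _ c hp

end Act

variable {T : Type u} [CommRing T] [Algebra k T] {𝒯 : ℤ → Submodule k T} [GradedAlgebra 𝒯]
  {ψ : T →ₐ[k] R ⊗[k] S}

variable (X : GMod.{u} (Conv.grp 𝒜)) (Y : GMod.{u} (Conv.grp ℬ))

/-- The sum of the diagonal pieces. -/
noncomputable def segSub : Submodule k (X.carrier ⊗[k] Y.carrier) :=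
  ⨆ d, GrSeg.segrePiece k X.gr Y.gr d

theorem piece_le_segSub (d : ℤ) : GrSeg.segrePiece k X.gr Y.gr d ≤ segSub X Y :=
  le_iSup (fun d => GrSeg.segrePiece k X.gr Y.gr d) d

/-- The projection to the diagonal degree `d`. -/
noncomputable def prd (d : ℤ) : X.carrier ⊗[k] Y.carrier →ₗ[k] X.carrier ⊗[k] Y.carrier :=
  map (prk X d) (prk Y d)

theorem prd_mem (d : ℤ) (z : X.carrier ⊗[k] Y.carrier) :
    prd X Y d z ∈ GrSeg.segrePiece k X.gr Y.gr d := by
  induction z using TensorProduct.induction_on with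
  | zero => rw [map_zero]; exact zero_mem _
  | add p q hp hq => rw [map_add]; exact add_mem hp hq
  | tmul x y =>
    exact Submodule.subset_span ⟨_, pr_mem d x, _, pr_mem d y, map_tmul _ _ _ _⟩

theorem prd_of_mem {d d' : ℤ} {z : X.carrier ⊗[k] Y.carrier}
    (hz : z ∈ GrSeg.segrePiece k X.gr Y.gr d') : prd X Y d z = if d' = d then z else 0 := by
  unfold GrSeg.segrePiece at hz
  induction hz using Submodule.span_induction with
  | mem z hz =>
    obtain ⟨x, hx, y, hy, rfl⟩ := hz
    rw [prd, map_tmul, prk_apply, prk_apply]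
    split_ifs with h
    · subst h; rw [pr_of_mem hx, pr_of_mem hy]
    · rw [pr_of_ne hx h, zero_tmul]
  | zero => rw [map_zero, ite_self]
  | add p q _ _ hp hq => rw [map_add, hp, hq]; split_ifs <;> simp
  | smul c p _ hp => rw [map_smul, hp]; split_ifs <;> simp

variable (hT : GrSeg.IsSegreRing 𝒜 ℬ 𝒯 ψ)

include hT in
theorem psi_mem {i : ℤ} {t : T} (ht : t ∈ 𝒯 i) : ψ t ∈ GrSeg.segrePiece k 𝒜 ℬ i :=
  (hT.2 i).le ⟨t, ht, rfl⟩

include hT in
theorem act_mem_segSub (t : T) {z : X.carrier ⊗[k] Y.carrier} (hz : z ∈ segSub X Y) :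
    GrSeg.act k R S X.carrier Y.carrier (ψ t) z ∈ segSub X Y := by
  induction t using DirectSum.Decomposition.inductionOn 𝒯 with
  | zero => rw [map_zero, map_zero, LinearMap.zero_apply]; exact zero_mem _
  | add a b ha hb => rw [map_add, map_add, LinearMap.add_apply]; exact add_mem ha hb
  | @homogeneous i a =>
    refine Submodule.iSup_induction _ (motive := fun z =>
      GrSeg.act k R S X.carrier Y.carrier (ψ a) z ∈ segSub X Y) hz (fun d w hw => ?_) ?_ ?_
    · exact piece_le_segSub X Y _ (act_piece (psi_mem hT a.2) hw)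
    · rw [map_zero]; exact zero_mem _
    · intro p q hp hq; rw [map_add]; exact add_mem hp hq

/-- The pieces of a Segre product. -/
noncomputable def segGr (d : ℤ) : AddSubgroup (segSub X Y) :=
  (GrSeg.segrePiece k X.gr Y.gr d).toAddSubgroup.comap (segSub X Y).subtype.toAddMonoidHom

/-- The action of `T`. -/
@[reducible] noncomputable def segModule : Module T (segSub X Y) where
  smul t x := ⟨GrSeg.act k R S X.carrier Y.carrier (ψ t) x, act_mem_segSub X Y hT t x.2⟩
  one_smul x := Subtype.ext (by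
    show GrSeg.act k R S X.carrier Y.carrier (ψ 1) x = (x : X.carrier ⊗[k] Y.carrier)
    rw [map_one, act_one])
  mul_smul s t x := Subtype.ext (by
    show GrSeg.act k R S X.carrier Y.carrier (ψ (s * t)) x = _
    rw [map_mul, act_mul]; rfl)
  smul_zero t := Subtype.ext (map_zero _)
  smul_add t x y := Subtype.ext (map_add _ _ _)
  add_smul s t x := Subtype.ext (by
    show GrSeg.act k R S X.carrier Y.carrier (ψ (s + t)) x = _
    rw [map_add, map_add]; rfl)
  zero_smul x := Subtype.ext (by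
    show GrSeg.act k R S X.carrier Y.carrier (ψ 0) x = _
    rw [map_zero, map_zero]; rfl)

theorem isInternal_seg : DirectSum.IsInternal (segGr X Y) := by
  have hmem : ∀ d, ∀ z : X.carrier ⊗[k] Y.carrier, prd X Y d z ∈ segSub X Y := fun d z =>
    piece_le_segSub X Y d (prd_mem X Y d z)
  refine GrInj.isInternal_of _ (fun d => AddMonoidHom.mk'
    (fun x : segSub X Y => (⟨prd X Y d x, hmem d x⟩ : segSub X Y))
    fun x y => Subtype.ext (map_add _ _ _)) (fun d x hx => Subtype.ext ?_)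
    (fun i j h x hx => Subtype.ext ?_) fun x => ?_
  · exact (prd_of_mem X Y hx).trans (if_pos rfl)
  · exact (prd_of_mem X Y hx).trans (if_neg h)
  · obtain ⟨z, hz⟩ := x
    suffices h : ∃ y ∈ ⨆ d, segGr X Y d, (y : X.carrier ⊗[k] Y.carrier) = z by
      obtain ⟨y, hy, rfl⟩ := h; exact hy
    refine Submodule.iSup_induction _ (motive := fun z => ∃ y ∈ ⨆ d, segGr X Y d,
      (y : X.carrier ⊗[k] Y.carrier) = z) hz (fun d w hw => ?_) ⟨0, zero_mem _, rfl⟩ ?_
    · exact ⟨⟨w, piece_le_segSub X Y d hw⟩, le_iSup (segGr X Y) d hw, rfl⟩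
    · rintro _ _ ⟨p, hp, rfl⟩ ⟨q, hq, rfl⟩
      exact ⟨p + q, add_mem hp hq, rfl⟩

/-- The Segre product of two graded modules. -/
noncomputable def seg : GMod.{u} (Conv.grp 𝒯) :=
  letI := segModule X Y hT
  { carrier := segSub X Y
    gr := segGr X Y
    dec := (isInternal_seg X Y).chooseDecomposition
    gsmul := gsmul_mk fun i d t ht x hx => act_piece (psi_mem hT ht) hx }

/-- The underlying tensor. -/
noncomputable def sval : (seg X Y hT).carrier →+ X.carrier ⊗[k] Y.carrier :=
  (segSub X Y).subtype.toAddMonoidHom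

theorem sval_injective : Function.Injective (sval X Y hT) := Subtype.val_injective

theorem sval_mem (x : (seg X Y hT).carrier) : sval X Y hT x ∈ segSub X Y := Subtype.prop _

theorem sval_smul (t : T) (x : (seg X Y hT).carrier) :
    sval X Y hT (t • x) = GrSeg.act k R S X.carrier Y.carrier (ψ t) (sval X Y hT x) := rfl

theorem mem_seg_gr {d : ℤ} {x : (seg X Y hT).carrier} :
    x ∈ (seg X Y hT).gr d ↔ sval X Y hT x ∈ GrSeg.segrePiece k X.gr Y.gr d := Iff.rfl

theorem exists_sval {z : X.carrier ⊗[k] Y.carrier} (hz : z ∈ segSub X Y) :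
    ∃ x, sval X Y hT x = z := ⟨⟨z, hz⟩, rfl⟩

theorem sval_ksmul (c : k) (x : (seg X Y hT).carrier) : sval X Y hT (c • x) = c • sval X Y hT x := by
  rw [ksmul_def, sval_smul, AlgHom.commutes, Algebra.algebraMap_eq_smul_one, map_smul,
    LinearMap.smul_apply, act_one]

variable {X Y} {X' : GMod.{u} (Conv.grp 𝒜)} {Y' : GMod.{u} (Conv.grp ℬ)}
  {a : X.carrier →ₗ[R] X'.carrier} {b : Y.carrier →ₗ[S] Y'.carrier} {δ : ℤ}
  (ha : IsGrHomDeg X.gr X'.gr a δ) (hb : IsGrHomDeg Y.gr Y'.gr b δ)

include ha hb in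
theorem map_mem_segSub {z : X.carrier ⊗[k] Y.carrier} (hz : z ∈ segSub X Y) :
    map (a.restrictScalars k) (b.restrictScalars k) z ∈ segSub X' Y' := by
  refine Submodule.iSup_induction _ (motive := fun z =>
    map (a.restrictScalars k) (b.restrictScalars k) z ∈ segSub X' Y') hz (fun d w hw => ?_) ?_ ?_
  · exact piece_le_segSub X' Y' _ (map_piece (a := a.restrictScalars k) (b := b.restrictScalars k)
      (fun x hx => ha d x hx) (fun y hy => hb d y hy) hw)
  · rw [map_zero]; exact zero_mem _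
  · intro p q hp hq; rw [map_add]; exact add_mem hp hq

/-- The map of Segre products induced by two maps of the same degree. -/
noncomputable def segMap : (seg X Y hT).carrier →ₗ[T] (seg X' Y' hT).carrier where
  toFun x := ⟨map (a.restrictScalars k) (b.restrictScalars k) (sval X Y hT x),
    map_mem_segSub ha hb (sval_mem X Y hT x)⟩
  map_add' x y := Subtype.ext ((congrArg (map (a.restrictScalars k) (b.restrictScalars k))
    (map_add (sval X Y hT) x y)).trans (map_add _ _ _))
  map_smul' t x := Subtype.ext (by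
    show map (a.restrictScalars k) (b.restrictScalars k) (sval X Y hT (t • x)) = _
    rw [sval_smul, act_map]; rfl)

theorem sval_segMap (x : (seg X Y hT).carrier) : sval X' Y' hT (segMap hT ha hb x) =
    map (a.restrictScalars k) (b.restrictScalars k) (sval X Y hT x) := rfl

theorem segMap_deg : IsGrHomDeg (seg X Y hT).gr (seg X' Y' hT).gr (segMap hT ha hb) δ :=
  fun g _ hm => map_piece (a := a.restrictScalars k) (b := b.restrictScalars k)
    (fun x hx => ha g x hx) (fun y hy => hb g y hy) hm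

theorem deg_id (Z : GMod.{u} (Conv.grp 𝒜)) :
    IsGrHomDeg Z.gr Z.gr (LinearMap.id : Z.carrier →ₗ[R] Z.carrier) 0 := fun g m hm => by
  rw [add_zero]; exact hm

/-! ### Acyclicity -/

variable {mT : HomogeneousIdeal 𝒯}
  (hmT : mT.toIdeal = Ideal.span (⋃ n ∈ Set.Ioi (0 : ℤ), (𝒯 n : Set T)))

include hT hmT in
theorem map_irrelevant_le_left {IR : Ideal R} (hIR : ∀ n : ℤ, 0 < n → ∀ a ∈ 𝒜 n, a ∈ IR) :
    mT.toIdeal.map ψ.toRingHom ≤ IR.map (Algebra.TensorProduct.includeLeft (S := k) (A := R) (B := S)).toRingHom := by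
  rw [hmT, Ideal.map_span, Ideal.span_le]
  rintro _ ⟨t, ht, rfl⟩
  obtain ⟨n, hn, ht⟩ := Set.mem_iUnion₂.1 ht
  have h := psi_mem hT ht
  unfold GrSeg.segrePiece at h
  show ψ t ∈ _
  generalize ψ t = y at h
  induction h using Submodule.span_induction with
  | mem y hy =>
    obtain ⟨p, hp, q, -, rfl⟩ := hy
    rw [show p ⊗ₜ[k] q = (p ⊗ₜ[k] (1 : S)) * ((1 : R) ⊗ₜ[k] q) by
      rw [Algebra.TensorProduct.tmul_mul_tmul, mul_one, one_mul]]
    exact Ideal.mul_mem_right _ _ (Ideal.mem_map_of_mem _ (hIR n hn p hp))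
  | zero => exact zero_mem _
  | add p q _ _ hp hq => exact add_mem hp hq
  | smul c p _ hp => exact Submodule.smul_of_tower_mem _ c hp

include hT hmT in
theorem map_irrelevant_le_right {IS : Ideal S} (hIS : ∀ n : ℤ, 0 < n → ∀ b ∈ ℬ n, b ∈ IS) :
    mT.toIdeal.map ψ.toRingHom ≤ IS.map (Algebra.TensorProduct.includeRight (R := k) (A := R) (B := S)).toRingHom := by
  rw [hmT, Ideal.map_span, Ideal.span_le]
  rintro _ ⟨t, ht, rfl⟩
  obtain ⟨n, hn, ht⟩ := Set.mem_iUnion₂.1 ht
  have h := psi_mem hT ht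
  unfold GrSeg.segrePiece at h
  show ψ t ∈ _
  generalize ψ t = y at h
  induction h using Submodule.span_induction with
  | mem y hy =>
    obtain ⟨p, -, q, hq, rfl⟩ := hy
    rw [show p ⊗ₜ[k] q = ((1 : R) ⊗ₜ[k] q) * (p ⊗ₜ[k] (1 : S)) by
      rw [Algebra.TensorProduct.tmul_mul_tmul, mul_one, one_mul]]
    exact Ideal.mul_mem_right _ _ (Ideal.mem_map_of_mem _ (hIS n hn q hq))
  | zero => exact zero_mem _
  | add p q _ _ hp hq => exact add_mem hp hq
  | smul c p _ hp => exact Submodule.smul_of_tower_mem _ c hp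

include hT hmT in
theorem kill_left {IR : Ideal R} (hIR : ∀ n : ℤ, 0 < n → ∀ p ∈ 𝒜 n, p ∈ IR) {x : X.carrier} {j : ℕ}
    (hx : ∀ r ∈ IR ^ j, r • x = 0) (y : Y.carrier) {t : T} (ht : t ∈ mT.toIdeal ^ j) :
    GrSeg.act k R S X.carrier Y.carrier (ψ t) (x ⊗ₜ[k] y) = 0 := by
  have h1 := Ideal.pow_right_mono (map_irrelevant_le_left hT hmT hIR) j
  rw [← Ideal.map_pow, ← Ideal.map_pow] at h1
  have h2 : ψ t ∈ _ := h1 (Ideal.mem_map_of_mem ψ.toRingHom ht)
  generalize ψ t = w at h2
  induction h2 using Submodule.span_induction with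
  | mem w hw =>
    obtain ⟨r, hr, rfl⟩ := hw
    show GrSeg.act k R S X.carrier Y.carrier (r ⊗ₜ[k] (1 : S)) (x ⊗ₜ[k] y) = 0
    rw [GrSeg.act_tmul, hx r hr, zero_tmul]
  | zero => rw [map_zero, LinearMap.zero_apply]
  | add p q _ _ hp hq => rw [map_add, LinearMap.add_apply, hp, hq, add_zero]
  | smul c p _ hp => rw [smul_eq_mul, act_mul, hp, map_zero]

include hT hmT in
theorem kill_right {IS : Ideal S} (hIS : ∀ n : ℤ, 0 < n → ∀ p ∈ ℬ n, p ∈ IS) (x : X.carrier)
    {y : Y.carrier} {j : ℕ} (hy : ∀ r ∈ IS ^ j, r • y = 0) {t : T} (ht : t ∈ mT.toIdeal ^ j) :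
    GrSeg.act k R S X.carrier Y.carrier (ψ t) (x ⊗ₜ[k] y) = 0 := by
  have h1 := Ideal.pow_right_mono (map_irrelevant_le_right hT hmT hIS) j
  rw [← Ideal.map_pow, ← Ideal.map_pow] at h1
  have h2 : ψ t ∈ _ := h1 (Ideal.mem_map_of_mem ψ.toRingHom ht)
  generalize ψ t = w at h2
  induction h2 using Submodule.span_induction with
  | mem w hw =>
    obtain ⟨r, hr, rfl⟩ := hw
    show GrSeg.act k R S X.carrier Y.carrier ((1 : R) ⊗ₜ[k] r) (x ⊗ₜ[k] y) = 0
    rw [GrSeg.act_tmul, hy r hr, tmul_zero]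
  | zero => rw [map_zero, LinearMap.zero_apply]
  | add p q _ _ hp hq => rw [map_add, LinearMap.add_apply, hp, hq, add_zero]
  | smul c p _ hp => rw [smul_eq_mul, act_mul, hp, map_zero]

variable {IR : Ideal R} {IS : Ideal S}

include hmT in
theorem segMap_tors_left (hIR : ∀ n : ℤ, 0 < n → ∀ p ∈ 𝒜 n, p ∈ IR)
    (h : ∀ x, a x ∈ gam IR X'.carrier) (z : (seg X Y hT).carrier) :
    segMap hT ha hb z ∈ gam mT.toIdeal (seg X' Y' hT).carrier := by
  suffices H : ∀ w, ∃ j, ∀ t ∈ mT.toIdeal ^ j, GrSeg.act k R S X'.carrier Y'.carrier (ψ t)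
      (map (a.restrictScalars k) (b.restrictScalars k) w) = 0 by
    obtain ⟨j, hj⟩ := H (sval X Y hT z)
    exact ⟨j, fun t ht => sval_injective X' Y' hT (by rw [sval_smul, sval_segMap, hj t ht, map_zero])⟩
  intro w
  induction w using TensorProduct.induction_on with
  | zero => exact ⟨0, fun t _ => by simp⟩
  | tmul x y =>
    obtain ⟨j, hj⟩ := h x
    exact ⟨j, fun t ht => by rw [map_tmul]; exact kill_left hT hmT hIR hj _ ht⟩
  | add p q hp hq =>
    obtain ⟨i, hi⟩ := hp
    obtain ⟨j, hj⟩ := hq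
    exact ⟨i + j, fun t ht => by
      rw [map_add, map_add, hi t (Ideal.pow_le_pow_right (Nat.le_add_right i j) ht),
        hj t (Ideal.pow_le_pow_right (Nat.le_add_left j i) ht), add_zero]⟩

include hmT in
theorem segMap_tors_right (hIS : ∀ n : ℤ, 0 < n → ∀ p ∈ ℬ n, p ∈ IS)
    (h : ∀ y, b y ∈ gam IS Y'.carrier) (z : (seg X Y hT).carrier) :
    segMap hT ha hb z ∈ gam mT.toIdeal (seg X' Y' hT).carrier := by
  suffices H : ∀ w, ∃ j, ∀ t ∈ mT.toIdeal ^ j, GrSeg.act k R S X'.carrier Y'.carrier (ψ t)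
      (map (a.restrictScalars k) (b.restrictScalars k) w) = 0 by
    obtain ⟨j, hj⟩ := H (sval X Y hT z)
    exact ⟨j, fun t ht => sval_injective X' Y' hT (by rw [sval_smul, sval_segMap, hj t ht, map_zero])⟩
  intro w
  induction w using TensorProduct.induction_on with
  | zero => exact ⟨0, fun t _ => by simp⟩
  | tmul x y =>
    obtain ⟨j, hj⟩ := h y
    exact ⟨j, fun t ht => by rw [map_tmul]; exact kill_right hT hmT hIS _ hj ht⟩
  | add p q hp hq =>
    obtain ⟨i, hi⟩ := hp
    obtain ⟨j, hj⟩ := hq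
    exact ⟨i + j, fun t ht => by
      rw [map_add, map_add, hi t (Ideal.pow_le_pow_right (Nat.le_add_right i j) ht),
        hj t (Ideal.pow_le_pow_right (Nat.le_add_left j i) ht), add_zero]⟩

variable {GR : Gens (Conv.grp 𝒜) IR} {GS : Gens (Conv.grp ℬ) IS}
  (DX : Good GR X) (DY : Good GS Y)

theorem Good.deg_tau {R' : Type u} [CommRing R'] {𝒜' : ℤ → AddSubgroup R'} [GradedRing 𝒜'] {I' : Ideal R'}
    {G' : Gens 𝒜' I'} {Z : GMod.{u} 𝒜'} (D' : Good G' Z) : IsGrHomDeg Z.gr Z.gr D'.tau 0 :=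
  fun g m hm => by rw [add_zero]; exact D'.grHom_tau g m hm

theorem Good.deg_p0 {R' : Type u} [CommRing R'] {𝒜' : ℤ → AddSubgroup R'} [GradedRing 𝒜'] {I' : Ideal R'}
    {G' : Gens 𝒜' I'} {Z : GMod.{u} 𝒜'} (D' : Good G' Z) : IsGrHomDeg Z.gr Z.gr D'.p0 0 :=
  fun g m hm => by rw [add_zero]; exact D'.p0_grHom g m hm

include hT hmT in
/-- The part away from the torsion is a sum of periodic maps. -/
theorem exists_periodic : ∃ (σ : Type) (_ : Fintype σ) (t : σ → T)
    (Q : σ → (seg X Y hT).carrier →ₗ[T] (seg X Y hT).carrier),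
    (∀ p, t p ∈ mT.toIdeal) ∧ (∀ p z, t p • Q p (Q p z) = Q p z) ∧
      segMap hT DX.deg_tau DY.deg_tau = ∑ p, t p • Q p := by
  have hdq : ∀ (l : Fin GR.L) (m : Fin GS.L),
      IsGrHomDeg X.gr X.gr (DX.q l ^ GS.e m) (-((GR.e l * GS.e m : ℕ) : ℤ)) ∧
      IsGrHomDeg Y.gr Y.gr (DY.q m ^ GR.e l) (-((GR.e l * GS.e m : ℕ) : ℤ)) := fun l m =>
    ⟨by rw [show -((GR.e l * GS.e m : ℕ) : ℤ) = (GS.e m : ℤ) * -(GR.e l : ℤ) by push_cast; ring]
        exact iterate_degree (DX.q_deg l) _,
      by rw [show -((GR.e l * GS.e m : ℕ) : ℤ) = (GR.e l : ℤ) * -(GS.e m : ℤ) by push_cast; ring]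
         exact iterate_degree (DY.q_deg m) _⟩
  have ht : ∀ (l : Fin GR.L) (m : Fin GS.L), ∃ t ∈ 𝒯 ((GR.e l * GS.e m : ℕ) : ℤ),
      ψ t = (GR.f l ^ GS.e m) ⊗ₜ[k] (GS.f m ^ GR.e l) := fun l m => by
    obtain ⟨t, ht, he⟩ := (hT.2 ((GR.e l * GS.e m : ℕ) : ℤ)).ge (Submodule.subset_span
      ⟨GR.f l ^ GS.e m,
        by simpa [mul_comm] using SetLike.pow_mem_graded (A := 𝒜) (GS.e m) (show GR.f l ∈ 𝒜 (GR.e l) from GR.hf l),
        GS.f m ^ GR.e l,
        by simpa [mul_comm] using SetLike.pow_mem_graded (A := ℬ) (GR.e l) (show GS.f m ∈ ℬ (GS.e m) from GS.hf m),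
        rfl⟩)
    exact ⟨t, ht, he⟩
  choose t ht htψ using ht
  have e1 : ∀ (l : Fin GR.L) (m : Fin GS.L) x,
      GR.f l ^ GS.e m • (DX.q l ^ GS.e m) x = GR.f l • DX.q l x := fun l m x => by
    obtain ⟨n, hn⟩ := Nat.exists_eq_add_of_le' (GS.he m)
    rw [hn]; exact DX.pow_smul l n x
  have e2 : ∀ (l : Fin GR.L) (m : Fin GS.L) y,
      GS.f m ^ GR.e l • (DY.q m ^ GR.e l) y = GS.f m • DY.q m y := fun l m y => by
    obtain ⟨n, hn⟩ := Nat.exists_eq_add_of_le' (GR.he l)
    rw [hn]; exact DY.pow_smul m n y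
  refine ⟨Fin GR.L × Fin GS.L, inferInstance, fun p => t p.1 p.2,
    fun p => segMap hT (hdq p.1 p.2).1 (hdq p.1 p.2).2, fun p => ?_, fun p z => ?_, ?_⟩
  · rw [hmT]
    exact Ideal.subset_span (Set.mem_biUnion
      (show ((GR.e p.1 * GS.e p.2 : ℕ) : ℤ) ∈ Set.Ioi 0 from
        Int.natCast_pos.2 (Nat.mul_pos (GR.he p.1) (GS.he p.2))) (ht p.1 p.2))
  · obtain ⟨l, m⟩ := p
    refine sval_injective X Y hT ?_
    simp only [sval_smul, sval_segMap, htψ]
    generalize sval X Y hT z = v
    induction v using TensorProduct.induction_on with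
    | zero => simp
    | add p q hp hq => simp only [map_add, hp, hq]
    | tmul x y =>
      simp only [map_tmul, LinearMap.coe_restrictScalars, GrSeg.act_tmul]
      obtain ⟨n, hn⟩ := Nat.exists_eq_add_of_le' (GS.he m)
      obtain ⟨n', hn'⟩ := Nat.exists_eq_add_of_le' (GR.he l)
      rw [hn, hn', DX.pow_smul l n, DY.pow_smul m n', pow_succ' (DX.q l), Module.End.mul_apply,
        pow_succ' (DY.q m), Module.End.mul_apply, DX.fqq, DY.fqq]
  · refine LinearMap.ext fun z => sval_injective X Y hT ?_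
    simp only [LinearMap.sum_apply, LinearMap.smul_apply, map_sum, sval_smul, sval_segMap, htψ]
    generalize sval X Y hT z = v
    induction v using TensorProduct.induction_on with
    | zero => simp
    | add p q hp hq =>
      simp only [map_add, Finset.sum_add_distrib]
      rw [hp, hq]
    | tmul x y =>
      simp only [map_tmul, LinearMap.coe_restrictScalars, GrSeg.act_tmul, e1, e2]
      rw [Fintype.sum_prod_type]
      simp only [← tmul_sum, ← sum_tmul, ← DX.tau_apply, ← DY.tau_apply]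

/-- The three parts of the Segre product of two split modules. -/
theorem segMap_parts (z : (seg X Y hT).carrier) :
    segMap hT DX.deg_p0 (deg_id Y) z + segMap hT DX.deg_tau DY.deg_p0 z +
      segMap hT DX.deg_tau DY.deg_tau z = z := by
  refine sval_injective X Y hT ?_
  simp only [map_add, sval_segMap]
  generalize sval X Y hT z = v
  induction v using TensorProduct.induction_on with
  | zero => simp
  | add p q hp hq =>
    conv_rhs => rw [← hp, ← hq]
    simp only [map_add]
    abel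
  | tmul x y =>
    simp only [map_tmul, LinearMap.coe_restrictScalars, LinearMap.id_apply]
    rw [add_assoc, ← tmul_add, DY.p0_add_tau, ← add_tmul, DX.p0_add_tau]

include hT hmT DX DY in
theorem seg_acyclic [IsNoetherianRing T] (hIR : ∀ n : ℤ, 0 < n → ∀ p ∈ 𝒜 n, p ∈ IR)
    (hIS : ∀ n : ℤ, 0 < n → ∀ p ∈ ℬ n, p ∈ IS) :
    Acyclic mT.toIdeal (ModuleCat.of T (seg X Y hT).carrier) := by
  intro i
  refine subsingleton_of_forall_eq 0 fun w => ?_
  obtain ⟨σ, _, t, Q, hmem, hper, hsum⟩ := exists_periodic hT hmT DX DY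
  have hid : (LinearMap.id : (seg X Y hT).carrier →ₗ[T] (seg X Y hT).carrier) =
      segMap hT DX.deg_p0 (deg_id Y) + segMap hT DX.deg_tau DY.deg_p0 + ∑ p, t p • Q p :=
    LinearMap.ext fun z => by rw [← hsum]; exact (segMap_parts hT DX DY z).symm
  have h0 : (localCohomology mT.toIdeal (i + 1)).map (ModuleCat.ofHom
      (LinearMap.id : (seg X Y hT).carrier →ₗ[T] (seg X Y hT).carrier)) w = w := by
    rw [show ModuleCat.ofHom (LinearMap.id : (seg X Y hT).carrier →ₗ[T] (seg X Y hT).carrier) =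
      𝟙 (ModuleCat.of T (seg X Y hT).carrier) from rfl, CategoryTheory.Functor.map_id]
    rfl
  rw [← h0, hid, lc_map_add, lc_map_add,
    lc_map_torsion _ i _ (segMap_tors_left hT _ _ hmT hIR DX.tors),
    lc_map_torsion _ i _ (segMap_tors_right hT _ _ hmT hIS DY.tors),
    lc_map_sum _ _ _ _ fun p _ w => lc_map_periodic _ i (hmem p) _ (hper p) w,
    add_zero, add_zero]

include hT hmT DX DY in
/-- The torsion of a Segre product of split modules. -/
theorem mem_gam_seg_iff (hIR : ∀ n : ℤ, 0 < n → ∀ p ∈ 𝒜 n, p ∈ IR)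
    (hIS : ∀ n : ℤ, 0 < n → ∀ p ∈ ℬ n, p ∈ IS) (z : (seg X Y hT).carrier) :
    z ∈ gam mT.toIdeal (seg X Y hT).carrier ↔
      map (DX.tau.restrictScalars k) (DY.tau.restrictScalars k) (sval X Y hT z) = 0 := by
  rw [← sval_segMap hT DX.deg_tau DY.deg_tau]
  constructor
  · rintro ⟨n, hn⟩
    obtain ⟨σ, _, t, Q, hmem, hper, hsum⟩ := exists_periodic hT hmT DX DY
    rw [hsum, LinearMap.sum_apply, map_sum]
    refine Finset.sum_eq_zero fun p _ => ?_
    have e : ∀ m : ℕ, t p ^ (m + 1) • (Q p ^ (m + 1)) z = t p • Q p z := fun m => by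
      induction m with
      | zero => rw [pow_one, pow_one]
      | succ m ih =>
        rw [pow_succ' (Q p), Module.End.mul_apply, pow_succ (t p), mul_smul, pow_succ' (Q p) m,
          Module.End.mul_apply, hper, ← Module.End.mul_apply, ← pow_succ', ih]
    rw [LinearMap.smul_apply, ← e n, ← map_smul (Q p ^ (n + 1)),
      hn _ (Ideal.pow_le_pow_right (Nat.le_succ n) (Ideal.pow_mem_pow (hmem p) _)), map_zero, map_zero]
  · intro h
    have h0 : segMap hT DX.deg_tau DY.deg_tau z = 0 :=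
      sval_injective X Y hT (h.trans (map_zero _).symm)
    rw [← segMap_parts hT DX DY z, h0, add_zero]
    exact add_mem (segMap_tors_left hT _ _ hmT hIR DX.tors z) (segMap_tors_right hT _ _ hmT hIS DY.tors z)

end Groth.Agent.GrInj.SegK
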