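import Groth.Agent.GrInj.SegreKLin
import Groth.Agent.GrInj.SegreKGood
import Groth.Agent.GrInj.SegreKSeg

/-!
# A resolution as one graded module with weights, and its pieces
-/

set_option autoImplicit false
set_option linter.unusedSectionVars false
universe u

open DirectSum

namespace Groth.Agent.GrInj.SegK

open GrLC

section Sum

variable {R : Type u} [CommRing R] {𝒜 : ℤ → AddSubgroup R} [GradedRing 𝒜] (Z : ℕ → GMod.{u} 𝒜)

/-- The pieces of a direct sum. -/
def sumGr (g : ℤ) : AddSubgroup (⨁ n, (Z n).carrier) where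
  carrier := {x | ∀ n, x n ∈ (Z n).gr g}
  zero_mem' n := zero_mem _
  add_mem' {x y} hx hy n := add_mem (hx n) (hy n)
  neg_mem' {x} hx n := neg_mem (hx n)

theorem lof_mem_sumGr {n : ℕ} {g : ℤ} {y : (Z n).carrier} (hy : y ∈ (Z n).gr g) :
    lof R ℕ (fun n => (Z n).carrier) n y ∈ sumGr Z g := fun m => by
  rcases eq_or_ne n m with rfl | h
  · rw [lof_apply]; exact hy
  · rw [lof_eq_of, DirectSum.of_eq_of_ne _ _ _ (Ne.symm h)]; exact zero_mem _

/-- A map out of a direct sum, given on each summand. -/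
noncomputable def sumMap {Y : Type u} [AddCommGroup Y] [Module R Y] (f : ∀ n, (Z n).carrier →ₗ[R] Y) :
    (⨁ n, (Z n).carrier) →ₗ[R] Y := toModule R ℕ Y f

theorem sumMap_lof {Y : Type u} [AddCommGroup Y] [Module R Y] (f : ∀ n, (Z n).carrier →ₗ[R] Y) (n : ℕ)
    (y : (Z n).carrier) : sumMap Z f (lof R ℕ (fun n => (Z n).carrier) n y) = f n y :=
  DirectSum.toModule_lof R (M := fun n => (Z n).carrier) n y

theorem isInternal_sumGr : DirectSum.IsInternal (sumGr Z) := by
  let q : ℤ → (⨁ n, (Z n).carrier) →+ (⨁ n, (Z n).carrier) := fun g =>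
    DirectSum.map fun n => pr (Z n).gr g
  have hq : ∀ g x n, q g x n = pr (Z n).gr g (x n) := fun g x n => DirectSum.map_apply _ _ _
  refine GrInj.isInternal_of _ q (fun g x hx => DFinsupp.ext fun n => ?_)
    (fun g g' h x hx => DFinsupp.ext fun n => ?_) fun x => ?_
  · rw [hq, pr_of_mem (hx n)]
  · rw [hq, pr_of_ne (hx n) h]; rfl
  · induction x using DirectSum.induction_on with
    | zero => exact zero_mem _
    | add a b ha hb => exact add_mem ha hb
    | of n y =>
      induction y using induction (Z n).gr with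
      | h0 => rw [map_zero]; exact zero_mem _
      | hh g m hm => exact le_iSup (sumGr Z) g (lof_mem_sumGr Z hm)
      | hadd a b ha hb => rw [map_add]; exact add_mem ha hb

theorem gsmul_sumGr : SetLike.GradedSMul 𝒜 (sumGr Z) :=
  gsmul_mk fun a b r hr x hx n => by
    rw [DirectSum.smul_apply]
    exact smul_mem_gr hr (hx n)

/-- A direct sum of graded modules. -/
noncomputable def sumMod : GMod.{u} 𝒜 :=
  { carrier := ⨁ n, (Z n).carrier, gr := sumGr Z, dec := (isInternal_sumGr Z).chooseDecomposition,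
    gsmul := gsmul_sumGr Z }

/-- The inclusion of a summand. -/
noncomputable def sumIn (n : ℕ) : (Z n).carrier →ₗ[R] (sumMod Z).carrier :=
  lof R ℕ (fun n => (Z n).carrier) n

/-- The projection to a summand. -/
noncomputable def sumPr (n : ℕ) : (sumMod Z).carrier →ₗ[R] (Z n).carrier :=
  component R ℕ (fun n => (Z n).carrier) n

theorem sumPr_in (n : ℕ) (y : (Z n).carrier) : sumPr Z n (sumIn Z n y) = y :=
  DirectSum.component.lof_self R (M := fun n => (Z n).carrier) n y

theorem sumPr_in_ne {n m : ℕ} (h : n ≠ m) (y : (Z n).carrier) : sumPr Z m (sumIn Z n y) = 0 := by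
  show component R ℕ (fun n => (Z n).carrier) m (lof R ℕ (fun n => (Z n).carrier) n y) = 0
  rw [DirectSum.component.of, dif_neg h]

theorem sum_hom_ext {Y : Type u} [AddCommGroup Y] [Module R Y] {f g : (sumMod Z).carrier →ₗ[R] Y}
    (h : ∀ n y, f (sumIn Z n y) = g (sumIn Z n y)) : f = g :=
  DirectSum.linearMap_ext R fun n => LinearMap.ext (h n)

theorem grHom_sumIn (n : ℕ) : IsGrHom (Z n).gr (sumMod Z).gr (sumIn Z n) :=
  fun _ _ hy => lof_mem_sumGr Z hy

theorem grHom_sumPr (n : ℕ) : IsGrHom (sumMod Z).gr (Z n).gr (sumPr Z n) := fun _ x hx => hx n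

theorem grHomDeg_ext {Y : Type u} [AddCommGroup Y] [Module R Y] {𝒴 : ℤ → AddSubgroup Y}
    {f : (sumMod Z).carrier →ₗ[R] Y} {δ : ℤ}
    (h : ∀ n, IsGrHomDeg (Z n).gr 𝒴 (f ∘ₗ sumIn Z n) δ) : IsGrHomDeg (sumMod Z).gr 𝒴 f δ := by
  intro g x hx
  classical
  let x' : ⨁ n, (Z n).carrier := x
  have e : ∑ n ∈ DFinsupp.support x', sumIn Z n (x' n) = x := DirectSum.sum_support_of x'
  rw [← e, map_sum]
  exact sum_mem fun n _ => h n g _ (hx n)

theorem grHom_ext {Y : Type u} [AddCommGroup Y] [Module R Y] {𝒴 : ℤ → AddSubgroup Y}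
    {f : (sumMod Z).carrier →ₗ[R] Y}
    (h : ∀ n, IsGrHom (Z n).gr 𝒴 (f ∘ₗ sumIn Z n)) : IsGrHom (sumMod Z).gr 𝒴 f := fun g x hx => by
  have := grHomDeg_ext Z (f := f) (δ := 0) (fun n i m hm => by rw [add_zero]; exact h n i m hm) g x hx
  rwa [add_zero] at this

/-- An endomorphism given on each summand. -/
noncomputable def sumEnd (f : ∀ n, (Z n).carrier →ₗ[R] (Z n).carrier) :
    (sumMod Z).carrier →ₗ[R] (sumMod Z).carrier :=
  sumMap Z fun n => sumIn Z n ∘ₗ f n

theorem sumEnd_in (f : ∀ n, (Z n).carrier →ₗ[R] (Z n).carrier) (n : ℕ) (y : (Z n).carrier) :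
    sumEnd Z f (sumIn Z n y) = sumIn Z n (f n y) := sumMap_lof Z _ n y

/-- The weights of a direct sum. -/
noncomputable def sumWts : Wts R (sumMod Z).carrier where
  w i := sumIn Z i ∘ₗ sumPr Z i
  w_self i x := by simp only [LinearMap.comp_apply, sumPr_in]
  w_ne i j h x := by simp only [LinearMap.comp_apply, sumPr_in_ne Z (Ne.symm h), map_zero]
  w_sum x := by
    classical
    let x' : ⨁ n, (Z n).carrier := x
    refine ⟨(DFinsupp.support x').sup id + 1, ?_⟩
    refine (Finset.sum_subset (fun n hn => Finset.mem_range.2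
      (Nat.lt_succ_of_le (Finset.le_sup (f := id) hn))) fun n _ hn => ?_).symm.trans
      (DirectSum.sum_support_of x')
    show sumIn Z n (x' n) = 0
    rw [DFinsupp.notMem_support_iff.1 hn, map_zero]

end Sum

/-- A resolution packed as one graded module. -/
structure TotRes {R : Type u} [CommRing R] {𝒜 : ℤ → AddSubgroup R} [GradedRing 𝒜] {I : Ideal R}
    (G : Gens 𝒜 I) {M : Type u} [AddCommGroup M] [Module R M] (ℳ : ℤ → AddSubgroup M) where
  X : GMod.{u} 𝒜
  W : Wts R X.carrier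
  d : X.carrier →ₗ[R] X.carrier
  ε : M →ₗ[R] X.carrier
  D : Good G X
  w_grHom : ∀ i, IsGrHom X.gr X.gr (W.w i)
  d_grHom : IsGrHom X.gr X.gr d
  ε_grHom : IsGrHom ℳ X.gr ε
  ε_inj : Function.Injective ε
  d_d : ∀ x, d (d x) = 0
  d_w : ∀ i x, d (W.w i x) = W.w (i + 1) (d x)
  w0_d : ∀ x, W.w 0 (d x) = 0
  w0_ε : ∀ m, W.w 0 (ε m) = ε m
  d_ε : ∀ m, d (ε m) = 0
  exact0 : ∀ x, W.w 0 x = x → d x = 0 → ∃ m, ε m = x
  exact1 : ∀ i x, W.w (i + 1) x = x → d x = 0 → ∃ y, W.w i y = y ∧ d y = x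
  tau_w : ∀ i x, D.tau (W.w i x) = W.w i (D.tau x)

section OfRes

variable {R : Type u} [CommRing R] {𝒜 : ℤ → AddSubgroup R} [GradedRing 𝒜] {I : Ideal R}
  {G : Gens 𝒜 I} {M : Type u} [AddCommGroup M] [Module R M] {ℳ : ℤ → AddSubgroup M}
  [DirectSum.Decomposition ℳ] [SetLike.GradedSMul 𝒜 ℳ] (E : StarInjRes 𝒜 ℳ)
  (DE : ∀ n, Good G (E.X n))

/-- The differential on the sum of the terms. -/
noncomputable def totD : (sumMod E.X).carrier →ₗ[R] (sumMod E.X).carrier :=
  sumMap E.X fun n => sumIn E.X (n + 1) ∘ₗ E.d n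

theorem totD_in (n : ℕ) (y : (E.X n).carrier) : totD E (sumIn E.X n y) = sumIn E.X (n + 1) (E.d n y) :=
  sumMap_lof E.X _ n y

/-- The split structure on the sum of the terms. -/
noncomputable def sumGood : Good G (sumMod E.X) where
  p0 := sumEnd E.X fun n => (DE n).p0
  q l := sumEnd E.X fun n => (DE n).q l
  p0_grHom := grHom_ext E.X fun n g m hm => by
    rw [LinearMap.comp_apply, sumEnd_in]; exact grHom_sumIn E.X n g _ ((DE n).p0_grHom g m hm)
  q_deg l := grHomDeg_ext E.X fun n g m hm => by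
    rw [LinearMap.comp_apply, sumEnd_in]; exact grHom_sumIn E.X n _ _ ((DE n).q_deg l g m hm)
  sum x := by
    have h := LinearMap.congr_fun (sum_hom_ext E.X (f := sumEnd E.X (fun n => (DE n).p0) +
      ∑ l, G.f l • sumEnd E.X (fun n => (DE n).q l)) (g := LinearMap.id) fun n y => by
        simp only [LinearMap.add_apply, LinearMap.sum_apply, LinearMap.smul_apply, sumEnd_in,
          LinearMap.id_apply]
        rw [Finset.sum_congr rfl fun l _ => (map_smul (sumIn E.X n) _ _).symm, ← map_sum, ← map_add,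
          (DE n).sum]) x
    simpa [LinearMap.sum_apply] using h
  fqq l x := by
    refine LinearMap.congr_fun (sum_hom_ext E.X
      (f := G.f l • (sumEnd E.X (fun n => (DE n).q l) ∘ₗ sumEnd E.X (fun n => (DE n).q l)))
      (g := sumEnd E.X (fun n => (DE n).q l)) fun n y => ?_) x
    simp only [LinearMap.smul_apply, LinearMap.comp_apply, sumEnd_in, ← map_smul, (DE n).fqq]
  tors x := by
    classical
    let x' : ⨁ n, (E.X n).carrier := x
    have e : ∑ n ∈ DFinsupp.support x', sumIn E.X n (x' n) = x := DirectSum.sum_support_of x'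
    rw [← e, map_sum]
    refine sum_mem fun n _ => ?_
    rw [sumEnd_in]
    exact gam_map I (sumIn E.X n) ((DE n).tors _)

theorem sumGood_tau_in (n : ℕ) (y : (E.X n).carrier) :
    (sumGood E DE).tau (sumIn E.X n y) = sumIn E.X n ((DE n).tau y) := by
  rw [Good.tau_apply, Good.tau_apply, map_sum]
  refine Finset.sum_congr rfl fun l _ => ?_
  rw [map_smul]
  exact congrArg (G.f l • ·) (sumEnd_in E.X _ n y)

/-- The packed form of a *injective resolution. -/
noncomputable def totRes : TotRes G ℳ where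
  X := sumMod E.X
  W := sumWts E.X
  d := totD E
  ε := sumIn E.X 0 ∘ₗ E.ε
  D := sumGood E DE
  w_grHom i g x hx := grHom_sumIn E.X i g _ (grHom_sumPr E.X i g x hx)
  d_grHom := grHom_ext E.X fun n g m hm => by
    rw [LinearMap.comp_apply, totD_in]; exact grHom_sumIn E.X _ g _ (E.d_grHom n g m hm)
  ε_grHom g m hm := grHom_sumIn E.X 0 g _ (E.ε_grHom g m hm)
  ε_inj a b h := E.ε_injective (by
    have := congrArg (sumPr E.X 0) h
    simpa only [LinearMap.comp_apply, sumPr_in] using this)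
  d_d x := by
    refine LinearMap.congr_fun (sum_hom_ext E.X (f := totD E ∘ₗ totD E) (g := 0) fun n y => ?_) x
    rw [LinearMap.comp_apply, totD_in, totD_in, d_comp E, map_zero]; rfl
  d_w i x := by
    refine LinearMap.congr_fun (sum_hom_ext E.X (f := totD E ∘ₗ (sumWts E.X).w i)
      (g := (sumWts E.X).w (i + 1) ∘ₗ totD E) fun n y => ?_) x
    simp only [sumWts, LinearMap.comp_apply, totD_in]
    rcases eq_or_ne n i with rfl | h
    · simp only [sumPr_in, totD_in]
    · simp only [sumPr_in_ne E.X h, sumPr_in_ne E.X (show n + 1 ≠ i + 1 by omega), map_zero]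
  w0_d x := by
    refine LinearMap.congr_fun (sum_hom_ext E.X (f := (sumWts E.X).w 0 ∘ₗ totD E) (g := 0)
      fun n y => ?_) x
    simp only [sumWts, LinearMap.comp_apply, totD_in, sumPr_in_ne E.X (Nat.succ_ne_zero n), map_zero]
    rfl
  w0_ε m := by simp only [sumWts, LinearMap.comp_apply, sumPr_in]
  d_ε m := by rw [LinearMap.comp_apply, totD_in, d_aug E, map_zero]
  exact0 x hx hd := by
    rw [← hx] at hd
    simp only [sumWts, LinearMap.comp_apply, totD_in] at hd hx
    have h := congrArg (sumPr E.X 1) hd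
    rw [sumPr_in, map_zero] at h
    obtain ⟨m, hm⟩ := E.exact_zero.le h
    exact ⟨m, by rw [LinearMap.comp_apply, hm, hx]⟩
  exact1 i x hx hd := by
    rw [← hx] at hd
    simp only [sumWts, LinearMap.comp_apply, totD_in] at hd hx
    have h := congrArg (sumPr E.X (i + 1 + 1)) hd
    rw [sumPr_in, map_zero] at h
    obtain ⟨y, hy⟩ := (E.exact_succ i).le h
    exact ⟨sumIn E.X i y, by simp only [sumWts, LinearMap.comp_apply, sumPr_in],
      by rw [totD_in, hy, hx]⟩
  tau_w i x := by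
    refine LinearMap.congr_fun (sum_hom_ext E.X (f := (sumGood E DE).tau ∘ₗ (sumWts E.X).w i)
      (g := (sumWts E.X).w i ∘ₗ (sumGood E DE).tau) fun n y => ?_) x
    simp only [sumWts, LinearMap.comp_apply, sumGood_tau_in]
    rcases eq_or_ne n i with rfl | h
    · simp only [sumPr_in, sumGood_tau_in]
    · simp only [sumPr_in_ne E.X h, map_zero]

end OfRes

/-- Semilinear transport of a dimension. -/
theorem finrank_eq_of_surj {k K : Type u} [Field k] [CommRing K] (σ : k ≃+* K) {Z A B : Type u}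
    [AddCommGroup Z] [Module k Z] [AddCommGroup A] [Module k A] [AddCommGroup B] [Module K B]
    (θ : Z →ₗ[k] A) (c : Z →+ B) (hc : ∀ (r : k) z, c (r • z) = σ r • c z) (hθ : Function.Surjective θ)
    (hcs : Function.Surjective c) (hker : ∀ z, θ z = 0 ↔ c z = 0) :
    Module.finrank K B = Module.finrank k A ∧ (Module.Finite K B → Module.Finite k A) := by
  letI : Module k B := Module.compHom B σ.toRingHom
  let c' : Z →ₗ[k] B := { c with map_smul' := hc }
  have hk : LinearMap.ker θ = LinearMap.ker c' := Submodule.ext fun z => hker z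
  let e : A ≃ₗ[k] B := ((LinearMap.quotKerEquivOfSurjective θ hθ).symm.trans
    (Submodule.quotEquivOfEq _ _ hk)).trans (LinearMap.quotKerEquivOfSurjective c' hcs)
  refine ⟨congrArg Cardinal.toNat (rank_eq_of_equiv_equiv (R := k) (R' := K) σ e.toAddEquiv σ.bijective
    fun r a => map_smul e r a).symm, fun h => ?_⟩
  haveI : Module.Finite k B := by
    obtain ⟨s, hs⟩ := h.fg_top
    refine ⟨s, eq_top_iff.2 fun b hbt => ?_⟩
    clear hbt
    have hb : b ∈ Submodule.span K (s : Set B) := hs ▸ Submodule.mem_top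
    induction hb using Submodule.span_induction with
    | mem x hx => exact Submodule.subset_span hx
    | zero => exact zero_mem _
    | add x y _ _ hx hy => exact add_mem hx hy
    | smul r x _ hx =>
      obtain ⟨r', rfl⟩ := σ.surjective r
      exact Submodule.smul_mem _ r' hx
  exact Module.Finite.equiv e.symm

section Pieces

variable {k : Type u} [Field k] {R : Type u} [CommRing R] [Algebra k R] {𝒜 : ℤ → Submodule k R}
  [GradedAlgebra 𝒜]

theorem exists_deg0Equiv [Nontrivial R] (h0 : 𝒜 0 = Submodule.span k {(1 : R)}) :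
    ∃ σ : k ≃+* deg0 (Conv.grp 𝒜), ∀ c, (σ c : R) = algebraMap k R c := by
  let f : k →+* deg0 (Conv.grp 𝒜) := (algebraMap k R).codRestrict _ fun c => algebraMap_mem (𝒜 := 𝒜) c
  refine ⟨RingEquiv.ofBijective f ⟨RingHom.injective f, fun x => ?_⟩, fun c => rfl⟩
  have hx : (x : R) ∈ 𝒜 0 := x.2
  rw [h0, Submodule.mem_span_singleton] at hx
  obtain ⟨c, hc⟩ := hx
  exact ⟨c, Subtype.ext (by show algebraMap k R c = x; rw [Algebra.algebraMap_eq_smul_one, hc])⟩

theorem prk_prk (X : GMod.{u} (Conv.grp 𝒜)) (d : ℤ) (x : X.carrier) : prk X d (prk X d x) = prk X d x := by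
  simp only [prk_apply]; exact pr_of_mem (pr_mem d x)

variable {I : Ideal R} {G : Gens (Conv.grp 𝒜) I} {M : Type u} [AddCommGroup M] [Module R M]
  {ℳ : ℤ → AddSubgroup M} (TR : TotRes G ℳ)

/-- The weights, over the base field. -/
noncomputable def TotRes.Wk : Wts k TR.X.carrier where
  w i := (TR.W.w i).restrictScalars k
  w_self := TR.W.w_self
  w_ne := TR.W.w_ne
  w_sum := TR.W.w_sum

/-- The complex of degree `d`. -/
noncomputable def TotRes.preFull (d : ℤ) : Pre TR.Wk where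
  δ := TR.d.restrictScalars k ∘ₗ prk TR.X d
  τ := prk TR.X d
  ττ := prk_prk TR.X d
  τδ x := (pr_grHom TR.d_grHom d _).trans (congrArg TR.d (prk_prk TR.X d x))
  δτ x := congrArg TR.d (prk_prk TR.X d x)
  δδ x := by
    show TR.d (pr TR.X.gr d (TR.d (pr TR.X.gr d x))) = 0
    rw [pr_grHom TR.d_grHom, TR.d_d]
  τw i x := pr_grHom (TR.w_grHom i) d x
  δw i x := by
    show TR.d (pr TR.X.gr d (TR.W.w i x)) = TR.W.w (i + 1) (TR.d (pr TR.X.gr d x))
    rw [pr_grHom (TR.w_grHom i), TR.d_w]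
  w0δ x := TR.w0_d _

/-- The complex of degree `d` modulo torsion. -/
noncomputable def TotRes.preQuot (d : ℤ) : Pre TR.Wk where
  δ := (TR.D.tau ∘ₗ TR.d).restrictScalars k ∘ₗ prk TR.X d
  τ := TR.D.tau.restrictScalars k ∘ₗ prk TR.X d
  ττ x := by
    show TR.D.tau (pr TR.X.gr d (TR.D.tau (pr TR.X.gr d x))) = _
    rw [pr_grHom TR.D.grHom_tau, TR.D.tau_tau, pr_of_mem (pr_mem d x)]; rfl
  τδ x := by
    show TR.D.tau (pr TR.X.gr d (TR.D.tau (TR.d (pr TR.X.gr d x)))) = _
    rw [pr_grHom TR.D.grHom_tau, TR.D.tau_tau, pr_grHom TR.d_grHom, pr_of_mem (pr_mem d x)]; rfl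
  δτ x := by
    show TR.D.tau (TR.d (pr TR.X.gr d (TR.D.tau (pr TR.X.gr d x)))) = _
    rw [pr_grHom TR.D.grHom_tau, pr_of_mem (pr_mem d x), TR.D.tau_comm TR.D TR.d]; rfl
  δδ x := by
    show TR.D.tau (TR.d (pr TR.X.gr d (TR.D.tau (TR.d (pr TR.X.gr d x))))) = 0
    rw [pr_grHom TR.D.grHom_tau, TR.D.tau_comm TR.D TR.d, pr_grHom TR.d_grHom, TR.d_d, map_zero]
  τw i x := by
    show TR.D.tau (pr TR.X.gr d (TR.W.w i x)) = TR.W.w i (TR.D.tau (pr TR.X.gr d x))
    rw [pr_grHom (TR.w_grHom i), TR.tau_w]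
  δw i x := by
    show TR.D.tau (TR.d (pr TR.X.gr d (TR.W.w i x))) =
      TR.W.w (i + 1) (TR.D.tau (TR.d (pr TR.X.gr d x)))
    rw [pr_grHom (TR.w_grHom i), TR.d_w, TR.tau_w]
  w0δ x := by
    show TR.W.w 0 (TR.D.tau (TR.d (pr TR.X.gr d x))) = 0
    rw [← TR.tau_w, TR.w0_d, map_zero]

/-- A homotopy for the complex of degree `d`. -/
noncomputable def TotRes.full (d : ℤ) : Spl TR.Wk := (TR.preFull d).nonempty_spl.choose

/-- A homotopy for the complex of degree `d` modulo torsion. -/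
noncomputable def TotRes.quot (d : ℤ) : Spl TR.Wk := (TR.preQuot d).nonempty_spl.choose

theorem TotRes.full_τ (d : ℤ) (x : TR.X.carrier) : (TR.full d).τ x = pr TR.X.gr d x :=
  (LinearMap.congr_fun (congrArg Pre.τ (TR.preFull d).nonempty_spl.choose_spec) x).trans rfl

theorem TotRes.full_δ (d : ℤ) (x : TR.X.carrier) : (TR.full d).δ x = TR.d (pr TR.X.gr d x) :=
  (LinearMap.congr_fun (congrArg Pre.δ (TR.preFull d).nonempty_spl.choose_spec) x).trans rfl

theorem TotRes.quot_τ (d : ℤ) (x : TR.X.carrier) : (TR.quot d).τ x = TR.D.tau (pr TR.X.gr d x) :=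
  (LinearMap.congr_fun (congrArg Pre.τ (TR.preQuot d).nonempty_spl.choose_spec) x).trans rfl

theorem TotRes.quot_δ (d : ℤ) (x : TR.X.carrier) :
    (TR.quot d).δ x = TR.D.tau (TR.d (pr TR.X.gr d x)) :=
  (LinearMap.congr_fun (congrArg Pre.δ (TR.preQuot d).nonempty_spl.choose_spec) x).trans rfl

theorem TotRes.link (d : ℤ) : Link (TR.full d) (TR.quot d) where
  le x := by
    rw [TR.full_τ, TR.quot_τ, pr_grHom TR.D.grHom_tau, pr_of_mem (pr_mem d x)]
  ge x := by rw [TR.quot_τ, TR.full_τ, TR.quot_τ, pr_of_mem (pr_mem d x)]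
  comp x := by
    rw [TR.quot_τ, TR.full_δ, TR.quot_δ, pr_grHom TR.d_grHom, pr_of_mem (pr_mem d x)]

theorem TotRes.full_π_succ (d : ℤ) (i : ℕ) (x : TR.X.carrier) :
    (TR.full d).π (TR.Wk.w (i + 1) x) = 0 := by
  set S := TR.full d
  set y := S.π (TR.Wk.w (i + 1) x) with hy
  have hτ : pr TR.X.gr d y = y := (TR.full_τ d y).symm.trans (S.τπ _)
  have hw : TR.W.w (i + 1) y = y := by
    have := S.πw (i + 1) (TR.Wk.w (i + 1) x)
    rw [TR.Wk.w_self] at this
    exact this.symm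
  have hd : TR.d y = 0 := by
    have := (TR.full_δ d y).symm.trans (S.δπ _)
    rwa [hτ] at this
  obtain ⟨u, -, hu⟩ := TR.exact1 i y hw hd
  have e : y = S.δ u := by rw [TR.full_δ, ← pr_grHom TR.d_grHom, hu, hτ]
  have := congrArg S.π e
  rwa [hy, S.ππ, S.πδ] at this

theorem TotRes.mem_cone {d : ℤ} {n : ℕ} {x : TR.X.carrier} :
    x ∈ cone (TR.full d) (TR.quot d) n ↔
      x ∈ TR.X.gr d ∧ x ∈ gam I TR.X.carrier ∧ TR.W.w n x = x := by
  rw [SegK.mem_cone, TR.full_τ, TR.quot_τ]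
  constructor
  · rintro ⟨h1, h2, h3⟩
    rw [h1, TR.D.tau_eq_zero_iff] at h2
    exact ⟨h1 ▸ pr_mem d x, h2, h3⟩
  · rintro ⟨h1, h2, h3⟩
    exact ⟨pr_of_mem h1, by rw [pr_of_mem h1]; exact TR.D.tau_eq_zero_iff.2 h2, h3⟩

theorem TotRes.range_full_zero [DirectSum.Decomposition ℳ] (d : ℤ) (x : TR.X.carrier) :
    (∃ y, (TR.full d).π (TR.Wk.w 0 y) = x) ↔ ∃ m ∈ ℳ d, TR.ε m = x := by
  set S := TR.full d
  constructor
  · rintro ⟨y, rfl⟩
    set x := S.π (TR.Wk.w 0 y)
    have hτ : pr TR.X.gr d x = x := (TR.full_τ d x).symm.trans (S.τπ _)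
    have hw : TR.W.w 0 x = x := by
      have := S.πw 0 (TR.Wk.w 0 y)
      rw [TR.Wk.w_self] at this
      exact this.symm
    have hd : TR.d x = 0 := by
      have := (TR.full_δ d x).symm.trans (S.δπ _)
      rwa [hτ] at this
    obtain ⟨m, hm⟩ := TR.exact0 x hw hd
    exact ⟨pr ℳ d m, pr_mem d m, by rw [← pr_grHom TR.ε_grHom, hm, hτ]⟩
  · rintro ⟨m, hm, rfl⟩
    refine ⟨TR.ε m, ?_⟩
    rw [show TR.Wk.w 0 (TR.ε m) = TR.ε m from TR.w0_ε m]
    have hp : pr TR.X.gr d (TR.ε m) = TR.ε m := pr_of_mem (TR.ε_grHom d m hm)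
    have := S.homotopy (TR.ε m)
    rw [TR.full_δ, TR.full_δ, TR.full_τ, hp, TR.d_ε, map_zero,
      show S.h (TR.ε m) = 0 by rw [← TR.w0_ε m]; exact S.hw0 _, map_zero, map_zero, add_zero] at this
    exact (sub_eq_zero.1 this.symm).symm

end Pieces

end Groth.Agent.GrInj.SegK
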