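import Groth.Agent.GrInj.SegreKGor
import Groth.Agent.GrInj.Type

/-!
# The type of a Segre product of Gorenstein algebras
-/

set_option autoImplicit false
set_option linter.unusedSectionVars false
universe u

open TensorProduct

namespace Groth.Agent.GrInj.SegK

open GrLC

variable {k : Type u} [Field k] {R : Type u} [CommRing R] [Algebra k R] {𝒜 : ℤ → Submodule k R} [GradedAlgebra 𝒜]

/-- In a standard graded algebra the pieces above degree `u` lie in the ideal spanned by the piece of degree `u`. -/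
theorem piece_le_span {m : HomogeneousIdeal 𝒜}
    (hm : m.toIdeal = Ideal.span (⋃ n ∈ Set.Ioi (0 : ℤ), (𝒜 n : Set R)))
    (hm1 : m.toIdeal = Ideal.span ((𝒜 1 : Submodule k R) : Set R)) {v : ℕ} (hv : 1 ≤ v) :
    ∀ j : ℕ, ∀ x ∈ 𝒜 ((v + j : ℕ) : ℤ), x ∈ Ideal.span ((𝒜 (v : ℤ) : Submodule k R) : Set R) := by
  intro j
  induction j with
  | zero => exact fun x hx => Ideal.subset_span hx
  | succ j ih =>
    intro x hx
    set J := Ideal.span ((𝒜 (v : ℤ) : Submodule k R) : Set R)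
    set w : ℤ := ((v + (j + 1) : ℕ) : ℤ) with hw
    have hkey : ∀ z ∈ m.toIdeal, ∀ c : R, GrInj.pr (Conv.grp 𝒜) w (c * z) ∈ J := by
      intro z hz
      rw [hm1] at hz
      induction hz using Submodule.span_induction with
      | mem y hy =>
        intro c
        rw [mul_comm, ← smul_eq_mul, show w = 1 + ((v + j : ℕ) : ℤ) by rw [hw]; push_cast; ring,
          pr_smul (𝒜 := Conv.grp 𝒜) (show y ∈ Conv.grp 𝒜 1 from hy) _ c, smul_eq_mul]
        exact J.mul_mem_left _ (ih _ (pr_mem (ℳ := Conv.grp 𝒜) _ c))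
      | zero => intro c; rw [mul_zero, map_zero]; exact zero_mem _
      | add p q _ _ hp hq => intro c; rw [mul_add, map_add]; exact add_mem (hp c) (hq c)
      | smul b y _ hy => intro c; rw [smul_eq_mul, ← mul_assoc]; exact hy (c * b)
    have := hkey x (irrelevant_mem hm _ (by omega) x hx) 1
    rwa [one_mul, pr_of_mem (show x ∈ Conv.grp 𝒜 w from hx)] at this

/-- The type of a Segre product of Gorenstein algebras. -/
theorem bassNum_segre [Algebra.FiniteType k R] {S : Type u} [CommRing S] [Algebra k S] {ℬ : ℤ → Submodule k S}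
    [GradedAlgebra ℬ] [Algebra.FiniteType k S] {T : Type u} [CommRing T] [Algebra k T] {𝒯 : ℤ → Submodule k T}
    [GradedAlgebra 𝒯] {ψ : T →ₐ[k] R ⊗[k] S} (hT : GrSeg.IsSegreRing 𝒜 ℬ 𝒯 ψ)
    (hposR : ∀ n : ℤ, n < 0 → 𝒜 n = ⊥) (h0R : 𝒜 0 = Submodule.span k {(1 : R)})
    (hposS : ∀ n : ℤ, n < 0 → ℬ n = ⊥) (h0S : ℬ 0 = Submodule.span k {(1 : S)})
    [LocCoh.IsGorensteinRing R] [LocCoh.IsGorensteinRing S]
    (mR : HomogeneousIdeal 𝒜) (hmR : mR.toIdeal = Ideal.span (⋃ n ∈ Set.Ioi (0 : ℤ), (𝒜 n : Set R)))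
    (hstd : mR.toIdeal = Ideal.span ((𝒜 1 : Submodule k R) : Set R))
    (I : StarInjRes 𝒜 𝒜)
    (mS : HomogeneousIdeal ℬ) (hmS : mS.toIdeal = Ideal.span (⋃ n ∈ Set.Ioi (0 : ℤ), (ℬ n : Set S)))
    (J : StarInjRes ℬ ℬ) {r s : ℕ} (hr : ringKrullDim R = r) (hs : ringKrullDim S = s) (h2r : 2 ≤ r) (h2s : 2 ≤ s)
    {a b : ℤ} (ha : endDeg (I.Hgr mR r) = ((a : WithTop ℤ) : WithBot (WithTop ℤ)))
    (hb : endDeg (J.Hgr mS s) = ((b : WithTop ℤ) : WithBot (WithTop ℤ))) (hab : b ≤ a)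
    [LocCoh.IsCohenMacaulayRing T] (mT : HomogeneousIdeal 𝒯) [mT.toIdeal.IsMaximal]
    (hmT : mT.toIdeal = Ideal.span (⋃ n ∈ Set.Ioi (0 : ℤ), (𝒯 n : Set T))) :
    GrLC.bassNum mT.toIdeal T (r + s - 1) = (Module.finrank k (𝒜 (a - b)) : ℕ∞) := by
  classical
  haveI : Nontrivial R := by
    by_contra h
    rw [not_nontrivial_iff_subsingleton] at h
    rw [ringKrullDim_eq_bot_of_subsingleton] at hr; simp at hr
  haveI : Nontrivial S := by
    by_contra h
    rw [not_nontrivial_iff_subsingleton] at h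
    rw [ringKrullDim_eq_bot_of_subsingleton] at hs; simp at hs
  haveI : IsNoetherianRing R := Algebra.FiniteType.isNoetherianRing k R
  haveI : IsNoetherianRing S := Algebra.FiniteType.isNoetherianRing k S
  haveI : IsNoetherianRing T := SegreDim.isNoetherian ψ hT.1 hT.2
  haveI := nontrivial_segre ψ
  obtain ⟨a₁, ha₁, hdetR, -⟩ := gor_data hposR h0R hmR I hr
  obtain ⟨b₁, hb₁, hdetS, hS1⟩ := gor_data hposS h0S hmS J hs
  have : a₁ = a := (WithTop.coe_injective (WithBot.coe_injective (ha.symm.trans ha₁))).symm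
  subst this
  have : b₁ = b := (WithTop.coe_injective (WithBot.coe_injective (hb.symm.trans hb₁))).symm
  subst this
  have hRb : Module.finrank (deg0 𝒜) (I.Hcomp mR r b₁) = Module.finrank k (𝒜 (a₁ - b₁)) := by
    have h := (finrank_comp_eq_finrank_Hcomp (hpos_grp hposR) (isField_deg0 h0R) (m := Conv.ideal 𝒜 mR) hmR
      (Conv.res I) ((endDeg_res I mR r).trans ha) hr (a₁ - b₁)).1
    rw [sub_sub_cancel, finrank_Hcomp_res I mR r b₁, finrank_comp_grp, finrank_comp_self h0R] at h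
    exact h
  obtain ⟨i, rfl⟩ : ∃ i, r = i + 2 := ⟨r - 2, by omega⟩
  obtain ⟨j, rfl⟩ : ∃ j, s = j + 2 := ⟨s - 2, by omega⟩
  have hdim : ringKrullDim T = ((i + j + 1 + 2 : ℕ) : WithBot ℕ∞) := by
    rw [SegreDim.dim_segre ψ hT.1 hT.2 (r := i + 1) (s := j + 1) ⟨hposR, h0R⟩ ⟨hposS, h0S⟩ hr hs]
    rw [show i + 1 + (j + 1) + 1 = i + j + 1 + 2 by omega]
  rw [show i + 2 + (j + 2) - 1 = i + j + 1 + 2 by omega]
  have h0T := deg0_segre hT h0R h0S
  have hposT : ∀ n : ℤ, n < 0 → 𝒯 n = ⊥ := fun n hn => by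
    rw [Submodule.eq_bot_iff]
    intro t ht
    have h : ψ t ∈ GrSeg.segrePiece k 𝒜 ℬ n := (hT.2 n).le ⟨t, ht, rfl⟩
    have h0 : GrSeg.segrePiece k 𝒜 ℬ n = ⊥ := by
      unfold GrSeg.segrePiece
      rw [Submodule.span_eq_bot]
      rintro _ ⟨a, ha, b, -, rfl⟩
      rw [hposR n hn, Submodule.mem_bot] at ha
      rw [ha, TensorProduct.zero_tmul]
    rw [h0, Submodule.mem_bot] at h
    exact hT.1 (h.trans (map_zero ψ).symm)
  have hp := hpos_grp hposT
  obtain ⟨E⟩ := nonempty_res (𝒜 := 𝒯) (ℳ := 𝒯)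
  obtain ⟨GR, DM, σR, hσR⟩ := exists_data h0R mR hmR I
  obtain ⟨GS, DN, σS, hσS⟩ := exists_data h0S mS hmS J
  let EP := Conv.res E
  let b' := Conv.ideal 𝒯 mT
  haveI hmax : b'.toIdeal.IsMaximal := ‹mT.toIdeal.IsMaximal›
  set N := i + j + 1 + 2 with hN
  have hbelow : ∀ d, d < b₁ → ∀ c ∈ EP.Hgr b' N d, (∀ t ∈ 𝒯 (b₁ - d), t • c = 0) → c = 0 := fun d hd c hc hk =>
    top_detect (Conv.res I) DM σR hσR (Conv.res J) DN σS hσS hT hmT (irrelevant_mem hmR) (irrelevant_mem hmS)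
      (isSegreMod_grp (isSegreMod_self hT)) EP
      (fun q hq => (Conv.res_Hcomp I mR q d).2 (hcomp_eq_bot_above I hr q hq d))
      (fun q hq => (Conv.res_Hcomp J mS q d).2 (hcomp_eq_bot_above J hs q hq d))
      (fun c hc hk => hdetR d c hc fun f hf => by
        obtain ⟨v, hv⟩ : ∃ v : ℕ, b₁ - d = (v : ℤ) := ⟨(b₁ - d).toNat, by omega⟩
        obtain ⟨j, hj⟩ : ∃ j : ℕ, a₁ - d = ((v + j : ℕ) : ℤ) := ⟨(a₁ - b₁).toNat, by push_cast; omega⟩
        rw [hj] at hf
        have hfJ := piece_le_span hmR hstd (v := v) (by omega) j f hf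
        rw [← hv] at hfJ
        clear hf
        induction hfJ using Submodule.span_induction with
        | mem y hy => exact hk y hy
        | zero => exact zero_smul R c
        | add p q _ _ hp hq => rw [add_smul, hp, hq, add_zero]
        | smul e p _ hp => rw [smul_eq_mul, mul_smul, hp, smul_zero])
      (hdetS d) c hc hk
  have habove : ∀ d, b₁ < d → ∀ c ∈ EP.Hgr b' N d, c = 0 := fun d hd c hc => by
    have hS0 : J.Hcomp mS (j + 2) d = ⊥ := (Conv.res_Hcomp J mS _ d).1 <| (Submodule.eq_bot_iff _).2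
      fun x hx => hdetS d x hx fun f hf => by
        rw [(Submodule.mem_bot k).1 ((hposS _ (by omega)).le hf), zero_smul]
    have h := kunneth_top hposR h0R hposS h0S hT mR hmR mS hmS mT hmT I J (isSegreMod_self hT) E d hr hs
      (by omega) (by omega)
    rw [(finrank_hcomp_eq_zero_iff hposS h0S hmS J _ d).2 hS0, mul_zero,
      finrank_hcomp_eq_zero_iff hposT h0T hmT E, show i + 2 + (j + 2) - 1 = N by omega] at h
    exact (Submodule.eq_bot_iff _).1 ((Conv.res_Hcomp E mT N d).2 h) c hc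
  have hfin : Module.finrank (deg0 𝒯) (E.Hcomp mT N b₁) = Module.finrank k (𝒜 (a₁ - b₁)) := by
    have h := kunneth_top hposR h0R hposS h0S hT mR hmR mS hmS mT hmT I J (isSegreMod_self hT) E b₁ hr hs
      (by omega) (by omega)
    rw [show i + 2 + (j + 2) - 1 = N by omega, hRb, hS1, mul_one] at h
    exact h
  rw [show GrLC.bassNum mT.toIdeal T N = Module.length T (Submodule.torsionBySet T (EP.H b' N) b'.toIdeal) from
    bassNum_eq_length_socle b' EP N (subsingleton_H_cm hp (starLocal hposT h0T hmT) hdim EP)]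
  set H := Submodule.torsionBySet T (EP.H b' N) b'.toIdeal with hH
  rw [length_killed hp hmT H fun t ht x => Subtype.ext ((Submodule.mem_torsionBySet_iff _ _).1 x.2 ⟨t, ht⟩)]
  letI := (S13225.isInternal_Hgr EP b' N).chooseDecomposition
  haveI : SetLike.GradedSMul (Conv.grp 𝒯) (EP.Hgr b' N) := ⟨fun {p q} t c ht hc => by
    obtain ⟨z, hz, rfl⟩ := hc
    exact ⟨t • z, (EP.X _).gsmul.smul_mem ht hz, map_smul _ t z⟩⟩
  have heq : H.restrictScalars (deg0 (Conv.grp 𝒯)) = EP.Hcomp b' N b₁ := by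
    refine le_antisymm (fun c hc => ?_) (fun c hc => ?_)
    · have hck : ∀ t ∈ b'.toIdeal, t • c = 0 := fun t ht => (Submodule.mem_torsionBySet_iff _ _).1 hc ⟨t, ht⟩
      have hz : ∀ d, d ≠ b₁ → GrInj.pr (EP.Hgr b' N) d c = 0 := fun d hd => by
        rcases lt_or_gt_of_ne hd with h | h
        · refine hbelow d h _ (pr_mem d c) fun t ht => ?_
          rw [← pr_smul (𝒜 := Conv.grp 𝒯) (show t ∈ Conv.grp 𝒯 (b₁ - d) from ht) d c,
            hck t (irrelevant_mem hmT _ (by omega) t ht), map_zero]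
        · exact habove d h _ (pr_mem d c)
      rw [← sum_supp (ℳ := EP.Hgr b' N) c]
      refine sum_mem fun d _ => ?_
      rcases eq_or_ne d b₁ with rfl | hd
      · exact pr_mem (ℳ := EP.Hgr b' N) d c
      · rw [hz d hd]; exact zero_mem _
    · refine (Submodule.mem_torsionBySet_iff _ _).2 ?_
      rintro ⟨t, ht⟩
      show t • c = 0
      change t ∈ mT.toIdeal at ht
      rw [hmT] at ht
      induction ht using Submodule.span_induction with
      | mem y hy =>
        simp only [Set.mem_iUnion] at hy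
        obtain ⟨n, hn, hy⟩ := hy
        refine habove (n + b₁) (by have : (0 : ℤ) < n := hn; omega) _ ?_
        exact smul_mem_gr (𝒜 := Conv.grp 𝒯) (show y ∈ Conv.grp 𝒯 n from hy) (show c ∈ EP.Hgr b' _ b₁ from hc)
      | zero => exact zero_smul _ _
      | add p q _ _ hp hq => rw [add_smul, hp, hq, add_zero]
      | smul b p _ hp => rw [smul_eq_mul, mul_smul, hp, smul_zero]
  let e : H ≃ₗ[deg0 (Conv.grp 𝒯)] EP.Hcomp b' N b₁ :=
    { toFun := fun x => ⟨x.1, heq.le x.2⟩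
      invFun := fun x => ⟨x.1, heq.ge x.2⟩
      left_inv := fun _ => rfl
      right_inv := fun _ => rfl
      map_add' := fun _ _ => rfl
      map_smul' := fun _ _ => rfl }
  rw [e.length_eq]
  letI := (isField_deg0 (k := k) (𝒜 := 𝒯) h0T).toField
  haveI := (finite_pieces (a := b') EP b₁ hposT hmT N).1
  rw [Module.length_eq_finrank, finrank_Hcomp_res E mT N b₁, hfin]

end Groth.Agent.GrInj.SegK
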