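import Groth.Agent.GrInj.SegreKCMMod
import Groth.Agent.GrInj.VeroConv
import Groth.Agent.GrInj.Socle
import Groth.Agent.S18651
import Groth.Agent.S18656
import Groth.Agent.Catenary.CM

/-!
# Local cohomology of shifted polynomial rings
-/

set_option autoImplicit false
set_option linter.unusedSectionVars false
universe u

open TensorProduct

namespace Groth.Agent.GrInj.SegPoly

open GrLC

variable (k : Type u) [Field k] (N : ℕ)

/-- The standard grading. -/
noncomputable abbrev W : ℤ → Submodule k (MvPolynomial (Fin N) k) :=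
  MvPolynomial.weightedHomogeneousSubmodule k (fun _ : Fin N => (1 : ℤ))

attribute [local instance] MvPolynomial.weightedGradedAlgebra

theorem hpos : ∀ n : ℤ, n < 0 → W k N n = ⊥ := fun n hn => (Submodule.eq_bot_iff _).2 fun _ hx =>
  S18651.eq_zero_of_mem_neg (fun _ => one_pos) hn hx

theorem h0 : W k N 0 = Submodule.span k {(1 : MvPolynomial (Fin N) k)} := by
  refine le_antisymm (fun x hx => ?_) ((Submodule.span_singleton_le_iff_mem _ _).2 (SetLike.one_mem_graded (W k N)))
  rw [S18651.eq_C_of_mem_zero (fun _ => one_pos) hx, Submodule.mem_span_singleton]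
  exact ⟨_, by rw [MvPolynomial.smul_eq_C_mul, mul_one]⟩

/-- The irrelevant ideal. -/
noncomputable def irr : HomogeneousIdeal (W k N) :=
  ⟨Ideal.span (⋃ n ∈ Set.Ioi (0 : ℤ), (W k N n : Set (MvPolynomial (Fin N) k))),
    Ideal.homogeneous_span _ _ (by
      intro x hx
      simp only [Set.mem_iUnion] at hx
      obtain ⟨i, -, hx⟩ := hx
      exact ⟨i, hx⟩)⟩

theorem dim_eq : ringKrullDim (MvPolynomial (Fin N) k) = (N : ℕ) := by
  rw [MvPolynomial.ringKrullDim_of_isNoetherianRing, ringKrullDim_eq_zero_of_field, zero_add, Nat.card_fin]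

instance isCM : LocCoh.IsCohenMacaulayRing (MvPolynomial (Fin N) k) := by
  haveI : IsRegularRing (MvPolynomial (Fin N) k) := inferInstance
  exact Catenary.isCohenMacaulayRing_of_isRegularRing _

theorem X_mem (i : Fin N) : (MvPolynomial.X i : MvPolynomial (Fin N) k) ∈ W k N 1 :=
  MvPolynomial.isWeightedHomogeneous_X k _ i

theorem irr_span : (irr k N).toIdeal = Ideal.span (Set.range MvPolynomial.X) :=
  S18651.span_pos_eq fun _ => one_pos

theorem irr_std : Ideal.span (⋃ n ∈ Set.Ioi (0 : ℤ), (Conv.grp (W k N) n : Set (MvPolynomial (Fin N) k))) =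
    Ideal.span ((Conv.grp (W k N) 1 : AddSubgroup _) : Set (MvPolynomial (Fin N) k)) :=
  le_antisymm ((irr_span k N).le.trans (Ideal.span_mono (Set.range_subset_iff.2 (X_mem k N))))
    (Ideal.span_mono fun x hx => Set.mem_biUnion (show (1 : ℤ) ∈ Set.Ioi (0 : ℤ) from Set.mem_Ioi.2 one_pos) hx)

theorem oneSoc_top (I : StarInjRes (W k N) (W k N)) :
    OneSoc (Conv.ideal (W k N) (irr k N)) ((Conv.res I).Hgr (Conv.ideal (W k N) (irr k N)) N) (-(N : ℤ)) := by
  classical
  let 𝒜 := Conv.grp (W k N)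
  let a : HomogeneousIdeal 𝒜 := Conv.ideal (W k N) (irr k N)
  let E : StarInjRes 𝒜 (GrInj.selfMod 𝒜).gr := @Conv.res ℤ _ _ _ _ _ _ _ (W k N) _ _ _ _ _ _ _ (W k N) _ _ I
  have hspan : a.toIdeal = Ideal.span (Set.range MvPolynomial.X) := irr_span k N
  have hreg : RingTheory.Sequence.IsWeaklyRegular (MvPolynomial (Fin N) k)
      (List.ofFn fun i => (MvPolynomial.X i : MvPolynomial (Fin N) k)) :=
    Groth.FlatDescent.Slicing.isWeaklyRegular_X N k
  have hlist : Ideal.ofList (List.ofFn fun i => (MvPolynomial.X i : MvPolynomial (Fin N) k)) = a.toIdeal := by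
    rw [hspan, Ideal.ofList]; congr 1; ext r; simp
  have ha1 : a.toIdeal ≠ ⊤ := star_ne_top (SegK.starLocal (hpos k N) (h0 k N) (m := irr k N) rfl)
  have hvan : ∀ i < N, Subsingleton (E.H a i) := fun i hi => subsingleton_H_cm (SegK.hpos_grp (hpos k N))
    (SegK.starLocal (hpos k N) (h0 k N) (m := irr k N) rfl) (dim_eq k N) (Conv.res I) i hi
  have hsoc : OneSoc a (E.Hgr a (0 + N)) (-(Finset.univ : Finset (Fin N)).sum fun _ => (1 : ℤ)) :=
    oneSoc_regular N (fun i => MvPolynomial.X i) (fun _ => 1) (fun i => X_mem k N i)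
      (fun i => hspan ▸ Ideal.subset_span ⟨i, rfl⟩) (GrInj.selfMod 𝒜) E hreg 0
      (fun i hi => hvan i (by omega)) fun Q π hπ hπs hπk F =>
        oneSoc_residue (SegK.hpos_grp (hpos k N)) rfl (SegK.isField_deg0 (h0 k N)) ha1 Q π hπ hπs (fun x => by
          let M := (GrInj.selfMod 𝒜).carrier
          have h1 : ∀ y : MvPolynomial (Fin N) k, y ∈ (Ideal.ofList (List.ofFn fun i => (MvPolynomial.X i : MvPolynomial (Fin N) k)) •
              (⊤ : Submodule (MvPolynomial (Fin N) k) (MvPolynomial (Fin N) k))) ↔ y ∈ a.toIdeal := fun y => by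
            rw [smul_eq_mul, Ideal.mul_top, hlist]
          exact (SetLike.ext_iff.1 hπk (show M from x)).trans (h1 x)) F
  rw [Nat.zero_add, show (-(Finset.univ : Finset (Fin N)).sum fun _ => (1 : ℤ)) = -(N : ℤ) by simp] at hsoc
  exact hsoc

/-- The top cohomology of the polynomial ring lives exactly in degrees at most `-N`. -/
theorem hcomp_top_iff (h1 : 1 ≤ N) (I : StarInjRes (W k N) (W k N)) (n : ℤ) :
    I.Hcomp (irr k N) N n = ⊥ ↔ -(N : ℤ) < n := by
  classical
  let a : HomogeneousIdeal (Conv.grp (W k N)) := Conv.ideal (W k N) (irr k N)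
  obtain ⟨hdeg, ⟨c, hc, hc0, -⟩, -⟩ := oneSoc_top k N I
  have hne : ¬ Subsingleton ((Conv.res I).H a N) := fun _ => hc0 (Subsingleton.elim _ _)
  obtain ⟨e, he⟩ := exists_endDeg (SegK.hpos_grp (hpos k N)) (m := a) rfl (Conv.res I) hne
  have hen : (Conv.res I).Hgr a N e ≠ ⊥ := by
    intro hb
    have hle : endDeg ((Conv.res I).Hgr a N) ≤ (((e - 1 : ℤ) : WithTop ℤ) : WithBot (WithTop ℤ)) :=
      iSup₂_le fun g hg => WithBot.coe_le_coe.2 (WithTop.coe_le_coe.2 (by
        by_contra h
        rcases eq_or_lt_of_le (show e ≤ g by omega) with rfl | hlt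
        · exact hg hb
        · exact hg ((AddSubgroup.eq_bot_iff_forall _).2 fun c hc => eq_zero_above (Conv.res I) he hlt hc)))
    rw [he] at hle
    have := WithTop.coe_le_coe.1 (WithBot.coe_le_coe.1 hle)
    omega
  obtain ⟨d, hd, hd0⟩ : ∃ d ∈ (Conv.res I).Hgr a N e, d ≠ 0 := by
    by_contra h
    push Not at h
    exact hen ((AddSubgroup.eq_bot_iff_forall _).2 h)
  have hee : e = -(N : ℤ) := hdeg e d hd (fun s hs => top_killed rfl (Conv.res I) he hd hs) hd0
  rw [← Conv.res_Hcomp I]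
  constructor
  · intro h
    by_contra hlt
    exact S18656.result _ (Conv.grp (W k N)) (SegK.hpos_grp (hpos k N)) (SegK.isField_deg0 (h0 k N)) a
      (SegK.starLocal (hpos k N) (h0 k N) (m := irr k N) rfl) rfl (irr_std k N) N (dim_eq k N) h1 (Conv.res I) e he n
      (by omega) h
  · intro h
    exact (Submodule.eq_bot_iff _).2 fun c hc => eq_zero_above (Conv.res I) he (by omega) hc

/-- The shifted grading. -/
noncomputable abbrev sh (a : ℤ) : ℤ → AddSubgroup (MvPolynomial (Fin N) k) := shGr (Conv.grp (W k N)) (-a)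

noncomputable instance shDec (a : ℤ) : DirectSum.Decomposition (sh k N a) :=
  (isInternal_sh (ℳ := Conv.grp (W k N)) (-a)).chooseDecomposition

instance shSMul (a : ℤ) : SetLike.GradedSMul (W k N) (sh k N a) :=
  ⟨fun {i j} r x hr hx => by
    show r • x ∈ W k N (i + j - -a)
    rw [show i + j - -a = i + (j - -a) by ring]
    exact SetLike.GradedMul.mul_mem hr (show x ∈ W k N (j - -a) from hx)⟩

theorem mem_sh {a n : ℤ} {x : MvPolynomial (Fin N) k} : x ∈ sh k N a n ↔ x ∈ W k N (n + a) := by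
  show x ∈ W k N (n - -a) ↔ _
  rw [sub_neg_eq_add]

theorem sh_eq_bot_iff (h1 : 1 ≤ N) (a n : ℤ) : sh k N a n = ⊥ ↔ n + a < 0 := by
  rw [AddSubgroup.eq_bot_iff_forall]
  constructor
  · intro h
    by_contra hn
    refine SegK.piece_ne_bot_of_std (hpos k N) (h0 k N) (m := irr k N) rfl (irr_std k N) (dim_eq k N) h1
      (show (0 : ℤ) ≤ n + a by omega) ?_
    exact (Submodule.eq_bot_iff _).2 fun x hx => h x ((mem_sh k N).2 hx)
  · intro hn x hx
    exact (Submodule.mem_bot k).1 ((hpos k N _ hn).le ((mem_sh k N).1 hx))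

/-- A resolution of the shifted polynomial ring. -/
noncomputable def shRes (I : StarInjRes (W k N) (W k N)) (a : ℤ) : StarInjRes (W k N) (sh k N a) :=
  SegK.unres (ℳ := sh k N a) (shiftRes (Conv.res I) (-a))

theorem shRes_Hcomp (I : StarInjRes (W k N) (W k N)) (a : ℤ) (i : ℕ) (n : ℤ) :
    (shRes k N I a).Hcomp (irr k N) i n = ⊥ ↔ I.Hcomp (irr k N) i (n + a) = ⊥ := by
  rw [← sub_neg_eq_add n a, Submodule.eq_bot_iff, Submodule.eq_bot_iff]
  exact Iff.rfl

end Groth.Agent.GrInj.SegPoly
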