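import Groth.Agent.GrInj.StarLoc
import Groth.Agent.LocCohLib.Artinian

/-!
# The pieces of graded local cohomology with support in the *maximal ideal
-/

set_option autoImplicit false
set_option linter.unusedSectionVars false
universe u

namespace Groth.Agent.GrInj

open GrLC CategoryTheory CategoryTheory.Limits

variable {R : Type u} [CommRing R] [IsNoetherianRing R] {𝒜 : ℤ → AddSubgroup R} [GradedRing 𝒜]

variable (𝒜) in
/-- The ideal generated by the elements of positive degree. -/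
def posIdeal : HomogeneousIdeal 𝒜 :=
  ⟨Ideal.span (⋃ n ∈ Set.Ioi (0 : ℤ), (𝒜 n : Set R)), Ideal.homogeneous_span 𝒜 _ fun x hx => by
    obtain ⟨n, -, hn⟩ := Set.mem_iUnion₂.1 hx
    exact ⟨n, hn⟩⟩

theorem toIdeal_posIdeal :
    (posIdeal 𝒜).toIdeal = Ideal.span (⋃ n ∈ Set.Ioi (0 : ℤ), (𝒜 n : Set R)) := rfl

theorem posIdeal_le_star (hpos : ∀ n : ℤ, n < 0 → 𝒜 n = ⊥) {m : HomogeneousIdeal 𝒜}
    (hm : IsStarLocal 𝒜 m) : (posIdeal 𝒜).toIdeal ≤ m.toIdeal := by
  rw [toIdeal_posIdeal]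
  refine Ideal.span_le.2 fun x hx => ?_
  obtain ⟨n, hn, hxn⟩ := Set.mem_iUnion₂.1 hx
  exact mem_star_of_pos hpos hm hn hxn

/-- The pieces of degree `n ≫ 0` vanish, for every finite graded module. -/
def VanPieces (m : HomogeneousIdeal 𝒜) (i : ℕ) : Prop :=
  ∀ (X : GMod.{u} 𝒜) [Module.Finite R X.carrier] (E : StarInjRes 𝒜 X.gr),
    ∃ r : ℤ, ∀ n, r ≤ n → E.Hcomp m i n = ⊥

variable (m : HomogeneousIdeal 𝒜)

theorem vanPieces_zero (hpos : ∀ n : ℤ, n < 0 → 𝒜 n = ⊥) (hle : (posIdeal 𝒜).toIdeal ≤ m.toIdeal) :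
    VanPieces m 0 := by
  intro X _ E
  let G : Submodule R X.carrier := gam (posIdeal 𝒜).toIdeal X.carrier
  have hG : G.IsHomogeneous X.gr := S13225.gam_homogeneous (posIdeal 𝒜)
  haveI : Module.Finite R (subMod 𝒜 G hG).carrier := Module.Finite.iff_fg.2 (IsNoetherian.noetherian G)
  obtain ⟨k, hk⟩ := exists_pow_gam (posIdeal 𝒜).toIdeal X.carrier
  obtain ⟨D, hD⟩ := exists_bound_of_pow (posIdeal 𝒜) hpos toIdeal_posIdeal k (subMod 𝒜 G hG) fun r hr x => by
    refine subInc_injective (𝒜 := 𝒜) hG ?_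
    rw [map_smul, map_zero]
    exact hk r hr _ ((range_subInc (𝒜 := 𝒜) hG).le ⟨x, rfl⟩)
  refine ⟨D, fun n hn => eq_bot_iff.2 ?_⟩
  rintro _ ⟨⟨z, hz, hd⟩, hzn, rfl⟩
  obtain ⟨y, rfl⟩ := E.exact_zero.le hd
  obtain ⟨l, hl⟩ := hz
  have hyn : y ∈ X.gr n := inverse_grHom E.ε_grHom E.ε_injective hzn
  have hyG : y ∈ G := ⟨l, fun r hr => E.ε_injective (by
    rw [map_smul, hl r (Ideal.pow_right_mono hle l hr), map_zero])⟩
  have h0 : y = 0 := congrArg Subtype.val (hD n hn ⟨y, hyG⟩ hyn)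
  rw [Submodule.mem_bot]
  refine (congrArg (E.toH m 0) (Subtype.ext (a2 := (0 : E.cocyc m 0)) ?_)).trans (map_zero _)
  show E.ε y = 0
  rw [h0, map_zero]

/-- A regular element of `m` of non-negative degree lowers the cohomological degree. -/
theorem vanPieces_step {i : ℕ} (hi : VanPieces m i) (Q : GMod.{u} 𝒜) [Module.Finite R Q.carrier]
    {x : R} {d : ℤ} (hd : 0 ≤ d) (hx : x ∈ 𝒜 d) (hxm : x ∈ m.toIdeal) (hreg : IsSMulRegular Q.carrier x)
    (E : StarInjRes 𝒜 Q.gr) : ∃ r : ℤ, ∀ n, r ≤ n → E.Hcomp m (i + 1) n = ⊥ := by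
  haveI : SetLike.GradedSMul 𝒜 Q.gr := Q.gsmul
  have hf : IsGrHom (shGr Q.gr d) Q.gr (LinearMap.lsmul R Q.carrier x) := grHom_lsmul hx
  let P : Submodule R Q.carrier := LinearMap.range (LinearMap.lsmul R Q.carrier x)
  have hP : P.IsHomogeneous Q.gr := hom_range hf
  haveI : Module.Finite R (quoMod 𝒜 P hP).carrier := inferInstanceAs (Module.Finite R (Q.carrier ⧸ P))
  obtain ⟨F⟩ := S13215.result R 𝒜 (quoMod 𝒜 P hP).carrier (quoMod 𝒜 P hP).gr
  obtain ⟨r₀, hr₀⟩ := hi (quoMod 𝒜 P hP) F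
  obtain ⟨δ, hδ, -, hexA, -, -⟩ := exists_les (a := m) (f := LinearMap.lsmul R Q.carrier x)
    (g := quoMk 𝒜 P hP) (grHom_quoMk hP) (Submodule.mkQ_surjective P) (Submodule.ker_mkQ P) E
    (shiftRes E d) F hf hreg
  have hinj : ∀ j, r₀ - d ≤ j → ∀ c ∈ E.Hcomp m (i + 1) j, x • c = 0 → c = 0 := by
    intro j hj c hc hxc
    have hind : ind (shiftRes E d) E m (LinearMap.lsmul R Q.carrier x) hf (i + 1)
        (c : (shiftRes E d).H m (i + 1)) = 0 := (ind_lsmul m hx (i + 1) _).trans hxc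
    obtain ⟨y, hy⟩ := (SetLike.ext_iff.1 (hexA i) _).1 (LinearMap.mem_ker.2 hind)
    letI := (S13225.isInternal_Hgr F m i).chooseDecomposition
    letI := (S13225.isInternal_Hgr (shiftRes E d) m (i + 1)).chooseDecomposition
    have h1 : pr ((shiftRes E d).Hgr m (i + 1)) (j + d) (δ i y) = δ i (pr (F.Hgr m i) (j + d) y) :=
      pr_grHom (hδ i) _ _
    have h2 : pr (F.Hgr m i) (j + d) y = 0 := by
      have h := pr_mem (ℳ := F.Hgr m i) (j + d) y
      have h' : pr (F.Hgr m i) (j + d) y ∈ F.Hcomp m i (j + d) := h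
      rwa [hr₀ (j + d) (by omega), Submodule.mem_bot] at h'
    rw [h2, map_zero, hy] at h1
    exact (pr_of_mem ((mem_shiftRes_Hgr m).2 (by rw [add_sub_cancel_right]; exact hc))).symm.trans h1
  have hall : ∀ k : ℕ, ∀ j, r₀ - d ≤ j → ∀ c ∈ E.Hcomp m (i + 1) j, x ^ k • c = 0 → c = 0 := by
    intro k
    induction k with
    | zero => exact fun j _ c _ h => by rwa [pow_zero, one_smul] at h
    | succ k ih =>
      intro j hj c hc h
      refine hinj j hj c hc (ih (d + j) (by omega) _ (smul_mem_Hcomp E hx hc) ?_)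
      rw [smul_smul, ← pow_succ]; exact h
  refine ⟨r₀ - d, fun n hn => eq_bot_iff.2 fun c hc => (Submodule.mem_bot _).2 ?_⟩
  obtain ⟨z, hz, rfl⟩ := hc
  obtain ⟨k, hk⟩ := z.2.1
  refine hall k n hn _ ⟨z, hz, rfl⟩ ?_
  rw [← map_smul, show x ^ k • z = 0 from Subtype.ext (hk _ (Ideal.pow_mem_pow hxm k)), map_zero]

/-- Vanishing passes to extensions. -/
theorem vanPieces_ext {j : ℕ} (X : GMod.{u} 𝒜) [Module.Finite R X.carrier] (G : Submodule R X.carrier)
    (hG : G.IsHomogeneous X.gr)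
    (hsub : ∀ E' : StarInjRes 𝒜 (subMod 𝒜 G hG).gr, ∃ r : ℤ, ∀ n, r ≤ n → E'.Hcomp m j n = ⊥)
    (hquo : ∀ E'' : StarInjRes 𝒜 (quoMod 𝒜 G hG).gr, ∃ r : ℤ, ∀ n, r ≤ n → E''.Hcomp m j n = ⊥)
    (E : StarInjRes 𝒜 X.gr) : ∃ r : ℤ, ∀ n, r ≤ n → E.Hcomp m j n = ⊥ := by
  obtain ⟨EG⟩ := S13215.result R 𝒜 (subMod 𝒜 G hG).carrier (subMod 𝒜 G hG).gr
  obtain ⟨EQ⟩ := S13215.result R 𝒜 (quoMod 𝒜 G hG).carrier (quoMod 𝒜 G hG).gr
  obtain ⟨r₁, hr₁⟩ := hsub EG
  obtain ⟨r₂, hr₂⟩ := hquo EQ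
  obtain ⟨δ, -, -, -, hexB, -⟩ := exists_les (a := m) (f := subInc 𝒜 G hG) (g := quoMk 𝒜 G hG)
    (grHom_quoMk hG) (Submodule.mkQ_surjective G)
    ((Submodule.ker_mkQ G).trans (range_subInc (𝒜 := 𝒜) hG).symm) E EG EQ (grHom_subInc hG)
    (subInc_injective hG)
  refine ⟨max r₁ r₂, fun n hn => eq_bot_iff.2 fun c hc => (Submodule.mem_bot _).2 ?_⟩
  have h := Hcomp_comp (g := n) _ (ind_grHom m (E := E) (F := EQ) (grHom_quoMk hG) j) c hc
  rw [hr₂ n (le_trans (le_max_right _ _) hn), Submodule.mem_bot] at h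
  obtain ⟨y, hy⟩ := (hexB j).le (LinearMap.mem_ker.2 h)
  letI := (S13225.isInternal_Hgr EG m j).chooseDecomposition
  letI := (S13225.isInternal_Hgr E m j).chooseDecomposition
  have h1 : pr (E.Hgr m j) n (ind EG E m (subInc 𝒜 G hG) (grHom_subInc hG) j y) =
      ind EG E m (subInc 𝒜 G hG) (grHom_subInc hG) j (pr (EG.Hgr m j) n y) :=
    pr_grHom (ind_grHom m (grHom_subInc hG) j) _ _
  have h2 : pr (EG.Hgr m j) n y = 0 := by
    have h' : pr (EG.Hgr m j) n y ∈ EG.Hcomp m j n := pr_mem (ℳ := EG.Hgr m j) n y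
    rwa [hr₁ n (le_trans (le_max_left _ _) hn), Submodule.mem_bot] at h'
  rw [h2, map_zero, hy] at h1
  exact (pr_of_mem (ℳ := E.Hgr m j) hc).symm.trans h1

/-- The quotient by the torsion has no torsion. -/
theorem gam_quotient_gam (I : Ideal R) (X : Type u) [AddCommGroup X] [Module R X] :
    gam I (X ⧸ gam I X) = ⊥ :=
  LocCohLib.torsionSub_quotient_eq_bot I X

theorem finite_quoMod (X : GMod.{u} 𝒜) [Module.Finite R X.carrier] (P : Submodule R X.carrier)
    (hP : P.IsHomogeneous X.gr) : Module.Finite R (quoMod 𝒜 P hP).carrier :=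
  inferInstanceAs (Module.Finite R (X.carrier ⧸ P))

theorem gam_quoMod (X : GMod.{u} 𝒜) [Module.Finite R X.carrier] (I : Ideal R)
    (hP : (gam I X.carrier).IsHomogeneous X.gr) : gam I (quoMod 𝒜 (gam I X.carrier) hP).carrier = ⊥ :=
  gam_quotient_gam I X.carrier

theorem kill_quoMod (X : GMod.{u} 𝒜) (P : Submodule R X.carrier) (hP : P.IsHomogeneous X.gr) (r : R)
    (h : ∀ y : X.carrier, r • y = 0) (q : (quoMod 𝒜 P hP).carrier) : r • q = 0 := by
  obtain ⟨y, rfl⟩ := Submodule.mkQ_surjective P q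
  exact (map_smul P.mkQ r y).symm.trans (by rw [h, map_zero]; rfl)

/-- In a module killed by a power of the positive degree elements and without `m`-torsion some element of
degree `0` of `m` is regular. -/
theorem exists_regular_zero (hpos : ∀ n : ℤ, n < 0 → 𝒜 n = ⊥) (Q : Type u) [AddCommGroup Q] [Module R Q]
    [Module.Finite R Q] (htf : gam m.toIdeal Q = ⊥) (k : ℕ)
    (hkill : ∀ r ∈ (posIdeal 𝒜).toIdeal ^ k, ∀ q : Q, r • q = 0) :
    ∃ x : R, x ∈ 𝒜 0 ∧ x ∈ m.toIdeal ∧ IsSMulRegular Q x := by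
  have hassoc : ∀ p ∈ associatedPrimes R Q, (posIdeal 𝒜).toIdeal ≤ p := by
    intro p hp r hr
    obtain ⟨hp', y, hy⟩ := (isAssociatedPrime_iff (R := R) (M := Q)).1 hp
    refine hp'.mem_of_pow_mem k ?_
    rw [hy, Submodule.mem_colon_singleton, Submodule.mem_bot]
    exact hkill _ (Ideal.pow_mem_pow hr k) y
  obtain ⟨x, hxm, hxreg⟩ := LocCohLib.exists_regular_of_torsionSub_eq_bot m.toIdeal (M := Q) htf
  have hx0 : x - pr 𝒜 0 x ∈ (posIdeal 𝒜).toIdeal := by
    refine mem_of_pr (ℳ := 𝒜) (P := (posIdeal 𝒜).toIdeal) fun j => ?_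
    rw [map_sub]
    rcases lt_trichotomy j 0 with h | rfl | h
    · rw [AddSubgroup.mem_bot.1 ((hpos j h).le (pr_mem (ℳ := 𝒜) j x)),
        pr_of_ne (pr_mem 0 x) h.ne', sub_zero]
      exact zero_mem _
    · rw [pr_of_mem (pr_mem (ℳ := 𝒜) 0 x), sub_self]; exact zero_mem _
    · rw [pr_of_ne (pr_mem 0 x) h.ne, sub_zero, toIdeal_posIdeal]
      exact Ideal.subset_span (Set.mem_biUnion (Set.mem_Ioi.2 h) (pr_mem j x))
  refine ⟨pr 𝒜 0 x, pr_mem 0 x, m.isHomogeneous 0 hxm,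
    isSMulRegular_iff_right_eq_zero_of_smul.2 fun y hy => by_contra fun hy0 => ?_⟩
  have hmem : pr 𝒜 0 x ∈ ⋃ p ∈ associatedPrimes R Q, (p : Set R) := by
    rw [biUnion_associatedPrimes_eq_zero_divisors]; exact ⟨y, hy0, hy⟩
  obtain ⟨p, hp, hxp⟩ := Set.mem_iUnion₂.1 hmem
  have hxp' : x ∈ ⋃ p ∈ associatedPrimes R Q, (p : Set R) :=
    Set.mem_biUnion hp (by simpa using p.add_mem (hassoc p hp hx0) hxp)
  rw [biUnion_associatedPrimes_eq_zero_divisors] at hxp'
  obtain ⟨w, hw0, hw⟩ := hxp'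
  exact hw0 (isSMulRegular_iff_right_eq_zero_of_smul.1 hxreg w hw)

theorem vanPieces (hpos : ∀ n : ℤ, n < 0 → 𝒜 n = ⊥) (hm : IsStarLocal 𝒜 m) : ∀ i, VanPieces m i
  | 0 => vanPieces_zero m hpos (posIdeal_le_star hpos hm)
  | i + 1 => by
    intro X _ E
    haveI := star_isMaximal hpos hm
    have hi := vanPieces hpos hm i
    have hGa : (gam (posIdeal 𝒜).toIdeal X.carrier).IsHomogeneous X.gr := S13225.gam_homogeneous (posIdeal 𝒜)
    refine vanPieces_ext m X _ hGa (fun E' => ?_) (fun E'' => ?_) E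
    · -- the part killed by a power of the positive degree elements
      let G : GMod.{u} 𝒜 := subMod 𝒜 _ hGa
      haveI : Module.Finite R G.carrier := Module.Finite.iff_fg.2 (IsNoetherian.noetherian _)
      have hGm : (gam m.toIdeal G.carrier).IsHomogeneous G.gr := S13225.gam_homogeneous m
      refine vanPieces_ext m G _ hGm (fun E₁ => ⟨0, fun n _ => ?_⟩) (fun E₂ => ?_) E'
      · haveI : Subsingleton (E₁.H m (i + 1)) := by
          refine subsingleton_of_torsion m (fun y => ?_) i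
          obtain ⟨l, hl⟩ := y.2
          exact ⟨l, fun r hr => Subtype.ext (hl r hr)⟩
        exact eq_bot_iff.2 fun c _ => (Submodule.mem_bot _).2 (Subsingleton.elim _ _)
      · haveI := finite_quoMod G _ hGm
        obtain ⟨k, hk⟩ := exists_pow_gam (posIdeal 𝒜).toIdeal X.carrier
        obtain ⟨x, hx, hxm, hreg⟩ := exists_regular_zero m hpos _ (gam_quoMod G m.toIdeal hGm) k
          fun r hr => kill_quoMod G _ hGm r fun y => subInc_injective (𝒜 := 𝒜) hGa (by
            rw [map_smul, map_zero]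
            exact hk r hr _ ((range_subInc (𝒜 := 𝒜) hGa).le ⟨y, rfl⟩))
        exact vanPieces_step m hi _ (le_refl 0) hx hxm hreg E₂
    · haveI := finite_quoMod X _ hGa
      obtain ⟨x, d, hd, hx, hreg⟩ := exists_regular (posIdeal 𝒜) hpos toIdeal_posIdeal _
        (gam_quoMod X _ hGa)
      exact vanPieces_step m hi _ hd.le hx (mem_star_of_pos hpos hm hd hx) hreg E''

/-- `H^i_m(M)` is Artinian for a maximal ideal `m` of a Noetherian ring. -/
theorem isArtinian_H_maximal (m : Ideal R) [m.IsMaximal] : ∀ (i : ℕ) (M : ModuleCat.{u} R) [Module.Finite R M],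
    IsArtinian R ((localCohomology m i).obj M) := by
  intro i
  induction i with
  | zero =>
    intro M _
    haveI : Module.Finite R (DRing.torsionSub m M) := Module.Finite.iff_fg.2 (IsNoetherian.noetherian _)
    obtain ⟨k, hk⟩ := LocCohLib.exists_pow_le_annihilator_of_fg
      (LocCohLib.isPowerTorsion_torsionSub m M)
      (W := (⊤ : Submodule R (DRing.torsionSub m M))) (IsNoetherian.noetherian _)
    haveI := LocCohLib.isArtinian_of_pow_smul (m := m) k (DRing.torsionSub m M) fun a ha x =>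
      Submodule.mem_annihilator.1 (hk ha) x trivial
    exact isArtinian_of_linearEquiv (LocCohLib.h0Equiv m M).symm
  | succ i ih =>
    intro M _
    let Q := (LocCohLib.torSeq m M).X₃
    obtain ⟨x, hx, hreg⟩ := LocCohLib.exists_regular_of_torsionSub_eq_bot m (M := M ⧸ DRing.torsionSub m M)
      (LocCohLib.torsionSub_quotient_eq_bot m M)
    have hS := LocCohLib.mulSeq_shortExact (M := Q) hreg
    haveI : Module.Finite R Q := Module.Finite.quotient R (DRing.torsionSub m M)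
    haveI : Module.Finite R (LocCohLib.mulSeq x Q).X₃ := Module.Finite.quotient R _
    haveI := ih (LocCohLib.mulSeq x Q).X₃
    haveI : IsArtinian R (LinearMap.ker (LinearMap.lsmul R ((localCohomology m (i + 1)).obj Q) x)) := by
      refine isArtinian_of_surjective _ ((LocCohLib.δ hS m i).codRestrict
        (LinearMap.ker (LinearMap.lsmul R ((localCohomology m (i + 1)).obj Q) x)) fun v => ?_) fun w => ?_
      · rw [LinearMap.mem_ker, ← LocCohLib.ker_lsmul_map]
        exact LocCohLib.map_δ_eq_zero hS v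
      · obtain ⟨v, hv⟩ := LocCohLib.exact₁ hS w.1 ((LocCohLib.ker_lsmul_map x w.1).trans w.2)
        exact ⟨v, Subtype.ext hv⟩
    haveI := LocCohLib.isArtinian_of_torsion (T := ((localCohomology m (i + 1)).obj Q)) x fun t => by
      obtain ⟨k, hk⟩ := LocCohLib.isPowerTorsion_H (I := m) (i + 1) Q t
      exact ⟨k, hk _ (Ideal.pow_mem_pow hx k)⟩
    refine isArtinian_of_injective ((localCohomology m (i + 1)).map (LocCohLib.torSeq m M).g).hom ?_
    refine (injective_iff_map_eq_zero _).2 fun w hw => ?_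
    obtain ⟨v, rfl⟩ := LocCohLib.exact₂ (LocCohLib.torSeq_shortExact m M) w hw
    rw [(LocCohLib.subsingleton_of_isPowerTorsion i (LocCohLib.torSeq m M).X₁
      (LocCohLib.isPowerTorsion_torsionSub m M)).elim v 0]
    exact map_zero _

variable (𝒜) in
/-- The pieces of an Artinian graded module are Artinian over the degree zero subring. -/
theorem isArtinian_piece {M : Type u} [AddCommGroup M] [Module R M] {ℳ : ℤ → AddSubgroup M}
    [DirectSum.Decomposition ℳ] [SetLike.GradedSMul 𝒜 ℳ] [IsArtinian R M] (n : ℤ) :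
    IsArtinian (deg0 𝒜) (comp 𝒜 ℳ n) := by
  let Φ : Submodule (deg0 𝒜) (comp 𝒜 ℳ n) → Submodule R M := fun S =>
    Submodule.span R ((fun x : comp 𝒜 ℳ n => (x : M)) '' S)
  have key : ∀ S (x : comp 𝒜 ℳ n), (x : M) ∈ Φ S → x ∈ S := by
    intro S x hx
    have h : ∀ y ∈ Φ S, ∀ r : R, (⟨pr ℳ n (r • y), pr_mem n _⟩ : comp 𝒜 ℳ n) ∈ S := by
      intro y hy
      induction hy using Submodule.span_induction with
      | mem y hy =>
        obtain ⟨z, hz, rfl⟩ := hy
        intro r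
        have h : (⟨pr ℳ n (r • (z : M)), pr_mem n _⟩ : comp 𝒜 ℳ n) =
            (⟨pr 𝒜 0 r, pr_mem 0 r⟩ : deg0 𝒜) • z := Subtype.ext (by
          show pr ℳ n (r • (z : M)) = pr 𝒜 0 r • (z : M)
          have h := pr_map (ℳ := 𝒜) (𝒩 := ℳ) (f := (smulAddHom R M).flip (z : M)) (d := n)
            (fun g b hb => smul_mem_gr hb z.2) 0 r
          rw [zero_add] at h
          exact h)
        rw [h]; exact S.smul_mem _ hz
      | zero =>
        intro r
        rw [show (⟨pr ℳ n (r • (0 : M)), pr_mem n _⟩ : comp 𝒜 ℳ n) = 0 from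
          Subtype.ext (by show pr ℳ n (r • (0 : M)) = 0; rw [smul_zero, map_zero])]
        exact zero_mem _
      | add b c _ _ hb hc =>
        intro r
        rw [show (⟨pr ℳ n (r • (b + c)), pr_mem n _⟩ : comp 𝒜 ℳ n) =
          ⟨pr ℳ n (r • b), pr_mem n _⟩ + ⟨pr ℳ n (r • c), pr_mem n _⟩ from
            Subtype.ext (by show pr ℳ n (r • (b + c)) = _ + _; rw [smul_add, map_add])]
        exact add_mem (hb r) (hc r)
      | smul q b _ hb =>
        intro r
        rw [show (⟨pr ℳ n (r • q • b), pr_mem n _⟩ : comp 𝒜 ℳ n) = ⟨pr ℳ n ((r * q) • b), pr_mem n _⟩ from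
          Subtype.ext (by show pr ℳ n (r • q • b) = pr ℳ n ((r * q) • b); rw [mul_smul])]
        exact hb _
    have := h _ hx 1
    rwa [show (⟨pr ℳ n ((1 : R) • (x : M)), pr_mem n _⟩ : comp 𝒜 ℳ n) = x from
      Subtype.ext (by show pr ℳ n ((1 : R) • (x : M)) = x; rw [one_smul, pr_of_mem x.2])] at this
  exact (OrderEmbedding.ofMapLEIff Φ fun S T =>
    ⟨fun h x hx => key T x (SetLike.le_def.1 h (Submodule.subset_span ⟨x, hx, rfl⟩)),
      fun h => Submodule.span_mono (Set.image_mono h)⟩).wellFoundedLT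

theorem isArtinian_Hcomp (hpos : ∀ n : ℤ, n < 0 → 𝒜 n = ⊥) (hm : IsStarLocal 𝒜 m) {M : Type u}
    [AddCommGroup M] [Module R M] [Module.Finite R M] {ℳ : ℤ → AddSubgroup M} [DirectSum.Decomposition ℳ]
    [SetLike.GradedSMul 𝒜 ℳ] (E : StarInjRes 𝒜 ℳ) (i : ℕ) (n : ℤ) :
    IsArtinian (deg0 𝒜) (E.Hcomp m i n) := by
  haveI := star_isMaximal hpos hm
  haveI : IsArtinian R (E.H m i) := by
    obtain ⟨e⟩ := S13224.result R 𝒜 m M ℳ E i
    haveI : IsArtinian R (LocCoh.H m.toIdeal i M) := isArtinian_H_maximal m.toIdeal i (ModuleCat.of R M)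
    exact isArtinian_of_linearEquiv e.symm
  letI := (S13225.isInternal_Hgr E m i).chooseDecomposition
  haveI : SetLike.GradedSMul 𝒜 (E.Hgr m i) := gsmul_mk fun a b r hr x hx => smul_mem_Hcomp E hr hx
  exact isArtinian_piece 𝒜 (ℳ := E.Hgr m i) n

end Groth.Agent.GrInj
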