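import Groth.Prelude.Def_GrSyz
import Groth.Agent.GrInj.FreeReg
import Groth.Agent.GrInj.Conv
import Groth.Agent.GrSyzHilb.Basic

/-!
# The standard graded polynomial ring has regularity zero
-/

set_option autoImplicit false
set_option linter.unusedSectionVars false
universe u

namespace Groth.Agent.GrInj.Std

open GrLC MvPolynomial

variable (k : Type u) [Field k] (r : ℕ)

/-- The polynomial ring. -/
abbrev S : Type u := MvPolynomial (Fin (r + 1)) k

/-- Its grading by additive subgroups. -/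
noncomputable abbrev gr : ℤ → AddSubgroup (S k r) := Conv.grp (GrSyz.stdGr k (Fin (r + 1)))

/-- The irrelevant ideal. -/
noncomputable abbrev irr : HomogeneousIdeal (gr k r) :=
  Conv.ideal (GrSyz.stdGr k (Fin (r + 1))) (GrSyz.irrel (GrSyz.stdGr k (Fin (r + 1))))

theorem pos : ∀ n : ℤ, n < 0 → gr k r n = ⊥ := fun n hn => (AddSubgroup.eq_bot_iff_forall _).2 fun x hx =>
  (Submodule.mem_bot k).1 ((GrSyzHilb.piece_neg (k := k) (r := r) hn).le hx)

theorem X_mem (i : Fin (r + 1)) : (X i : S k r) ∈ gr k r 1 :=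
  show (X i : S k r).IsWeightedHomogeneous (fun _ : Fin (r + 1) => (1 : ℤ)) 1 from
    isWeightedHomogeneous_X k (fun _ => (1 : ℤ)) i

theorem X_mem_irr (i : Fin (r + 1)) : (X i : S k r) ∈ (irr k r).toIdeal :=
  Ideal.subset_span ⟨1, one_pos, X_mem k r i⟩

theorem irr_eq_span_X : (irr k r).toIdeal = Ideal.span (Set.range (X : Fin (r + 1) → S k r)) := by
  refine le_antisymm (fun p hp => ?_) (Ideal.span_le.2 (Set.range_subset_iff.2 (X_mem_irr k r)))
  have h0 : constantCoeff p = 0 := GrSyzHilb.irrel_le p hp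
  rw [← Set.image_univ, mem_ideal_span_X_image]
  intro m hm
  by_contra h
  push Not at h
  have hm0 : m = 0 := Finsupp.ext fun i => h i (Set.mem_univ i)
  rw [hm0, mem_support_iff] at hm
  exact hm h0

theorem irr_hom : (irr k r).toIdeal = Ideal.span ((gr k r 1 : AddSubgroup (S k r)) : Set (S k r)) :=
  le_antisymm ((irr_eq_span_X k r).le.trans (Ideal.span_mono (Set.range_subset_iff.2 (X_mem k r))))
    (Ideal.span_le.2 fun p hp => Ideal.subset_span ⟨1, one_pos, hp⟩)

theorem irr_eq : (irr k r).toIdeal = Ideal.span (⋃ n ∈ Set.Ioi (0 : ℤ), (gr k r n : Set (S k r))) := by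
  refine congrArg Ideal.span (Set.ext fun p => ?_)
  rw [Set.mem_iUnion₂]
  exact ⟨fun ⟨n, hn, hp⟩ => ⟨n, hn, hp⟩, fun ⟨n, hn, hp⟩ => ⟨n, hn, hp⟩⟩

theorem one_notMem : (1 : S k r) ∉ (irr k r).toIdeal := fun h => by
  simpa using GrSyzHilb.irrel_le (1 : S k r) h

theorem van_of_large (Y : GMod.{u} (gr k r)) (j : ℕ) (n : ℤ) (hj : r + 2 ≤ j) : Van (irr k r) j n Y := by
  classical
  obtain ⟨i, rfl⟩ : ∃ i, j = i + 1 := ⟨j - 1, by omega⟩
  intro E
  obtain ⟨e⟩ := S13224.succ_case E (irr k r) i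
  have hsub := LocCohLib.subsingleton_of_card_lt (Finset.univ.image (X : Fin (r + 1) → S k r)) (i + 1)
    (lt_of_le_of_lt Finset.card_image_le (by rw [Finset.card_univ, Fintype.card_fin]; omega))
    (ModuleCat.of (S k r) Y.carrier)
  rw [Finset.coe_image, Finset.coe_univ, Set.image_univ, ← irr_eq_span_X] at hsub
  exact eq_bot_iff.2 fun c _ => (Submodule.mem_bot _).2 (e.injective (Subsingleton.elim _ _))

/-- The ideal of the first `j` variables. -/
noncomputable def idl (j : ℕ) : Ideal (S k r) := Ideal.span (X '' {i : Fin (r + 1) | (i : ℕ) < j})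

theorem idl_hom (j : ℕ) : Submodule.IsHomogeneous (idl k r j) (gr k r) :=
  Ideal.homogeneous_span (gr k r) _ (by rintro _ ⟨i, -, rfl⟩; exact ⟨1, X_mem k r i⟩)

/-- The quotient by the first `j` variables. -/
noncomputable def quo (j : ℕ) : GMod.{u} (gr k r) :=
  quoMod (gr k r) (ℳ := gr k r) (idl k r j) (idl_hom k r j)

theorem regular_X {j : ℕ} (hj : j < r + 1) : IsSMulRegular (quo k r j).carrier (X (⟨j, hj⟩ : Fin (r + 1)) : S k r) := by
  classical
  refine isSMulRegular_iff_right_eq_zero_of_smul.2 fun q hq => ?_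
  obtain ⟨p, rfl⟩ := Submodule.mkQ_surjective (idl k r j) q
  have h : X (⟨j, hj⟩ : Fin (r + 1)) * p ∈ idl k r j :=
    (Submodule.Quotient.mk_eq_zero _).1 ((map_smul (idl k r j).mkQ _ p).trans hq)
  refine (Submodule.Quotient.mk_eq_zero _).2 ?_
  rw [idl, mem_ideal_span_X_image] at h ⊢
  intro m hm
  obtain ⟨i, hi, hne⟩ := h (Finsupp.single ⟨j, hj⟩ 1 + m) (by
    rw [mem_support_iff, coeff_X_mul]; exact mem_support_iff.1 hm)
  refine ⟨i, hi, ?_⟩
  have hij : (⟨j, hj⟩ : Fin (r + 1)) ≠ i := fun e => by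
    have hi' : (i : ℕ) < j := hi
    rw [← e] at hi'
    exact lt_irrefl _ hi'
  rwa [Finsupp.add_apply, Finsupp.single_eq_of_ne' hij, zero_add] at hne

theorem vanAbove_quo : ∀ t j : ℕ, r + 1 ≤ j + t → VanAbove (irr k r) 0 (quo k r j) := by
  intro t
  induction t with
  | zero =>
    intro j hj
    have hall : (irr k r).toIdeal ≤ idl k r j := (irr_eq_span_X k r).le.trans
      (Ideal.span_le.2 (Set.range_subset_iff.2 fun i => Ideal.subset_span ⟨i, show (i : ℕ) < j by omega, rfl⟩))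
    refine vanAbove_torsion (fun q => ⟨1, fun s hs => ?_⟩) fun n hn q hq => ?_
    · obtain ⟨p, rfl⟩ := Submodule.mkQ_surjective (idl k r j) q
      rw [pow_one] at hs
      exact (Submodule.Quotient.mk_smul _ s p).symm.trans
        ((Submodule.Quotient.mk_eq_zero _).2 (Ideal.mul_mem_right p _ (hall hs)))
    · obtain ⟨p, hp, rfl⟩ := hq
      exact (Submodule.Quotient.mk_eq_zero _).2 (hall (Ideal.subset_span ⟨n, hn, hp⟩))
  | succ t ih =>
    intro j hj
    by_cases hjr : r + 1 ≤ j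
    · exact ih j (by omega)
    have hjr' : j < r + 1 := by omega
    haveI : Module.Finite (S k r) (quo k r j).carrier :=
      inferInstanceAs (Module.Finite (S k r) (S k r ⧸ idl k r j))
    have hle : idl k r j ≤ idl k r (j + 1) :=
      Ideal.span_mono (Set.image_mono fun i (hi : (i : ℕ) < j) => Nat.lt_succ_of_lt hi)
    let g : (quo k r j).carrier →ₗ[S k r] (quo k r (j + 1)).carrier := Submodule.factor hle
    refine vanAbove_of_regular (pos k r) (irr_eq k r) (X_mem k r ⟨j, hjr'⟩) (regular_X k r hjr') (g := g)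
      ?_ (Submodule.factor_surjective hle) ?_ (ih (j + 1) (by omega))
    · rintro n _ ⟨p, hp, rfl⟩
      exact ⟨p, hp, rfl⟩
    · ext q
      obtain ⟨p, rfl⟩ := Submodule.mkQ_surjective (idl k r j) q
      constructor
      · intro hq
        have hp : p ∈ idl k r (j + 1) := (Submodule.Quotient.mk_eq_zero _).1 hq
        have hsplit : idl k r (j + 1) ≤ idl k r j ⊔ Ideal.span {(X (⟨j, hjr'⟩ : Fin (r + 1)) : S k r)} := by
          refine Ideal.span_le.2 ?_
          rintro _ ⟨i, hi, rfl⟩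
          rcases Nat.lt_succ_iff_lt_or_eq.1 hi with h | h
          · exact Submodule.mem_sup_left (Ideal.subset_span ⟨i, h, rfl⟩)
          · exact Submodule.mem_sup_right (Ideal.mem_span_singleton.2 (by rw [show i = ⟨j, hjr'⟩ from Fin.ext h]))
        obtain ⟨u, hu, v, hv, rfl⟩ := Submodule.mem_sup.1 (hsplit hp)
        obtain ⟨c, rfl⟩ := Ideal.mem_span_singleton'.1 hv
        refine ⟨(idl k r j).mkQ c, (Submodule.Quotient.mk_smul _ (X (⟨j, hjr'⟩ : Fin (r + 1)) : S k r) c).symm.trans ?_⟩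
        exact (Submodule.Quotient.eq _).2 (by rw [smul_eq_mul, mul_comm]; simpa using neg_mem hu)
      · rintro ⟨w, hw⟩
        obtain ⟨c, rfl⟩ := Submodule.mkQ_surjective (idl k r j) w
        refine LinearMap.mem_ker.2 (Eq.trans (congrArg g hw.symm) ?_)
        exact (Submodule.Quotient.mk_eq_zero _).2
          (Ideal.mul_mem_right c _ (Ideal.subset_span ⟨⟨j, hjr'⟩, Nat.lt_succ_self j, rfl⟩))

theorem vanAbove_self : VanAbove (irr k r) 0 (selfMod (gr k r)) := by
  have h0 : idl k r 0 = ⊥ := by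
    rw [idl, Ideal.span_eq_bot]
    rintro _ ⟨i, hi, rfl⟩
    exact absurd hi (Nat.not_lt_zero _)
  have gen : ∀ (X : GMod.{u} (gr k r)) (P : Submodule (S k r) X.carrier) (hP : P.IsHomogeneous X.gr), P = ⊥ →
      VanAbove (irr k r) 0 (quoMod (gr k r) P hP) → VanAbove (irr k r) 0 X := by
    rintro X P hP rfl h
    haveI : Subsingleton (subMod (gr k r) (⊥ : Submodule (S k r) X.carrier) hP).carrier :=
      inferInstanceAs (Subsingleton (⊥ : Submodule (S k r) X.carrier))
    exact vanAbove_mid (grHom_subInc hP) (subInc_injective hP) (grHom_quoMk hP) (Submodule.mkQ_surjective _)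
      ((Submodule.ker_mkQ _).trans (range_subInc (𝒜 := gr k r) hP).symm) (fun j n _ => van_subsingleton j n) h
  exact gen _ _ _ h0 (vanAbove_quo k r (r + 1) 0 (by omega))

variable {k r}
variable {M : Type u} [AddCommGroup M] [Module k M] [Module (S k r) M]
  {ℳ : ℤ → Submodule k M} [DirectSum.Decomposition ℳ] [SetLike.GradedSMul (GrSyz.stdGr k (Fin (r + 1))) ℳ]

/-- A module of the polynomial ring, bundled for the converted grading. -/
noncomputable abbrev modOf (r : ℕ) [Module (S k r) M] (ℳ : ℤ → Submodule k M) [DirectSum.Decomposition ℳ]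
    [SetLike.GradedSMul (GrSyz.stdGr k (Fin (r + 1))) ℳ] : GMod.{u} (gr k r) :=
  GMod.of (gr k r) M (Conv.grp ℳ)

theorem van_iff (E : StarInjRes (GrSyz.stdGr k (Fin (r + 1))) ℳ) (i : ℕ) (n : ℤ) :
    Van (irr k r) i n (modOf r ℳ) ↔ E.Hcomp (GrSyz.irrel (GrSyz.stdGr k (Fin (r + 1)))) i n = ⊥ := by
  rw [← Conv.res_Hcomp E]
  let E' := Conv.res E
  exact ⟨fun h => h E', fun h => van_of_res (X := modOf r ℳ) E' h⟩

/-- The abstract resolution of a resolution by matrices. -/
noncomputable def resOf (F : GrSyz.FreeRes (GrSyz.stdGr k (Fin (r + 1))) ℳ) : Res (modOf r ℳ) where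
  rk := F.rk
  deg := F.deg
  d i := F.dLin i
  π := F.augLin
  d_grHom i := fun n v hv => mem_freeGr.2 fun p => by
    show (∑ b, F.d i p b * (v : Fin (F.rk (i + 1)) → S k r) b) ∈ gr k r (n - F.deg i p)
    refine sum_mem fun b _ => ?_
    rw [show n - F.deg i p = (F.deg (i + 1) b - F.deg i p) + (n - F.deg (i + 1) b) by ring]
    exact SetLike.GradedMul.mul_mem (show F.d i p b ∈ gr k r _ from F.d_mem i p b) (mem_freeGr.1 hv b)
  π_grHom := fun n v hv => by
    show Fintype.linearCombination (S k r) F.aug (v : Fin (F.rk 0) → S k r) ∈ Conv.grp ℳ n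
    rw [Fintype.linearCombination_apply]
    refine sum_mem fun b _ => ?_
    have h := SetLike.GradedSMul.smul_mem (A := gr k r) (B := Conv.grp ℳ) (mem_freeGr.1 hv b) (F.aug_mem b)
    rwa [vadd_eq_add, sub_add_cancel] at h
  π_surjective := F.aug_surjective
  exact_zero := F.exact_zero
  exact_succ := F.exact_succ

/-- Regularity read from a minimal resolution is the local cohomological one. -/
theorem genLE_iff (F : GrSyz.FreeRes (GrSyz.stdGr k (Fin (r + 1))) ℳ)
    (hF : F.IsMinimal (GrSyz.irrel (GrSyz.stdGr k (Fin (r + 1)))).toIdeal) (d : ℤ) :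
    F.IsGenLE d ↔ VanAbove (irr k r) d (modOf r ℳ) := by
  refine ⟨fun h => (resOf F).vanAbove_of_genLE (vanAbove_self k r) (N := r + 2) (fun Y j n hj => van_of_large k r Y j n hj) h,
    fun h => (resOf F).genLE_of_vanAbove (vanAbove_self k r) (pos k r) (irr_hom k r) (one_notMem k r) ?_ h⟩
  intro i v b
  show (∑ c, F.d i b c * (v : Fin (F.rk (i + 1)) → S k r) c) ∈ (irr k r).toIdeal
  exact Submodule.sum_mem _ fun c _ => Ideal.mul_mem_right _ _ (hF i b c)

theorem endDeg_add_le_iff {i : ℕ} {d : ℤ} (E : StarInjRes (GrSyz.stdGr k (Fin (r + 1))) ℳ) :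
    GrLC.endDeg (E.Hgr (GrSyz.irrel (GrSyz.stdGr k (Fin (r + 1)))) i) + (((i : ℤ) : WithTop ℤ) : WithBot (WithTop ℤ))
        ≤ ((d : WithTop ℤ) : WithBot (WithTop ℤ)) ↔ ∀ n : ℤ, d < (i : ℤ) + n → Van (irr k r) i n (modOf r ℳ) := by
  simp only [van_iff E]
  set a := GrSyz.irrel (GrSyz.stdGr k (Fin (r + 1)))
  have hbot : ∀ n, (E.Hgr a i n = ⊥) ↔ (E.Hcomp a i n = ⊥) := fun n => by
    rw [Submodule.eq_bot_iff, AddSubgroup.eq_bot_iff_forall]; exact Iff.rfl
  constructor
  · intro h n hn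
    rw [← hbot]
    by_contra hne
    have h1 : (((n : ℤ) : WithTop ℤ) : WithBot (WithTop ℤ)) ≤ GrLC.endDeg (E.Hgr a i) :=
      le_iSup₂_of_le (f := fun (n : ℤ) (_ : E.Hgr a i n ≠ ⊥) => ((n : WithTop ℤ) : WithBot (WithTop ℤ))) n hne le_rfl
    have h2 := (add_le_add_left h1 (((i : ℤ) : WithTop ℤ) : WithBot (WithTop ℤ))).trans h
    norm_cast at h2
    omega
  · intro h
    have hle : GrLC.endDeg (E.Hgr a i) ≤ (((d - i : ℤ) : WithTop ℤ) : WithBot (WithTop ℤ)) :=
      iSup₂_le fun n hne => by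
        norm_cast
        by_contra hlt
        exact hne ((hbot n).2 (h n (by omega)))
    refine (add_le_add_left hle (((i : ℤ) : WithTop ℤ) : WithBot (WithTop ℤ))).trans (le_of_eq ?_)
    norm_cast
    rw [sub_add_cancel]

/-- Weak regularity propagates upwards. -/
theorem vanAbove_iff_weak (E : StarInjRes (GrSyz.stdGr k (Fin (r + 1))) ℳ) (d : ℤ) :
    VanAbove (irr k r) d (modOf r ℳ) ↔
      GrLC.endDeg (E.Hgr (GrSyz.irrel (GrSyz.stdGr k (Fin (r + 1)))) 0) ≤ ((d : WithTop ℤ) : WithBot (WithTop ℤ)) ∧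
      ∀ i : ℕ, 0 < i → E.Hcomp (GrSyz.irrel (GrSyz.stdGr k (Fin (r + 1)))) i (d - (i : ℤ) + 1) = ⊥ := by
  have h0 : ∀ (n : ℤ), ((0 : ℕ) : ℤ) + n = n := fun n => by simp
  have he := endDeg_add_le_iff (i := 0) (d := d) E
  rw [show (((((0 : ℕ) : ℤ)) : WithTop ℤ) : WithBot (WithTop ℤ)) = 0 by simp, add_zero] at he
  constructor
  · exact fun h => ⟨he.2 fun n hn => h 0 n hn, fun i hi => (van_iff E i _).1 (h i _ (by omega))⟩
  · rintro ⟨h1, h2⟩ j n hjn
    rcases Nat.eq_zero_or_pos j with rfl | hj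
    · exact he.1 h1 n hjn
    refine van_of_van (irr_hom k r) le_rfl (r := d) (fun j' n' hj' hn' => ?_)
      ((j : ℤ) + n - d - 1).toNat j n hj (by omega)
    rw [show n' = d - (j' : ℤ) + 1 by omega]
    exact (van_iff E j' _).2 (h2 j' hj')

end Groth.Agent.GrInj.Std
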