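import Groth.Agent.GrInj.StdPoly
import Groth.Agent.S15416

/-!
# Castelnuovo–Mumford regularity: quotients by linear forms, extended integers
-/

set_option autoImplicit false
set_option linter.unusedSectionVars false
universe u

namespace Groth.Agent.GrInj

open GrLC
open scoped Pointwise

/-! ### Extended integers -/

theorem wt_ext {v w : WithBot (WithTop ℤ)}
    (h : ∀ d : ℤ, v ≤ ((d : WithTop ℤ) : WithBot (WithTop ℤ)) ↔ w ≤ ((d : WithTop ℤ) : WithBot (WithTop ℤ))) :
    v = w := by
  induction v using WithBot.recBotCoe with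
  | bot =>
    induction w using WithBot.recBotCoe with
    | bot => rfl
    | coe w =>
      induction w using WithTop.recTopCoe with
      | top => exact absurd ((h 0).1 bot_le) (by rw [WithBot.coe_le_coe]; exact not_le.2 (WithTop.coe_lt_top _))
      | coe w =>
        have := (h (w - 1)).1 bot_le
        norm_cast at this
        omega
  | coe v =>
    induction v using WithTop.recTopCoe with
    | top =>
      induction w using WithBot.recBotCoe with
      | bot => exact absurd ((h 0).2 bot_le) (by rw [WithBot.coe_le_coe]; exact not_le.2 (WithTop.coe_lt_top _))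
      | coe w =>
        induction w using WithTop.recTopCoe with
        | top => rfl
        | coe w => exact absurd ((h w).2 le_rfl) (by simp)
    | coe v =>
      induction w using WithBot.recBotCoe with
      | bot =>
        have := (h (v - 1)).2 bot_le
        norm_cast at this
        omega
      | coe w =>
        induction w using WithTop.recTopCoe with
        | top => exact absurd ((h v).1 le_rfl) (by simp)
        | coe w =>
          have h1 := (h v).1 le_rfl
          have h2 := (h w).2 le_rfl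
          norm_cast at h1 h2 ⊢
          omega

theorem endDeg_le_iff {N : Type u} [AddCommGroup N] (𝒩 : ℤ → AddSubgroup N) (d : ℤ) :
    endDeg 𝒩 ≤ ((d : WithTop ℤ) : WithBot (WithTop ℤ)) ↔ ∀ n, d < n → 𝒩 n = ⊥ := by
  constructor
  · intro h n hn
    by_contra hne
    have := (le_iSup₂_of_le (f := fun (n : ℤ) (_ : 𝒩 n ≠ ⊥) => ((n : WithTop ℤ) : WithBot (WithTop ℤ))) n hne le_rfl).trans h
    norm_cast at this
    omega
  · intro h
    refine iSup₂_le fun n hne => ?_
    norm_cast
    by_contra hlt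
    exact hne (h n (not_le.1 hlt))

section Gen
variable {R : Type u} [CommRing R] [IsNoetherianRing R] {𝒜 : ℤ → AddSubgroup R} [GradedRing 𝒜]
  {a : HomogeneousIdeal 𝒜}

/-- A graded module of finite length is killed by a power of the irrelevant ideal. -/
theorem isPowerTorsion_of_artinian (hpos : ∀ n : ℤ, n < 0 → 𝒜 n = ⊥)
    (hhom : a.toIdeal = Ideal.span ((𝒜 1 : AddSubgroup R) : Set R)) (X : GMod.{u} 𝒜) [Module.Finite R X.carrier]
    [IsArtinian R X.carrier] : LocCoh.IsPowerTorsion a.toIdeal X.carrier := by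
  let Y : ℕ →o (Submodule R X.carrier)ᵒᵈ :=
    ⟨fun n => OrderDual.toDual (a.toIdeal ^ n • (⊤ : Submodule R X.carrier)),
      fun m n h => Submodule.smul_mono_left (Ideal.pow_le_pow_right h)⟩
  obtain ⟨n, hn⟩ := IsArtinian.monotone_stabilizes Y
  have heq : a.toIdeal ^ n • (⊤ : Submodule R X.carrier) = a.toIdeal • (a.toIdeal ^ n • ⊤) := by
    have h : a.toIdeal ^ n • (⊤ : Submodule R X.carrier) = a.toIdeal ^ (n + 1) • ⊤ :=
      congrArg OrderDual.ofDual (hn (n + 1) (Nat.le_succ n))
    conv_lhs => rw [h, pow_succ', Submodule.mul_smul]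
  have hhomY : (a.toIdeal ^ n • (⊤ : Submodule R X.carrier)).IsHomogeneous X.gr :=
    hom_smul_top (a := ⟨a.toIdeal ^ n, S13225.pow_homogeneous a n⟩) X
  let Z := subMod 𝒜 (a.toIdeal ^ n • (⊤ : Submodule R X.carrier)) hhomY
  haveI : Module.Finite R Z.carrier := Module.Finite.iff_fg.2 (IsNoetherian.noetherian _)
  have hall : ∀ z : Z.carrier, z ∈ a.toIdeal • (⊤ : Submodule R Z.carrier) := by
    intro z
    have hmap : Submodule.map (subInc 𝒜 _ hhomY) (a.toIdeal • (⊤ : Submodule R Z.carrier)) =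
        a.toIdeal ^ n • ⊤ := by
      rw [Submodule.map_smul'', Submodule.map_top]
      exact (congrArg (a.toIdeal • ·) (range_subInc (𝒜 := 𝒜) hhomY)).trans heq.symm
    obtain ⟨z', hz', hzz⟩ := hmap.ge ((range_subInc (𝒜 := 𝒜) hhomY).le ⟨z, rfl⟩)
    rwa [← subInc_injective hhomY hzz]
  intro x
  refine ⟨n, fun r hr => ?_⟩
  have hzero : ∀ z : Z.carrier, z = 0 := fun z => by
    simpa using mem_span_low hpos hhom Z (fun _ => False) (fun _ _ y _ => hall y) z
  obtain ⟨z, hz⟩ := (range_subInc (𝒜 := 𝒜) hhomY).ge (Submodule.smul_mem_smul hr (Submodule.mem_top (x := x)))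
  rw [← hz, hzero z, map_zero]

theorem vanAbove_finiteLength_iff (X : GMod.{u} 𝒜) (ht : LocCoh.IsPowerTorsion a.toIdeal X.carrier) (c : ℤ) :
    VanAbove a c X ↔ ∀ n, c < n → X.gr n = ⊥ :=
  ⟨fun h n hn => (AddSubgroup.eq_bot_iff_forall _).2 fun x hx => eq_zero_of_van (h 0 n (by simpa using hn)) hx (ht x),
    fun h => vanAbove_torsion ht fun n hn x hx => (AddSubgroup.eq_bot_iff_forall _).1 (h n hn) x hx⟩

section Quasi
variable {P N : GMod.{u} 𝒜} {x : R} (hx : x ∈ 𝒜 1)
  (hK : ∀ y : P.carrier, x • y = 0 → y ∈ gam a.toIdeal P.carrier)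
  {π : P.carrier →ₗ[R] N.carrier} (hπ : IsGrHom P.gr N.gr π) (hπs : Function.Surjective π)
  (hker : LinearMap.ker π = LinearMap.range (LinearMap.lsmul R P.carrier x))

include hx hK hπ hπs hker in
/-- Pieces of the quotient by a quasi-regular linear form. -/
theorem van_quot {k : ℕ} {n : ℤ} (h1 : Van a k n P) (h2 : Van a (k + 1) (n - 1) P) : Van a k n N := by
  let f : (shMod 𝒜 P 1).carrier →ₗ[R] P.carrier := LinearMap.lsmul R P.carrier x
  have hf0 : IsGrHom (shGr P.gr 1) P.gr (LinearMap.lsmul R P.carrier x) := grHom_lsmul hx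
  have hf : IsGrHom (shMod 𝒜 P 1).gr P.gr f := hf0
  have hB : (LinearMap.range f).IsHomogeneous P.gr := hom_range hf
  obtain ⟨g, hg, hge⟩ := exists_lift (𝒜 := 𝒜) hB hf le_rfl
  have hge' : ∀ z, subInc 𝒜 _ hB (g z) = f z := fun z => LinearMap.congr_fun hge z
  have hgs : Function.Surjective g := fun w => by
    obtain ⟨z, hz⟩ := (range_subInc (𝒜 := 𝒜) hB).le ⟨w, rfl⟩
    exact ⟨z, subInc_injective hB ((hge' z).trans hz)⟩
  have hKhom : (LinearMap.ker f).IsHomogeneous (shMod 𝒜 P 1).gr := hom_ker hf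
  have hgk : LinearMap.ker g = LinearMap.range (subInc 𝒜 (LinearMap.ker f) hKhom) := by
    rw [range_subInc]
    ext z
    show g z = 0 ↔ f z = 0
    rw [← hge' z, map_eq_zero_iff _ (subInc_injective hB)]
  have hBvan : Van a (k + 1) n (subMod 𝒜 (LinearMap.range f) hB) :=
    van_right (grHom_subInc hKhom) (subInc_injective hKhom) hg hgs hgk (van_shift h2) (van_torsion fun z => by
      have hz : x • (subInc 𝒜 _ hKhom z : P.carrier) = 0 := (range_subInc (𝒜 := 𝒜) hKhom).le ⟨z, rfl⟩
      obtain ⟨l, hl⟩ := hK _ hz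
      exact ⟨l, fun r hr => subInc_injective hKhom ((map_smul _ r z).trans ((hl r hr).trans (map_zero _).symm))⟩)
  exact van_right (grHom_subInc hB) (subInc_injective hB) hπ hπs (hker.trans (range_subInc (𝒜 := 𝒜) hB).symm) h1 hBvan

include hx hK hπ hπs hker in
theorem vanAbove_quot {c : ℤ} (h : VanAbove a c P) : VanAbove a c N := fun k n hk =>
  van_quot hx hK hπ hπs hker (h k n hk) (h (k + 1) (n - 1) (by push_cast; omega))

include hx hK hπ hπs hker in
theorem vanAbove_of_quot (hpos : ∀ n : ℤ, n < 0 → 𝒜 n = ⊥)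
    (ha : a.toIdeal = Ideal.span (⋃ n ∈ Set.Ioi (0 : ℤ), (𝒜 n : Set R))) [Module.Finite R P.carrier] {c : ℤ}
    (hN : VanAbove a c N) (h0 : ∀ n, c < n → Van a 0 n P) : VanAbove a c P := by
  let G : Submodule R P.carrier := gam a.toIdeal P.carrier
  have hG : G.IsHomogeneous P.gr := S13225.gam_homogeneous a
  obtain ⟨l₀, hl₀⟩ := exists_pow_gam a.toIdeal P.carrier
  haveI : Module.Finite R (quoMod 𝒜 G hG).carrier := inferInstanceAs (Module.Finite R (P.carrier ⧸ G))
  have hGtor : LocCoh.IsPowerTorsion a.toIdeal (subMod 𝒜 G hG).carrier := fun y =>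
    ⟨l₀, fun r hr => subInc_injective hG ((map_smul _ r y).trans
      ((hl₀ r hr _ ((range_subInc (𝒜 := 𝒜) hG).le ⟨y, rfl⟩)).trans (map_zero _).symm))⟩
  let G' : Submodule R N.carrier := G.map π
  have hG' : G'.IsHomogeneous N.gr := hom_map hπ hG
  have hN' : VanAbove a c (quoMod 𝒜 G' hG') := fun k n hk =>
    van_right (grHom_subInc hG') (subInc_injective hG') (grHom_quoMk hG') (Submodule.mkQ_surjective _)
      ((Submodule.ker_mkQ _).trans (range_subInc (𝒜 := 𝒜) hG').symm) (hN k n hk) (van_torsion fun y => by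
        obtain ⟨z, hz, hzy⟩ : subInc 𝒜 G' hG' y ∈ G.map π := (range_subInc (𝒜 := 𝒜) hG').le ⟨y, rfl⟩
        refine ⟨l₀, fun r hr => subInc_injective hG' ((map_smul _ r y).trans (Eq.trans ?_ (map_zero _).symm))⟩
        rw [← hzy, ← map_smul, hl₀ r hr z hz, map_zero])
  let g : (quoMod 𝒜 G hG).carrier →ₗ[R] (quoMod 𝒜 G' hG').carrier :=
    Submodule.mapQ G G' π fun z hz => Submodule.mem_map_of_mem hz
  have hreg : IsSMulRegular (quoMod 𝒜 G hG).carrier x := by
    refine isSMulRegular_iff_right_eq_zero_of_smul.2 fun q hq => ?_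
    obtain ⟨y, rfl⟩ := Submodule.mkQ_surjective G q
    have hxy : x • y ∈ G := (Submodule.Quotient.mk_eq_zero G).1 ((map_smul G.mkQ x y).trans hq)
    obtain ⟨l, hl⟩ := exists_pow_gam a.toIdeal P.carrier
    refine (Submodule.Quotient.mk_eq_zero G).2 ⟨l + l, fun r hr => ?_⟩
    rw [pow_add] at hr
    refine Submodule.mul_induction_on hr (fun p hp q' hq' => ?_)
      fun p q' hp hq' => by rw [add_smul, hp, hq', add_zero]
    rw [mul_smul]
    exact hl p hp _ (hK _ (by rw [smul_comm]; exact hl q' hq' _ hxy))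
  have hQ : VanAbove a c (quoMod 𝒜 G hG) := by
    refine vanAbove_of_regular hpos ha hx hreg (g := g) ?_ ?_ ?_ hN'
    · rintro n _ ⟨y, hy, rfl⟩
      exact ⟨π y, hπ n y hy, rfl⟩
    · intro w
      obtain ⟨z, rfl⟩ := Submodule.mkQ_surjective G' w
      obtain ⟨y, rfl⟩ := hπs z
      exact ⟨G.mkQ y, rfl⟩
    · ext q
      obtain ⟨y, rfl⟩ := Submodule.mkQ_surjective G q
      constructor
      · intro hq
        obtain ⟨z, hz, hzy⟩ := (Submodule.Quotient.mk_eq_zero G').1 (LinearMap.mem_ker.1 hq)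
        obtain ⟨w, hw⟩ := hker.le (show y - z ∈ LinearMap.ker π by rw [LinearMap.mem_ker, map_sub, hzy, sub_self])
        refine ⟨G.mkQ w, (map_smul G.mkQ x w).symm.trans ((Submodule.Quotient.eq G).2 ?_)⟩
        rw [show x • w - y = -z by rw [show x • w = y - z from hw]; abel]
        exact neg_mem hz
      · rintro ⟨w', hw'⟩
        obtain ⟨w, rfl⟩ := Submodule.mkQ_surjective G w'
        refine LinearMap.mem_ker.2 ((congrArg g hw'.symm).trans ?_)
        refine (congrArg g (map_smul G.mkQ x w).symm).trans ?_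
        show G'.mkQ (π (x • w)) = 0
        rw [show π (x • w) = 0 from LinearMap.mem_ker.1 (hker.ge ⟨w, rfl⟩), map_zero]
  refine vanAbove_mid (grHom_subInc hG) (subInc_injective hG) (grHom_quoMk hG) (Submodule.mkQ_surjective _)
    ((Submodule.ker_mkQ _).trans (range_subInc (𝒜 := 𝒜) hG).symm) (fun k n hk => ?_) hQ
  cases k with
  | zero => exact van_sub_zero (grHom_subInc hG) (subInc_injective hG) (h0 n (by simpa using hk))
  | succ k => exact van_torsion hGtor

end Quasi

/-- Isomorphic modules have the same regularity. -/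
theorem vanAbove_iff_of_bijective {P N : GMod.{u} 𝒜} {g : P.carrier →ₗ[R] N.carrier} (hg : IsGrHom P.gr N.gr g)
    (hb : Function.Bijective g) {c : ℤ} : VanAbove a c P ↔ VanAbove a c N := by
  have one : ∀ (P N : GMod.{u} 𝒜) (g : P.carrier →ₗ[R] N.carrier), IsGrHom P.gr N.gr g → Function.Bijective g →
      VanAbove a c N → VanAbove a c P := by
    intro P N g hg hb h
    have hk : (LinearMap.ker g).IsHomogeneous P.gr := hom_ker hg
    haveI : Subsingleton (subMod 𝒜 (LinearMap.ker g) hk).carrier := by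
      rw [LinearMap.ker_eq_bot.2 hb.1] at hk
      exact ⟨fun p q => Subtype.ext (hb.1 ((LinearMap.mem_ker.1 p.2).trans (LinearMap.mem_ker.1 q.2).symm))⟩
    exact vanAbove_mid (grHom_subInc hk) (subInc_injective hk) hg hb.2 (range_subInc (𝒜 := 𝒜) hk).symm
      (fun k n _ => van_subsingleton k n) h
  let e := LinearEquiv.ofBijective g hb
  have he : IsGrHom N.gr P.gr e.symm.toLinearMap := fun n y hy =>
    inverse_grHom hg hb.1 (show g (e.symm y) ∈ N.gr n by
      rw [show g (e.symm y) = e (e.symm y) from rfl, e.apply_symm_apply]; exact hy)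
  exact ⟨one N P _ he e.symm.bijective, one P N g hg hb⟩

/-- A regular sequence of linear forms preserves the regularity. -/
theorem vanAbove_iff_regSeq (hpos : ∀ n : ℤ, n < 0 → 𝒜 n = ⊥)
    (ha : a.toIdeal = Ideal.span (⋃ n ∈ Set.Ioi (0 : ℤ), (𝒜 n : Set R))) {N : GMod.{u} 𝒜} {c : ℤ} :
    ∀ (ys : List R), (∀ y ∈ ys, y ∈ 𝒜 1) → ∀ (P : GMod.{u} 𝒜) [Module.Finite R P.carrier],
      RingTheory.Sequence.IsWeaklyRegular P.carrier ys → ∀ g : P.carrier →ₗ[R] N.carrier, IsGrHom P.gr N.gr g →
      Function.Surjective g → LinearMap.ker g = Ideal.ofList ys • (⊤ : Submodule R P.carrier) →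
      (VanAbove a c P ↔ VanAbove a c N) := by
  intro ys
  induction ys with
  | nil =>
    intro _ P _ _ g hg hgs hker
    refine vanAbove_iff_of_bijective hg ⟨LinearMap.ker_eq_bot.1 ?_, hgs⟩
    rw [hker, Ideal.ofList_nil, Submodule.bot_smul]
  | cons y ys ih =>
    intro hys P _ hreg g hg hgs hker
    obtain ⟨hy, hreg'⟩ := (RingTheory.Sequence.isWeaklyRegular_cons_iff _ y ys).1 hreg
    have hy1 := hys y List.mem_cons_self
    let B : Submodule R P.carrier := LinearMap.range (LinearMap.lsmul R P.carrier y)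
    have hB : B.IsHomogeneous P.gr := hom_range (ℳ := shGr P.gr 1) (grHom_lsmul hy1)
    haveI : Module.Finite R (quoMod 𝒜 B hB).carrier := inferInstanceAs (Module.Finite R (P.carrier ⧸ B))
    have hBg : B ≤ LinearMap.ker g := by
      rintro _ ⟨z, rfl⟩
      rw [hker, Ideal.ofList_cons]
      exact Submodule.smul_mem_smul (Submodule.mem_sup_left (Ideal.mem_span_singleton_self y)) Submodule.mem_top
    have hBeq : B = y • (⊤ : Submodule R P.carrier) := by
      ext z
      simp [B, Submodule.mem_smul_pointwise_iff_exists]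
    have hiff : VanAbove a c P ↔ VanAbove a c (quoMod 𝒜 B hB) :=
      ⟨vanAbove_quot hy1 (fun z hz => by
          rw [(isSMulRegular_iff_right_eq_zero_of_smul.1 hy) z hz]; exact zero_mem _)
        (grHom_quoMk hB) (Submodule.mkQ_surjective B) (Submodule.ker_mkQ B),
      vanAbove_of_regular hpos ha hy1 hy (grHom_quoMk hB) (Submodule.mkQ_surjective B) (Submodule.ker_mkQ B)⟩
    rw [hiff]
    refine ih (fun z hz => hys z (List.mem_cons_of_mem y hz)) (quoMod 𝒜 B hB)
      ((LinearEquiv.isWeaklyRegular_congr (Submodule.quotEquivOfEq _ _ hBeq.symm) ys).1 hreg')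
      (Submodule.liftQ B g hBg) ?_ (fun w => ?_) ?_
    · rintro n _ ⟨z, hz, rfl⟩
      exact hg n z hz
    · obtain ⟨z, rfl⟩ := hgs w
      exact ⟨B.mkQ z, rfl⟩
    · ext q
      obtain ⟨z, rfl⟩ := Submodule.mkQ_surjective B q
      show g z = 0 ↔ _
      have h1 : (Ideal.ofList ys • (⊤ : Submodule R P.carrier)).map B.mkQ = Ideal.ofList ys • ⊤ := by
        rw [Submodule.map_smul'', Submodule.map_top, Submodule.range_mkQ]
      constructor
      · intro hz
        have hz' : z ∈ Ideal.ofList (y :: ys) • (⊤ : Submodule R P.carrier) := hker.le hz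
        rw [Ideal.ofList_cons, Submodule.sup_smul] at hz'
        obtain ⟨u, hu, v, hv, rfl⟩ := Submodule.mem_sup.1 hz'
        have hu' : u ∈ B := by
          rw [hBeq]
          rwa [Submodule.ideal_span_singleton_smul] at hu
        refine h1.le ⟨v, hv, ?_⟩
        exact (Submodule.Quotient.eq B).2 (by simpa using neg_mem hu')
      · intro hq
        obtain ⟨v, hv, hvz⟩ := h1.ge hq
        have hv' : g v = 0 := LinearMap.mem_ker.1 (hker.ge (by
          rw [Ideal.ofList_cons, Submodule.sup_smul]; exact Submodule.mem_sup_right hv))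
        have hd := LinearMap.mem_ker.1 (hBg ((Submodule.Quotient.eq B).1 hvz))
        rw [map_sub, hv', zero_sub, neg_eq_zero] at hd
        exact hd

end Gen

/-! ### The polynomial ring -/

namespace Std

variable {k : Type u} [Field k] {r : ℕ}
variable {M : Type u} [AddCommGroup M] [Module k M] [Module (S k r) M] [IsScalarTower k (S k r) M]
  [Module.Finite (S k r) M]
  {ℳ : ℤ → Submodule k M} [DirectSum.Decomposition ℳ] [SetLike.GradedSMul (GrSyz.stdGr k (Fin (r + 1))) ℳ]

instance : Module.Finite (S k r) (modOf r ℳ).carrier := inferInstanceAs (Module.Finite (S k r) M)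

theorem isRegLE_iff (d : ℤ) :
    GrSyz.IsRegLE (GrSyz.stdGr k (Fin (r + 1))) ℳ (GrSyz.irrel (GrSyz.stdGr k (Fin (r + 1)))).toIdeal d ↔
      VanAbove (irr k r) d (modOf r ℳ) := by
  constructor
  · rintro ⟨F, hF, hd⟩
    exact (genLE_iff F hF d).1 hd
  · intro h
    obtain ⟨F, hF⟩ := S15416.result k r M ℳ
    exact ⟨F, hF, (genLE_iff F hF d).2 h⟩

theorem reg_le_iff (d : ℤ) :
    GrSyz.reg (GrSyz.stdGr k (Fin (r + 1))) ℳ (GrSyz.irrel (GrSyz.stdGr k (Fin (r + 1)))).toIdeal ≤
        ((d : WithTop ℤ) : WithBot (WithTop ℤ)) ↔ VanAbove (irr k r) d (modOf r ℳ) := by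
  constructor
  · intro h
    have hlt : GrSyz.reg (GrSyz.stdGr k (Fin (r + 1))) ℳ (GrSyz.irrel (GrSyz.stdGr k (Fin (r + 1)))).toIdeal <
        (((d + 1 : ℤ) : WithTop ℤ) : WithBot (WithTop ℤ)) :=
      h.trans_lt (by norm_cast; omega)
    obtain ⟨e, he⟩ := iInf_lt_iff.1 hlt
    obtain ⟨he', hlt'⟩ := iInf_lt_iff.1 he
    norm_cast at hlt'
    exact ((isRegLE_iff e).1 he').mono (by omega)
  · intro h
    exact iInf₂_le d ((isRegLE_iff d).2 h)

theorem reg_eq {v : WithBot (WithTop ℤ)}
    (h : ∀ d : ℤ, v ≤ ((d : WithTop ℤ) : WithBot (WithTop ℤ)) ↔ VanAbove (irr k r) d (modOf r ℳ)) :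
    GrSyz.reg (GrSyz.stdGr k (Fin (r + 1))) ℳ (GrSyz.irrel (GrSyz.stdGr k (Fin (r + 1)))).toIdeal = v :=
  wt_ext fun d => (reg_le_iff d).trans (h d).symm

theorem torsion_of_finiteLength (X : GMod.{u} (gr k r)) [Module.Finite (S k r) X.carrier]
    (h : IsFiniteLength (S k r) X.carrier) : LocCoh.IsPowerTorsion (irr k r).toIdeal X.carrier :=
  haveI := (isFiniteLength_iff_isNoetherian_isArtinian.1 h).2
  isPowerTorsion_of_artinian (pos k r) (irr_hom k r) X

omit [IsScalarTower k (S k r) M] in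
theorem gam_of_quasiRegular {x : S k r} (hx : x ∈ gr k r 1)
    (hq : IsFiniteLength (S k r) ↥(Submodule.torsionBy (S k r) M x)) (y : (modOf r ℳ).carrier) (hy : x • y = 0) :
    y ∈ gam (irr k r).toIdeal (modOf r ℳ).carrier := by
  have hK : (LinearMap.ker (LinearMap.lsmul (S k r) (modOf r ℳ).carrier x)).IsHomogeneous (modOf r ℳ).gr := by
    intro i z hz
    show x • pr (modOf r ℳ).gr i z = 0
    rw [← pr_smul (𝒜 := gr k r) hx, show x • z = 0 from hz, map_zero]
  haveI : Module.Finite (S k r) (subMod (gr k r) _ hK).carrier := Module.Finite.iff_fg.2 (IsNoetherian.noetherian _)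
  have hq' : IsFiniteLength (S k r) (subMod (gr k r) _ hK).carrier := hq
  obtain ⟨l, hl⟩ := torsion_of_finiteLength (subMod (gr k r) _ hK) hq' ⟨y, hy⟩
  exact ⟨l, fun s hs => congrArg Subtype.val (hl s hs)⟩

end Std

end Groth.Agent.GrInj
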