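import Mathlib
import Groth.Agent.GrInj.FreeReg
import Groth.Agent.GrInj.TopDim

/-!
# Top local cohomology is right exact: it is generated by translates of that of the ring
-/

set_option autoImplicit false
set_option linter.unusedSectionVars false
universe u

namespace Groth.Agent.GrInj

open GrLC

variable {R : Type u} [CommRing R] {𝒜 : ℤ → AddSubgroup R} [GradedRing 𝒜] (I : StarInjRes 𝒜 𝒜)
  (a : HomogeneousIdeal 𝒜) (n : ℕ)
variable {M : Type u} [AddCommGroup M] [Module R M] {ℳ : ℤ → AddSubgroup M} [DirectSum.Decomposition ℳ]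
  [SetLike.GradedSMul 𝒜 ℳ]
variable {N : Type u} [AddCommGroup N] [Module R N] {𝒩 : ℤ → AddSubgroup N} [DirectSum.Decomposition 𝒩]
  [SetLike.GradedSMul 𝒜 𝒩]

theorem grHom_toSpan {g : ℤ} {x : M} (hx : x ∈ ℳ g) :
    IsGrHom (shGr 𝒜 g) ℳ (LinearMap.toSpanSingleton R M x) := fun i r hr => by
  have h := smul_mem_gr (ℳ := ℳ) (show r ∈ 𝒜 (i - g) from hr) hx
  rwa [sub_add_cancel] at h

/-- The map induced by `1 ↦ x`. -/
noncomputable def tr (E : StarInjRes 𝒜 ℳ) {g : ℤ} {x : M} (hx : x ∈ ℳ g) : I.H a n →ₗ[R] E.H a n :=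
  ind (shiftRes I g) E a (LinearMap.toSpanSingleton R M x) (grHom_toSpan hx) n

theorem tr_mem (E : StarInjRes 𝒜 ℳ) {g : ℤ} {x : M} (hx : x ∈ ℳ g) {p : ℤ} {c : I.H a n}
    (hc : c ∈ I.Hgr a n p) : tr I a n E hx c ∈ E.Hgr a n (p + g) :=
  ind_grHom a (E := shiftRes I g) (F := E) (grHom_toSpan hx) n (p + g) c
    ((mem_shiftRes_Hgr a).2 (by rw [add_sub_cancel_right]; exact hc))

theorem tr_map (E : StarInjRes 𝒜 ℳ) (F : StarInjRes 𝒜 𝒩) {f : M →ₗ[R] N} (hf : IsGrHom ℳ 𝒩 f) {g : ℤ} {x : M}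
    (hx : x ∈ ℳ g) (c : I.H a n) :
    ind E F a f hf n (tr I a n E hx c) = tr I a n F (hf g x hx) c := by
  have he : f ∘ₗ LinearMap.toSpanSingleton R M x = LinearMap.toSpanSingleton R N (f x) :=
    LinearMap.ext fun r => map_smul f r x
  have hgr : IsGrHom (shGr 𝒜 g) 𝒩 (f ∘ₗ LinearMap.toSpanSingleton R M x) := by
    rw [he]; exact grHom_toSpan (hf g x hx)
  have h := ind_comp (E := shiftRes I g) (F := E) (G := F) a (grHom_toSpan hx) hf hgr n
  have h2 : ind (shiftRes I g) F a (f ∘ₗ LinearMap.toSpanSingleton R M x) hgr n =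
      ind (shiftRes I g) F a (LinearMap.toSpanSingleton R N (f x)) (grHom_toSpan (hf g x hx)) n := by
    congr 1
  exact ((LinearMap.congr_fun h c).symm).trans (LinearMap.congr_fun h2 c)

theorem tr_add (E : StarInjRes 𝒜 ℳ) {g : ℤ} {x y : M} (hx : x ∈ ℳ g) (hy : y ∈ ℳ g) (c : I.H a n) :
    tr I a n E (add_mem hx hy) c = tr I a n E hx c + tr I a n E hy c := by
  obtain ⟨φ, hφ⟩ := exists_isLift (shiftRes I g) E (grHom_toSpan (𝒜 := 𝒜) hx)
  obtain ⟨ψ, hψ⟩ := exists_isLift (shiftRes I g) E (grHom_toSpan (𝒜 := 𝒜) hy)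
  have h : IsLift (shiftRes I g) E (LinearMap.toSpanSingleton R M (x + y)) fun k => φ k + ψ k :=
    { grHom := fun k i m hm => add_mem (hφ.grHom k i m hm) (hψ.grHom k i m hm)
      aug := fun r => by
        rw [LinearMap.add_apply, hφ.aug, hψ.aug, ← map_add]
        exact congrArg E.ε (smul_add r x y).symm
      comm := fun k m => by rw [LinearMap.add_apply, LinearMap.add_apply, hφ.comm, hψ.comm, map_add] }
  unfold tr
  rw [ind_eq a _ h n, ind_eq a _ hφ n, ind_eq a _ hψ n]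
  obtain ⟨z, rfl⟩ := Submodule.mkQ_surjective _ c
  rfl

theorem tr_smul (E : StarInjRes 𝒜 ℳ) {g d : ℤ} {x : M} (hx : x ∈ ℳ g) {r : R} (hr : r ∈ 𝒜 d) (c : I.H a n) :
    tr I a n E (smul_mem_gr (ℳ := ℳ) hr hx) c = r • tr I a n E hx c := by
  obtain ⟨φ, hφ⟩ := exists_isLift (shiftRes I g) E (grHom_toSpan (𝒜 := 𝒜) hx)
  have h : IsLift (shiftRes I (d + g)) E (LinearMap.toSpanSingleton R M (r • x)) fun k => r • φ k :=
    { grHom := fun k i m hm => by
        have h1 := hφ.grHom k (i - d) m (show m ∈ (I.X k).gr (i - d - g) by rw [sub_sub]; exact hm)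
        have h2 : r • φ k m ∈ (E.X k).gr (d + (i - d)) := (E.X k).gsmul.smul_mem hr h1
        rwa [add_sub_cancel] at h2
      aug := fun s => by
        show r • φ 0 ((shiftRes I g).ε s) = E.ε (s • r • x)
        rw [hφ.aug, ← map_smul]
        exact congrArg E.ε (smul_comm r s x)
      comm := fun k m => by
        show r • φ (k + 1) ((shiftRes I g).d k m) = E.d k (r • φ k m)
        rw [hφ.comm, map_smul] }
  unfold tr
  rw [ind_eq a _ h n, ind_eq a _ hφ n]
  obtain ⟨z, rfl⟩ := Submodule.mkQ_surjective _ c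
  rfl

variable [IsNoetherianRing R]

/-- The top map induced by a surjection is surjective. -/
theorem top_surjective (hn : ringKrullDim R = n) (X Y : GMod.{u} 𝒜) (E : StarInjRes 𝒜 X.gr)
    (F : StarInjRes 𝒜 Y.gr) {f : X.carrier →ₗ[R] Y.carrier} (hf : IsGrHom X.gr Y.gr f)
    (hfs : Function.Surjective f) : Function.Surjective (ind E F a f hf n) := by
  obtain ⟨EK⟩ := S13215.result R 𝒜 (subMod 𝒜 _ (hom_ker hf)).carrier (subMod 𝒜 _ (hom_ker hf)).gr
  obtain ⟨δ, -, -, -, -, hexC⟩ := exists_les (a := a) (f := subInc 𝒜 _ (hom_ker hf)) (g := f) hf hfs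
    (range_subInc (𝒜 := 𝒜) (hom_ker hf)).symm E EK F (grHom_subInc (hom_ker hf)) (subInc_injective (hom_ker hf))
  haveI : Subsingleton (EK.H a (n + 1)) := subsingleton_H_above hn EK a (Nat.lt_succ_self n)
  intro w
  exact (hexC n).le (LinearMap.mem_ker.2 (Subsingleton.elim (δ n w) 0))

/-- The predicate of being generated by translates of the classes of the ring. -/
def TrGen (X : GMod.{u} 𝒜) (E : StarInjRes 𝒜 X.gr) : Prop :=
  ∀ P : E.H a n → Prop, P 0 → (∀ u v, P u → P v → P (u + v)) →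
    (∀ (g : ℤ) (x : X.carrier) (hx : x ∈ X.gr g), ∀ p, ∀ c ∈ I.Hgr a n p, P (tr I a n E hx c)) → ∀ w, P w

theorem tr_gen_cyclic (hn : ringKrullDim R = n) (X : GMod.{u} 𝒜) (E : StarInjRes 𝒜 X.gr) {g : ℤ}
    {x : X.carrier} (hx : x ∈ X.gr g) (hspan : ∀ y : X.carrier, ∃ r : R, r • x = y) : TrGen I a n X E := by
  intro P h0 hadd hP w
  haveI : SetLike.GradedSMul 𝒜 X.gr := X.gsmul
  let A : GMod.{u} 𝒜 := shMod 𝒜 (GMod.of 𝒜 R 𝒜) g
  obtain ⟨c, rfl⟩ := top_surjective a n hn A X (shiftRes I g) E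
    (f := LinearMap.toSpanSingleton R X.carrier x) (grHom_toSpan hx) hspan w
  letI := (S13225.isInternal_Hgr I a n).chooseDecomposition
  show P (tr I a n E hx (c : I.H a n))
  rw [← sum_supp (ℳ := I.Hgr a n) (c : I.H a n), map_sum]
  exact Finset.sum_induction _ P hadd h0 fun p _ => hP g x hx p _ (pr_mem p _)

theorem trGen_aux (hn : ringKrullDim R = n) : ∀ (N : ℕ) (X : GMod.{u} 𝒜) (E : StarInjRes 𝒜 X.gr)
    (deg : Fin N → ℤ) (v : Fin N → X.carrier), (∀ j, v j ∈ X.gr (deg j)) →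
      Submodule.span R (Set.range v) = ⊤ → TrGen I a n X E := by
  intro N
  induction N with
  | zero =>
    intro X E deg v _ hspan
    exact tr_gen_cyclic I a n hn X E (g := 0) (zero_mem _) fun y => ⟨0, by
      have hy : y ∈ Submodule.span R (Set.range v) := by rw [hspan]; trivial
      rw [Set.range_eq_empty, Submodule.span_empty, Submodule.mem_bot] at hy
      rw [zero_smul, hy]⟩
  | succ N ih =>
    intro X E deg v hv hspan P h0 hadd hP
    haveI : SetLike.GradedSMul 𝒜 X.gr := X.gsmul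
    let S : Submodule R X.carrier := Submodule.span R {v (Fin.last N)}
    have hS : S.IsHomogeneous X.gr := hom_span_singleton 𝒜 (hv (Fin.last N))
    obtain ⟨ES⟩ := S13215.result R 𝒜 (subMod 𝒜 S hS).carrier (subMod 𝒜 S hS).gr
    obtain ⟨EQ⟩ := S13215.result R 𝒜 (quoMod 𝒜 S hS).carrier (quoMod 𝒜 S hS).gr
    obtain ⟨δ, -, -, -, hexB, -⟩ := exists_les (a := a) (f := subInc 𝒜 S hS) (g := quoMk 𝒜 S hS)
      (grHom_quoMk hS) (Submodule.mkQ_surjective S)
      ((Submodule.ker_mkQ S).trans (range_subInc (𝒜 := 𝒜) hS).symm) E ES EQ (grHom_subInc hS)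
      (subInc_injective hS)
    -- classes coming from the cyclic submodule
    have hsub : ∀ u, P (ind ES E a (subInc 𝒜 S hS) (grHom_subInc hS) n u) := by
      refine tr_gen_cyclic I a n hn (subMod 𝒜 S hS) ES (g := deg (Fin.last N))
        (x := ⟨v (Fin.last N), Submodule.mem_span_singleton_self _⟩) (hv (Fin.last N)) (fun y => ?_)
        (fun u => P (ind ES E a (subInc 𝒜 S hS) (grHom_subInc hS) n u)) ?_ (fun u u' hu hu' => ?_)
        fun g x hx p c hc => ?_
      · obtain ⟨r, hr⟩ := Submodule.mem_span_singleton.1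
          ((range_subInc (𝒜 := 𝒜) hS).le ⟨y, rfl⟩ : subInc 𝒜 S hS y ∈ S)
        exact ⟨r, subInc_injective (𝒜 := 𝒜) hS ((map_smul _ r _).trans hr)⟩
      · show P (ind ES E a (subInc 𝒜 S hS) (grHom_subInc hS) n 0)
        rw [map_zero]; exact h0
      · show P (ind ES E a (subInc 𝒜 S hS) (grHom_subInc hS) n (u + u'))
        rw [map_add]; exact hadd _ _ hu hu'
      · show P (ind ES E a (subInc 𝒜 S hS) (grHom_subInc hS) n (tr I a n ES hx c))
        rw [tr_map I a n ES E (grHom_subInc hS) hx c]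
        exact hP g _ _ p c hc
    intro w
    -- classes of the quotient
    have hquo : ∀ u, ∃ w', P w' ∧ ind E EQ a (quoMk 𝒜 S hS) (grHom_quoMk hS) n w' = u := by
      refine ih (quoMod 𝒜 S hS) EQ (fun j => deg j.castSucc) (fun j => quoMk 𝒜 S hS (v j.castSucc))
        (fun j => grHom_quoMk hS _ _ (hv j.castSucc)) (eq_top_iff.2 fun y _ => ?_)
        (fun u => ∃ w', P w' ∧ ind E EQ a (quoMk 𝒜 S hS) (grHom_quoMk hS) n w' = u) ⟨0, h0, map_zero _⟩
        (fun u u' ⟨w₁, h₁, e₁⟩ ⟨w₂, h₂, e₂⟩ => ⟨w₁ + w₂, hadd _ _ h₁ h₂, by rw [map_add, e₁, e₂]⟩)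
        fun g x hx p c hc => ?_
      · obtain ⟨y, rfl⟩ := Submodule.mkQ_surjective S y
        have hy : y ∈ Submodule.span R (Set.range v) := by rw [hspan]; trivial
        have hy' := Submodule.mem_map_of_mem (f := S.mkQ) hy
        rw [Submodule.map_span] at hy'
        refine (Submodule.span_le.2 ?_) hy'
        rintro _ ⟨_, ⟨j, rfl⟩, rfl⟩
        refine Fin.lastCases ?_ (fun j => ?_) j
        · show (S.mkQ (v (Fin.last N))) ∈ _
          rw [show S.mkQ (v (Fin.last N)) = 0 from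
            (Submodule.Quotient.mk_eq_zero S).2 (Submodule.mem_span_singleton_self _)]
          exact zero_mem _
        · exact Submodule.subset_span ⟨j, rfl⟩
      · obtain ⟨x', hx', rfl⟩ := hx
        exact ⟨tr I a n E hx' c, hP g x' hx' p c hc, tr_map I a n E EQ (grHom_quoMk hS) hx' c⟩
    obtain ⟨w', hw', he⟩ := hquo (ind E EQ a (quoMk 𝒜 S hS) (grHom_quoMk hS) n w)
    have hker : w - w' ∈ LinearMap.ker (ind E EQ a (quoMk 𝒜 S hS) (grHom_quoMk hS) n) := by
      rw [LinearMap.mem_ker, map_sub, he, sub_self]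
    obtain ⟨u, hu⟩ := (hexB n).le hker
    rw [show w = ind ES E a (subInc 𝒜 S hS) (grHom_subInc hS) n u + w' by rw [hu, sub_add_cancel]]
    exact hadd _ _ (hsub u) hw'

theorem trGen (hn : ringKrullDim R = n) (X : GMod.{u} 𝒜) [Module.Finite R X.carrier] (E : StarInjRes 𝒜 X.gr) :
    TrGen I a n X E := by
  obtain ⟨N, deg, v, hv, hspan⟩ := exists_hom_gens (R := R) (ℳ := X.gr)
  exact trGen_aux I a n hn N X E deg v hv hspan

/-- A balanced biadditive map on homogeneous elements factors through top local cohomology. -/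
theorem exists_factor_top (hn : ringKrullDim R = n) (X : GMod.{u} 𝒜) [Module.Finite R X.carrier]
    (E : StarInjRes 𝒜 X.gr) {Z : Type u} [AddCommGroup Z] (ω : X.carrier →+ I.H a n →+ Z)
    (hω : ∀ (r : R) x c, ω (r • x) c = ω x (r • c)) :
    ∃ Φ : E.H a n →+ Z, ∀ (g : ℤ) (x : X.carrier) (hx : x ∈ X.gr g) c, Φ (tr I a n E hx c) = ω x c := by
  classical
  haveI : SetLike.GradedSMul 𝒜 X.gr := X.gsmul
  obtain ⟨N, deg, v, hv, hspan⟩ := exists_hom_gens (R := R) (ℳ := X.gr)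
  let F : GMod.{u} 𝒜 := freeG 𝒜 deg
  haveI : SetLike.GradedSMul 𝒜 F.gr := F.gsmul
  obtain ⟨EF⟩ := S13215.result R 𝒜 F.carrier F.gr
  let π : F.carrier →ₗ[R] X.carrier := Fintype.linearCombination R v
  have hπ : IsGrHom F.gr X.gr π := fun i f hf => by
    show (∑ j, (f : Fin N → R) j • v j) ∈ X.gr i
    refine sum_mem fun j _ => ?_
    have h := smul_mem_gr (ℳ := X.gr) (mem_freeGr.1 hf j) (hv j)
    rwa [sub_add_cancel] at h
  have hπs : Function.Surjective π := LinearMap.range_eq_top.1 ((Fintype.range_linearCombination R v).trans hspan)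
  have hproj : ∀ j : Fin N, IsGrHom F.gr (shGr 𝒜 (deg j)) (LinearMap.proj j : (Fin N → R) →ₗ[R] R) :=
    fun j i f hf => mem_freeGr.1 hf j
  let p : Fin N → EF.H a n →ₗ[R] I.H a n := fun j =>
    ind EF (shiftRes I (deg j)) a (LinearMap.proj j : (Fin N → R) →ₗ[R] R) (hproj j) n
  have hp : ∀ (j : Fin N) {g : ℤ} (κ : F.carrier) (hκ : κ ∈ F.gr g) (c : I.H a n),
      p j (tr I a n EF hκ c) = (κ : Fin N → R) j • c := by
    intro j g κ hκ c
    refine (tr_map I a n EF (shiftRes I (deg j)) (hproj j) hκ c).trans ?_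
    have h : IsLift (shiftRes I g) (shiftRes I (deg j)) (LinearMap.toSpanSingleton R R ((κ : Fin N → R) j))
        fun k => (κ : Fin N → R) j • LinearMap.id :=
      { grHom := fun k i m hm => by
          have h2 : (κ : Fin N → R) j • m ∈ (I.X k).gr (g - deg j + (i - g)) :=
            (I.X k).gsmul.smul_mem (mem_freeGr.1 hκ j) hm
          show (κ : Fin N → R) j • m ∈ (I.X k).gr (i - deg j)
          rwa [show g - deg j + (i - g) = i - deg j by ring] at h2
        aug := fun s => by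
          show (κ : Fin N → R) j • I.ε s = I.ε (s * (κ : Fin N → R) j)
          rw [← map_smul, smul_eq_mul, mul_comm]
        comm := fun k m => (map_smul (I.d k) _ m).symm }
    unfold tr
    refine (LinearMap.congr_fun (ind_eq a _ h n) c).trans ?_
    obtain ⟨z, rfl⟩ := Submodule.mkQ_surjective _ c
    rfl
  let Ψ : EF.H a n →+ Z := ∑ j, (ω (v j)).comp (p j).toAddMonoidHom
  have hΨ : ∀ {g : ℤ} (κ : F.carrier) (hκ : κ ∈ F.gr g) (c : I.H a n), Ψ (tr I a n EF hκ c) = ω (π κ) c := by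
    intro g κ hκ c
    show (∑ j, (ω (v j)).comp (p j).toAddMonoidHom) _ = ω (∑ j, (κ : Fin N → R) j • v j) c
    rw [AddMonoidHom.finset_sum_apply, map_sum, AddMonoidHom.finset_sum_apply]
    refine Finset.sum_congr rfl fun j _ => ?_
    show ω (v j) (p j (tr I a n EF hκ c)) = _
    rw [hp j κ hκ c, hω]
  have hsurj := top_surjective a n hn F X EF E hπ hπs
  let K : Submodule R F.carrier := LinearMap.ker π
  have hK : K.IsHomogeneous F.gr := hom_ker hπ
  haveI : Module.Finite R (subMod 𝒜 K hK).carrier := Module.Finite.iff_fg.2 (IsNoetherian.noetherian K)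
  obtain ⟨EK⟩ := S13215.result R 𝒜 (subMod 𝒜 K hK).carrier (subMod 𝒜 K hK).gr
  obtain ⟨δ, -, -, -, hexB, -⟩ := exists_les (a := a) (f := subInc 𝒜 K hK) (g := π) hπ hπs
    (range_subInc (𝒜 := 𝒜) hK).symm EF EK E (grHom_subInc hK) (subInc_injective hK)
  have hker : ∀ z, ind EF E a π hπ n z = 0 → Ψ z = 0 := by
    intro z hz
    obtain ⟨u, rfl⟩ := (hexB n).le (LinearMap.mem_ker.2 hz)
    refine trGen I a n hn (subMod 𝒜 K hK) EK
      (fun u => Ψ (ind EK EF a (subInc 𝒜 K hK) (grHom_subInc hK) n u) = 0) ?_ (fun u u' hu hu' => ?_)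
      (fun g x hx q c _ => ?_) u
    · show Ψ (ind EK EF a (subInc 𝒜 K hK) (grHom_subInc hK) n 0) = 0
      rw [map_zero, map_zero]
    · show Ψ (ind EK EF a (subInc 𝒜 K hK) (grHom_subInc hK) n (u + u')) = 0
      rw [map_add, map_add, hu, hu', add_zero]
    · show Ψ (ind EK EF a (subInc 𝒜 K hK) (grHom_subInc hK) n (tr I a n EK hx c)) = 0
      rw [tr_map I a n EK EF (grHom_subInc hK) hx c, hΨ,
        show π (subInc 𝒜 K hK x) = 0 from (range_subInc (𝒜 := 𝒜) hK).le ⟨x, rfl⟩]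
      exact (congrArg (fun o : I.H a n →+ Z => o c) (map_zero ω)).trans rfl
  have hwd : ∀ z z', ind EF E a π hπ n z = ind EF E a π hπ n z' → Ψ z = Ψ z' := fun z z' h => by
    rw [← sub_eq_zero, ← map_sub]
    exact hker _ (by rw [map_sub, h, sub_self])
  let Φ : E.H a n →+ Z := AddMonoidHom.mk' (fun w => Ψ (Function.surjInv hsurj w)) fun w w' => by
    rw [← map_add]
    exact hwd _ _ (by simp only [map_add, Function.surjInv_eq hsurj])
  refine ⟨Φ, fun g x hx c => ?_⟩
  obtain ⟨κ, rfl⟩ := hπs x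
  have hκ : pr F.gr g κ ∈ F.gr g := pr_mem g κ
  have heq : π (pr F.gr g κ) = π κ := by
    rw [← pr_grHom hπ]; exact pr_of_mem hx
  show Ψ (Function.surjInv hsurj (tr I a n E hx c)) = _
  refine (hwd _ (tr I a n EF hκ c) ?_).trans ((hΨ _ hκ c).trans (by rw [heq]))
  rw [Function.surjInv_eq hsurj, tr_map I a n EF E hπ hκ c]
  congr 2
  exact heq.symm

end Groth.Agent.GrInj
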